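import Mathlib
import Cfsg.Prelude.Def_Characters
import Cfsg.Prelude.Def_OddOrderChar

/-!
# Interface for basic facts on irreducible characters, and consequences for
generalized characters (integrality of inner products, norm one ⇒ ± irreducible).

`IrrFacts G` packages the facts we need from the general theory (first orthogonality, decomposition
of characters into irreducibles, positivity of degrees, sums of characters).  It is discharged
elsewhere from the shared character-theory libraries.
-/

set_option autoImplicit false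
set_option linter.unusedSectionVars false

namespace Cfsg.Agent.Lib.Helper26

open Cfsg
open scoped ComplexConjugate

universe u

/-- The facts about characters of a finite group used by the coherence arguments. -/
structure IrrFacts (G : Type u) [Group G] [Fintype G] : Prop where
  orthonormal : ∀ χ ψ : G → ℂ, IsIrrCharacter G χ → IsIrrCharacter G ψ →
      classInner χ ψ = if χ = ψ then 1 else 0
  decomp : ∀ θ : G → ℂ, IsCharacter G θ → ∃ (s : Finset (G → ℂ)) (c : (G → ℂ) → ℕ),
      (∀ χ ∈ s, IsIrrCharacter G χ) ∧ θ = ∑ χ ∈ s, c χ • χ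
  deg_pos : ∀ χ : G → ℂ, IsIrrCharacter G χ → ∃ n : ℕ, 0 < n ∧ χ 1 = n
  add_char : ∀ χ ψ : G → ℂ, IsCharacter G χ → IsCharacter G ψ → IsCharacter G (χ + ψ)

section inner

variable {G : Type u} [Group G] [Fintype G]

theorem classInner_add_left (a b c : G → ℂ) :
    classInner (a + b) c = classInner a c + classInner b c := by
  unfold classInner
  rw [← mul_add, ← Finset.sum_add_distrib]
  congr 1
  apply Finset.sum_congr rfl
  intro g _
  simp only [Pi.add_apply]; ring

theorem classInner_add_right (a b c : G → ℂ) :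
    classInner a (b + c) = classInner a b + classInner a c := by
  unfold classInner
  rw [← mul_add, ← Finset.sum_add_distrib]
  congr 1
  apply Finset.sum_congr rfl
  intro g _
  simp only [Pi.add_apply, map_add]; ring

theorem classInner_smul_left (z : ℂ) (a b : G → ℂ) :
    classInner (z • a) b = z * classInner a b := by
  unfold classInner
  rw [mul_left_comm]
  congr 1
  rw [Finset.mul_sum]
  apply Finset.sum_congr rfl
  intro g _
  simp only [Pi.smul_apply, smul_eq_mul]; ring

theorem classInner_smul_right (z : ℂ) (a b : G → ℂ) :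
    classInner a (z • b) = conj z * classInner a b := by
  unfold classInner
  rw [mul_left_comm]
  congr 1
  rw [Finset.mul_sum]
  apply Finset.sum_congr rfl
  intro g _
  simp only [Pi.smul_apply, smul_eq_mul, map_mul]; ring

theorem classInner_zero_left (b : G → ℂ) : classInner (0 : G → ℂ) b = 0 := by
  unfold classInner; simp

theorem classInner_zero_right (a : G → ℂ) : classInner a (0 : G → ℂ) = 0 := by
  unfold classInner; simp

theorem classInner_neg_left (a b : G → ℂ) : classInner (-a) b = - classInner a b := by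
  have := classInner_smul_left (-1 : ℂ) a b
  simpa using this

theorem classInner_neg_right (a b : G → ℂ) : classInner a (-b) = - classInner a b := by
  have := classInner_smul_right (-1 : ℂ) a b
  simpa using this

theorem classInner_sub_left (a b c : G → ℂ) :
    classInner (a - b) c = classInner a c - classInner b c := by
  rw [sub_eq_add_neg, classInner_add_left, classInner_neg_left, sub_eq_add_neg]

theorem classInner_sub_right (a b c : G → ℂ) :
    classInner a (b - c) = classInner a b - classInner a c := by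
  rw [sub_eq_add_neg, classInner_add_right, classInner_neg_right, sub_eq_add_neg]

theorem classInner_zsmul_left (n : ℤ) (a b : G → ℂ) :
    classInner (n • a) b = (n : ℂ) * classInner a b := by
  have : n • a = (n : ℂ) • a := by
    ext g; simp
  rw [this, classInner_smul_left]

theorem classInner_zsmul_right (n : ℤ) (a b : G → ℂ) :
    classInner a (n • b) = (n : ℂ) * classInner a b := by
  have : n • b = (n : ℂ) • b := by
    ext g; simp
  rw [this, classInner_smul_right]; simp

theorem classInner_nsmul_left (n : ℕ) (a b : G → ℂ) :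
    classInner (n • a) b = (n : ℂ) * classInner a b := by
  have : n • a = (n : ℂ) • a := by
    ext g; simp
  rw [this, classInner_smul_left]

theorem classInner_nsmul_right (n : ℕ) (a b : G → ℂ) :
    classInner a (n • b) = (n : ℂ) * classInner a b := by
  have : n • b = (n : ℂ) • b := by
    ext g; simp
  rw [this, classInner_smul_right]; simp

theorem classInner_sum_left {ι : Type*} (s : Finset ι) (f : ι → G → ℂ) (b : G → ℂ) :
    classInner (∑ i ∈ s, f i) b = ∑ i ∈ s, classInner (f i) b := by
  classical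
  induction s using Finset.induction_on with
  | empty => simp [classInner_zero_left]
  | insert a s ha ih => rw [Finset.sum_insert ha, Finset.sum_insert ha, classInner_add_left, ih]

theorem classInner_sum_right {ι : Type*} (s : Finset ι) (a : G → ℂ) (f : ι → G → ℂ) :
    classInner a (∑ i ∈ s, f i) = ∑ i ∈ s, classInner a (f i) := by
  classical
  induction s using Finset.induction_on with
  | empty => simp [classInner_zero_right]
  | insert a s ha ih => rw [Finset.sum_insert ha, Finset.sum_insert ha, classInner_add_right, ih]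

theorem classInner_conj_symm (a b : G → ℂ) : conj (classInner a b) = classInner b a := by
  unfold classInner
  rw [map_mul, map_inv₀, Complex.conj_natCast, map_sum]
  congr 1
  apply Finset.sum_congr rfl
  intro g _
  simp only [map_mul, Complex.conj_conj]; ring

/-- `⟨a, a⟩` is a nonnegative real, and zero only for `a = 0`. -/
theorem classInner_self_eq_zero {a : G → ℂ} (h : classInner a a = 0) : a = 0 := by
  unfold classInner at h
  have hcard : (Nat.card G : ℂ) ≠ 0 := by
    have : Nat.card G ≠ 0 := Nat.card_pos.ne'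
    exact_mod_cast this
  have hsum : ∑ g : G, a g * conj (a g) = 0 := by
    rcases mul_eq_zero.1 h with h1 | h1
    · exact absurd (inv_eq_zero.1 h1) hcard
    · exact h1
  have hre : ∑ g : G, Complex.normSq (a g) = 0 := by
    have := congrArg Complex.re hsum
    rw [Complex.re_sum] at this
    simp only [Complex.mul_conj, Complex.ofReal_re, Complex.zero_re] at this
    exact this
  have hall := (Finset.sum_eq_zero_iff_of_nonneg (fun g _ => Complex.normSq_nonneg (a g))).1 hre
  funext g
  exact Complex.normSq_eq_zero.1 (hall g (Finset.mem_univ g))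

end inner


section facts

variable {G : Type u} [Group G] [Fintype G]

theorem isCharacter_zero : IsCharacter G (0 : G → ℂ) := by
  refine ⟨0, 1, ?_⟩
  funext g
  simp [Representation.character]

theorem IrrFacts.irr_isCharacter {χ : G → ℂ} (h : IsIrrCharacter G χ) : IsCharacter G χ := by
  obtain ⟨n, ρ, _, hρ⟩ := h
  exact ⟨n, ρ, hρ⟩

theorem IrrFacts.nsmul_char (F : IrrFacts G) (n : ℕ) {χ : G → ℂ} (h : IsCharacter G χ) :
    IsCharacter G (n • χ) := by
  induction n with
  | zero => simpa using isCharacter_zero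
  | succ k ih => rw [succ_nsmul]; exact F.add_char _ _ ih h

theorem IrrFacts.sum_char (F : IrrFacts G) {ι : Type*} (s : Finset ι) (f : ι → G → ℂ)
    (h : ∀ i ∈ s, IsCharacter G (f i)) : IsCharacter G (∑ i ∈ s, f i) := by
  classical
  induction s using Finset.induction_on with
  | empty => simpa using isCharacter_zero
  | insert a s ha ih =>
    rw [Finset.sum_insert ha]
    exact F.add_char _ _ (h a (Finset.mem_insert_self a s))
      (ih fun i hi => h i (Finset.mem_insert_of_mem hi))

theorem isGeneralizedCharacter_of_isCharacter {χ : G → ℂ} (h : IsCharacter G χ) :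
    IsGeneralizedCharacter G χ :=
  ⟨χ, 0, h, isCharacter_zero, by simp⟩

theorem IrrFacts.gen_add (F : IrrFacts G) {a b : G → ℂ} (ha : IsGeneralizedCharacter G a)
    (hb : IsGeneralizedCharacter G b) : IsGeneralizedCharacter G (a + b) := by
  obtain ⟨χ, ψ, hχ, hψ, rfl⟩ := ha
  obtain ⟨χ', ψ', hχ', hψ', rfl⟩ := hb
  exact ⟨χ + χ', ψ + ψ', F.add_char _ _ hχ hχ', F.add_char _ _ hψ hψ', by abel⟩

theorem gen_neg {a : G → ℂ} (ha : IsGeneralizedCharacter G a) : IsGeneralizedCharacter G (-a) := by
  obtain ⟨χ, ψ, hχ, hψ, rfl⟩ := ha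
  exact ⟨ψ, χ, hψ, hχ, by abel⟩

theorem IrrFacts.gen_sub (F : IrrFacts G) {a b : G → ℂ} (ha : IsGeneralizedCharacter G a)
    (hb : IsGeneralizedCharacter G b) : IsGeneralizedCharacter G (a - b) := by
  rw [sub_eq_add_neg]; exact F.gen_add ha (gen_neg hb)

theorem gen_zero : IsGeneralizedCharacter G (0 : G → ℂ) :=
  isGeneralizedCharacter_of_isCharacter isCharacter_zero

theorem IrrFacts.gen_nsmul (F : IrrFacts G) (n : ℕ) {a : G → ℂ} (ha : IsGeneralizedCharacter G a) :
    IsGeneralizedCharacter G (n • a) := by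
  induction n with
  | zero => simpa using gen_zero
  | succ k ih => rw [succ_nsmul]; exact F.gen_add ih ha

theorem IrrFacts.gen_zsmul (F : IrrFacts G) (n : ℤ) {a : G → ℂ} (ha : IsGeneralizedCharacter G a) :
    IsGeneralizedCharacter G (n • a) := by
  obtain ⟨k, rfl | rfl⟩ := Int.eq_nat_or_neg n
  · rw [natCast_zsmul]; exact F.gen_nsmul k ha
  · rw [neg_zsmul, natCast_zsmul]; exact gen_neg (F.gen_nsmul k ha)

theorem IrrFacts.gen_sum (F : IrrFacts G) {ι : Type*} (s : Finset ι) (f : ι → G → ℂ)
    (h : ∀ i ∈ s, IsGeneralizedCharacter G (f i)) : IsGeneralizedCharacter G (∑ i ∈ s, f i) := by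
  classical
  induction s using Finset.induction_on with
  | empty => simpa using gen_zero
  | insert a s ha ih =>
    rw [Finset.sum_insert ha]
    exact F.gen_add (h a (Finset.mem_insert_self a s))
      (ih fun i hi => h i (Finset.mem_insert_of_mem hi))

/-- inner product of a ℤ-combination of irreducibles with an irreducible character. -/
theorem IrrFacts.inner_zcomb (F : IrrFacts G) {s : Finset (G → ℂ)} {c : (G → ℂ) → ℤ}
    (hs : ∀ χ ∈ s, IsIrrCharacter G χ) (hc : ∀ χ, χ ∉ s → c χ = 0) {ψ : G → ℂ}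
    (hψ : IsIrrCharacter G ψ) : classInner (∑ χ ∈ s, c χ • χ) ψ = c ψ := by
  classical
  rw [classInner_sum_left]
  have : ∀ χ ∈ s, classInner (c χ • χ) ψ = if χ = ψ then (c χ : ℂ) else 0 := by
    intro χ hχ
    rw [classInner_zsmul_left, F.orthonormal χ ψ (hs χ hχ) hψ]
    split_ifs <;> simp
  rw [Finset.sum_congr rfl this, Finset.sum_ite_eq' s ψ]
  split_ifs with h
  · rfl
  · rw [hc ψ h]; simp

/-- Every generalized character is a ℤ-combination of irreducible characters. -/
theorem IrrFacts.exists_zcomb (F : IrrFacts G) {θ : G → ℂ} (h : IsGeneralizedCharacter G θ) :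
    ∃ (s : Finset (G → ℂ)) (c : (G → ℂ) → ℤ), (∀ χ ∈ s, IsIrrCharacter G χ) ∧
      (∀ χ, χ ∉ s → c χ = 0) ∧ θ = ∑ χ ∈ s, c χ • χ := by
  classical
  obtain ⟨a, b, ha, hb, rfl⟩ := h
  obtain ⟨s₁, c₁, hs₁, rfl⟩ := F.decomp a ha
  obtain ⟨s₂, c₂, hs₂, rfl⟩ := F.decomp b hb
  refine ⟨s₁ ∪ s₂, fun χ => (if χ ∈ s₁ then (c₁ χ : ℤ) else 0) - (if χ ∈ s₂ then (c₂ χ : ℤ) else 0),
    ?_, ?_, ?_⟩
  · intro χ hχ
    rcases Finset.mem_union.1 hχ with h | h
    · exact hs₁ χ h
    · exact hs₂ χ h
  · intro χ hχ
    rw [Finset.mem_union, not_or] at hχ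
    simp [hχ.1, hχ.2]
  · have e1 : ∑ χ ∈ s₁, c₁ χ • χ = ∑ χ ∈ s₁ ∪ s₂, (if χ ∈ s₁ then (c₁ χ : ℤ) else 0) • χ := by
      rw [← Finset.sum_subset (Finset.subset_union_left (s₂ := s₂))]
      · apply Finset.sum_congr rfl
        intro χ hχ
        simp [hχ]
      · intro χ _ hχ
        simp [hχ]
    have e2 : ∑ χ ∈ s₂, c₂ χ • χ = ∑ χ ∈ s₁ ∪ s₂, (if χ ∈ s₂ then (c₂ χ : ℤ) else 0) • χ := by
      rw [← Finset.sum_subset (Finset.subset_union_right (s₁ := s₁))]
      · apply Finset.sum_congr rfl
        intro χ hχ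
        simp [hχ]
      · intro χ _ hχ
        simp [hχ]
    rw [e1, e2, ← Finset.sum_sub_distrib]
    apply Finset.sum_congr rfl
    intro χ _
    rw [sub_smul]

/-- A ℤ-combination of irreducible characters is a generalized character. -/
theorem IrrFacts.gen_of_zcomb (F : IrrFacts G) {s : Finset (G → ℂ)} {c : (G → ℂ) → ℤ}
    (hs : ∀ χ ∈ s, IsIrrCharacter G χ) : IsGeneralizedCharacter G (∑ χ ∈ s, c χ • χ) :=
  F.gen_sum s _ fun χ hχ =>
    F.gen_zsmul _ (isGeneralizedCharacter_of_isCharacter (IrrFacts.irr_isCharacter (hs χ hχ)))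

/-- The inner product of two generalized characters is an integer. -/
theorem IrrFacts.inner_int (F : IrrFacts G) {a b : G → ℂ} (ha : IsGeneralizedCharacter G a)
    (hb : IsGeneralizedCharacter G b) : ∃ n : ℤ, classInner a b = n := by
  classical
  obtain ⟨s, c, hs, hc, rfl⟩ := F.exists_zcomb ha
  obtain ⟨s', c', hs', hc', rfl⟩ := F.exists_zcomb hb
  refine ⟨∑ ψ ∈ s', c' ψ * c ψ, ?_⟩
  rw [classInner_sum_right]
  push_cast
  apply Finset.sum_congr rfl
  intro ψ hψ
  rw [classInner_zsmul_right, F.inner_zcomb hs hc (hs' ψ hψ)]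

/-- The norm of a generalized character is a sum of squares of integers. -/
theorem IrrFacts.norm_zcomb (F : IrrFacts G) {s : Finset (G → ℂ)} {c : (G → ℂ) → ℤ}
    (hs : ∀ χ ∈ s, IsIrrCharacter G χ) (hc : ∀ χ, χ ∉ s → c χ = 0) :
    classInner (∑ χ ∈ s, c χ • χ) (∑ χ ∈ s, c χ • χ) = ((∑ χ ∈ s, c χ ^ 2 : ℤ) : ℂ) := by
  classical
  rw [classInner_sum_right]
  push_cast
  apply Finset.sum_congr rfl
  intro ψ hψ
  rw [classInner_zsmul_right, F.inner_zcomb hs hc (hs ψ hψ)]
  ring

theorem IrrFacts.norm_nat (F : IrrFacts G) {a : G → ℂ} (ha : IsGeneralizedCharacter G a) :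
    ∃ n : ℕ, classInner a a = n := by
  obtain ⟨s, c, hs, hc, rfl⟩ := F.exists_zcomb ha
  have h0 : 0 ≤ ∑ χ ∈ s, c χ ^ 2 := Finset.sum_nonneg fun χ _ => sq_nonneg _
  obtain ⟨k, hk⟩ := Int.eq_ofNat_of_zero_le h0
  refine ⟨k, ?_⟩
  rw [F.norm_zcomb hs hc, hk]
  simp

/-- A generalized character of norm one is `±` an irreducible character. -/
theorem IrrFacts.norm_one (F : IrrFacts G) {a : G → ℂ} (ha : IsGeneralizedCharacter G a)
    (h1 : classInner a a = 1) : ∃ χ : G → ℂ, IsIrrCharacter G χ ∧ (a = χ ∨ a = -χ) := by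
  classical
  obtain ⟨s, c, hs, hc, rfl⟩ := F.exists_zcomb ha
  rw [F.norm_zcomb hs hc] at h1
  have h1' : ∑ χ ∈ s, c χ ^ 2 = 1 := by exact_mod_cast h1
  -- some coefficient is nonzero
  have hex : ∃ χ ∈ s, c χ ≠ 0 := by
    by_contra hcon
    push Not at hcon
    have : ∑ χ ∈ s, c χ ^ 2 = 0 := Finset.sum_eq_zero fun χ hχ => by rw [hcon χ hχ]; ring
    omega
  obtain ⟨χ₀, hχ₀, hne⟩ := hex
  have hsplit : ∑ χ ∈ s, c χ ^ 2 = c χ₀ ^ 2 + ∑ χ ∈ s.erase χ₀, c χ ^ 2 := by
    rw [← Finset.add_sum_erase s _ hχ₀]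
  have hrest_nonneg : 0 ≤ ∑ χ ∈ s.erase χ₀, c χ ^ 2 := Finset.sum_nonneg fun χ _ => sq_nonneg _
  have hsq : 1 ≤ c χ₀ ^ 2 := by
    have : 0 < c χ₀ ^ 2 := by positivity
    omega
  have hc0 : c χ₀ ^ 2 = 1 := by omega
  have hrest : ∑ χ ∈ s.erase χ₀, c χ ^ 2 = 0 := by omega
  have hzero : ∀ χ ∈ s.erase χ₀, c χ = 0 := by
    intro χ hχ
    have := (Finset.sum_eq_zero_iff_of_nonneg (fun χ _ => sq_nonneg (c χ))).1 hrest χ hχ
    exact pow_eq_zero_iff (two_ne_zero) |>.1 this
  have hsum : ∑ χ ∈ s, c χ • χ = c χ₀ • χ₀ := by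
    rw [← Finset.add_sum_erase s _ hχ₀]
    rw [Finset.sum_eq_zero (fun χ hχ => by rw [hzero χ hχ, zero_smul]), add_zero]
  refine ⟨χ₀, hs χ₀ hχ₀, ?_⟩
  rw [hsum]
  have : c χ₀ = 1 ∨ c χ₀ = -1 := by
    have h : (c χ₀ - 1) * (c χ₀ + 1) = 0 := by ring_nf; ring_nf at hc0; omega
    rcases mul_eq_zero.1 h with h | h
    · left; omega
    · right; omega
  rcases this with h | h
  · left; rw [h, one_smul]
  · right; rw [h, neg_smul, one_smul]

end facts

end Cfsg.Agent.Lib.Helper26
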