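import Mathlib
import Cfsg.Prelude.Def_Characters
import Cfsg.Prelude.Def_OddOrderChar
import Cfsg.Agent.Lib.Helper26.IrrFacts

/-!
# Integer spans of sets of irreducible characters and linear isometries on them
-/

set_option autoImplicit false
set_option linter.unusedSectionVars false

namespace Cfsg.Agent.Lib.Helper26

open Cfsg
open scoped ComplexConjugate

universe u v

section zspan

variable {X : Type u}

theorem subset_zspan (S : Set (X → ℂ)) : S ⊆ zspan S := Submodule.subset_span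

theorem zspan_add {S : Set (X → ℂ)} {a b : X → ℂ} (ha : a ∈ zspan S) (hb : b ∈ zspan S) :
    a + b ∈ zspan S := Submodule.add_mem _ ha hb

theorem zspan_zsmul {S : Set (X → ℂ)} (n : ℤ) {a : X → ℂ} (ha : a ∈ zspan S) :
    n • a ∈ zspan S := Submodule.smul_mem _ n ha

theorem zspan_neg {S : Set (X → ℂ)} {a : X → ℂ} (ha : a ∈ zspan S) :
    -a ∈ zspan S := Submodule.neg_mem _ ha

theorem zspan_sub {S : Set (X → ℂ)} {a b : X → ℂ} (ha : a ∈ zspan S) (hb : b ∈ zspan S) :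
    a - b ∈ zspan S := Submodule.sub_mem _ ha hb

theorem zspan_zero (S : Set (X → ℂ)) : (0 : X → ℂ) ∈ zspan S := Submodule.zero_mem _

theorem zspan_sum {S : Set (X → ℂ)} {ι : Type*} (s : Finset ι) (f : ι → X → ℂ)
    (h : ∀ i ∈ s, f i ∈ zspan S) : ∑ i ∈ s, f i ∈ zspan S := Submodule.sum_mem _ h

theorem zspan_mono {S T : Set (X → ℂ)} (h : S ⊆ T) : zspan S ⊆ zspan T :=
  Submodule.span_mono h

theorem zspan_nsmul {S : Set (X → ℂ)} (n : ℕ) {a : X → ℂ} (ha : a ∈ zspan S) :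
    n • a ∈ zspan S := by
  rw [← natCast_zsmul]; exact zspan_zsmul _ ha

/-- multiplication by a natural-number-valued complex scalar stays in the integer span. -/
theorem zspan_natCast_smul {S : Set (X → ℂ)} (n : ℕ) {a : X → ℂ} (ha : a ∈ zspan S) :
    (n : ℂ) • a ∈ zspan S := by
  have : (n : ℂ) • a = n • a := by ext x; simp
  rw [this]; exact zspan_nsmul n ha

theorem zspan_intCast_smul {S : Set (X → ℂ)} (n : ℤ) {a : X → ℂ} (ha : a ∈ zspan S) :
    (n : ℂ) • a ∈ zspan S := by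
  have : (n : ℂ) • a = n • a := by ext x; simp
  rw [this]; exact zspan_zsmul n ha

theorem zspanOn_mono {S T : Set (X → ℂ)} (A : Set X) (h : S ⊆ T) : zspanOn S A ⊆ zspanOn T A :=
  fun _ ha => ⟨zspan_mono h ha.1, ha.2⟩

theorem zspanOn_add {S : Set (X → ℂ)} {A : Set X} {a b : X → ℂ} (ha : a ∈ zspanOn S A)
    (hb : b ∈ zspanOn S A) : a + b ∈ zspanOn S A :=
  ⟨zspan_add ha.1 hb.1, fun x hx => by simp [ha.2 x hx, hb.2 x hx]⟩

theorem zspanOn_zsmul {S : Set (X → ℂ)} {A : Set X} (n : ℤ) {a : X → ℂ} (ha : a ∈ zspanOn S A) :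
    n • a ∈ zspanOn S A :=
  ⟨zspan_zsmul n ha.1, fun x hx => by simp [ha.2 x hx]⟩

theorem zspanOn_neg {S : Set (X → ℂ)} {A : Set X} {a : X → ℂ} (ha : a ∈ zspanOn S A) :
    -a ∈ zspanOn S A :=
  ⟨zspan_neg ha.1, fun x hx => by simp [ha.2 x hx]⟩

theorem zspanOn_sub {S : Set (X → ℂ)} {A : Set X} {a b : X → ℂ} (ha : a ∈ zspanOn S A)
    (hb : b ∈ zspanOn S A) : a - b ∈ zspanOn S A :=
  ⟨zspan_sub ha.1 hb.1, fun x hx => by simp [ha.2 x hx, hb.2 x hx]⟩

theorem zspanOn_zero (S : Set (X → ℂ)) (A : Set X) : (0 : X → ℂ) ∈ zspanOn S A :=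
  ⟨zspan_zero S, fun _ _ => rfl⟩

/-- membership in `zspanOn S {1}ᶜ` for a group: in the span and vanishing at `1`. -/
theorem mem_zspanOn_compl_one {N : Type u} [One N] {S : Set (N → ℂ)} {a : N → ℂ} :
    a ∈ zspanOn S ({1}ᶜ : Set N) ↔ a ∈ zspan S ∧ a 1 = 0 := by
  constructor
  · intro h
    exact ⟨h.1, h.2 1 (by simp)⟩
  · intro h
    refine ⟨h.1, fun x hx => ?_⟩
    have : x = 1 := by simpa using hx
    rw [this]; exact h.2

end zspan

section isom

variable {L : Type u} [Group L] [Fintype L] {G : Type v} [Group G] [Fintype G]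

/-- A set of functions closed under addition and integer multiples. -/
structure IsZClosed (E : Set (L → ℂ)) : Prop where
  add : ∀ a ∈ E, ∀ b ∈ E, a + b ∈ E
  zsmul : ∀ (n : ℤ), ∀ a ∈ E, n • a ∈ E

theorem isZClosed_zspan (S : Set (L → ℂ)) : IsZClosed (zspan S) :=
  ⟨fun _ ha _ hb => zspan_add ha hb, fun n _ ha => zspan_zsmul n ha⟩

theorem isZClosed_zspanOn (S : Set (L → ℂ)) (A : Set L) : IsZClosed (zspanOn S A) :=
  ⟨fun _ ha _ hb => zspanOn_add ha hb, fun n _ ha => zspanOn_zsmul n ha⟩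

variable {E : Set (L → ℂ)} {τ : (L → ℂ) → (G → ℂ)}

theorem IsZClosed.neg (hE : IsZClosed E) {a : L → ℂ} (ha : a ∈ E) : -a ∈ E := by
  have := hE.zsmul (-1) a ha
  simpa using this

theorem IsZClosed.sub (hE : IsZClosed E) {a b : L → ℂ} (ha : a ∈ E) (hb : b ∈ E) : a - b ∈ E := by
  rw [sub_eq_add_neg]; exact hE.add a ha _ (hE.neg hb)

theorem isom_add (h : IsLinearIsometryOn E τ) {a b : L → ℂ} (ha : a ∈ E) (hb : b ∈ E) :
    τ (a + b) = τ a + τ b := h.1 a ha b hb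

theorem isom_zsmul (h : IsLinearIsometryOn E τ) (n : ℤ) {a : L → ℂ} (ha : a ∈ E) :
    τ (n • a) = n • τ a := h.2.1 a ha n

theorem isom_inner (h : IsLinearIsometryOn E τ) {a b : L → ℂ} (ha : a ∈ E) (hb : b ∈ E) :
    classInner (τ a) (τ b) = classInner a b := h.2.2.1 a ha b hb

theorem isom_gen (h : IsLinearIsometryOn E τ) {a : L → ℂ} (ha : a ∈ E) :
    IsGeneralizedCharacter G (τ a) := h.2.2.2 a ha

theorem isom_neg (hE : IsZClosed E) (h : IsLinearIsometryOn E τ) {a : L → ℂ} (ha : a ∈ E) :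
    τ (-a) = - τ a := by
  have := isom_zsmul h (-1) ha
  simpa using this

theorem isom_sub (hE : IsZClosed E) (h : IsLinearIsometryOn E τ) {a b : L → ℂ} (ha : a ∈ E)
    (hb : b ∈ E) : τ (a - b) = τ a - τ b := by
  rw [sub_eq_add_neg, isom_add h ha (hE.neg hb), isom_neg hE h hb, sub_eq_add_neg]

theorem isom_nsmul (h : IsLinearIsometryOn E τ) (n : ℕ) {a : L → ℂ} (ha : a ∈ E) :
    τ (n • a) = n • τ a := by
  have := isom_zsmul h (n : ℤ) ha
  simpa using this

/-- `τ` commutes with multiplication by a natural-number-valued complex scalar. -/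
theorem isom_natCast_smul (h : IsLinearIsometryOn E τ) (n : ℕ) {a : L → ℂ} (ha : a ∈ E) :
    τ ((n : ℂ) • a) = (n : ℂ) • τ a := by
  have e1 : (n : ℂ) • a = n • a := by ext x; simp
  have e2 : (n : ℂ) • τ a = n • τ a := by ext x; simp
  rw [e1, e2, isom_nsmul h n ha]

theorem isom_intCast_smul (h : IsLinearIsometryOn E τ) (n : ℤ) {a : L → ℂ} (ha : a ∈ E) :
    τ ((n : ℂ) • a) = (n : ℂ) • τ a := by
  have e1 : (n : ℂ) • a = n • a := by ext x; simp
  have e2 : (n : ℂ) • τ a = n • τ a := by ext x; simp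
  rw [e1, e2, isom_zsmul h n ha]

theorem isom_mono {E' : Set (L → ℂ)} (hsub : E' ⊆ E) (h : IsLinearIsometryOn E τ) :
    IsLinearIsometryOn E' τ :=
  ⟨fun a ha b hb => h.1 a (hsub ha) b (hsub hb), fun a ha n => h.2.1 a (hsub ha) n,
    fun a ha b hb => h.2.2.1 a (hsub ha) b (hsub hb), fun a ha => h.2.2.2 a (hsub ha)⟩

theorem isom_congr {τ' : (L → ℂ) → (G → ℂ)} (hE : IsZClosed E) (heq : ∀ a ∈ E, τ' a = τ a)
    (h : IsLinearIsometryOn E τ) : IsLinearIsometryOn E τ' := by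
  refine ⟨fun a ha b hb => ?_, fun a ha n => ?_, fun a ha b hb => ?_, fun a ha => ?_⟩
  · rw [heq _ (hE.add a ha b hb), heq a ha, heq b hb]; exact h.1 a ha b hb
  · rw [heq _ (hE.zsmul n a ha), heq a ha]; exact h.2.1 a ha n
  · rw [heq a ha, heq b hb]; exact h.2.2.1 a ha b hb
  · rw [heq a ha]; exact h.2.2.2 a ha

end isom

end Cfsg.Agent.Lib.Helper26
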