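import Mathlib
import Cfsg.Agent.Lib.Helper26.IrrFacts
import Cfsg.Agent.Lib.Helper78.CharMore

/-!
# The interface `IrrFacts G` holds for every finite group

Discharged from helper78's character library (first orthogonality, decomposition of characters
into irreducibles, sums of characters).
-/

set_option autoImplicit false

namespace Cfsg.Agent.Lib.Helper26

open Cfsg

universe u

theorem irr_deg_pos {G : Type u} [Group G] (χ : G → ℂ) (hχ : IsIrrCharacter G χ) :
    ∃ n : ℕ, 0 < n ∧ χ 1 = n := by
  obtain ⟨n, ρ, hirr, rfl⟩ := hχ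
  refine ⟨n, ?_, ?_⟩
  · have := Cfsg.Agent.Lib.Helper78.nontrivial_of_isIrreducible ρ hirr
    by_contra h
    have hn : n = 0 := by omega
    subst hn
    exact not_subsingleton (Fin 0 → ℂ) inferInstance
  · rw [Representation.char_one]
    simp

theorem irrFacts (G : Type u) [Group G] [Fintype G] : IrrFacts G where
  orthonormal := fun _ _ hχ hψ => Cfsg.Agent.Lib.Helper78.classInner_irr hχ hψ
  decomp := by
    classical
    intro θ hθ
    obtain ⟨m, hm⟩ := (Cfsg.Agent.Lib.Helper78.isCharacter_iff_exists_nat_combination θ).1 hθ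
    refine ⟨(Finset.univ : Finset (IrrCharacter G)).image (fun ψ => ψ.1),
      fun χ => if h : IsIrrCharacter G χ then m ⟨χ, h⟩ else 0, ?_, ?_⟩
    · intro χ hχ
      obtain ⟨ψ, _, rfl⟩ := Finset.mem_image.1 hχ
      exact ψ.2
    · rw [Finset.sum_image (fun a _ b _ h => Subtype.ext h), hm]
      apply Finset.sum_congr rfl
      intro ψ _
      show _ = (if h : IsIrrCharacter G ψ.1 then m ⟨ψ.1, h⟩ else 0) • ψ.1
      rw [dif_pos ψ.2]
      ext g
      simp
  deg_pos := irr_deg_pos
  add_char := fun _ _ hχ hψ => Cfsg.Agent.Lib.Helper78.IsCharacter.add hχ hψ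

end Cfsg.Agent.Lib.Helper26
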