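import Mathlib
import Cfsg.Prelude.Def_Characters
import Cfsg.Prelude.Def_OddOrderChar
import Cfsg.Agent.Lib.Helper26.IrrFacts
import Cfsg.Agent.Lib.Helper26.ZSpan

/-!
# Integer spans of irreducible characters: coefficients, finiteness, and the canonical
extension of a map defined on an orthonormal set.
-/

set_option autoImplicit false
set_option linter.unusedSectionVars false

namespace Cfsg.Agent.Lib.Helper26

open Cfsg
open scoped ComplexConjugate

universe u v

section coeff

variable {N : Type u} [Group N] [Fintype N]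

/-- An orthonormal set of functions is finite. -/
theorem finite_of_orthonormal {S : Set (N → ℂ)}
    (h : ∀ χ ∈ S, ∀ ψ ∈ S, classInner χ ψ = if χ = ψ then 1 else 0) : S.Finite := by
  classical
  apply LinearIndependent.setFinite (R := ℂ)
  rw [linearIndependent_iff']
  intro s g hg i hi
  have h1 : classInner (∑ j ∈ s, g j • (j : N → ℂ)) (i : N → ℂ) = g i := by
    rw [classInner_sum_left]
    have : ∀ j ∈ s, classInner (g j • (j : N → ℂ)) (i : N → ℂ) = if j = i then g j else 0 := by
      intro j _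
      rw [classInner_smul_left, h j j.2 i i.2]
      by_cases hji : j = i
      · simp [hji]
      · have : (j : N → ℂ) ≠ i := fun e => hji (Subtype.ext e)
        simp [hji, this]
    rw [Finset.sum_congr rfl this, Finset.sum_ite_eq' s i, if_pos hi]
  rw [hg, classInner_zero_left] at h1
  exact h1.symm

theorem IrrFacts.finite_irr (F : IrrFacts N) : {χ : N → ℂ | IsIrrCharacter N χ}.Finite :=
  finite_of_orthonormal fun χ hχ ψ hψ => F.orthonormal χ ψ hχ hψ

theorem IrrFacts.finite_of_irr (F : IrrFacts N) {S : Set (N → ℂ)}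
    (hS : ∀ χ ∈ S, IsIrrCharacter N χ) : S.Finite :=
  F.finite_irr.subset hS

/-- The inner product of an element of the integer span of a set of irreducible characters with
an irreducible character is an integer, vanishing when the character is outside the set. -/
theorem IrrFacts.zspan_inner_int (F : IrrFacts N) {S : Set (N → ℂ)}
    (hS : ∀ χ ∈ S, IsIrrCharacter N χ) {θ : N → ℂ} (hθ : θ ∈ zspan S) {ψ : N → ℂ}
    (hψ : IsIrrCharacter N ψ) : ∃ n : ℤ, classInner θ ψ = n ∧ (ψ ∉ S → n = 0) := by
  classical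
  unfold zspan at hθ
  induction hθ using Submodule.span_induction with
  | mem χ hχ =>
    refine ⟨if χ = ψ then 1 else 0, ?_, ?_⟩
    · rw [F.orthonormal χ ψ (hS χ hχ) hψ]; split_ifs <;> simp
    · intro hψS
      have : χ ≠ ψ := fun e => hψS (e ▸ hχ)
      simp [this]
  | zero => exact ⟨0, by simp [classInner_zero_left], fun _ => rfl⟩
  | add a b _ _ iha ihb =>
    obtain ⟨n, hn, hn0⟩ := iha
    obtain ⟨m, hm, hm0⟩ := ihb
    refine ⟨n + m, ?_, fun h => by rw [hn0 h, hm0 h]; rfl⟩
    rw [classInner_add_left, hn, hm]; push_cast; rfl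
  | smul k a _ iha =>
    obtain ⟨n, hn, hn0⟩ := iha
    refine ⟨k * n, ?_, fun h => by rw [hn0 h]; ring⟩
    rw [classInner_zsmul_left, hn]; push_cast; rfl

/-- Expansion of an element of the integer span of a finite set of irreducible characters. -/
theorem IrrFacts.zspan_eq_sum (F : IrrFacts N) {T : Finset (N → ℂ)}
    (hT : ∀ χ ∈ T, IsIrrCharacter N χ) {θ : N → ℂ} (hθ : θ ∈ zspan (↑T : Set (N → ℂ))) :
    θ = ∑ χ ∈ T, classInner θ χ • χ := by
  classical
  unfold zspan at hθ
  induction hθ using Submodule.span_induction with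
  | mem χ₀ hχ₀ =>
    have hχ₀' : χ₀ ∈ T := hχ₀
    have : ∀ χ ∈ T, classInner χ₀ χ • χ = if χ₀ = χ then χ else 0 := by
      intro χ hχ
      rw [F.orthonormal χ₀ χ (hT χ₀ hχ₀') (hT χ hχ)]
      split_ifs <;> simp
    rw [Finset.sum_congr rfl this, Finset.sum_ite_eq T χ₀, if_pos hχ₀']
  | zero => simp [classInner_zero_left]
  | add a b _ _ iha ihb =>
    conv_lhs => rw [iha, ihb]
    rw [← Finset.sum_add_distrib]
    apply Finset.sum_congr rfl
    intro χ _
    rw [classInner_add_left, add_smul]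
  | smul k a _ iha =>
    conv_lhs => rw [iha]
    rw [Finset.smul_sum]
    apply Finset.sum_congr rfl
    intro χ _
    rw [classInner_zsmul_left, mul_smul]
    ext x; simp

/-- Inner product of two elements of the integer span of a finite set of irreducible characters
in terms of coefficients. -/
theorem IrrFacts.zspan_inner_eq (F : IrrFacts N) {T : Finset (N → ℂ)}
    (hT : ∀ χ ∈ T, IsIrrCharacter N χ) {θ θ' : N → ℂ} (hθ : θ ∈ zspan (↑T : Set (N → ℂ))) :
    classInner θ θ' = ∑ χ ∈ T, classInner θ χ * conj (classInner θ' χ) := by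
  conv_lhs => rw [F.zspan_eq_sum hT hθ]
  rw [classInner_sum_left]
  apply Finset.sum_congr rfl
  intro χ _
  rw [classInner_smul_left, classInner_conj_symm]

end coeff

section ext

variable {N : Type u} [Group N] [Fintype N] {G : Type v} [Group G] [Fintype G]

/-- The canonical extension: `θ ↦ ∑ χ ∈ T, ⟨θ, χ⟩ • f χ`. -/
noncomputable def extMap (T : Finset (N → ℂ)) (f : (N → ℂ) → (G → ℂ)) (θ : N → ℂ) : G → ℂ :=
  ∑ χ ∈ T, classInner θ χ • f χ

theorem extMap_add (T : Finset (N → ℂ)) (f : (N → ℂ) → (G → ℂ)) (a b : N → ℂ) :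
    extMap T f (a + b) = extMap T f a + extMap T f b := by
  unfold extMap
  rw [← Finset.sum_add_distrib]
  apply Finset.sum_congr rfl
  intro χ _
  rw [classInner_add_left, add_smul]

theorem extMap_zsmul (T : Finset (N → ℂ)) (f : (N → ℂ) → (G → ℂ)) (n : ℤ) (a : N → ℂ) :
    extMap T f (n • a) = n • extMap T f a := by
  unfold extMap
  rw [Finset.smul_sum]
  apply Finset.sum_congr rfl
  intro χ _
  rw [classInner_zsmul_left, mul_smul]
  ext x; simp

theorem extMap_apply_mem (F : IrrFacts N) {T : Finset (N → ℂ)}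
    (hT : ∀ χ ∈ T, IsIrrCharacter N χ) (f : (N → ℂ) → (G → ℂ)) {χ₀ : N → ℂ} (h : χ₀ ∈ T) :
    extMap T f χ₀ = f χ₀ := by
  classical
  unfold extMap
  have : ∀ χ ∈ T, classInner χ₀ χ • f χ = if χ₀ = χ then f χ else 0 := by
    intro χ hχ
    rw [F.orthonormal χ₀ χ (hT χ₀ h) (hT χ hχ)]
    split_ifs <;> simp
  rw [Finset.sum_congr rfl this, Finset.sum_ite_eq T χ₀, if_pos h]

theorem extMap_inner {T : Finset (N → ℂ)} {f : (N → ℂ) → (G → ℂ)}
    (hf : ∀ χ ∈ T, ∀ ψ ∈ T, classInner (f χ) (f ψ) = if χ = ψ then 1 else 0) (a b : N → ℂ) :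
    classInner (extMap T f a) (extMap T f b) =
      ∑ χ ∈ T, classInner a χ * conj (classInner b χ) := by
  classical
  unfold extMap
  rw [classInner_sum_left]
  apply Finset.sum_congr rfl
  intro χ hχ
  rw [classInner_smul_left, classInner_sum_right]
  have : ∀ ψ ∈ T, classInner (f χ) (classInner b ψ • f ψ) =
      if χ = ψ then conj (classInner b ψ) else 0 := by
    intro ψ hψ
    rw [classInner_smul_right, hf χ hχ ψ hψ]
    split_ifs <;> simp
  rw [Finset.sum_congr rfl this, Finset.sum_ite_eq T χ, if_pos hχ]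

/-- The canonical extension is a linear isometry on the integer span of `T`. -/
theorem extMap_isometry (F : IrrFacts N) (F' : IrrFacts G) {T : Finset (N → ℂ)}
    (hT : ∀ χ ∈ T, IsIrrCharacter N χ) {f : (N → ℂ) → (G → ℂ)}
    (hf : ∀ χ ∈ T, ∀ ψ ∈ T, classInner (f χ) (f ψ) = if χ = ψ then 1 else 0)
    (hgen : ∀ χ ∈ T, IsGeneralizedCharacter G (f χ)) :
    IsLinearIsometryOn (zspan (↑T : Set (N → ℂ))) (extMap T f) := by
  refine ⟨fun a _ b _ => extMap_add T f a b, fun a _ n => extMap_zsmul T f n a,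
    fun a ha b _ => ?_, fun a ha => ?_⟩
  · rw [extMap_inner hf, F.zspan_inner_eq hT ha]
  · unfold extMap
    apply F'.gen_sum
    intro χ hχ
    obtain ⟨n, hn, _⟩ := F.zspan_inner_int (S := (↑T : Set (N → ℂ))) hT ha (hT χ hχ)
    rw [hn]
    have : (n : ℂ) • f χ = n • f χ := by ext x; simp
    rw [this]
    exact F'.gen_zsmul n (hgen χ hχ)

end ext

end Cfsg.Agent.Lib.Helper26
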