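import Mathlib
import Cfsg.Prelude.Def_Characters
import Cfsg.Prelude.Def_OddOrderChar
import Cfsg.Agent.Lib.Helper26.IrrFacts
import Cfsg.Agent.Lib.Helper26.ZSpan
import Cfsg.Agent.Lib.Helper26.ExtMap

/-!
# The sign lemma: a linear isometry on `ℤ[S]` (|S| ≥ 2, S irreducible) preserving "degree zero"
sends `S` to `ε ·` irreducible characters for a single sign `ε`.
-/

set_option autoImplicit false
set_option linter.unusedSectionVars false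

namespace Cfsg.Agent.Lib.Helper26

open Cfsg
open scoped ComplexConjugate

universe u v

variable {N : Type u} [Group N] [Fintype N] {G : Type v} [Group G] [Fintype G]

theorem IrrFacts.irr_norm (F : IrrFacts N) {χ : N → ℂ} (h : IsIrrCharacter N χ) :
    classInner χ χ = 1 := by
  rw [F.orthonormal χ χ h h, if_pos rfl]

theorem IrrFacts.irr_ne_zero (F : IrrFacts N) {χ : N → ℂ} (h : IsIrrCharacter N χ) : χ ≠ 0 := by
  intro h0
  have := F.irr_norm h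
  rw [h0, classInner_zero_left] at this
  exact zero_ne_one this

theorem IrrFacts.irr_ne_neg (F : IrrFacts N) {χ ψ : N → ℂ} (hχ : IsIrrCharacter N χ)
    (hψ : IsIrrCharacter N ψ) : χ ≠ -ψ := by
  intro h
  obtain ⟨n, hn, hn1⟩ := F.deg_pos χ hχ
  obtain ⟨m, hm, hm1⟩ := F.deg_pos ψ hψ
  have := congrFun h 1
  rw [Pi.neg_apply, hn1, hm1] at this
  have h2 : ((n : ℤ) : ℂ) = ((-(m : ℤ) : ℤ) : ℂ) := by push_cast; exact this
  have h3 : (n : ℤ) = -(m : ℤ) := by exact_mod_cast h2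
  omega

/-- image of an irreducible character under a linear isometry is ± irreducible -/
theorem isom_irr_or_neg (F : IrrFacts N) (F' : IrrFacts G) {S : Set (N → ℂ)}
    (hirr : ∀ χ ∈ S, IsIrrCharacter N χ) {τ₁ : (N → ℂ) → (G → ℂ)}
    (hτ₁ : IsLinearIsometryOn (zspan S) τ₁) {χ : N → ℂ} (hχ : χ ∈ S) :
    ∃ μ : G → ℂ, IsIrrCharacter G μ ∧ (τ₁ χ = μ ∨ τ₁ χ = -μ) := by
  apply F'.norm_one (isom_gen hτ₁ (subset_zspan S hχ))
  rw [isom_inner hτ₁ (subset_zspan S hχ) (subset_zspan S hχ), F.irr_norm (hirr χ hχ)]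

theorem isom_injOn (F : IrrFacts N) {S : Set (N → ℂ)}
    (hirr : ∀ χ ∈ S, IsIrrCharacter N χ) {τ₁ : (N → ℂ) → (G → ℂ)}
    (hτ₁ : IsLinearIsometryOn (zspan S) τ₁) :
    ∀ χ ∈ S, ∀ ψ ∈ S, τ₁ χ = τ₁ ψ → χ = ψ := by
  intro χ hχ ψ hψ h
  by_contra hne
  have h1 := isom_inner hτ₁ (subset_zspan S hχ) (subset_zspan S hψ)
  rw [← h, isom_inner hτ₁ (subset_zspan S hχ) (subset_zspan S hχ), F.irr_norm (hirr χ hχ),
    F.orthonormal χ ψ (hirr χ hχ) (hirr ψ hψ), if_neg hne] at h1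
  exact one_ne_zero h1

/-- The degree-weighted difference `ψ(1) χ − χ(1) ψ`. -/
noncomputable def degDiff (χ ψ : N → ℂ) : N → ℂ := ψ 1 • χ - χ 1 • ψ

theorem degDiff_one (χ ψ : N → ℂ) : degDiff χ ψ 1 = 0 := by
  simp [degDiff, mul_comm]

theorem IrrFacts.degDiff_mem (F : IrrFacts N) {S : Set (N → ℂ)}
    (hirr : ∀ χ ∈ S, IsIrrCharacter N χ) {χ ψ : N → ℂ} (hχ : χ ∈ S) (hψ : ψ ∈ S) :
    degDiff χ ψ ∈ zspan S := by
  obtain ⟨n, _, hn1⟩ := F.deg_pos χ (hirr χ hχ)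
  obtain ⟨m, _, hm1⟩ := F.deg_pos ψ (hirr ψ hψ)
  unfold degDiff
  rw [hn1, hm1]
  exact zspan_sub (zspan_natCast_smul m (subset_zspan S hχ)) (zspan_natCast_smul n (subset_zspan S hψ))

theorem IrrFacts.degDiff_mem_on (F : IrrFacts N) {S : Set (N → ℂ)}
    (hirr : ∀ χ ∈ S, IsIrrCharacter N χ) {χ ψ : N → ℂ} (hχ : χ ∈ S) (hψ : ψ ∈ S) :
    degDiff χ ψ ∈ zspanOn S ({1}ᶜ : Set N) :=
  mem_zspanOn_compl_one.2 ⟨F.degDiff_mem hirr hχ hψ, degDiff_one χ ψ⟩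

theorem IrrFacts.isom_degDiff (F : IrrFacts N) {S : Set (N → ℂ)}
    (hirr : ∀ χ ∈ S, IsIrrCharacter N χ) {τ₁ : (N → ℂ) → (G → ℂ)}
    (hτ₁ : IsLinearIsometryOn (zspan S) τ₁) {χ ψ : N → ℂ} (hχ : χ ∈ S) (hψ : ψ ∈ S) :
    τ₁ (degDiff χ ψ) = ψ 1 • τ₁ χ - χ 1 • τ₁ ψ := by
  obtain ⟨n, _, hn1⟩ := F.deg_pos χ (hirr χ hχ)
  obtain ⟨m, _, hm1⟩ := F.deg_pos ψ (hirr ψ hψ)
  unfold degDiff
  rw [hn1, hm1]
  rw [isom_sub (isZClosed_zspan S) hτ₁ (zspan_natCast_smul m (subset_zspan S hχ))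
    (zspan_natCast_smul n (subset_zspan S hψ)),
    isom_natCast_smul hτ₁ m (subset_zspan S hχ), isom_natCast_smul hτ₁ n (subset_zspan S hψ)]

/-- The sign lemma. -/
theorem sign_lemma (F : IrrFacts N) (F' : IrrFacts G) (S : Set (N → ℂ))
    (hirr : ∀ χ ∈ S, IsIrrCharacter N χ) (htwo : ∃ χ ∈ S, ∃ ψ ∈ S, χ ≠ ψ)
    (τ₁ : (N → ℂ) → (G → ℂ)) (hτ₁ : IsLinearIsometryOn (zspan S) τ₁)
    (h0 : ∀ α ∈ zspan S, α 1 = 0 → τ₁ α 1 = 0) :
    ∃ ε : ℂ, (ε = 1 ∨ ε = -1) ∧ (∀ χ ∈ S, IsIrrCharacter G (ε • τ₁ χ)) ∧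
      (∀ χ ∈ S, ∀ ψ ∈ S, τ₁ χ = τ₁ ψ → χ = ψ) := by
  classical
  have hinj := isom_injOn F hirr hτ₁
  -- existence of a sign for each member
  have hsgn : ∀ χ ∈ S, ∃ ε : ℂ, (ε = 1 ∨ ε = -1) ∧ IsIrrCharacter G (ε • τ₁ χ) := by
    intro χ hχ
    obtain ⟨μ, hμ, h | h⟩ := isom_irr_or_neg F F' hirr hτ₁ hχ
    · exact ⟨1, Or.inl rfl, by rw [one_smul, h]; exact hμ⟩
    · exact ⟨-1, Or.inr rfl, by rw [h]; simpa using hμ⟩
  -- signs of two distinct members agree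
  have hagree : ∀ χ ∈ S, ∀ ψ ∈ S, χ ≠ ψ → ∀ ε δ : ℂ, (ε = 1 ∨ ε = -1) → (δ = 1 ∨ δ = -1) →
      IsIrrCharacter G (ε • τ₁ χ) → IsIrrCharacter G (δ • τ₁ ψ) → ε = δ := by
    intro χ hχ ψ hψ _ ε δ hε hδ hμ hν
    obtain ⟨n, hn, hn1⟩ := F.deg_pos χ (hirr χ hχ)
    obtain ⟨m, hm, hm1⟩ := F.deg_pos ψ (hirr ψ hψ)
    obtain ⟨k, hk, hk1⟩ := F'.deg_pos _ hμ
    obtain ⟨l, hl, hl1⟩ := F'.deg_pos _ hν
    have hz := h0 _ (F.degDiff_mem hirr hχ hψ) (degDiff_one χ ψ)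
    rw [F.isom_degDiff hirr hτ₁ hχ hψ] at hz
    simp only [Pi.sub_apply, Pi.smul_apply, smul_eq_mul] at hz hk1 hl1
    rw [hn1, hm1] at hz
    -- τ₁ χ 1 = ε * k, τ₁ ψ 1 = δ * l
    have hε2 : ε * ε = 1 := by rcases hε with h | h <;> rw [h] <;> norm_num
    have hδ2 : δ * δ = 1 := by rcases hδ with h | h <;> rw [h] <;> norm_num
    have e1 : τ₁ χ 1 = ε * k := by
      calc τ₁ χ 1 = (ε * ε) * τ₁ χ 1 := by rw [hε2, one_mul]
        _ = ε * (ε * τ₁ χ 1) := by ring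
        _ = ε * k := by rw [hk1]
    have e2 : τ₁ ψ 1 = δ * l := by
      calc τ₁ ψ 1 = (δ * δ) * τ₁ ψ 1 := by rw [hδ2, one_mul]
        _ = δ * (δ * τ₁ ψ 1) := by ring
        _ = δ * l := by rw [hl1]
    rw [e1, e2] at hz
    -- m * ε * k = n * δ * l
    rcases hε with rfl | rfl <;> rcases hδ with rfl | rfl
    · rfl
    · exfalso
      have : ((m * k + n * l : ℕ) : ℂ) = 0 := by push_cast; linear_combination hz
      have h3 : m * k + n * l = 0 := by exact_mod_cast this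
      have : 0 < m * k := Nat.mul_pos hm hk
      omega
    · exfalso
      have : ((m * k + n * l : ℕ) : ℂ) = 0 := by push_cast; linear_combination -hz
      have h3 : m * k + n * l = 0 := by exact_mod_cast this
      have : 0 < m * k := Nat.mul_pos hm hk
      omega
    · rfl
  obtain ⟨χ₀, hχ₀, ψ₀, hψ₀, hne⟩ := htwo
  obtain ⟨ε, hε, hεirr⟩ := hsgn χ₀ hχ₀
  refine ⟨ε, hε, ?_, hinj⟩
  intro χ hχ
  obtain ⟨δ, hδ, hδirr⟩ := hsgn χ hχ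
  by_cases hc : χ = χ₀
  · rw [hc]; exact hεirr
  · have := hagree χ hχ χ₀ hχ₀ hc δ ε hδ hε hδirr hεirr
    rw [← this]; exact hδirr

end Cfsg.Agent.Lib.Helper26
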