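import Mathlib
import Cfsg.Prelude.Def_Characters
import Cfsg.Prelude.Def_OddOrderChar
import Cfsg.Agent.Lib.Helper26.IrrFacts
import Cfsg.Agent.Lib.Helper26.ZSpan
import Cfsg.Agent.Lib.Helper26.ExtMap

/-!
# Tools for extending coherent isometries

* `isom_eq_extMap`: a linear isometry on the integer span of a finite set of irreducible characters
  is the canonical extension of its values on the set.
* `IrrFacts.exists_orth_decomp`: orthogonal projection of a generalized character on an orthonormal
  family of generalized characters, with integer coefficients.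
-/

set_option autoImplicit false
set_option linter.unusedSectionVars false

namespace Cfsg.Agent.Lib.Helper26

open Cfsg
open scoped ComplexConjugate

universe u v

section

variable {N : Type u} [Group N] [Fintype N] {G : Type v} [Group G] [Fintype G]

theorem isom_zero {E : Set (N → ℂ)} {τ : (N → ℂ) → (G → ℂ)} (h : IsLinearIsometryOn E τ)
    (h0 : (0 : N → ℂ) ∈ E) : τ 0 = 0 := by
  have := isom_zsmul h 0 h0
  simpa using this

/-- A linear isometry on the integer span of `T` is determined by its values on `T`. -/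
theorem isom_eq_extMap (F : IrrFacts N) {T : Finset (N → ℂ)}
    (hT : ∀ χ ∈ T, IsIrrCharacter N χ) {τ₁ : (N → ℂ) → (G → ℂ)}
    (hτ₁ : IsLinearIsometryOn (zspan (↑T : Set (N → ℂ))) τ₁) {θ : N → ℂ}
    (hθ : θ ∈ zspan (↑T : Set (N → ℂ))) : τ₁ θ = extMap T τ₁ θ := by
  have key : ∀ θ ∈ Submodule.span ℤ (↑T : Set (N → ℂ)), τ₁ θ = extMap T τ₁ θ := by
    intro θ hθ
    induction hθ using Submodule.span_induction with
    | mem x hx => exact (extMap_apply_mem F hT τ₁ (Finset.mem_coe.1 hx)).symm
    | zero =>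
      rw [isom_zero hτ₁ (zspan_zero _)]
      have := extMap_zsmul T τ₁ 0 (0 : N → ℂ)
      rw [zero_smul, zero_smul] at this
      exact this.symm
    | add x y hx hy ihx ihy =>
      rw [isom_add hτ₁ hx hy, extMap_add, ihx, ihy]
    | smul n x hx ih =>
      rw [isom_zsmul hτ₁ n hx, extMap_zsmul, ih]
  exact key θ hθ

/-- Orthogonal decomposition of a generalized character along an orthonormal family of
generalized characters. -/
theorem IrrFacts.exists_orth_decomp (F' : IrrFacts G) {ι : Type*} [DecidableEq ι] (T : Finset ι)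
    (f : ι → (G → ℂ))
    (hf : ∀ i ∈ T, ∀ j ∈ T, classInner (f i) (f j) = if i = j then 1 else 0)
    (hgen : ∀ i ∈ T, IsGeneralizedCharacter G (f i)) {Θ : G → ℂ}
    (hΘ : IsGeneralizedCharacter G Θ) :
    ∃ (b : ι → ℤ) (Γ : G → ℂ), IsGeneralizedCharacter G Γ ∧ Θ = Γ + ∑ i ∈ T, b i • f i ∧
      (∀ i ∈ T, classInner Θ (f i) = b i) ∧ (∀ i ∈ T, classInner Γ (f i) = 0) ∧
      classInner Γ Γ = classInner Θ Θ - ∑ i ∈ T, ((b i : ℂ)) ^ 2 := by
  have hex : ∀ i, ∃ n : ℤ, i ∈ T → classInner Θ (f i) = n := by
    intro i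
    by_cases hi : i ∈ T
    · obtain ⟨n, hn⟩ := F'.inner_int hΘ (hgen i hi)
      exact ⟨n, fun _ => hn⟩
    · exact ⟨0, fun h => absurd h hi⟩
  choose b hb using hex
  have hsumgen : IsGeneralizedCharacter G (∑ i ∈ T, b i • f i) :=
    F'.gen_sum T _ fun i hi => F'.gen_zsmul _ (hgen i hi)
  have horth : ∀ j ∈ T, classInner (Θ - ∑ i ∈ T, b i • f i) (f j) = 0 := by
    intro j hj
    rw [classInner_sub_left, classInner_sum_left, hb j hj]
    have : ∀ i ∈ T, classInner (b i • f i) (f j) = if j = i then (b i : ℂ) else 0 := by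
      intro i hi
      rw [classInner_zsmul_left, hf i hi j hj]
      by_cases h : i = j
      · subst h; simp
      · rw [if_neg h, if_neg (Ne.symm h)]; simp
    rw [Finset.sum_congr rfl this, Finset.sum_ite_eq T j, if_pos hj, sub_self]
  refine ⟨b, Θ - ∑ i ∈ T, b i • f i, F'.gen_sub hΘ hsumgen, by abel, fun i hi => hb i hi,
    horth, ?_⟩
  -- the norm
  have h1 : classInner (Θ - ∑ i ∈ T, b i • f i) (∑ i ∈ T, b i • f i) = 0 := by
    rw [classInner_sum_right]
    apply Finset.sum_eq_zero
    intro i hi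
    rw [classInner_zsmul_right, horth i hi, mul_zero]
  have h2 : classInner (∑ i ∈ T, b i • f i) Θ = ∑ i ∈ T, ((b i : ℂ)) ^ 2 := by
    rw [classInner_sum_left]
    apply Finset.sum_congr rfl
    intro i hi
    rw [classInner_zsmul_left, ← classInner_conj_symm Θ (f i), hb i hi]
    simp [sq]
  rw [classInner_sub_right, h1, sub_zero, classInner_sub_left, h2]

end

end Cfsg.Agent.Lib.Helper26
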