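import Mathlib
import Cfsg.Prelude.Def_OddOrderLocal
import Cfsg.Prelude.Def_OddOrderChar
import Cfsg.Agent.Lib.Helper23.TypeP

/-!
# Peterfalvi section 8, part A: the Dade hypothesis for `A₁(M)`, `A(M)`, `A₀(M)`

Everything here is unconditional mathematics; the Bender–Glauberman summary rows enter only as
explicit hypotheses (`TameInput`, the literal conclusion of the "tame embedding" row).
-/

set_option autoImplicit false

namespace Cfsg.Agent.Lib.Helper26.PFEight

open Cfsg

universe u

variable {G : Type u} [Group G]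

/-! ### Normalizers of `M`-invariant subsets of a maximal subgroup of a simple group -/

/-- a subgroup normalizing a set elementwise lies in the set normalizer -/
theorem le_normalizer_of_conj_mem {M : Subgroup G} {A : Set G}
    (hconj : ∀ m ∈ M, ∀ a ∈ A, m * a * m⁻¹ ∈ A) : M ≤ Subgroup.normalizer A := by
  intro m hm
  rw [Subgroup.mem_set_normalizer_iff]
  intro h
  refine ⟨fun hh => hconj m hm h hh, fun hh => ?_⟩
  have := hconj m⁻¹ (M.inv_mem hm) _ hh
  simpa [mul_assoc] using this

/-- In a simple group, a maximal subgroup `M` is the full normalizer of every `M`-invariant subset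
of `M` containing a non-identity element. -/
theorem normalizer_eq_of_isCoatom [IsSimpleGroup G] {M : Subgroup G} (hM : IsCoatom M) {A : Set G}
    (hAM : A ⊆ (M : Set G)) (hne : ∃ a ∈ A, a ≠ 1)
    (hconj : ∀ m ∈ M, ∀ a ∈ A, m * a * m⁻¹ ∈ A) : Subgroup.normalizer A = M := by
  have hle : M ≤ Subgroup.normalizer A := le_normalizer_of_conj_mem hconj
  rcases eq_or_lt_of_le hle with h | h
  · exact h.symm
  · exfalso
    have htop : Subgroup.normalizer A = ⊤ := hM.2 _ h
    have hsub : Group.conjugatesOfSet A ⊆ (M : Set G) := by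
      intro b hb
      rw [Group.mem_conjugatesOfSet_iff] at hb
      obtain ⟨a, ha, hab⟩ := hb
      rw [isConj_iff] at hab
      obtain ⟨c, rfl⟩ := hab
      have hc : c ∈ Subgroup.normalizer A := by rw [htop]; trivial
      exact hAM ((Subgroup.mem_set_normalizer_iff.1 hc a).1 ha)
    have hNM : Subgroup.normalClosure A ≤ M := by
      unfold Subgroup.normalClosure
      exact (Subgroup.closure_le M).2 hsub
    obtain ⟨a, ha, ha1⟩ := hne
    have hN : Subgroup.normalClosure A ≠ ⊥ := by
      intro hbot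
      have : a ∈ Subgroup.normalClosure A := Subgroup.subset_normalClosure ha
      rw [hbot, Subgroup.mem_bot] at this
      exact ha1 this
    have hNtop : Subgroup.normalClosure A = ⊤ :=
      (Subgroup.Normal.eq_bot_or_eq_top (Subgroup.normalClosure_normal)).resolve_left hN
    rw [hNtop] at hNM
    exact hM.1 (top_le_iff.1 hNM)

/-! ### Basic facts on `M_F`, `M'`, `M_s` -/

theorem fittingHallOf_le (M : Subgroup G) : fittingHallOf M ≤ M := by
  unfold fittingHallOf
  exact Subgroup.map_subtype_le _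

theorem commutator_self_le (M : Subgroup G) : ⁅M, M⁆ ≤ M :=
  Subgroup.commutator_le_self M

/-- `M` normalizes `M_F`. -/
theorem conj_mem_fittingHallOf (M : Subgroup G) {m x : G} (hm : m ∈ M)
    (hx : x ∈ fittingHallOf M) : m * x * m⁻¹ ∈ fittingHallOf M := by
  unfold fittingHallOf at hx ⊢
  obtain ⟨x', hx', rfl⟩ := hx
  have hn : (fittingHall ↥M).Normal := inferInstance
  exact ⟨⟨m, hm⟩ * x' * ⟨m, hm⟩⁻¹, hn.conj_mem x' hx' ⟨m, hm⟩, rfl⟩

theorem typeCore_le (M : Subgroup G) : typeCore M ≤ M := by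
  unfold typeCore
  split_ifs
  · exact commutator_self_le M
  · exact fittingHallOf_le M

/-- `M` normalizes `M_s`. -/
theorem conj_mem_typeCore (M : Subgroup G) {m x : G} (hm : m ∈ M) (hx : x ∈ typeCore M) :
    m * x * m⁻¹ ∈ typeCore M := by
  unfold typeCore at hx ⊢
  split_ifs at hx ⊢
  · exact Cfsg.Agent.Lib.Helper23.conj_mem_commutator_self M hm hx
  · exact conj_mem_fittingHallOf M hm hx

theorem conj_ne_one {g a : G} (ha : a ≠ 1) : g * a * g⁻¹ ≠ 1 := by
  intro h
  apply ha
  have := congrArg (fun t => g⁻¹ * t * g) h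
  simpa [mul_assoc] using this

theorem conj_commute {g a x : G} (h : a * x = x * a) :
    (g * a * g⁻¹) * (g * x * g⁻¹) = (g * x * g⁻¹) * (g * a * g⁻¹) := by
  have e1 : (g * a * g⁻¹) * (g * x * g⁻¹) = g * (a * x) * g⁻¹ := by group
  have e2 : (g * x * g⁻¹) * (g * a * g⁻¹) = g * (x * a) * g⁻¹ := by group
  rw [e1, e2, h]

/-! ### The sets `A₁(M)`, `A(M)`, `A₀(M)`: elementary properties -/

theorem one_not_mem_typeA1 (M : Subgroup G) : (1 : G) ∉ typeA1 M := by
  unfold typeA1
  simp

theorem typeA1_subset (M : Subgroup G) : typeA1 M ⊆ (M : Set G) := by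
  intro a ha
  exact typeCore_le M ha.1

theorem conj_mem_typeA1 (M : Subgroup G) {m a : G} (hm : m ∈ M) (ha : a ∈ typeA1 M) :
    m * a * m⁻¹ ∈ typeA1 M := by
  refine ⟨conj_mem_typeCore M hm ha.1, ?_⟩
  have h1 : a ≠ 1 := fun h => ha.2 (by simpa using h)
  simpa using conj_ne_one (g := m) h1

theorem one_not_mem_typeA (M : Subgroup G) : (1 : G) ∉ typeA M := by
  unfold typeA
  split_ifs
  · intro h; exact h.2.1 rfl
  · intro h; exact h.2.1 rfl

theorem typeA_subset (M : Subgroup G) : typeA M ⊆ (M : Set G) := by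
  intro a ha
  unfold typeA at ha
  split_ifs at ha
  · exact ha.1
  · exact commutator_self_le M ha.1

theorem conj_mem_typeA (M : Subgroup G) {m a : G} (hm : m ∈ M) (ha : a ∈ typeA M) :
    m * a * m⁻¹ ∈ typeA M := by
  unfold typeA at ha ⊢
  split_ifs at ha ⊢
  · obtain ⟨haM, ha1, x, hx, hx1, hax⟩ := ha
    exact ⟨M.mul_mem (M.mul_mem hm haM) (M.inv_mem hm), conj_ne_one ha1,
      m * x * m⁻¹, conj_mem_fittingHallOf M hm hx, conj_ne_one hx1, conj_commute hax⟩
  · obtain ⟨haM, ha1, x, hx, hx1, hax⟩ := ha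
    exact ⟨Cfsg.Agent.Lib.Helper23.conj_mem_commutator_self M hm haM, conj_ne_one ha1,
      m * x * m⁻¹, conj_mem_typeCore M hm hx, conj_ne_one hx1, conj_commute hax⟩

theorem typeA_subset_typeA0 (M : Subgroup G) : typeA M ⊆ typeA0 M := by
  intro a ha
  exact Or.inl ha

theorem one_not_mem_typeA0 (M : Subgroup G) : (1 : G) ∉ typeA0 M := by
  intro h
  rcases h with h | h
  · exact one_not_mem_typeA M h
  · obtain ⟨-, W₁, U, W₂, -, m, -, w, -, hw1, -, h1⟩ := h
    apply hw1
    have : w = 1 := by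
      have := congrArg (fun t => m⁻¹ * t * m) h1
      simpa [mul_assoc] using this.symm
    rw [this]
    exact W₁.one_mem

theorem typeA0_subset (M : Subgroup G) : typeA0 M ⊆ (M : Set G) := by
  intro a ha
  rcases ha with ha | ha
  · exact typeA_subset M ha
  · obtain ⟨-, W₁, U, W₂, hP, m, hm, w, hw, -, -, rfl⟩ := ha
    have hW₁ : W₁ ≤ M := hP.W₁_compl.2.1
    have hW₂ : W₂ ≤ M := (hP.W₂_le.trans inf_le_left).trans (fittingHallOf_le M)
    have hwM : w ∈ M := (sup_le hW₁ hW₂) hw
    exact M.mul_mem (M.mul_mem hm hwM) (M.inv_mem hm)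

theorem conj_mem_typeA0 (M : Subgroup G) {m a : G} (hm : m ∈ M) (ha : a ∈ typeA0 M) :
    m * a * m⁻¹ ∈ typeA0 M := by
  rcases ha with ha | ha
  · exact Or.inl (conj_mem_typeA M hm ha)
  · obtain ⟨hI, W₁, U, W₂, hP, n, hn, w, hw, hw1, hw2, rfl⟩ := ha
    refine Or.inr ⟨hI, W₁, U, W₂, hP, m * n, M.mul_mem hm hn, w, hw, hw1, hw2, ?_⟩
    group

/-! ### The function `R` -/

theorem supportR_le_centralizer (M : Subgroup G) (a : G) :
    supportR M a ≤ Subgroup.centralizer ({a} : Set G) := by
  unfold supportR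
  split_ifs
  · exact inf_le_right
  · exact bot_le

theorem supportR_eq_bot_of_le (M : Subgroup G) {a : G}
    (h : Subgroup.centralizer ({a} : Set G) ≤ M) : supportR M a = ⊥ := by
  unfold supportR
  rw [dif_neg]
  intro h'
  exact h'.1 h

/-- If `C(a)` is not in `M` and lies in the unique maximal subgroup `L`, then `R(a) = C_{L_F}(a)`. -/
theorem supportR_eq_of_unique (M : Subgroup G) {a : G}
    (h1 : ¬ Subgroup.centralizer ({a} : Set G) ≤ M)
    (h2 : ∃! L : Subgroup G, IsCoatom L ∧ Subgroup.centralizer ({a} : Set G) ≤ L)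
    {L : Subgroup G} (hL : IsCoatom L) (hCL : Subgroup.centralizer ({a} : Set G) ≤ L) :
    supportR M a = fittingHallOf L ⊓ Subgroup.centralizer ({a} : Set G) := by
  unfold supportR
  rw [dif_pos ⟨h1, h2⟩]
  have hch := Classical.choose_spec h2.exists
  have : Classical.choose h2.exists = L := h2.unique hch ⟨hL, hCL⟩
  rw [this]

/-! ### The input from the tame-embedding row and the Dade hypothesis -/

/-- The part of the tame-embedding theorem (for the pair `(M, X)`) that the Dade hypothesis needs. -/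
structure TameInput (M : Subgroup G) (X : Set G) : Prop where
  fusion : ∀ x ∈ X, ∀ g : G, g * x * g⁻¹ ∈ X → ∃ m ∈ M, m * x * m⁻¹ = g * x * g⁻¹
  uniq : ∀ x ∈ X, ¬ Subgroup.centralizer ({x} : Set G) ≤ M →
    ∃! L : Subgroup G, IsCoatom L ∧ Subgroup.centralizer ({x} : Set G) ≤ L
  norm : ∀ x ∈ X, ¬ Subgroup.centralizer ({x} : Set G) ≤ M → ∀ L : Subgroup G, IsCoatom L →
    Subgroup.centralizer ({x} : Set G) ≤ L →
    Subgroup.centralizer ({x} : Set G) ≤ Subgroup.normalizer
      ((fittingHallOf L ⊓ Subgroup.centralizer ({x} : Set G) : Subgroup G) : Set G)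
  compl : ∀ x ∈ X, ¬ Subgroup.centralizer ({x} : Set G) ≤ M → ∀ L : Subgroup G, IsCoatom L →
    Subgroup.centralizer ({x} : Set G) ≤ L →
    IsComplIn (fittingHallOf L ⊓ Subgroup.centralizer ({x} : Set G))
      (M ⊓ Subgroup.centralizer ({x} : Set G)) (Subgroup.centralizer ({x} : Set G))
  coprime : ∀ x ∈ X, ¬ Subgroup.centralizer ({x} : Set G) ≤ M → ∀ L : Subgroup G, IsCoatom L →
    Subgroup.centralizer ({x} : Set G) ≤ L →
    ∀ y ∈ X, (Nat.card (fittingHallOf L)).Coprime
      (Nat.card ↥(M ⊓ Subgroup.centralizer ({y} : Set G)))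

/-- The Dade hypothesis for `(X, M, R)` from the tame-embedding input. -/
theorem dade_of_tameInput [Finite G] {M : Subgroup G} {X : Set G} (h : TameInput M X)
    (h1 : (1 : G) ∉ X) (hXM : X ⊆ (M : Set G))
    (hconj : ∀ m ∈ M, ∀ a ∈ X, m * a * m⁻¹ ∈ X) : DadeHypothesis X M (supportR M) := by
  refine
    { one_not_mem := h1
      subset := hXM
      conj_mem := hconj
      fusion := h.fusion
      le_centralizer := fun a _ => supportR_le_centralizer M a
      conj_mem_H := ?_
      inf_eq_bot := ?_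
      sup_eq := ?_
      coprime := ?_ }
  · intro a ha c hc u hu
    by_cases hCM : Subgroup.centralizer ({a} : Set G) ≤ M
    · rw [supportR_eq_bot_of_le M hCM, Subgroup.mem_bot] at hu ⊢
      rw [hu]; group
    · obtain ⟨L, ⟨hL, hCL⟩, -⟩ := h.uniq a ha hCM
      rw [supportR_eq_of_unique M hCM (h.uniq a ha hCM) hL hCL] at hu ⊢
      have hn := h.norm a ha hCM L hL hCL hc
      rw [Subgroup.mem_set_normalizer_iff] at hn
      exact (hn u).1 hu
  · intro a ha
    by_cases hCM : Subgroup.centralizer ({a} : Set G) ≤ M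
    · rw [supportR_eq_bot_of_le M hCM, bot_inf_eq]
    · obtain ⟨L, ⟨hL, hCL⟩, -⟩ := h.uniq a ha hCM
      rw [supportR_eq_of_unique M hCM (h.uniq a ha hCM) hL hCL]
      exact (h.compl a ha hCM L hL hCL).2.2.1
  · intro a ha
    by_cases hCM : Subgroup.centralizer ({a} : Set G) ≤ M
    · rw [supportR_eq_bot_of_le M hCM, bot_sup_eq]
      exact inf_eq_right.2 hCM
    · obtain ⟨L, ⟨hL, hCL⟩, -⟩ := h.uniq a ha hCM
      rw [supportR_eq_of_unique M hCM (h.uniq a ha hCM) hL hCL]
      have hc := h.compl a ha hCM L hL hCL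
      apply le_antisymm
      · exact sup_le inf_le_right inf_le_right
      · intro c hc'
        obtain ⟨r, hr, b, hb, rfl⟩ := hc.2.2.2 c hc'
        exact Subgroup.mul_mem _ (Subgroup.mem_sup_left hr) (Subgroup.mem_sup_right hb)
  · intro a ha b hb
    by_cases hCM : Subgroup.centralizer ({a} : Set G) ≤ M
    · rw [supportR_eq_bot_of_le M hCM, Subgroup.card_bot]
      exact Nat.coprime_one_left _
    · obtain ⟨L, ⟨hL, hCL⟩, -⟩ := h.uniq a ha hCM
      rw [supportR_eq_of_unique M hCM (h.uniq a ha hCM) hL hCL]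
      have hc := h.coprime a ha hCM L hL hCL b hb
      exact hc.coprime_dvd_left (Subgroup.card_dvd_of_le inf_le_left)

/-- The Dade hypothesis restricts to `M`-invariant subsets. -/
theorem DadeHypothesis.mono {X A : Set G} {M : Subgroup G} {H : G → Subgroup G}
    (h : DadeHypothesis X M H) (hAX : A ⊆ X) (hconj : ∀ m ∈ M, ∀ a ∈ A, m * a * m⁻¹ ∈ A) :
    DadeHypothesis A M H :=
  { one_not_mem := fun h1 => h.one_not_mem (hAX h1)
    subset := fun _ ha => h.subset (hAX ha)
    conj_mem := hconj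
    fusion := fun a ha g hg => h.fusion a (hAX ha) g (hAX hg)
    le_centralizer := fun a ha => h.le_centralizer a (hAX ha)
    conj_mem_H := fun a ha => h.conj_mem_H a (hAX ha)
    inf_eq_bot := fun a ha => h.inf_eq_bot a (hAX ha)
    sup_eq := fun a ha => h.sup_eq a (hAX ha)
    coprime := fun a ha b hb => h.coprime a (hAX ha) b (hAX hb) }

end Cfsg.Agent.Lib.Helper26.PFEight
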