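import Mathlib
import Cfsg.Agent.Lib.Helper26.PFEightA

/-!
# Peterfalvi section 8, part B: Frobenius type excludes type P; `A₁(M) ⊆ A(M)`;
the Dade hypothesis for the three sets (conditional on the tame-embedding input)
-/

set_option autoImplicit false

namespace Cfsg.Agent.Lib.Helper26.PFEight

open Cfsg

universe u

/-! ### A group of Frobenius type has no Hall subgroup centralizing part of the kernel -/

/-- Abstract core of "type F excludes type P": if `H ⋊ U'` has a subgroup `U₀ ≤ U'` of full exponent acting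
fixed-point-freely on `H`, then no nontrivial Hall subgroup `W` of order prime to `|H|` can have all its
non-identity elements centralizing a fixed nontrivial subgroup `Z` of `H`. -/
theorem frob_vs_hall_false {M : Type u} [Group M] [Finite M] (H : Subgroup M) [H.Normal]
    (U' U₀ : Subgroup M) (hcompl : Subgroup.IsComplement' H U')
    (hexp : Monoid.exponent U₀ = Monoid.exponent U')
    (hfpf : ∀ u ∈ U₀, u ≠ 1 → ∀ x ∈ H, u * x = x * u → x = 1)
    (W Z : Subgroup M) (hW : W ≠ ⊥) (hWhall : (Nat.card W).Coprime W.index)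
    (hWH : (Nat.card W).Coprime (Nat.card H)) (hZ : Z ≠ ⊥) (hZH : Z ≤ H)
    (hcent : ∀ w ∈ W, w ≠ 1 → ∀ z ∈ Z, w * z = z * w) : False := by
  have hW1 : Nat.card W ≠ 1 := fun h => hW (Subgroup.card_eq_one.1 h)
  obtain ⟨p, hp, hpW⟩ := Nat.exists_prime_and_dvd hW1
  have : Fact p.Prime := ⟨hp⟩
  have hpM : p ∣ Nat.card M := hpW.trans (Subgroup.card_subgroup_dvd_card W)
  have hpH : ¬ p ∣ Nat.card H := fun h =>
    hp.one_lt.ne' (Nat.eq_one_of_dvd_coprimes hWH hpW h)
  have hpU' : p ∣ Nat.card U' := by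
    rw [← hcompl.card_mul_card] at hpM
    exact (hp.dvd_mul.1 hpM).resolve_left hpH
  obtain ⟨u', hu'⟩ := exists_prime_orderOf_dvd_card' p hpU'
  have hpe : p ∣ Monoid.exponent U₀ := by
    rw [hexp, ← hu']
    exact Monoid.order_dvd_exponent u'
  have hpU₀ : p ∣ Nat.card U₀ := hpe.trans Group.exponent_dvd_nat_card
  obtain ⟨u₀, hu₀⟩ := exists_prime_orderOf_dvd_card' p hpU₀
  set u : M := (u₀ : M) with hu
  have huord : orderOf u = p := by rw [hu, Subgroup.orderOf_coe, hu₀]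
  have hu1 : u ≠ 1 := by
    intro h
    rw [h, orderOf_one] at huord
    exact hp.one_lt.ne huord
  have huU₀ : u ∈ U₀ := u₀.2
  -- the cyclic group generated by `u` is a `p`-group, acting on the cosets of `W`
  have hP : IsPGroup p ↥(Subgroup.zpowers u) := by
    apply IsPGroup.of_card (n := 1)
    rw [Nat.card_zpowers, huord, pow_one]
  have hidx : ¬ p ∣ Nat.card (M ⧸ W) := by
    rw [← Subgroup.index_eq_card]
    intro h
    exact hp.one_lt.ne' (Nat.eq_one_of_dvd_coprimes hWhall hpW h)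
  obtain ⟨c, hc⟩ := hP.nonempty_fixed_point_of_prime_not_dvd_card (M ⧸ W) hidx
  induction c using QuotientGroup.induction_on with
  | H g =>
    have h1 := hc ⟨u, Subgroup.mem_zpowers u⟩
    have h2 : ((u * g : M) : M ⧸ W) = (g : M ⧸ W) := h1
    rw [QuotientGroup.eq] at h2
    have h3 := W.inv_mem h2
    have e : ((u * g)⁻¹ * g)⁻¹ = g⁻¹ * u * g := by group
    rw [e] at h3
    have hw1 : g⁻¹ * u * g ≠ 1 := by
      have := conj_ne_one (g := g⁻¹) hu1
      simpa using this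
    obtain ⟨z, hzZ, hz1⟩ : ∃ z ∈ Z, z ≠ 1 := by
      by_contra hcon
      exact hZ ((Subgroup.eq_bot_iff_forall Z).2
        (fun x hx => by_contra (fun h => hcon ⟨x, hx, h⟩)))
    have hcomm := hcent _ h3 hw1 z hzZ
    have hcomm2 := conj_commute (g := g) hcomm
    have e2 : g * (g⁻¹ * u * g) * g⁻¹ = u := by group
    rw [e2] at hcomm2
    have hxH : g * z * g⁻¹ ∈ H := (inferInstance : H.Normal).conj_mem z (hZH hzZ) g
    have := hfpf u huU₀ hu1 _ hxH hcomm2
    exact conj_ne_one hz1 this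

variable {G : Type u} [Group G]

theorem card_fittingHallOf (M : Subgroup G) :
    Nat.card ↥(fittingHallOf M) = Nat.card ↥(fittingHall ↥M) := by
  unfold fittingHallOf
  exact Nat.card_congr
    ((fittingHall ↥M).equivMapOfInjective M.subtype M.subtype_injective).toEquiv.symm

theorem mem_fittingHall_of_coe_mem (M : Subgroup G) (z : ↥M) (hz : (z : G) ∈ fittingHallOf M) :
    z ∈ fittingHall ↥M := by
  unfold fittingHallOf at hz
  obtain ⟨z', hz', hzz⟩ := hz
  have : z' = z := Subtype.ext hzz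
  rwa [← this]

/-- A subgroup of Frobenius type (in particular of Type I) carries no type-P data. -/
theorem not_typeF_of_typeP [Finite G] {M W₁ U W₂ : Subgroup G} (hF : IsOfTypeF ↥M)
    (hP : IsTypePWith M W₁ U W₂) : False := by
  obtain ⟨-, -, -, -, U', -, hcompl, -, U₀, -, hexp, hfpf⟩ := hF
  have hW₁M : W₁ ≤ M := hP.W₁_compl.2.1
  have hW₂F : W₂ ≤ fittingHallOf M := hP.W₂_le.trans inf_le_left
  have hW₂M : W₂ ≤ M := hW₂F.trans (fittingHallOf_le M)
  have hW₂ne : W₂ ≠ ⊥ := hP.selfNormalizing.2.1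
  refine frob_vs_hall_false (fittingHall ↥M) U' U₀ hcompl hexp hfpf
    (W₁.subgroupOf M) (W₂.subgroupOf M) ?_ ?_ ?_ ?_ ?_ ?_
  · intro h
    apply hP.W₁_ne
    rw [Subgroup.eq_bot_iff_forall] at h ⊢
    intro a ha
    have := h ⟨a, hW₁M ha⟩ (Subgroup.mem_subgroupOf.2 ha)
    exact congrArg Subtype.val this
  · have hc : Nat.card ↥(W₁.subgroupOf M) = Nat.card ↥W₁ :=
      Nat.card_congr (Subgroup.subgroupOfEquivOfLe hW₁M).toEquiv
    rw [hc]
    exact hP.W₁_hall
  · have hc : Nat.card ↥(W₁.subgroupOf M) = Nat.card ↥W₁ :=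
      Nat.card_congr (Subgroup.subgroupOfEquivOfLe hW₁M).toEquiv
    rw [hc, ← card_fittingHallOf]
    have h1 := Cfsg.Agent.Lib.Helper23.card_of_isComplIn hP.W₁_compl
    have h2 := Cfsg.Agent.Lib.Helper23.card_mul_relIndex_of_le hW₁M
    have hpos : 0 < Nat.card ↥W₁ := Nat.card_pos
    have h3 : W₁.relIndex M = Nat.card ↥⁅M, M⁆ := by
      have : Nat.card ↥W₁ * W₁.relIndex M = Nat.card ↥W₁ * Nat.card ↥⁅M, M⁆ := by
        rw [h2, h1, mul_comm]
      exact Nat.eq_of_mul_eq_mul_left hpos this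
    have h4 := hP.W₁_hall
    rw [h3] at h4
    exact h4.coprime_dvd_right (Subgroup.card_dvd_of_le hP.U_compl.1)
  · intro h
    apply hW₂ne
    rw [Subgroup.eq_bot_iff_forall] at h ⊢
    intro a ha
    have := h ⟨a, hW₂M ha⟩ (Subgroup.mem_subgroupOf.2 ha)
    exact congrArg Subtype.val this
  · intro z hz
    exact mem_fittingHall_of_coe_mem M z (hW₂F (Subgroup.mem_subgroupOf.1 hz))
  · intro w hw hw1 z hz
    have hwW : (w : G) ∈ W₁ := Subgroup.mem_subgroupOf.1 hw
    have hzW : (z : G) ∈ W₂ := Subgroup.mem_subgroupOf.1 hz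
    have hw1' : (w : G) ≠ 1 := fun h => hw1 (Subtype.ext h)
    have hc := hP.W₂_centralizer (w : G) hwW hw1'
    rw [← hc] at hzW
    have := (Subgroup.mem_centralizer_iff.1 hzW.2) (w : G) rfl
    exact Subtype.ext this

theorem not_typeIII_or_IV_of_typeI [Finite G] {M : Subgroup G} (hI : IsOfTypeI M) :
    ¬ (IsOfTypeIII M ∨ IsOfTypeIV M) := by
  rintro (⟨W₁, U, W₂, hP, -⟩ | ⟨W₁, U, W₂, hP, -⟩)
  · exact not_typeF_of_typeP hI.1 hP
  · exact not_typeF_of_typeP hI.1 hP

theorem not_typeI_of_typeP [Finite G] {M W₁ U W₂ : Subgroup G} (hP : IsTypePWith M W₁ U W₂) :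
    ¬ IsOfTypeI M := fun hI => not_typeF_of_typeP hI.1 hP

theorem typeCore_eq_of_typeI [Finite G] {M : Subgroup G} (hI : IsOfTypeI M) :
    typeCore M = fittingHallOf M := by
  unfold typeCore
  rw [if_neg (not_typeIII_or_IV_of_typeI hI)]

theorem typeCore_le_commutator {M : Subgroup G} (hFM : fittingHallOf M ≤ ⁅M, M⁆) :
    typeCore M ≤ ⁅M, M⁆ := by
  unfold typeCore
  split_ifs
  · exact le_rfl
  · exact hFM

theorem fittingHallOf_le_typeCore {M : Subgroup G} (hFM : fittingHallOf M ≤ ⁅M, M⁆) :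
    fittingHallOf M ≤ typeCore M := by
  unfold typeCore
  split_ifs
  · exact hFM
  · exact le_rfl

/-- `A₁(M) ⊆ A(M)` as soon as `M_F ≤ M'`. -/
theorem typeA1_subset_typeA [Finite G] (M : Subgroup G) (hFM : fittingHallOf M ≤ ⁅M, M⁆) :
    typeA1 M ⊆ typeA M := by
  intro a ha
  have ha1 : a ≠ 1 := fun h => ha.2 (by simpa using h)
  unfold typeA
  split_ifs with hI
  · have hc : typeCore M = fittingHallOf M := typeCore_eq_of_typeI hI
    exact ⟨typeCore_le M ha.1, ha1, a, hc ▸ ha.1, ha1, rfl⟩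
  · exact ⟨typeCore_le_commutator hFM ha.1, ha1, a, ha.1, ha1, rfl⟩

/-- The literal conclusion of the tame-embedding summary row for the pair `(M, X)`. -/
def TameLiteral (M : Subgroup G) (X : Set G) : Prop :=
  (∀ x ∈ X, ∀ g : G, g * x * g⁻¹ ∈ X → ∃ m ∈ M, m * x * m⁻¹ = g * x * g⁻¹) ∧
    (∀ x ∈ X, ¬ Subgroup.centralizer ({x} : Set G) ≤ M → x ∈ Cfsg.typeA1 M ∧
      ∃! L : Subgroup G, IsCoatom L ∧ Subgroup.centralizer ({x} : Set G) ≤ L) ∧
    ∀ x ∈ X, ¬ Subgroup.centralizer ({x} : Set G) ≤ M → ∀ L : Subgroup G, IsCoatom L →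
      Subgroup.centralizer ({x} : Set G) ≤ L →
      Cfsg.IsComplIn (Cfsg.fittingHallOf L) (M ⊓ L) L ∧
      Subgroup.centralizer ({x} : Set G) ≤ Subgroup.normalizer
        ((Cfsg.fittingHallOf L ⊓ Subgroup.centralizer ({x} : Set G) : Subgroup G) : Set G) ∧
      Cfsg.IsComplIn (Cfsg.fittingHallOf L ⊓ Subgroup.centralizer ({x} : Set G))
        (M ⊓ Subgroup.centralizer ({x} : Set G)) (Subgroup.centralizer ({x} : Set G)) ∧
      (∀ y ∈ X, (Nat.card (Cfsg.fittingHallOf L)).Coprime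
        (Nat.card ↥(M ⊓ Subgroup.centralizer ({y} : Set G)))) ∧
      (x ∈ Cfsg.typeA L ∧ x ∉ Cfsg.typeA1 L) ∧
      (Cfsg.IsOfTypeI L ∨ Cfsg.IsOfTypeII L) ∧
      (Cfsg.IsOfTypeII L → ∃ E : Subgroup ↥M, Cfsg.IsFrobeniusComplement E ∧
        Cfsg.frobeniusKernel E = ((Cfsg.fittingHall ↥M : Subgroup ↥M) : Set ↥M))

theorem TameLiteral.toInput {M : Subgroup G} {X : Set G} (h : TameLiteral M X) : TameInput M X where
  fusion := h.1
  uniq := fun x hx hC => (h.2.1 x hx hC).2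
  norm := fun x hx hC L hL hCL => (h.2.2 x hx hC L hL hCL).2.1
  compl := fun x hx hC L hL hCL => (h.2.2 x hx hC L hL hCL).2.2.1
  coprime := fun x hx hC L hL hCL => (h.2.2 x hx hC L hL hCL).2.2.2.1

/-- **Peterfalvi (8.?): the Dade hypothesis** for `A₁(M)`, `A(M)`, `A₀(M)`, from the tame-embedding
input for `A(M)` and `A₀(M)`, together with `1 ≠ M_F ≤ M'`. -/
theorem dade_main [Finite G] (hG : IsMinSimpleOddOrder G) (M : Subgroup G) (hM : IsCoatom M)
    (hT : TameInput M (typeA M)) (hT0 : TameInput M (typeA0 M))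
    (hF1 : fittingHallOf M ≠ ⊥) (hF2 : fittingHallOf M ≤ ⁅M, M⁆)
    (A : Set G) (hA : A = typeA1 M ∨ A = typeA M ∨ A = typeA0 M) :
    Subgroup.normalizer A = M ∧ DadeHypothesis A M (supportR M) := by
  have hsimple : IsSimpleGroup G := hG.2.1
  have h10 : typeA1 M ⊆ typeA M := typeA1_subset_typeA M hF2
  obtain ⟨a, haF, ha1⟩ : ∃ a ∈ fittingHallOf M, a ≠ 1 := by
    by_contra hcon
    exact hF1 ((Subgroup.eq_bot_iff_forall _).2
      (fun x hx => by_contra (fun h => hcon ⟨x, hx, h⟩)))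
  have haA1 : a ∈ typeA1 M := ⟨fittingHallOf_le_typeCore hF2 haF, by simpa using ha1⟩
  have hD : DadeHypothesis (typeA M) M (supportR M) :=
    dade_of_tameInput hT (one_not_mem_typeA M) (typeA_subset M)
      (fun m hm a ha => conj_mem_typeA M hm ha)
  rcases hA with rfl | rfl | rfl
  · refine ⟨normalizer_eq_of_isCoatom hM (typeA1_subset M) ⟨a, haA1, ha1⟩
      (fun m hm a ha => conj_mem_typeA1 M hm ha), ?_⟩
    exact DadeHypothesis.mono hD h10 (fun m hm a ha => conj_mem_typeA1 M hm ha)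
  · exact ⟨normalizer_eq_of_isCoatom hM (typeA_subset M) ⟨a, h10 haA1, ha1⟩
      (fun m hm a ha => conj_mem_typeA M hm ha), hD⟩
  · refine ⟨normalizer_eq_of_isCoatom hM (typeA0_subset M)
      ⟨a, typeA_subset_typeA0 M (h10 haA1), ha1⟩
      (fun m hm a ha => conj_mem_typeA0 M hm ha), ?_⟩
    exact dade_of_tameInput hT0 (one_not_mem_typeA0 M) (typeA0_subset M)
      (fun m hm a ha => conj_mem_typeA0 M hm ha)

end Cfsg.Agent.Lib.Helper26.PFEight
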