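import Mathlib
import Cfsg.Agent.Lib.Helper26.PFEightB
import Cfsg.Agent.S3745

/-!
# Peterfalvi section 8, part C: maximal subgroups of Type II

For `M` of Type II the sets `A₀(M)`, `A(M)`, `A₁(M)` are TI-subsets with normalizer `M`
(conditional on the tame-embedding input).
-/

set_option autoImplicit false

namespace Cfsg.Agent.Lib.Helper26.PFEight

open Cfsg

universe u

variable {G : Type u} [Group G]

/-! ### The complements `U` of two sets of type-P data are conjugate in `M'` -/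

theorem relIndex_of_isComplIn [Finite G] {A B M : Subgroup G} (h : IsComplIn A B M) :
    B.relIndex M = Nat.card ↥A := by
  have h1 := Cfsg.Agent.Lib.Helper23.card_of_isComplIn h
  have h2 := Cfsg.Agent.Lib.Helper23.card_mul_relIndex_of_le h.2.1
  have hpos : 0 < Nat.card ↥B := Nat.card_pos
  have : Nat.card ↥B * B.relIndex M = Nat.card ↥B * Nat.card ↥A := by
    rw [h2, h1, mul_comm]
  exact Nat.eq_of_mul_eq_mul_left hpos this

theorem exists_conj_of_typeP [Finite G] {M W₁ U W₂ W₁' U' W₂' : Subgroup G}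
    (hsolv : Group.IsSolvable ↥⁅M, M⁆)
    (hP : IsTypePWith M W₁ U W₂) (hP' : IsTypePWith M W₁' U' W₂') :
    ∃ c ∈ M, U' = U.map (MulAut.conj c).toMonoidHom := by
  have hcard : Nat.card ↥U' = Nat.card ↥U := by
    have h1 := Cfsg.Agent.Lib.Helper23.card_of_isComplIn hP.U_compl
    have h2 := Cfsg.Agent.Lib.Helper23.card_of_isComplIn hP'.U_compl
    have hpos : 0 < Nat.card ↥(fittingHallOf M) := Nat.card_pos
    rw [h1] at h2
    exact (Nat.eq_of_mul_eq_mul_left hpos h2).symm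
  let π : Set ℕ := {p | p ∣ Nat.card ↥U}
  have hU : IsPiHallOf π U ⁅M, M⁆ := by
    refine ⟨hP.U_compl.2.1, fun p _ hp => hp, fun p hp hpπ hdvd => ?_⟩
    rw [relIndex_of_isComplIn hP.U_compl] at hdvd
    have hcop := (Cfsg.Agent.Lib.Helper23.typeP_coprime hP).1
    exact hp.one_lt.ne' (Nat.eq_one_of_dvd_coprimes hcop hdvd hpπ)
  have hU' : IsPiHallOf π U' ⁅M, M⁆ := by
    refine ⟨hP'.U_compl.2.1, fun p _ hp => ?_, fun p hp hpπ hdvd => ?_⟩
    · show p ∣ Nat.card ↥U
      rw [← hcard]; exact hp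
    · rw [relIndex_of_isComplIn hP'.U_compl] at hdvd
      have hcop := (Cfsg.Agent.Lib.Helper23.typeP_coprime hP).1
      exact hp.one_lt.ne' (Nat.eq_one_of_dvd_coprimes hcop hdvd hpπ)
  have h := Cfsg.Agent.S3745.result (⊥ : Subgroup G) ⁅M, M⁆ bot_le
    (by rw [Subgroup.card_bot]; exact Nat.coprime_one_left _) hsolv π
  obtain ⟨c, hc, hcU⟩ := h.2.1 U U' hU bot_le hU' bot_le
  exact ⟨c, commutator_self_le M hc.1, hcU⟩

theorem normalizer_le_of_conj {M U U' : Subgroup G} {c : G} (hc : c ∈ M)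
    (hcU : U' = U.map (MulAut.conj c).toMonoidHom)
    (hN : Subgroup.normalizer (U' : Set G) ≤ M) : Subgroup.normalizer (U : Set G) ≤ M := by
  intro g hg
  have h1 : (MulAut.conj c).toMonoidHom g ∈
      (Subgroup.normalizer (U : Set G)).map (MulAut.conj c).toMonoidHom :=
    Subgroup.mem_map_of_mem _ hg
  have h2 := Subgroup.le_normalizer_map (H := U) (MulAut.conj c).toMonoidHom h1
  rw [← hcU] at h2
  have h3 : c * g * c⁻¹ ∈ M := hN h2
  have h4 := M.mul_mem (M.mul_mem (M.inv_mem hc) h3) hc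
  have e : c⁻¹ * (c * g * c⁻¹) * c = g := by group
  rwa [e] at h4

/-- Type II excludes Types III and IV (the complements `U` are conjugate, and `N_G(U) ≤ M` is a
conjugation-invariant property). -/
theorem not_typeIII_or_IV_of_typeII [Finite G] {M : Subgroup G}
    (hsolv : Group.IsSolvable ↥⁅M, M⁆) (hII : IsOfTypeII M) :
    ¬ (IsOfTypeIII M ∨ IsOfTypeIV M) := by
  obtain ⟨W₁, U, W₂, hP, -, -, -, -, hN, -⟩ := hII
  rintro (⟨W₁', U', W₂', hP', -, -, -, -, hN'⟩ | ⟨W₁', U', W₂', hP', -, -, -, -, hN'⟩)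
  · obtain ⟨c, hc, hcU⟩ := exists_conj_of_typeP hsolv hP hP'
    exact hN (normalizer_le_of_conj hc hcU hN')
  · obtain ⟨c, hc, hcU⟩ := exists_conj_of_typeP hsolv hP hP'
    exact hN (normalizer_le_of_conj hc hcU hN')

theorem typeCore_eq_of_typeII [Finite G] {M : Subgroup G}
    (hsolv : Group.IsSolvable ↥⁅M, M⁆) (hII : IsOfTypeII M) :
    typeCore M = fittingHallOf M := by
  unfold typeCore
  rw [if_neg (not_typeIII_or_IV_of_typeII hsolv hII)]

/-! ### Centralizers of the non-identity elements of `M_F` when `F(M)` is a TI-subset -/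

theorem fittingOf_le (M : Subgroup G) : fittingOf M ≤ M := by
  unfold fittingOf
  exact Subgroup.map_subtype_le _

theorem conj_mem_fittingOf (M : Subgroup G) {m x : G} (hm : m ∈ M) (hx : x ∈ fittingOf M) :
    m * x * m⁻¹ ∈ fittingOf M := by
  unfold fittingOf at hx ⊢
  obtain ⟨x', hx', rfl⟩ := hx
  have hn : (fittingSubgroup ↥M).Normal := Subgroup.sSup_normal _ (fun _ h => h.1)
  exact ⟨⟨m, hm⟩ * x' * ⟨m, hm⟩⁻¹, hn.conj_mem x' hx' ⟨m, hm⟩, rfl⟩

theorem centralizer_le_of_TI [IsSimpleGroup G] {M : Subgroup G} (hM : IsCoatom M)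
    (hTI : IsTISubset (fittingOf M : Set G)) {x : G} (hx : x ∈ fittingOf M) (hx1 : x ≠ 1) :
    Subgroup.centralizer ({x} : Set G) ≤ M := by
  have hN : Subgroup.normalizer (fittingOf M : Set G) = M :=
    normalizer_eq_of_isCoatom hM (fun a ha => fittingOf_le M ha) ⟨x, hx, hx1⟩
      (fun m hm a ha => conj_mem_fittingOf M hm ha)
  intro g hg
  by_contra hgM
  rw [← hN] at hgM
  have hcomm : x * g = g * x := (Subgroup.mem_centralizer_iff.1 hg) x rfl
  have e : g * x * g⁻¹ = x := by rw [← hcomm]; group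
  exact hx1 (hTI g hgM x hx (by rw [e]; exact hx))

/-! ### TI-subsets from controlled fusion and local centralizers -/

theorem isTISubset_of_fusion {M : Subgroup G} {X : Set G}
    (hN : Subgroup.normalizer X = M)
    (hfus : ∀ x ∈ X, ∀ g : G, g * x * g⁻¹ ∈ X → ∃ m ∈ M, m * x * m⁻¹ = g * x * g⁻¹)
    (hcent : ∀ x ∈ X, Subgroup.centralizer ({x} : Set G) ≤ M) : IsTISubset X := by
  intro g hg x hx hgx
  exfalso
  apply hg
  rw [hN]
  obtain ⟨m, hm, hmx⟩ := hfus x hx g hgx
  have hc : m⁻¹ * g ∈ Subgroup.centralizer ({x} : Set G) := by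
    rw [Subgroup.mem_centralizer_iff]
    intro h hh
    rw [Set.mem_singleton_iff] at hh
    subst hh
    have e1 : h * (m⁻¹ * g) = m⁻¹ * (m * h * m⁻¹) * g := by group
    have e2 : m⁻¹ * g * h = m⁻¹ * (g * h * g⁻¹) * g := by group
    rw [e1, e2, hmx]
  have := M.mul_mem hm (hcent x hx hc)
  simpa using this

theorem IsTISubset.mono_of_normalizer_eq {X A : Set G} (hX : IsTISubset X) (hAX : A ⊆ X)
    (hN : Subgroup.normalizer A = Subgroup.normalizer X) : IsTISubset A := by
  intro g hg x hx hgx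
  rw [hN] at hg
  exact hX g hg x (hAX hx) (hAX hgx)

/-- **Peterfalvi (8.?)** for Type II: `A₀(M)`, `A(M)`, `A₁(M)` are TI-subsets with normalizer `M`. -/
theorem typeII_main [Finite G] (hG : IsMinSimpleOddOrder G) (M : Subgroup G) (hM : IsCoatom M)
    (hII : IsOfTypeII M)
    (hT : TameLiteral M (typeA M)) (hT0 : TameLiteral M (typeA0 M)) :
    (IsTISubset (typeA0 M) ∧ Subgroup.normalizer (typeA0 M) = M) ∧
      (IsTISubset (typeA M) ∧ Subgroup.normalizer (typeA M) = M) ∧
      (IsTISubset (typeA1 M) ∧ Subgroup.normalizer (typeA1 M) = M) := by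
  have hsimple : IsSimpleGroup G := hG.2.1
  have hMtop : M ≠ ⊤ := hM.1
  have hsolv : Group.IsSolvable ↥⁅M, M⁆ := by
    apply hG.2.2.2
    intro h
    exact hMtop (top_le_iff.1 (h ▸ commutator_self_le M))
  have hcore : typeCore M = fittingHallOf M := typeCore_eq_of_typeII hsolv hII
  obtain ⟨W₁, U, W₂, hP, -, -, hTI, -, -, -, -⟩ := hII
  have hF2 : fittingHallOf M ≤ ⁅M, M⁆ := hP.U_compl.1
  have hF1 : fittingHallOf M ≠ ⊥ := by
    intro h
    apply hP.H_not_cyclic
    rw [h]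
    exact inferInstance
  have hFF : fittingHallOf M ≤ fittingOf M := by
    rw [← hP.fitting_eq]; exact le_sup_left
  have h10 : typeA1 M ⊆ typeA M := typeA1_subset_typeA M hF2
  obtain ⟨a, haF, ha1⟩ : ∃ a ∈ fittingHallOf M, a ≠ 1 := by
    by_contra hcon
    exact hF1 ((Subgroup.eq_bot_iff_forall _).2
      (fun x hx => by_contra (fun h => hcon ⟨x, hx, h⟩)))
  have haA1 : a ∈ typeA1 M := ⟨fittingHallOf_le_typeCore hF2 haF, by simpa using ha1⟩
  -- centralizers of elements of `A₁(M)` lie in `M`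
  have hcentA1 : ∀ x ∈ typeA1 M, Subgroup.centralizer ({x} : Set G) ≤ M := by
    intro x hx
    have hxF : x ∈ fittingHallOf M := hcore ▸ hx.1
    have hx1 : x ≠ 1 := fun h => hx.2 (by simpa using h)
    exact centralizer_le_of_TI hM hTI (hFF hxF) hx1
  have hNA1 : Subgroup.normalizer (typeA1 M) = M :=
    normalizer_eq_of_isCoatom hM (typeA1_subset M) ⟨a, haA1, ha1⟩
      (fun m hm a ha => conj_mem_typeA1 M hm ha)
  have hNA : Subgroup.normalizer (typeA M) = M :=
    normalizer_eq_of_isCoatom hM (typeA_subset M) ⟨a, h10 haA1, ha1⟩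
      (fun m hm a ha => conj_mem_typeA M hm ha)
  have hNA0 : Subgroup.normalizer (typeA0 M) = M :=
    normalizer_eq_of_isCoatom hM (typeA0_subset M) ⟨a, typeA_subset_typeA0 M (h10 haA1), ha1⟩
      (fun m hm a ha => conj_mem_typeA0 M hm ha)
  have hcentA : ∀ x ∈ typeA M, Subgroup.centralizer ({x} : Set G) ≤ M := by
    intro x hx
    by_contra hC
    exact hC (hcentA1 x (hT.2.1 x hx hC).1)
  have hcentA0 : ∀ x ∈ typeA0 M, Subgroup.centralizer ({x} : Set G) ≤ M := by
    intro x hx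
    by_contra hC
    exact hC (hcentA1 x (hT0.2.1 x hx hC).1)
  have hTIA : IsTISubset (typeA M) := isTISubset_of_fusion hNA hT.1 hcentA
  have hTIA0 : IsTISubset (typeA0 M) := isTISubset_of_fusion hNA0 hT0.1 hcentA0
  exact ⟨⟨hTIA0, hNA0⟩, ⟨hTIA, hNA⟩,
    ⟨IsTISubset.mono_of_normalizer_eq hTIA h10 (hNA1.trans hNA.symm), hNA1⟩⟩

end Cfsg.Agent.Lib.Helper26.PFEight
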