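import Mathlib
import Cfsg.Prelude.Def_OddOrderLocal
import Cfsg.Agent.Lib.Helper23.TypeP
import Cfsg.Agent.Lib.Helper54.BGTransitivity
import Cfsg.Agent.Lib.Helper26.PFEightC

/-!
# Bender–Glauberman section 16, part A: from the standard factorisation `M = K U M_σ` to type-P data

Elementary group theory only.  The facts of the local analysis enter as explicit hypotheses, each of
which is (a specialisation of) the literal conclusion of one of the summary rows.
Notation: `K* = M_σ ∩ C_G(K)` is written out as `sigmaCore M ⊓ Subgroup.centralizer (K : Set G)`.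
-/

set_option autoImplicit false

namespace Cfsg.Agent.Lib.Helper26.BGTypes

open Cfsg
open scoped Pointwise

universe u

variable {G : Type u} [Group G]

/-! ### `M_σ` -/

theorem sigmaCore_le (M : Subgroup G) : sigmaCore M ≤ M := Subgroup.map_subtype_le _

theorem conj_mem_sigmaCore (M : Subgroup G) {m x : G} (hm : m ∈ M) (hx : x ∈ sigmaCore M) :
    m * x * m⁻¹ ∈ sigmaCore M := by
  unfold sigmaCore at hx ⊢
  obtain ⟨x', hx', rfl⟩ := hx
  have hn : (piCore (sigma M) ↥M).Normal := inferInstance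
  exact ⟨⟨m, hm⟩ * x' * ⟨m, hm⟩⁻¹, hn.conj_mem x' hx' ⟨m, hm⟩, rfl⟩

theorem le_normalizer_sigmaCore (M : Subgroup G) :
    M ≤ Subgroup.normalizer ((sigmaCore M : Subgroup G) : Set G) :=
  PFEight.le_normalizer_of_conj_mem (fun _ hm _ ha => conj_mem_sigmaCore M hm ha)

/-- `M_σ H = M_σ ⊔ H` elementwise, for `H ≤ M`. -/
theorem exists_mul_of_mem_sigmaCore_sup {M H : Subgroup G} (hH : H ≤ M) {x : G}
    (hx : x ∈ sigmaCore M ⊔ H) : ∃ s ∈ sigmaCore M, ∃ h ∈ H, x = s * h := by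
  have h1 := Subgroup.coe_mul_of_right_le_normalizer_left (sigmaCore M) H
    (hH.trans (le_normalizer_sigmaCore M))
  have h2 : x ∈ ((sigmaCore M ⊔ H : Subgroup G) : Set G) := hx
  rw [h1] at h2
  obtain ⟨s, hs, h, hh, rfl⟩ := h2
  exact ⟨s, hs, h, hh, rfl⟩

theorem sigmaCore_isPi [Finite G] (M : Subgroup G) :
    ∀ r : ℕ, r.Prime → r ∣ Nat.card (sigmaCore M) → r ∈ sigma M :=
  Cfsg.Agent.Lib.Helper54.piCoreOf_isPi (sigma M) M

theorem coprime_of_forall_prime {a b : ℕ} (h : ∀ p : ℕ, p.Prime → p ∣ a → ¬ p ∣ b) :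
    a.Coprime b := by
  by_contra hc
  obtain ⟨p, hp, hpa, hpb⟩ := Nat.Prime.not_coprime_iff_dvd.1 hc
  exact h p hp hpa hpb

/-- A Hall `κ(M)`-subgroup meets `M_σ` trivially. -/
theorem inf_sigmaCore_eq_bot [Finite G] {M K : Subgroup G} (hK : IsPiHallOf (kappa M) K M) :
    K ⊓ sigmaCore M = ⊥ := by
  apply Disjoint.eq_bot
  apply Subgroup.disjoint_of_coprime_natCard
  apply coprime_of_forall_prime
  intro p hp hpK hpS
  exact (hK.2.1 p hp hpK).2.2.1 (sigmaCore_isPi M p hp hpS)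

/-- A Hall `κ(M)`-subgroup has order prime to its index in `M`. -/
theorem coprime_card_relIndex_of_hall [Finite G] {M K : Subgroup G}
    (hK : IsPiHallOf (kappa M) K M) : (Nat.card K).Coprime (K.relIndex M) := by
  apply coprime_of_forall_prime
  intro p hp hpK
  exact hK.2.2 p hp (hK.2.1 p hp hpK)

theorem kappa_nonempty_of_ne_bot [Finite G] {M K : Subgroup G} (hK : IsPiHallOf (kappa M) K M)
    (hK1 : K ≠ ⊥) : (kappa M).Nonempty := by
  have h1 : Nat.card K ≠ 1 := fun h => hK1 (Subgroup.card_eq_one.1 h)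
  obtain ⟨p, hp, hpK⟩ := Nat.exists_prime_and_dvd h1
  exact ⟨p, hK.2.1 p hp hpK⟩

/-! ### The factorisation `M = K U M_σ` rearranged -/

/-- If `M' = U M_σ` then `K` is a complement of `M'` in `M`. -/
theorem isComplIn_commutator [Finite G] {M K U : Subgroup G} (hKU : IsSigmaDecomposition M K U)
    (h65 : ⁅M, M⁆ = U ⊔ sigmaCore M) : IsComplIn ⁅M, M⁆ K M := by
  have hKM : K ≤ M := hKU.hall.1
  have hUM : U ≤ M := hKU.compl.1
  have hbot := hKU.compl.2.2.1
  refine ⟨PFEight.commutator_self_le M, hKM, ?_, ?_⟩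
  · rw [eq_bot_iff]
    rintro x ⟨hx1, hx2⟩
    rw [SetLike.mem_coe, h65, sup_comm] at hx1
    obtain ⟨s, hs, u, hu, rfl⟩ := exists_mul_of_mem_sigmaCore_sup hUM hx1
    have hu' : u ∈ K ⊔ sigmaCore M := by
      have : u = s⁻¹ * (s * u) := by group
      rw [this]
      exact Subgroup.mul_mem _ (Subgroup.mem_sup_right (Subgroup.inv_mem _ hs))
        (Subgroup.mem_sup_left hx2)
    have hu1 : u = 1 := by
      have : u ∈ U ⊓ (K ⊔ sigmaCore M) := ⟨hu, hu'⟩
      rwa [hbot, Subgroup.mem_bot] at this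
    subst hu1
    rw [mul_one] at hx2 ⊢
    have : s ∈ K ⊓ sigmaCore M := ⟨hx2, hs⟩
    rwa [inf_sigmaCore_eq_bot hKU.hall] at this
  · intro m hm
    obtain ⟨u, hu, b, hb, rfl⟩ := hKU.compl.2.2.2 m hm
    rw [sup_comm] at hb
    obtain ⟨s, hs, k, hk, rfl⟩ := exists_mul_of_mem_sigmaCore_sup hKM hb
    refine ⟨u * s, ?_, k, hk, by group⟩
    rw [h65]
    exact Subgroup.mul_mem _ (Subgroup.mem_sup_left hu) (Subgroup.mem_sup_right hs)

/-- If `M' = U M_σ` then `U` is a complement of `M_σ` in `M'`. -/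
theorem isComplIn_sigmaCore [Finite G] {M K U : Subgroup G} (hKU : IsSigmaDecomposition M K U)
    (h65 : ⁅M, M⁆ = U ⊔ sigmaCore M) : IsComplIn (sigmaCore M) U ⁅M, M⁆ := by
  have hUM : U ≤ M := hKU.compl.1
  have hbot := hKU.compl.2.2.1
  refine ⟨h65 ▸ le_sup_right, h65 ▸ le_sup_left, ?_, ?_⟩
  · rw [eq_bot_iff]
    rintro x ⟨hx1, hx2⟩
    have : x ∈ U ⊓ (K ⊔ sigmaCore M) := ⟨hx2, Subgroup.mem_sup_right hx1⟩
    rwa [hbot] at this
  · intro m hm
    rw [h65, sup_comm] at hm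
    exact exists_mul_of_mem_sigmaCore_sup hUM hm

/-- `C_{M'}(x) = K*` for `x ∈ K#`, from `C_M(x) = K K*` and `M' ∩ K = 1`. -/
theorem commutator_inf_centralizer_eq {M K : Subgroup G}
    (hcompl : ⁅M, M⁆ ⊓ K = ⊥) (hSM : sigmaCore M ≤ ⁅M, M⁆)
    (h54 : ∀ k ∈ K, k ≠ 1 → M ⊓ Subgroup.centralizer ({k} : Set G) =
      K ⊔ (sigmaCore M ⊓ Subgroup.centralizer (K : Set G)))
    (x : G) (hx : x ∈ K) (hx1 : x ≠ 1) :
    ⁅M, M⁆ ⊓ Subgroup.centralizer ({x} : Set G) =
      sigmaCore M ⊓ Subgroup.centralizer (K : Set G) := by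
  apply le_antisymm
  · rintro y ⟨hy1, hy2⟩
    have hyM : y ∈ M ⊓ Subgroup.centralizer ({x} : Set G) :=
      ⟨PFEight.commutator_self_le M hy1, hy2⟩
    rw [h54 x hx hx1] at hyM
    obtain ⟨k, hk, s, hs, rfl⟩ := Cfsg.Agent.Lib.Helper23.exists_mul_of_mem_sup_of_commute K
      (sigmaCore M ⊓ Subgroup.centralizer (K : Set G))
      (fun a ha b hb => ((Subgroup.mem_centralizer_iff.1 hb.2) a ha)) hyM
    have hk1 : k = 1 := by
      have hk' : k ∈ ⁅M, M⁆ := by
        have : k = (k * s) * s⁻¹ := by group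
        rw [this]
        exact Subgroup.mul_mem _ hy1 (Subgroup.inv_mem _ (hSM hs.1))
      have : k ∈ ⁅M, M⁆ ⊓ K := ⟨hk', hk⟩
      rwa [hcompl, Subgroup.mem_bot] at this
    subst hk1
    rw [one_mul]
    exact hs
  · rintro y ⟨hy1, hy2⟩
    refine ⟨hSM hy1, ?_⟩
    show y ∈ Subgroup.centralizer ({x} : Set G)
    rw [Subgroup.mem_centralizer_iff]
    intro h hh
    rw [Set.mem_singleton_iff] at hh
    subst hh
    exact (Subgroup.mem_centralizer_iff.1 hy2) h hx

/-- `(K, K*)` is a self-normalizing cyclic pair, from `K K*` cyclic and `Ẑ` TI with normalizer `K K*`. -/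
theorem isSelfNormalizingCyclic_of [Finite G] {M K : Subgroup G} (hK : IsPiHallOf (kappa M) K M)
    (hK1 : K ≠ ⊥) (hKs1 : sigmaCore M ⊓ Subgroup.centralizer (K : Set G) ≠ ⊥)
    (h68 : IsCyclic ↥(K ⊔ (sigmaCore M ⊓ Subgroup.centralizer (K : Set G))))
    (h70 : IsTISubset ((↑(K ⊔ (sigmaCore M ⊓ Subgroup.centralizer (K : Set G))) : Set G) \
        ((K : Set G) ∪ ↑(sigmaCore M ⊓ Subgroup.centralizer (K : Set G)))) ∧
      Subgroup.normalizer ((↑(K ⊔ (sigmaCore M ⊓ Subgroup.centralizer (K : Set G))) : Set G) \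
        ((K : Set G) ∪ ↑(sigmaCore M ⊓ Subgroup.centralizer (K : Set G)))) =
        K ⊔ (sigmaCore M ⊓ Subgroup.centralizer (K : Set G))) :
    IsSelfNormalizingCyclic K (sigmaCore M ⊓ Subgroup.centralizer (K : Set G)) := by
  set Ks := sigmaCore M ⊓ Subgroup.centralizer (K : Set G) with hKs
  refine ⟨hK1, hKs1, ?_, ?_, h68, ?_⟩
  · rw [eq_bot_iff]
    rintro x ⟨hx1, hx2⟩
    have : x ∈ K ⊓ sigmaCore M := ⟨hx1, hx2.1⟩
    rwa [inf_sigmaCore_eq_bot hK] at this
  · intro a ha b hb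
    exact ((Subgroup.mem_centralizer_iff.1 hb.2) a ha)
  · intro X hX hXne
    -- `K ⊔ Ks` is commutative
    have hcomm : ∀ a ∈ K ⊔ Ks, ∀ b ∈ K ⊔ Ks, a * b = b * a := by
      intro a ha b hb
      obtain ⟨g, hg⟩ := h68.exists_generator
      have ha' := hg ⟨a, ha⟩
      have hb' := hg ⟨b, hb⟩
      obtain ⟨i, hi⟩ := Subgroup.mem_zpowers_iff.1 ha'
      obtain ⟨j, hj⟩ := Subgroup.mem_zpowers_iff.1 hb'
      have e1 : (⟨a, ha⟩ : ↥(K ⊔ Ks)) * ⟨b, hb⟩ = ⟨b, hb⟩ * ⟨a, ha⟩ := by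
        rw [← hi, ← hj, ← zpow_add, ← zpow_add, add_comm]
      exact congrArg Subtype.val e1
    apply le_antisymm
    · intro g hg
      obtain ⟨x, hxX⟩ := hXne
      have hxZ := hX hxX
      have hgx : g * x * g⁻¹ ∈ X := (Subgroup.mem_set_normalizer_iff.1 hg x).1 hxX
      have hx1 : x ≠ 1 := by
        intro h
        apply hxZ.2
        left
        rw [h]
        exact K.one_mem
      by_contra hgZ
      rw [← h70.2] at hgZ
      exact hx1 (h70.1 g hgZ x hxZ (hX hgx))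
    · intro z hz
      rw [Subgroup.mem_set_normalizer_iff]
      intro h
      constructor
      · intro hh
        have : z * h * z⁻¹ = h := by
          rw [hcomm z hz h (hX hh).1]; group
        rwa [this]
      · intro hh
        have hmem : z * h * z⁻¹ ∈ K ⊔ Ks := (hX hh).1
        have hhZ : h ∈ K ⊔ Ks := by
          have : h = z⁻¹ * (z * h * z⁻¹) * z := by group
          rw [this]
          exact Subgroup.mul_mem _ (Subgroup.mul_mem _ (Subgroup.inv_mem _ hz) hmem) hz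
        have : z * h * z⁻¹ = h := by
          rw [hcomm z hz h hhZ]; group
        rwa [this] at hh

end Cfsg.Agent.Lib.Helper26.BGTypes
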