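import Mathlib
import Cfsg.Agent.Lib.Helper4.PFTypes
import Cfsg.Agent.Lib.Helper26.PFEightC

/-!
# Peterfalvi section 8 in book form, part A: the sets `litA`, `litA0`; the Dade hypothesis and the
TI-property for Type II from `BookBGData`
-/

set_option autoImplicit false

namespace Cfsg.Agent.Lib.Helper26.PFBook

open Cfsg Cfsg.Agent.Lib.Helper4.PF Cfsg.Agent.Lib.Helper26.PFEight

universe u

variable {G : Type u} [Group G]

/-! ### Elementary properties of `litA`, `litA0` -/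

theorem one_not_mem_litA (M : Subgroup G) : (1 : G) ∉ litA M := by
  unfold litA
  split_ifs
  · intro h; exact h.2.1 rfl
  · intro h; exact h.2.1 rfl

theorem litA_subset (M : Subgroup G) : litA M ⊆ (M : Set G) := by
  intro a ha
  unfold litA at ha
  split_ifs at ha
  · exact commutator_self_le M ha.1
  · exact ha.1

theorem conj_mem_litA (M : Subgroup G) {m a : G} (hm : m ∈ M) (ha : a ∈ litA M) :
    m * a * m⁻¹ ∈ litA M := by
  unfold litA at ha ⊢
  split_ifs at ha ⊢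
  · obtain ⟨haM, ha1, x, hx, hx1, hax⟩ := ha
    exact ⟨Cfsg.Agent.Lib.Helper23.conj_mem_commutator_self M hm haM, conj_ne_one ha1,
      m * x * m⁻¹, conj_mem_typeCore M hm hx, conj_ne_one hx1, conj_commute hax⟩
  · obtain ⟨haM, ha1, x, hx, hx1, hax⟩ := ha
    exact ⟨M.mul_mem (M.mul_mem hm haM) (M.inv_mem hm), conj_ne_one ha1,
      m * x * m⁻¹, conj_mem_fittingHallOf M hm hx, conj_ne_one hx1, conj_commute hax⟩

theorem litA_subset_litA0 (M : Subgroup G) : litA M ⊆ litA0 M := fun _ ha => Or.inl ha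

theorem one_not_mem_litA0 (M : Subgroup G) : (1 : G) ∉ litA0 M := by
  intro h
  rcases h with h | h
  · exact one_not_mem_litA M h
  · obtain ⟨W₁, U, W₂, -, m, -, w, -, hw1, -, h1⟩ := h
    apply hw1
    have : w = 1 := by
      have := congrArg (fun t => m⁻¹ * t * m) h1
      simpa [mul_assoc] using this.symm
    rw [this]
    exact W₁.one_mem

theorem litA0_subset (M : Subgroup G) : litA0 M ⊆ (M : Set G) := by
  intro a ha
  rcases ha with ha | ha
  · exact litA_subset M ha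
  · obtain ⟨W₁, U, W₂, hP, m, hm, w, hw, -, -, rfl⟩ := ha
    have hW₁ : W₁ ≤ M := hP.W₁_compl.2.1
    have hW₂ : W₂ ≤ M := (hP.W₂_le.trans inf_le_left).trans (fittingHallOf_le M)
    have hwM : w ∈ M := (sup_le hW₁ hW₂) hw
    exact M.mul_mem (M.mul_mem hm hwM) (M.inv_mem hm)

theorem conj_mem_litA0 (M : Subgroup G) {m a : G} (hm : m ∈ M) (ha : a ∈ litA0 M) :
    m * a * m⁻¹ ∈ litA0 M := by
  rcases ha with ha | ha
  · exact Or.inl (conj_mem_litA M hm ha)
  · obtain ⟨W₁, U, W₂, hP, n, hn, w, hw, hw1, hw2, rfl⟩ := ha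
    refine Or.inr ⟨W₁, U, W₂, hP, m * n, M.mul_mem hm hn, w, hw, hw1, hw2, ?_⟩
    group

/-- a non-identity power of an element of `A(M)` lies in `A(M)` -/
theorem pow_mem_litA (M : Subgroup G) {a : G} (ha : a ∈ litA M) (k : ℕ) (hk : a ^ k ≠ 1) :
    a ^ k ∈ litA M := by
  unfold litA at ha ⊢
  split_ifs at ha ⊢
  · obtain ⟨haM, -, x, hx, hx1, hax⟩ := ha
    exact ⟨Subgroup.pow_mem _ haM k, hk, x, hx, hx1, ((Commute.pow_left hax k : Commute (a ^ k) x)).eq⟩
  · obtain ⟨haM, -, x, hx, hx1, hax⟩ := ha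
    exact ⟨Subgroup.pow_mem _ haM k, hk, x, hx, hx1, ((Commute.pow_left hax k : Commute (a ^ k) x)).eq⟩

/-! ### `M_s` and the types -/

/-- a subgroup of Frobenius type has no type-P data, hence is not of Type III or IV -/
theorem typeCore_eq_of_typeF [Finite G] {M : Subgroup G} (hF : IsOfTypeF ↥M) :
    typeCore M = fittingHallOf M := by
  unfold typeCore
  rw [if_neg]
  rintro (⟨W₁, U, W₂, hP, -⟩ | ⟨W₁, U, W₂, hP, -⟩)
  · exact not_typeF_of_typeP hF hP
  · exact not_typeF_of_typeP hF hP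

theorem not_isOfTypeP_of_typeF [Finite G] {M : Subgroup G} (hF : IsOfTypeF ↥M) : ¬ IsOfTypeP M := by
  rintro ⟨W₁, U, W₂, hP⟩
  exact not_typeF_of_typeP hF hP

theorem isOfTypeP_of_typeIItoV {M : Subgroup G} (h : IsTypeIItoV M) : IsOfTypeP M := by
  rcases h with ⟨W₁, U, W₂, hP, -⟩ | ⟨W₁, U, W₂, hP, -⟩ | ⟨W₁, U, W₂, hP, -⟩ | ⟨W₁, U, W₂, hP, -⟩
  all_goals exact ⟨W₁, U, W₂, hP⟩

/-- `A₁(M) ⊆ A(M)` (book form) as soon as `M_F ≤ M'`. -/
theorem typeA1_subset_litA [Finite G] (M : Subgroup G) (hFM : fittingHallOf M ≤ ⁅M, M⁆) :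
    typeA1 M ⊆ litA M := by
  intro a ha
  have ha1 : a ≠ 1 := fun h => ha.2 (by simpa using h)
  unfold litA
  split_ifs with hP
  · exact ⟨typeCore_le_commutator hFM ha.1, ha1, a, ha.1, ha1, rfl⟩
  · have hc : typeCore M = fittingHallOf M := by
      unfold typeCore
      rw [if_neg]
      rintro (⟨W₁, U, W₂, hP', -⟩ | ⟨W₁, U, W₂, hP', -⟩)
      · exact hP ⟨W₁, U, W₂, hP'⟩
      · exact hP ⟨W₁, U, W₂, hP'⟩
    exact ⟨typeCore_le M ha.1, ha1, a, hc ▸ ha.1, ha1, rfl⟩

/-! ### The tame-embedding input in book form -/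

theorem tameInput_of_book [Finite G] (h : BookBGData G) {M : Subgroup G} (hM : IsCoatom M)
    {X : Set G} (hX : X = litA M ∨ X = litA0 M) : TameInput M X where
  fusion := (h.tame M hM X hX).1
  uniq := fun x hx hC => ((h.tame M hM X hX).2.1 x hx hC).2
  norm := fun x hx hC L hL hCL => ((h.tame M hM X hX).2.2 x hx hC L hL hCL).2.1
  compl := fun x hx hC L hL hCL => ((h.tame M hM X hX).2.2 x hx hC L hL hCL).2.2.1
  coprime := fun x hx hC L hL hCL => ((h.tame M hM X hX).2.2 x hx hC L hL hCL).2.2.2.1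

/-- **Peterfalvi (8.?) in book form: the Dade hypothesis** for `A₁(M)`, `A(M)`, `A₀(M)`. -/
theorem dade_book [Finite G] (hG : IsMinSimpleOddOrder G) (h : BookBGData G) (M : Subgroup G)
    (hM : IsCoatom M) (A : Set G) (hA : A = typeA1 M ∨ A = litA M ∨ A = litA0 M) :
    Subgroup.normalizer A = M ∧ DadeHypothesis A M (supportR M) := by
  have hsimple : IsSimpleGroup G := hG.2.1
  have hF1 : fittingHallOf M ≠ ⊥ := (h.core M hM).1
  have hF2 : fittingHallOf M ≤ ⁅M, M⁆ := (h.core M hM).2.1.trans (h.core M hM).2.2.1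
  have hT : TameInput M (litA M) := tameInput_of_book h hM (Or.inl rfl)
  have hT0 : TameInput M (litA0 M) := tameInput_of_book h hM (Or.inr rfl)
  have h10 : typeA1 M ⊆ litA M := typeA1_subset_litA M hF2
  obtain ⟨a, haF, ha1⟩ : ∃ a ∈ fittingHallOf M, a ≠ 1 := by
    by_contra hcon
    exact hF1 ((Subgroup.eq_bot_iff_forall _).2
      (fun x hx => by_contra (fun h => hcon ⟨x, hx, h⟩)))
  have haA1 : a ∈ typeA1 M := ⟨fittingHallOf_le_typeCore hF2 haF, by simpa using ha1⟩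
  have hD : DadeHypothesis (litA M) M (supportR M) :=
    dade_of_tameInput hT (one_not_mem_litA M) (litA_subset M)
      (fun m hm a ha => conj_mem_litA M hm ha)
  rcases hA with rfl | rfl | rfl
  · refine ⟨normalizer_eq_of_isCoatom hM (typeA1_subset M) ⟨a, haA1, ha1⟩
      (fun m hm a ha => conj_mem_typeA1 M hm ha), ?_⟩
    exact DadeHypothesis.mono hD h10 (fun m hm a ha => conj_mem_typeA1 M hm ha)
  · exact ⟨normalizer_eq_of_isCoatom hM (litA_subset M) ⟨a, h10 haA1, ha1⟩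
      (fun m hm a ha => conj_mem_litA M hm ha), hD⟩
  · refine ⟨normalizer_eq_of_isCoatom hM (litA0_subset M)
      ⟨a, litA_subset_litA0 M (h10 haA1), ha1⟩
      (fun m hm a ha => conj_mem_litA0 M hm ha), ?_⟩
    exact dade_of_tameInput hT0 (one_not_mem_litA0 M) (litA0_subset M)
      (fun m hm a ha => conj_mem_litA0 M hm ha)

/-- **Peterfalvi (8.?) in book form for Type II**: `A₀(M)`, `A(M)`, `A₁(M)` are TI-subsets with
normalizer `M`. -/
theorem typeII_book [Finite G] (hG : IsMinSimpleOddOrder G) (h : BookBGData G) (M : Subgroup G)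
    (hM : IsCoatom M) (hII : IsOfTypeII M) :
    (IsTISubset (litA0 M) ∧ Subgroup.normalizer (litA0 M) = M) ∧
      (IsTISubset (litA M) ∧ Subgroup.normalizer (litA M) = M) ∧
      (IsTISubset (typeA1 M) ∧ Subgroup.normalizer (typeA1 M) = M) := by
  have hsimple : IsSimpleGroup G := hG.2.1
  have hMtop : M ≠ ⊤ := hM.1
  have hsolv : Group.IsSolvable ↥⁅M, M⁆ := by
    apply hG.2.2.2
    intro h
    exact hMtop (top_le_iff.1 (h ▸ commutator_self_le M))
  have hcore : typeCore M = fittingHallOf M := typeCore_eq_of_typeII hsolv hII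
  have hT := h.tame M hM (litA M) (Or.inl rfl)
  have hT0 := h.tame M hM (litA0 M) (Or.inr rfl)
  obtain ⟨W₁, U, W₂, hP, -, -, hTI, -, -, -, -⟩ := hII
  have hF2 : fittingHallOf M ≤ ⁅M, M⁆ := hP.U_compl.1
  have hF1 : fittingHallOf M ≠ ⊥ := (h.core M hM).1
  have hFF : fittingHallOf M ≤ fittingOf M := by
    rw [← hP.fitting_eq]; exact le_sup_left
  have h10 : typeA1 M ⊆ litA M := typeA1_subset_litA M hF2
  obtain ⟨a, haF, ha1⟩ : ∃ a ∈ fittingHallOf M, a ≠ 1 := by
    by_contra hcon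
    exact hF1 ((Subgroup.eq_bot_iff_forall _).2
      (fun x hx => by_contra (fun h => hcon ⟨x, hx, h⟩)))
  have haA1 : a ∈ typeA1 M := ⟨fittingHallOf_le_typeCore hF2 haF, by simpa using ha1⟩
  have hcentA1 : ∀ x ∈ typeA1 M, Subgroup.centralizer ({x} : Set G) ≤ M := by
    intro x hx
    have hxF : x ∈ fittingHallOf M := hcore ▸ hx.1
    have hx1 : x ≠ 1 := fun h => hx.2 (by simpa using h)
    exact centralizer_le_of_TI hM hTI (hFF hxF) hx1
  have hNA1 : Subgroup.normalizer (typeA1 M) = M :=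
    normalizer_eq_of_isCoatom hM (typeA1_subset M) ⟨a, haA1, ha1⟩
      (fun m hm a ha => conj_mem_typeA1 M hm ha)
  have hNA : Subgroup.normalizer (litA M) = M :=
    normalizer_eq_of_isCoatom hM (litA_subset M) ⟨a, h10 haA1, ha1⟩
      (fun m hm a ha => conj_mem_litA M hm ha)
  have hNA0 : Subgroup.normalizer (litA0 M) = M :=
    normalizer_eq_of_isCoatom hM (litA0_subset M) ⟨a, litA_subset_litA0 M (h10 haA1), ha1⟩
      (fun m hm a ha => conj_mem_litA0 M hm ha)
  have hcentA : ∀ x ∈ litA M, Subgroup.centralizer ({x} : Set G) ≤ M := by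
    intro x hx
    by_contra hC
    exact hC (hcentA1 x (hT.2.1 x hx hC).1)
  have hcentA0 : ∀ x ∈ litA0 M, Subgroup.centralizer ({x} : Set G) ≤ M := by
    intro x hx
    by_contra hC
    exact hC (hcentA1 x (hT0.2.1 x hx hC).1)
  have hTIA : IsTISubset (litA M) := isTISubset_of_fusion hNA hT.1 hcentA
  have hTIA0 : IsTISubset (litA0 M) := isTISubset_of_fusion hNA0 hT0.1 hcentA0
  exact ⟨⟨hTIA0, hNA0⟩, ⟨hTIA, hNA⟩,
    ⟨IsTISubset.mono_of_normalizer_eq hTIA h10 (hNA1.trans hNA.symm), hNA1⟩⟩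

end Cfsg.Agent.Lib.Helper26.PFBook
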