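import Mathlib
import Cfsg.Agent.Lib.Helper16.PF13Defs
import Cfsg.Agent.Lib.Helper26.PFEightA
import Cfsg.Agent.Lib.Helper51.PFCycMuInd
import Cfsg.Agent.Lib.Helper75.Ito
import Cfsg.Agent.Lib.Helper81.IrrTwist

/-!
# PF sec.13, module [NUM-A] (helper26, for helper16)

`degree_mul_card_le`: for `θ = μ_ψ|_{S'}` of degree `u`, Itô's theorem for the abelian normal
subgroup `P · C_U(P)` of `S' = P U` gives `|C_U(P)| · u ≤ |U|`.
Statement verbatim from `Cfsg/Agent/Lib/Helper16/PF13_MODULES.md`.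
-/

set_option autoImplicit false

namespace Cfsg.Agent.Lib.Helper26.PF13

open Cfsg Cfsg.Agent.Lib.Helper24.PFCyc Cfsg.Agent.Lib.Helper4.PF Cfsg.Agent.Lib.Helper16.PF13

universe u

variable {G : Type u} [Group G] [Fintype G] {S W₁ U W₂ : Subgroup G} [Fintype S]
  {mu : WChar W₁ W₂ → (↥S → ℂ)} {dl : WChar W₁ W₂ → ℂ} {η : WChar W₁ W₂ → (G → ℂ)}

/-- MODULE PF13-[NUM-A] -/
theorem degree_mul_card_le (h : PSide S W₁ U W₂ mu dl η) (ψ : WChar W₁ W₂) (hψ : TrivOn W₁ ψ)
    (hψ1 : ψ ≠ 1) (u : ℕ) (hu : mu ψ 1 = (u : ℂ)) :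
    Nat.card ↥(U ⊓ Subgroup.centralizer ((fittingHallOf S : Subgroup G) : Set G)) * u ≤
      Nat.card U := by
  classical
  have hPK : fittingHallOf S ≤ ⁅S, S⁆ := h.hP.U_compl.1
  have hUK : U ≤ ⁅S, S⁆ := h.hP.U_compl.2.1
  have hPU : fittingHallOf S ⊓ U = ⊥ := h.hP.U_compl.2.2.1
  have hKS : (⁅S, S⁆ : Subgroup G) ≤ S := Subgroup.commutator_le_self S
  have hoddS : Odd (Nat.card S) := Odd.of_dvd_nat h.hodd (Subgroup.card_subgroup_dvd_card S)
  -- the centralizer part
  have hCU : U ⊓ Subgroup.centralizer ((fittingHallOf S : Subgroup G) : Set G) ≤ U := inf_le_left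
  have hCcent : ∀ c ∈ U ⊓ Subgroup.centralizer ((fittingHallOf S : Subgroup G) : Set G),
      ∀ x ∈ fittingHallOf S, x * c = c * x := by
    intro c hc x hx
    exact (Subgroup.mem_centralizer_iff.mp (Subgroup.mem_inf.mp hc).2) x hx
  -- `D = P · C`
  have hDK : fittingHallOf S ⊔
      (U ⊓ Subgroup.centralizer ((fittingHallOf S : Subgroup G) : Set G)) ≤ ⁅S, S⁆ :=
    sup_le hPK (hCU.trans hUK)
  -- elements of `D` commute with `P` and with `C`
  have hDZ : ∀ b ∈ fittingHallOf S ⊔
      (U ⊓ Subgroup.centralizer ((fittingHallOf S : Subgroup G) : Set G)),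
      (∀ x ∈ fittingHallOf S, x * b = b * x) ∧
      (∀ c ∈ U ⊓ Subgroup.centralizer ((fittingHallOf S : Subgroup G) : Set G), c * b = b * c) := by
    intro b hb
    have hle : fittingHallOf S ⊔
        (U ⊓ Subgroup.centralizer ((fittingHallOf S : Subgroup G) : Set G)) ≤
        Subgroup.centralizer ((fittingHallOf S : Set G) ∪
          ((U ⊓ Subgroup.centralizer ((fittingHallOf S : Subgroup G) : Set G) : Subgroup G) :
            Set G)) := by
      apply sup_le
      · intro x hx
        rw [Subgroup.mem_centralizer_iff]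
        rintro y (hy | hy)
        · exact h.hPcomm y hy x hx
        · exact (hCcent y hy x hx).symm
      · intro c hc
        rw [Subgroup.mem_centralizer_iff]
        rintro y (hy | hy)
        · exact hCcent c hc y hy
        · exact h.hUcomm y (hCU hy) c (hCU hc)
    have hb' := Subgroup.mem_centralizer_iff.mp (hle hb)
    exact ⟨fun x hx => hb' x (Or.inl hx), fun c hc => hb' c (Or.inr hc)⟩
  have hDcomm : ∀ a ∈ fittingHallOf S ⊔
      (U ⊓ Subgroup.centralizer ((fittingHallOf S : Subgroup G) : Set G)),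
      ∀ b ∈ fittingHallOf S ⊔
      (U ⊓ Subgroup.centralizer ((fittingHallOf S : Subgroup G) : Set G)), a * b = b * a := by
    intro a ha b hb
    have hle : fittingHallOf S ⊔
        (U ⊓ Subgroup.centralizer ((fittingHallOf S : Subgroup G) : Set G)) ≤
        Subgroup.centralizer ({b} : Set G) := by
      apply sup_le
      · intro x hx
        rw [Subgroup.mem_centralizer_iff]
        intro y hy
        rw [Set.mem_singleton_iff.mp hy]
        exact ((hDZ b hb).1 x hx).symm
      · intro c hc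
        rw [Subgroup.mem_centralizer_iff]
        intro y hy
        rw [Set.mem_singleton_iff.mp hy]
        exact ((hDZ b hb).2 c hc).symm
    exact ((Subgroup.mem_centralizer_iff.mp (hle ha)) b rfl).symm
  -- `S'` normalizes `D`
  have hnorm : ∀ g ∈ (⁅S, S⁆ : Subgroup G), ∀ n ∈ fittingHallOf S ⊔
      (U ⊓ Subgroup.centralizer ((fittingHallOf S : Subgroup G) : Set G)),
      g * n * g⁻¹ ∈ fittingHallOf S ⊔
      (U ⊓ Subgroup.centralizer ((fittingHallOf S : Subgroup G) : Set G)) := by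
    intro g hg
    have hle : fittingHallOf S ⊔
        (U ⊓ Subgroup.centralizer ((fittingHallOf S : Subgroup G) : Set G)) ≤
        (fittingHallOf S ⊔
        (U ⊓ Subgroup.centralizer ((fittingHallOf S : Subgroup G) : Set G))).comap
          (MulAut.conj g).toMonoidHom := by
      apply sup_le
      · intro x hx
        rw [Subgroup.mem_comap]
        apply Subgroup.mem_sup_left
        exact Cfsg.Agent.Lib.Helper26.PFEight.conj_mem_fittingHallOf S (hKS hg) hx
      · intro c hc
        rw [Subgroup.mem_comap]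
        apply Subgroup.mem_sup_right
        obtain ⟨a, ha, b, hb, rfl⟩ := h.hP.U_compl.2.2.2 g hg
        have e1 : a * c = c * a := hCcent c hc a ha
        have e2 : b * c = c * b := h.hUcomm b hb c (hCU hc)
        have e3 : (MulAut.conj (a * b)).toMonoidHom c = c := by
          show a * b * c * (a * b)⁻¹ = c
          rw [mul_assoc a b c, e2, ← mul_assoc a c b, e1]
          group
        rw [e3]
        exact hc
    intro n hn
    exact hle hn
  -- `θ` on `↥S'`
  let _ : Fintype ↥(⁅S, S⁆ : Subgroup G) := Fintype.ofFinite _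
  have hθ := (Cfsg.Agent.Lib.Helper51.PFCyc.muSum_eq_indFun h.hP hoddS h.md ψ).1
  have hθ' : IsIrrCharacter ↥(⁅S, S⁆ : Subgroup G)
      (fun k => mu ψ ⟨(k : G), hKS k.2⟩) :=
    Cfsg.Agent.Lib.Helper81.isIrrCharacter_comp_mulEquiv hθ (Subgroup.subgroupOfEquivOfLe hKS).symm
  have hdeg : charDegree (fun k : ↥(⁅S, S⁆ : Subgroup G) => mu ψ ⟨(k : G), hKS k.2⟩) = u := by
    unfold charDegree
    have e1 : (⟨((1 : ↥(⁅S, S⁆ : Subgroup G)) : G), hKS (1 : ↥(⁅S, S⁆ : Subgroup G)).2⟩ : ↥S) = 1 :=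
      rfl
    simp only [e1, hu, Complex.natCast_re, Nat.floor_natCast]
  -- Itô
  have hAn : ((fittingHallOf S ⊔
      (U ⊓ Subgroup.centralizer ((fittingHallOf S : Subgroup G) : Set G))).subgroupOf
        (⁅S, S⁆ : Subgroup G)).Normal := by
    constructor
    intro n hn g
    rw [Subgroup.mem_subgroupOf] at hn ⊢
    exact hnorm g g.2 n hn
  have hAc : ∀ a ∈ (fittingHallOf S ⊔
      (U ⊓ Subgroup.centralizer ((fittingHallOf S : Subgroup G) : Set G))).subgroupOf
        (⁅S, S⁆ : Subgroup G), ∀ b ∈ (fittingHallOf S ⊔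
      (U ⊓ Subgroup.centralizer ((fittingHallOf S : Subgroup G) : Set G))).subgroupOf
        (⁅S, S⁆ : Subgroup G), a * b = b * a := by
    intro a ha b hb
    apply Subtype.ext
    exact hDcomm a (Subgroup.mem_subgroupOf.mp ha) b (Subgroup.mem_subgroupOf.mp hb)
  have hito := Cfsg.Agent.Lib.Helper75.ito _ hAc _ hθ'
  rw [hdeg] at hito
  -- cardinalities
  have hidx := Subgroup.index_mul_card ((fittingHallOf S ⊔
      (U ⊓ Subgroup.centralizer ((fittingHallOf S : Subgroup G) : Set G))).subgroupOf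
        (⁅S, S⁆ : Subgroup G))
  have hcardA : Nat.card ↥((fittingHallOf S ⊔
      (U ⊓ Subgroup.centralizer ((fittingHallOf S : Subgroup G) : Set G))).subgroupOf
        (⁅S, S⁆ : Subgroup G)) = Nat.card ↥(fittingHallOf S ⊔
      (U ⊓ Subgroup.centralizer ((fittingHallOf S : Subgroup G) : Set G))) :=
    Nat.card_congr (Subgroup.subgroupOfEquivOfLe hDK).toEquiv
  have hcardK : Nat.card ↥(⁅S, S⁆ : Subgroup G) = Nat.card ↥(fittingHallOf S) * Nat.card ↥U :=
    Cfsg.Agent.Lib.Helper23.card_of_isComplIn h.hP.U_compl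
  have hcardD : Nat.card ↥(fittingHallOf S) *
      Nat.card ↥(U ⊓ Subgroup.centralizer ((fittingHallOf S : Subgroup G) : Set G)) ≤
      Nat.card ↥(fittingHallOf S ⊔
      (U ⊓ Subgroup.centralizer ((fittingHallOf S : Subgroup G) : Set G))) := by
    rw [← Nat.card_prod]
    apply Nat.card_le_card_of_injective
      (fun x : ↥(fittingHallOf S) ×
        ↥(U ⊓ Subgroup.centralizer ((fittingHallOf S : Subgroup G) : Set G)) =>
        (⟨x.1.1 * x.2.1, Subgroup.mul_mem _ (Subgroup.mem_sup_left x.1.2)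
          (Subgroup.mem_sup_right x.2.2)⟩ : ↥(fittingHallOf S ⊔
      (U ⊓ Subgroup.centralizer ((fittingHallOf S : Subgroup G) : Set G)))))
    rintro ⟨⟨a, ha⟩, ⟨b, hb⟩⟩ ⟨⟨a', ha'⟩, ⟨b', hb'⟩⟩ hab
    have hab' : a * b = a' * b' := congrArg Subtype.val hab
    have h1 : a'⁻¹ * a = b' * b⁻¹ := by
      have : a'⁻¹ * (a * b) * b⁻¹ = a'⁻¹ * (a' * b') * b⁻¹ := by rw [hab']
      simpa [mul_assoc] using this
    have h2 : a'⁻¹ * a ∈ fittingHallOf S ⊓ U := by
      refine Subgroup.mem_inf.mpr ⟨Subgroup.mul_mem _ (Subgroup.inv_mem _ ha') ha, ?_⟩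
      rw [h1]
      exact Subgroup.mul_mem _ (hCU hb') (Subgroup.inv_mem _ (hCU hb))
    rw [hPU, Subgroup.mem_bot] at h2
    have h3 : a = a' := by
      have := congrArg (fun t => a' * t) h2
      simpa using this
    have h4 : b = b' := by
      rw [h3] at hab'
      exact mul_left_cancel hab'
    subst h3 h4
    rfl
  have hPpos : 0 < Nat.card ↥(fittingHallOf S) := Nat.card_pos
  have hidxpos : 0 < ((fittingHallOf S ⊔
      (U ⊓ Subgroup.centralizer ((fittingHallOf S : Subgroup G) : Set G))).subgroupOf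
        (⁅S, S⁆ : Subgroup G)).index := by
    rcases Nat.eq_zero_or_pos ((fittingHallOf S ⊔
      (U ⊓ Subgroup.centralizer ((fittingHallOf S : Subgroup G) : Set G))).subgroupOf
        (⁅S, S⁆ : Subgroup G)).index with h0 | h0
    · rw [h0, zero_mul] at hidx
      exact absurd hidx.symm (Nat.card_pos).ne'
    · exact h0
  have hule : u ≤ ((fittingHallOf S ⊔
      (U ⊓ Subgroup.centralizer ((fittingHallOf S : Subgroup G) : Set G))).subgroupOf
        (⁅S, S⁆ : Subgroup G)).index := Nat.le_of_dvd hidxpos hito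
  rw [hcardA, hcardK] at hidx
  -- `|P| * (|C| * u) ≤ |P| * |U|`
  apply Nat.le_of_mul_le_mul_left _ hPpos
  calc Nat.card ↥(fittingHallOf S) *
        (Nat.card ↥(U ⊓ Subgroup.centralizer ((fittingHallOf S : Subgroup G) : Set G)) * u)
      = Nat.card ↥(fittingHallOf S) *
        Nat.card ↥(U ⊓ Subgroup.centralizer ((fittingHallOf S : Subgroup G) : Set G)) * u := by
        ring
    _ ≤ Nat.card ↥(fittingHallOf S ⊔
      (U ⊓ Subgroup.centralizer ((fittingHallOf S : Subgroup G) : Set G))) *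
        ((fittingHallOf S ⊔
      (U ⊓ Subgroup.centralizer ((fittingHallOf S : Subgroup G) : Set G))).subgroupOf
        (⁅S, S⁆ : Subgroup G)).index := Nat.mul_le_mul hcardD hule
    _ = Nat.card ↥(fittingHallOf S) * Nat.card ↥U := by rw [mul_comm]; exact hidx

end Cfsg.Agent.Lib.Helper26.PF13
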