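import Mathlib
import Cfsg.Agent.Lib.Helper80.TwoDeg2
import Cfsg.Agent.Lib.Helper80.ItoMichler
import Cfsg.Agent.Lib.Helper75.Ito
import Cfsg.Agent.Lib.Helper77.Deflation

/-!
# S4460 module [QUOT] (helper26): passing to quotients

Three lemmas, statements verbatim from helper80's `Lib/Helper80/ThreeDeg/SPINE.md`:

* `charDegree_dvd_index_of_trivial_on_commutator`: if `H ⊴ G` and `χ ∈ Irr(G)` is trivial on
  `[H,H]` then `χ(1) ∣ |G:H|` (Ito in `G/[H,H]`).
* `commutator_le_of_forall_linear`: if every `χ ∈ Irr(G)` trivial on `N` is linear then `G' ≤ N`.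
* `derivedSeries_two_le_of_forall_two_degrees`: if every `χ ∈ Irr(G)` trivial on `N` has degree
  `1` or `e` then `G'' ≤ N`.
-/

set_option autoImplicit false

namespace Cfsg.Agent.Lib.Helper26.ThreeDeg

open Cfsg
open scoped ComplexConjugate commutatorElement

universe u

/-- Degree of a deflated character. -/
theorem charDegree_deflate {G : Type u} [Group G] [Fintype G] (N : Subgroup G) [N.Normal]
    (χ : IrrCharacter G) (h : ∀ n ∈ N, (χ : G → ℂ) n = (χ : G → ℂ) 1) :
    charDegree ((Helper77.deflate N χ h : IrrCharacter (G ⧸ N)) : G ⧸ N → ℂ) =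
      charDegree (χ : G → ℂ) := by
  rw [← Helper80.charDegree_inflate N (Helper77.deflate N χ h), Helper77.inflate_deflate]

/-- **[QUOT-ITO]** -/
theorem charDegree_dvd_index_of_trivial_on_commutator {G : Type u} [Group G] [Fintype G]
    (H : Subgroup G) [H.Normal] (χ : IrrCharacter G)
    (hker : ∀ x ∈ ⁅H, H⁆, (χ : G → ℂ) x = (χ : G → ℂ) 1) :
    charDegree (χ : G → ℂ) ∣ H.index := by
  classical
  have hKn : (⁅H, H⁆ : Subgroup G).Normal := Subgroup.commutator_normal H H
  let _ : Fintype (G ⧸ (⁅H, H⁆ : Subgroup G)) := Fintype.ofFinite _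
  have hsurj : Function.Surjective (QuotientGroup.mk' (⁅H, H⁆ : Subgroup G)) :=
    QuotientGroup.mk'_surjective _
  have hAn : (H.map (QuotientGroup.mk' (⁅H, H⁆ : Subgroup G))).Normal :=
    Subgroup.Normal.map inferInstance _ hsurj
  have hA : ∀ a ∈ H.map (QuotientGroup.mk' (⁅H, H⁆ : Subgroup G)),
      ∀ b ∈ H.map (QuotientGroup.mk' (⁅H, H⁆ : Subgroup G)), a * b = b * a := by
    rintro _ ⟨x, hx, rfl⟩ _ ⟨y, hy, rfl⟩
    rw [← map_mul, ← map_mul]
    simp only [QuotientGroup.mk'_apply]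
    rw [QuotientGroup.eq]
    have h1 : ⁅x⁻¹, y⁻¹⁆ ∈ (⁅H, H⁆ : Subgroup G) :=
      Subgroup.commutator_mem_commutator (H.inv_mem hx) (H.inv_mem hy)
    have h2 : (x * y)⁻¹ * (y * x) = ⁅y⁻¹, x⁻¹⁆ := by
      rw [commutatorElement_def]; group
    rw [h2]
    exact Subgroup.commutator_mem_commutator (H.inv_mem hy) (H.inv_mem hx)
  have hidx : (H.map (QuotientGroup.mk' (⁅H, H⁆ : Subgroup G))).index = H.index := by
    apply Subgroup.index_map_eq _ hsurj
    rw [QuotientGroup.ker_mk']
    exact Subgroup.commutator_le_left H H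
  have h1 := Helper75.ito (H.map (QuotientGroup.mk' (⁅H, H⁆ : Subgroup G))) hA
    ((Helper77.deflate (⁅H, H⁆ : Subgroup G) χ hker : IrrCharacter (G ⧸ (⁅H, H⁆ : Subgroup G))) :
      G ⧸ (⁅H, H⁆ : Subgroup G) → ℂ)
    (Helper77.deflate (⁅H, H⁆ : Subgroup G) χ hker).2
  rw [hidx, charDegree_deflate] at h1
  exact h1

/-- If `G ⧸ N` is commutative then `G' ≤ N`. -/
theorem commutator_le_of_quotient_comm {G : Type u} [Group G] (N : Subgroup G) [N.Normal]
    (h : ∀ a b : G ⧸ N, a * b = b * a) : commutator G ≤ N := by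
  rw [commutator_def, Subgroup.commutator_le]
  intro x _ y _
  rw [← QuotientGroup.eq_one_iff, commutatorElement_def]
  simp only [QuotientGroup.mk_mul, QuotientGroup.mk_inv]
  rw [h (x : G ⧸ N) (y : G ⧸ N)]
  group

/-- **[QUOT1]** -/
theorem commutator_le_of_forall_linear {G : Type u} [Group G] [Fintype G]
    (N : Subgroup G) [N.Normal]
    (h : ∀ χ : IrrCharacter G, (∀ x ∈ N, (χ : G → ℂ) x = (χ : G → ℂ) 1) →
      charDegree (χ : G → ℂ) = 1) :
    commutator G ≤ N := by
  classical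
  let _ : Fintype (G ⧸ N) := Fintype.ofFinite _
  apply commutator_le_of_quotient_comm N
  apply Helper80.commutative_of_forall_charDegree_eq_one
  intro χ'
  rw [← Helper80.charDegree_inflate N χ']
  exact h _ (Helper77.inflate_apply_of_mem N χ')

/-- **[QUOT2]** -/
theorem derivedSeries_two_le_of_forall_two_degrees {G : Type u} [Group G] [Fintype G]
    (N : Subgroup G) [N.Normal] (e : ℕ)
    (h : ∀ χ : IrrCharacter G, (∀ x ∈ N, (χ : G → ℂ) x = (χ : G → ℂ) 1) →
      charDegree (χ : G → ℂ) = 1 ∨ charDegree (χ : G → ℂ) = e) :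
    derivedSeries G 2 ≤ N := by
  classical
  let _ : Fintype (G ⧸ N) := Fintype.ofFinite _
  have hcd : ∀ χ' : IrrCharacter (G ⧸ N), charDegree (χ' : G ⧸ N → ℂ) = 1 ∨
      charDegree (χ' : G ⧸ N → ℂ) = e := by
    intro χ'
    rw [← Helper80.charDegree_inflate N χ']
    exact h _ (Helper77.inflate_apply_of_mem N χ')
  -- the commutator subgroup of the quotient is abelian
  have hab : ∀ a ∈ commutator (G ⧸ N), ∀ b ∈ commutator (G ⧸ N), a * b = b * a := by
    by_cases hex : (∃ χ' : IrrCharacter (G ⧸ N), charDegree (χ' : G ⧸ N → ℂ) = e) ∧ e ≠ 1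
    · exact Helper80.derivedSeries_two_eq_bot_of_two_degrees e hcd hex.1 hex.2
    · have hlin : ∀ χ' : IrrCharacter (G ⧸ N), charDegree (χ' : G ⧸ N → ℂ) = 1 := by
        intro χ'
        rcases hcd χ' with h1 | h1
        · exact h1
        · by_contra hne
          exact hex ⟨⟨χ', h1⟩, fun he => hne (h1.trans he)⟩
      have hc := Helper80.commutative_of_forall_charDegree_eq_one hlin
      intro a _ b _
      exact hc a b
  -- hence the second derived subgroup of the quotient is trivial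
  have hbot : derivedSeries (G ⧸ N) 2 = ⊥ := by
    rw [derivedSeries_succ, derivedSeries_one, eq_bot_iff, Subgroup.commutator_le]
    intro a ha b hb
    rw [Subgroup.mem_bot, commutatorElement_eq_one_iff_mul_comm]
    exact hab a ha b hb
  have hmap : (derivedSeries G 2).map (QuotientGroup.mk' N) ≤ derivedSeries (G ⧸ N) 2 :=
    map_derivedSeries_le_derivedSeries (QuotientGroup.mk' N) 2
  rw [hbot, le_bot_iff] at hmap
  intro x hx
  have h1 : (QuotientGroup.mk' N) x ∈ (derivedSeries G 2).map (QuotientGroup.mk' N) :=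
    Subgroup.mem_map_of_mem _ hx
  rw [hmap, Subgroup.mem_bot, QuotientGroup.mk'_apply, QuotientGroup.eq_one_iff] at h1
  exact h1

end Cfsg.Agent.Lib.Helper26.ThreeDeg
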