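import Mathlib
import Cfsg.Agent.Lib.Helper16.PF13Defs
import Cfsg.Agent.Lib.Helper26.ThreeDegQuot
import Cfsg.Agent.Lib.Helper33.PFTenTV1
import Cfsg.Agent.Lib.Helper51.PFCycMuInd
import Cfsg.Agent.Lib.Helper22.PFCycMuDeg
import Cfsg.Agent.Lib.Helper81.IrrTwist
import Cfsg.Agent.Lib.Helper78.CharOrtho
import Cfsg.Agent.Lib.Helper78.CharMore
import Cfsg.Agent.Lib.Helper50.PFCycMuRes
import Cfsg.Agent.Lib.Helper26.PFEightA

/-!
# PF sec.13, module [MULOC] (helper26, for helper16)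

Local facts on `θ = μ_ψ|_{S'}`: degree, norm, orthogonality to `1`, vanishing of the `P`-coset
sums and vanishing at the `k ∈ S'` with `C_P(k) = 1`.
Statement of `mu_local` verbatim from `Cfsg/Agent/Lib/Helper16/PF13_MODULES.md`.
-/

set_option autoImplicit false

namespace Cfsg.Agent.Lib.Helper26.PF13

open Cfsg Cfsg.Agent.Lib.Helper24.PFCyc Cfsg.Agent.Lib.Helper4.PF Cfsg.Agent.Lib.Helper16.PF13
open scoped ComplexConjugate commutatorElement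

universe u

section Abstract

variable {K : Type u} [Group K] [Fintype K]

/-- A nonlinear irreducible character is nontrivial on a normal subgroup with abelian quotient. -/
theorem exists_ne_of_nonlinear (P : Subgroup K) [P.Normal]
    (hab : ∀ a b : K, a * b * a⁻¹ * b⁻¹ ∈ P) (θ : K → ℂ) (hθ : IsIrrCharacter K θ)
    (hθ1 : θ 1 ≠ 1) : ∃ h ∈ P, θ h ≠ θ 1 := by
  by_contra hcon
  push Not at hcon
  apply hθ1
  have hle : ⁅(⊤ : Subgroup K), (⊤ : Subgroup K)⁆ ≤ P := by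
    rw [Subgroup.commutator_le]
    intro a _ b _
    rw [commutatorElement_def]
    exact hab a b
  have hdvd := Cfsg.Agent.Lib.Helper26.ThreeDeg.charDegree_dvd_index_of_trivial_on_commutator
    (⊤ : Subgroup K) (⟨θ, hθ⟩ : IrrCharacter K) (fun x hx => hcon x (hle hx))
  rw [Subgroup.index_top, Nat.dvd_one] at hdvd
  have h1 := Cfsg.Agent.Lib.Helper78.IsCharacter.apply_one_eq_charDegree
    (Cfsg.Agent.Lib.Helper78.IsIrrCharacter.isCharacter hθ)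
  rw [h1]
  have hdvd' : charDegree θ = 1 := hdvd
  rw [hdvd']
  norm_num

/-- The sum of an irreducible character over a normal subgroup not in its kernel vanishes. -/
theorem sum_normal_eq_zero (P : Subgroup K) [P.Normal] [Fintype P] (θ : K → ℂ)
    (hθ : IsIrrCharacter K θ) (hP : ∃ h ∈ P, θ h ≠ θ 1) : ∑ h : P, θ (h : K) = 0 := by
  classical
  have hθ1 : θ 1 ≠ 0 := Cfsg.Agent.Lib.Helper78.IsIrrCharacter.apply_one_ne_zero hθ
  by_contra hne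
  obtain ⟨y, hyP, hy⟩ := hP
  apply hy
  have h1 := Cfsg.Agent.Lib.Helper33.PFTenT.sum_normal_mul P θ hθ y
  have h2 : ∑ h : P, θ ((h : K) * y) = ∑ h : P, θ (h : K) := by
    apply Fintype.sum_bijective (fun h : P => h * ⟨y, hyP⟩)
    · exact Group.mulRight_bijective _
    · intro h
      rfl
  rw [h2] at h1
  rw [eq_div_iff hθ1] at h1
  exact (mul_left_cancel₀ hne h1).symm

/-- The coset sums of an irreducible character over a normal subgroup not in its kernel vanish. -/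
theorem sum_coset_eq_zero (P : Subgroup K) [P.Normal] [Fintype P] (θ : K → ℂ)
    (hθ : IsIrrCharacter K θ) (hP : ∃ h ∈ P, θ h ≠ θ 1) (a : K) :
    ∑ h : P, θ ((h : K) * a) = 0 := by
  rw [Cfsg.Agent.Lib.Helper33.PFTenT.sum_normal_mul P θ hθ a, sum_normal_eq_zero P θ hθ hP,
    zero_mul, zero_div]

/-- Norm of an irreducible character, as a real sum. -/
theorem sum_norm_sq_irr (θ : K → ℂ) (hθ : IsIrrCharacter K θ) :
    ∑ k : K, ‖θ k‖ ^ 2 = (Nat.card K : ℝ) := by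
  have h1 := Cfsg.Agent.Lib.Helper78.classInner_irr_self hθ
  unfold classInner at h1
  have hcard : (Nat.card K : ℂ) ≠ 0 := by
    have : 0 < Nat.card K := Nat.card_pos
    exact_mod_cast this.ne'
  rw [inv_mul_eq_iff_eq_mul₀ hcard, mul_one] at h1
  have h2 : ∀ k : K, θ k * conj (θ k) = ((‖θ k‖ ^ 2 : ℝ) : ℂ) := by
    intro k
    rw [Complex.mul_conj, Complex.normSq_eq_norm_sq]
  rw [Finset.sum_congr rfl (fun k _ => h2 k)] at h1
  exact_mod_cast h1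

/-- A non-principal irreducible character sums to zero. -/
theorem sum_irr_eq_zero (θ : K → ℂ) (hθ : IsIrrCharacter K θ) (hne : θ ≠ fun _ => 1) :
    ∑ k : K, θ k = 0 := by
  have h1 := Cfsg.Agent.Lib.Helper78.classInner_irr_ne hθ
    (Cfsg.Agent.Lib.Helper78.isIrrCharacter_one (G := K)) hne
  unfold classInner at h1
  have hcard : (Nat.card K : ℂ)⁻¹ ≠ 0 := by
    have : 0 < Nat.card K := Nat.card_pos
    apply inv_ne_zero
    exact_mod_cast this.ne'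
  rcases mul_eq_zero.mp h1 with h | h
  · exact absurd h hcard
  · simpa using h

end Abstract

variable {G : Type u} [Group G] [Fintype G] {S W₁ U W₂ : Subgroup G} [Fintype S]
  {mu : WChar W₁ W₂ → (↥S → ℂ)} {dl : WChar W₁ W₂ → ℂ} {η : WChar W₁ W₂ → (G → ℂ)}

/-- MODULE PF13-[MULOC] -/
theorem mu_local (h : PSide S W₁ U W₂ mu dl η) (ψ : WChar W₁ W₂) (hψ : TrivOn W₁ ψ) (hψ1 : ψ ≠ 1) :
    ∃ u : ℕ, 0 < u ∧ mu ψ 1 = (u : ℂ) ∧
    (∑ᶠ k ∈ ((⁅S, S⁆ : Subgroup G) : Set G), ‖extendByZero S (mu ψ) k‖ ^ 2 =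
      (Nat.card ↥(⁅S, S⁆ : Subgroup G) : ℝ)) ∧
    (∑ᶠ k ∈ ((⁅S, S⁆ : Subgroup G) : Set G), extendByZero S (mu ψ) k = 0) ∧
    (∀ a ∈ (⁅S, S⁆ : Subgroup G), ∑ᶠ x ∈ ((fittingHallOf S : Subgroup G) : Set G),
      extendByZero S (mu ψ) (x * a) = 0) ∧
    (∀ k ∈ (⁅S, S⁆ : Subgroup G), k ≠ 1 → k ∉ litA S → extendByZero S (mu ψ) k = 0) := by
  classical
  have hPK : fittingHallOf S ≤ ⁅S, S⁆ := h.hP.U_compl.1
  have hKS : (⁅S, S⁆ : Subgroup G) ≤ S := Subgroup.commutator_le_self S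
  have hoddS : Odd (Nat.card S) := Odd.of_dvd_nat h.hodd (Subgroup.card_subgroup_dvd_card S)
  let _ : Fintype ↥(⁅S, S⁆ : Subgroup G) := Fintype.ofFinite _
  let _ : Fintype ↥(fittingHallOf S) := Fintype.ofFinite _
  let _ : Fintype ↥((fittingHallOf S).subgroupOf (⁅S, S⁆ : Subgroup G)) := Fintype.ofFinite _
  -- `θ` on `↥S'`
  have hθ0 := (Cfsg.Agent.Lib.Helper51.PFCyc.muSum_eq_indFun h.hP hoddS h.md ψ).1
  have hθ : IsIrrCharacter ↥(⁅S, S⁆ : Subgroup G)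
      (fun k => mu ψ ⟨(k : G), hKS k.2⟩) :=
    Cfsg.Agent.Lib.Helper81.isIrrCharacter_comp_mulEquiv hθ0 (Subgroup.subgroupOfEquivOfLe hKS).symm
  have hone : (⟨((1 : ↥(⁅S, S⁆ : Subgroup G)) : G), hKS (1 : ↥(⁅S, S⁆ : Subgroup G)).2⟩ : ↥S) = 1 :=
    rfl
  have hθ1 : (fun k : ↥(⁅S, S⁆ : Subgroup G) => mu ψ ⟨(k : G), hKS k.2⟩) 1 ≠ 1 := by
    show mu ψ ⟨((1 : ↥(⁅S, S⁆ : Subgroup G)) : G), _⟩ ≠ 1
    rw [hone]
    exact Cfsg.Agent.Lib.Helper22.PFCyc.mu_apply_one_ne_one h.hP h.md ψ hψ hψ1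
  have hθne : (fun k : ↥(⁅S, S⁆ : Subgroup G) => mu ψ ⟨(k : G), hKS k.2⟩) ≠ fun _ => 1 := by
    intro hc
    exact hθ1 (congrFun hc 1)
  -- `P` inside `↥S'`
  have hPn : ((fittingHallOf S).subgroupOf (⁅S, S⁆ : Subgroup G)).Normal := by
    constructor
    intro n hn g
    rw [Subgroup.mem_subgroupOf] at hn ⊢
    exact Cfsg.Agent.Lib.Helper26.PFEight.conj_mem_fittingHallOf S (hKS g.2) hn
  -- `S'/P` is abelian
  have hab : ∀ a b : ↥(⁅S, S⁆ : Subgroup G),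
      a * b * a⁻¹ * b⁻¹ ∈ (fittingHallOf S).subgroupOf (⁅S, S⁆ : Subgroup G) := by
    intro a b
    obtain ⟨x, hx, z, hz, haz⟩ := h.hP.U_compl.2.2.2 (a : G) a.2
    obtain ⟨x', hx', z', hz', hbz⟩ := h.hP.U_compl.2.2.2 (b : G) b.2
    have hUK : U ≤ ⁅S, S⁆ := h.hP.U_compl.2.1
    have ha : a = (⟨x, hPK hx⟩ : ↥(⁅S, S⁆ : Subgroup G)) * ⟨z, hUK hz⟩ := Subtype.ext haz
    have hb : b = (⟨x', hPK hx'⟩ : ↥(⁅S, S⁆ : Subgroup G)) * ⟨z', hUK hz'⟩ := Subtype.ext hbz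
    rw [← QuotientGroup.eq_one_iff]
    have e1 : ((⟨x, hPK hx⟩ : ↥(⁅S, S⁆ : Subgroup G)) :
        ↥(⁅S, S⁆ : Subgroup G) ⧸ (fittingHallOf S).subgroupOf (⁅S, S⁆ : Subgroup G)) = 1 :=
      (QuotientGroup.eq_one_iff _).mpr (Subgroup.mem_subgroupOf.mpr hx)
    have e2 : ((⟨x', hPK hx'⟩ : ↥(⁅S, S⁆ : Subgroup G)) :
        ↥(⁅S, S⁆ : Subgroup G) ⧸ (fittingHallOf S).subgroupOf (⁅S, S⁆ : Subgroup G)) = 1 :=
      (QuotientGroup.eq_one_iff _).mpr (Subgroup.mem_subgroupOf.mpr hx')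
    have e3 : (⟨z, hUK hz⟩ : ↥(⁅S, S⁆ : Subgroup G)) * ⟨z', hUK hz'⟩ =
        ⟨z', hUK hz'⟩ * ⟨z, hUK hz⟩ := Subtype.ext (h.hUcomm z hz z' hz')
    rw [ha, hb]
    simp only [QuotientGroup.mk_mul, QuotientGroup.mk_inv, e1, e2, one_mul]
    rw [← QuotientGroup.mk_mul, e3, QuotientGroup.mk_mul]
    group
  have hex := exists_ne_of_nonlinear _ hab _ hθ hθ1
  -- conversion of the sums
  have convR : ∀ f : G → ℝ, ∑ᶠ k ∈ ((⁅S, S⁆ : Subgroup G) : Set G), f k =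
      ∑ k : ↥(⁅S, S⁆ : Subgroup G), f (k : G) := by
    intro f
    rw [← finsum_set_coe_eq_finsum_mem]
    exact finsum_eq_sum_of_fintype _
  have convC : ∀ f : G → ℂ, ∑ᶠ k ∈ ((⁅S, S⁆ : Subgroup G) : Set G), f k =
      ∑ k : ↥(⁅S, S⁆ : Subgroup G), f (k : G) := by
    intro f
    rw [← finsum_set_coe_eq_finsum_mem]
    exact finsum_eq_sum_of_fintype _
  have convP : ∀ f : G → ℂ, ∑ᶠ x ∈ ((fittingHallOf S : Subgroup G) : Set G), f x =
      ∑ x : ↥(fittingHallOf S), f (x : G) := by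
    intro f
    rw [← finsum_set_coe_eq_finsum_mem]
    exact finsum_eq_sum_of_fintype _
  have hebz : ∀ k : ↥(⁅S, S⁆ : Subgroup G),
      extendByZero S (mu ψ) (k : G) = mu ψ ⟨(k : G), hKS k.2⟩ :=
    fun k => Cfsg.Agent.Lib.Helper50.PFCyc.ebz_of_mem S (mu ψ) (hKS k.2)
  refine ⟨charDegree (mu ψ), Cfsg.Agent.Lib.Helper78.IsIrrCharacter.charDegree_pos (h.md.irr ψ),
    Cfsg.Agent.Lib.Helper78.IsCharacter.apply_one_eq_charDegree
      (Cfsg.Agent.Lib.Helper78.IsIrrCharacter.isCharacter (h.md.irr ψ)), ?_, ?_, ?_, ?_⟩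
  · rw [convR]
    simp only [hebz]
    exact sum_norm_sq_irr _ hθ
  · rw [convC]
    simp only [hebz]
    exact sum_irr_eq_zero _ hθ hθne
  · intro a ha
    rw [convP]
    have key := sum_coset_eq_zero ((fittingHallOf S).subgroupOf (⁅S, S⁆ : Subgroup G)) _ hθ hex
      ⟨a, ha⟩
    rw [← key]
    symm
    apply Fintype.sum_equiv (Subgroup.subgroupOfEquivOfLe hPK).toEquiv
    intro x
    have hmem : ((x : ↥(⁅S, S⁆ : Subgroup G)) : G) * a ∈ (⁅S, S⁆ : Subgroup G) :=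
      Subgroup.mul_mem _ (x : ↥(⁅S, S⁆ : Subgroup G)).2 ha
    exact (hebz ⟨((x : ↥(⁅S, S⁆ : Subgroup G)) : G) * a, hmem⟩).symm
  · intro k hk hk1 hkA
    rw [hebz ⟨k, hk⟩]
    apply Cfsg.Agent.Lib.Helper33.PFTenT.irr_vanish_of_fpf
      ((fittingHallOf S).subgroupOf (⁅S, S⁆ : Subgroup G)) _ hθ hex ⟨k, hk⟩
    intro y hy hcomm
    by_contra hy1
    apply hkA
    apply h.hA_mem k hk hk1
    refine ⟨(y : G), Subgroup.mem_subgroupOf.mp hy, ?_, ?_⟩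
    · intro hc
      exact hy1 (Subtype.ext hc)
    · have := congrArg Subtype.val hcomm
      exact this.symm

end Cfsg.Agent.Lib.Helper26.PF13
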