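import Mathlib
import Cfsg.Agent.Lib.Helper26.BGTypesA
import Cfsg.Agent.Lib.Helper64.CNMaximal

/-!
# Bender–Glauberman section 16, part B: groups of Frobenius type from a normal nilpotent Hall
subgroup with an abelian complement; the case `K ≠ 1`, `U ≠ 1` gives Type II
-/

set_option autoImplicit false

namespace Cfsg.Agent.Lib.Helper26.BGTypes

open Cfsg

universe u

/-- A subgroup of order prime to the index of a normal subgroup lies in it. -/
theorem le_of_coprime_index {X : Type u} [Group X] [Finite X] (N : Subgroup X) [N.Normal]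
    {Y : Subgroup X} (h : (Nat.card Y).Coprime N.index) : Y ≤ N := by
  rw [← Subgroup.relIndex_eq_one]
  have h1 : N.relIndex Y ∣ N.index := Subgroup.relIndex_dvd_index_of_normal N Y
  have h2 : N.relIndex Y ∣ Nat.card Y := Subgroup.relIndex_dvd_card N Y
  exact Nat.eq_one_of_dvd_coprimes h h2 h1

/-- Abstract criterion: `D = S ⋊ U` with `S` a nontrivial normal nilpotent Hall subgroup, `U ≠ 1`
abelian, and `U₀ ≤ U` of the same exponent acting without fixed points on `S`. Then `S = D_F` and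
`D` is of Frobenius type. -/
theorem fittingHall_eq_and_isOfTypeF {D : Type u} [Group D] [Finite D] (S U U₀ : Subgroup D)
    (hsolv : Group.IsSolvable D) (hodd : Odd (Nat.card D)) [hSn : S.Normal]
    (hSnil : Group.IsNilpotent ↥S) (hS1 : S ≠ ⊥) (hcard : Nat.card S * Nat.card U = Nat.card D)
    (hcop : (Nat.card S).Coprime (Nat.card U)) (hU1 : U ≠ ⊥)
    (hUc : ∀ a ∈ U, ∀ b ∈ U, a * b = b * a) (hU₀ : U₀ ≤ U)
    (hexp : Monoid.exponent ↥U₀ = Monoid.exponent ↥U)
    (hfpf : ∀ u ∈ U₀, u ≠ 1 → ∀ x ∈ S, u * x = x * u → x = 1) :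
    fittingHall D = S ∧ IsOfTypeF D := by
  have hidx : S.index = Nat.card U := by
    have h1 := Subgroup.card_mul_index S
    rw [← hcard] at h1
    exact Nat.eq_of_mul_eq_mul_left Nat.card_pos h1
  obtain ⟨x₀, hx₀S, hx₀1⟩ : ∃ x ∈ S, x ≠ 1 := by
    by_contra hcon
    exact hS1 ((Subgroup.eq_bot_iff_forall S).2
      (fun x hx => by_contra (fun h => hcon ⟨x, hx, h⟩)))
  have hF : fittingHall D = S := by
    apply le_antisymm
    · apply le_of_coprime_index S
      rw [hidx]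
      apply coprime_of_forall_prime
      intro r hr hrF hrU
      have : Fact r.Prime := ⟨hr⟩
      -- an element of order `r` in `U₀`
      obtain ⟨u', hu'⟩ := exists_prime_orderOf_dvd_card' (G := ↥U) r hrU
      have hre : r ∣ Monoid.exponent ↥U₀ := by
        rw [hexp, ← hu']
        exact Monoid.order_dvd_exponent u'
      have hrU₀ : r ∣ Nat.card ↥U₀ := hre.trans Group.exponent_dvd_nat_card
      obtain ⟨u₀, hu₀⟩ := exists_prime_orderOf_dvd_card' (G := ↥U₀) r hrU₀
      have huord : orderOf (u₀ : D) = r := by rw [Subgroup.orderOf_coe, hu₀]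
      have hu1 : (u₀ : D) ≠ 1 := by
        intro h
        rw [h, orderOf_one] at huord
        exact hr.one_lt.ne huord
      -- it lies in a Sylow `r`-subgroup, which is normal since `r ∣ |D_F|`
      have hP : IsPGroup r ↥(Subgroup.zpowers (u₀ : D)) := by
        apply IsPGroup.of_card (n := 1)
        rw [Nat.card_zpowers, huord, pow_one]
      obtain ⟨R, hR⟩ := hP.exists_le_sylow
      have hRn := (Cfsg.Agent.Lib.Helper64.sylow_normal_of_dvd_card_fittingHall r hrF R).1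
      have huR : (u₀ : D) ∈ (R : Subgroup D) := hR (Subgroup.mem_zpowers _)
      -- `R ∩ S = 1`
      have hRS : (R : Subgroup D) ⊓ S = ⊥ := by
        apply Disjoint.eq_bot
        apply Subgroup.disjoint_of_coprime_natCard
        obtain ⟨n, hn⟩ := IsPGroup.iff_card.1 R.2
        rw [hn]
        apply Nat.Coprime.pow_left
        rw [Nat.Prime.coprime_iff_not_dvd hr]
        intro hrS
        exact hr.one_lt.ne' (Nat.eq_one_of_dvd_coprimes hcop hrS hrU)
      -- so `u₀` centralizes `S`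
      have hc : (u₀ : D) * x₀ * (u₀ : D)⁻¹ * x₀⁻¹ ∈ (R : Subgroup D) ⊓ S := by
        constructor
        · have h1 : x₀ * (u₀ : D)⁻¹ * x₀⁻¹ ∈ (R : Subgroup D) :=
            hRn.conj_mem _ (Subgroup.inv_mem _ huR) x₀
          have : (u₀ : D) * x₀ * (u₀ : D)⁻¹ * x₀⁻¹ = (u₀ : D) * (x₀ * (u₀ : D)⁻¹ * x₀⁻¹) := by
            group
          rw [this]
          exact Subgroup.mul_mem _ huR h1
        · have h1 : (u₀ : D) * x₀ * (u₀ : D)⁻¹ ∈ S := hSn.conj_mem _ hx₀S _
          exact Subgroup.mul_mem _ h1 (Subgroup.inv_mem _ hx₀S)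
      rw [hRS, Subgroup.mem_bot] at hc
      have hcomm : (u₀ : D) * x₀ = x₀ * (u₀ : D) := by
        have := congrArg (fun t => t * x₀ * (u₀ : D)) hc
        simpa [mul_assoc] using this
      exact hx₀1 (hfpf _ u₀.2 hu1 x₀ hx₀S hcomm)
    · apply le_sSup
      refine ⟨hSn, hSnil, ?_⟩
      rw [hidx]
      exact hcop
  refine ⟨hF, hsolv, hodd, hF ▸ hS1, ?_, U, hU1, ?_, ?_, ?_⟩
  · rw [hF]
    intro htop
    apply hU1
    rw [← Subgroup.card_eq_one]
    rw [htop, Subgroup.card_top] at hcard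
    have : Nat.card D * Nat.card U = Nat.card D * 1 := by rw [hcard, mul_one]
    exact Nat.eq_of_mul_eq_mul_left Nat.card_pos this
  · rw [hF]
    exact Subgroup.isComplement'_of_coprime hcard hcop
  · refine ⟨U, le_rfl, Subgroup.le_normalizer, ?_, fun _ _ _ => inf_le_left⟩
    exact ⟨⟨fun a b => Subtype.ext (hUc a.1 a.2 b.1 b.2)⟩⟩
  · refine ⟨U₀, hU₀, hexp, ?_⟩
    rw [hF]
    exact hfpf

variable {G : Type u} [Group G]

theorem isNilpotent_fittingHallOf [Finite G] (M : Subgroup G) :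
    Group.IsNilpotent ↥(fittingHallOf M) := by
  have h := Cfsg.Agent.S1474.fittingHall_isNilpotent (G := ↥M)
  unfold fittingHallOf
  exact Group.nilpotent_of_mulEquiv
    ((fittingHall ↥M).equivMapOfInjective M.subtype M.subtype_injective)

/-- Hall property of `M_F` in `M`, in terms of cardinalities in `G`. -/
theorem coprime_card_fittingHallOf_relIndex [Finite G] (M : Subgroup G) :
    (Nat.card ↥(fittingHallOf M)).Coprime ((fittingHallOf M).relIndex M) := by
  have h := Cfsg.Agent.Lib.Helper23.fittingHall_coprime ↥M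
  rw [← PFEight.card_fittingHallOf] at h
  have e : (fittingHallOf M).relIndex M = (fittingHall ↥M).index := by
    unfold Subgroup.relIndex fittingHallOf
    congr 1
    ext x
    rw [Subgroup.mem_subgroupOf]
    constructor
    · rintro ⟨y, hy, hxy⟩
      have : y = x := Subtype.ext hxy
      rwa [← this]
    · intro hx
      exact ⟨x, hx, rfl⟩
  rw [e]
  exact h

/-- **The case `K ≠ 1`, `U ≠ 1` of the standard factorisation gives type-P data `(K, U, K*)`.** -/
theorem isTypePWith_of_decomp [Finite G] {M K U : Subgroup G}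
    (hKU : IsSigmaDecomposition M K U) (hK1 : K ≠ ⊥)
    (hFS : fittingHallOf M = sigmaCore M)
    (hUnil : Group.IsNilpotent ↥U)
    (h56 : ⁅⁅M, M⁆, ⁅M, M⁆⁆ ≤ fittingOf M ∧
      fittingOf M = (M ⊓ Subgroup.centralizer (fittingHallOf M : Set G)) ⊔ fittingHallOf M ∧
      ((kappa M).Nonempty → fittingOf M ≤ ⁅M, M⁆))
    (h64 : IsCyclic ↥(sigmaCore M ⊓ Subgroup.centralizer (K : Set G)) ∧
      (sigmaCore M ⊓ Subgroup.centralizer (K : Set G)) ≠ ⊥ ∧
      (sigmaCore M ⊓ Subgroup.centralizer (K : Set G)) ≤ fittingHallOf M ∧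
      ¬ IsCyclic (fittingHallOf M))
    (h65 : ⁅M, M⁆ = U ⊔ sigmaCore M ∧
      (sigmaCore M ⊓ Subgroup.centralizer (K : Set G)) ≤ ⁅⁅M, M⁆, ⁅M, M⁆⁆)
    (h54 : ∀ k ∈ K, k ≠ 1 → M ⊓ Subgroup.centralizer ({k} : Set G) =
      K ⊔ (sigmaCore M ⊓ Subgroup.centralizer (K : Set G)))
    (h68 : IsCyclic ↥(K ⊔ (sigmaCore M ⊓ Subgroup.centralizer (K : Set G))))
    (h70 : IsTISubset ((↑(K ⊔ (sigmaCore M ⊓ Subgroup.centralizer (K : Set G))) : Set G) \
        ((K : Set G) ∪ ↑(sigmaCore M ⊓ Subgroup.centralizer (K : Set G)))) ∧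
      Subgroup.normalizer ((↑(K ⊔ (sigmaCore M ⊓ Subgroup.centralizer (K : Set G))) : Set G) \
        ((K : Set G) ∪ ↑(sigmaCore M ⊓ Subgroup.centralizer (K : Set G)))) =
        K ⊔ (sigmaCore M ⊓ Subgroup.centralizer (K : Set G))) :
    IsTypePWith M K U (sigmaCore M ⊓ Subgroup.centralizer (K : Set G)) := by
  have hc1 := isComplIn_commutator hKU h65.1
  have hc2 := isComplIn_sigmaCore hKU h65.1
  exact
    { W₁_ne := hK1
      W₁_cyclic := hKU.cyclic
      W₁_hall := coprime_card_relIndex_of_hall hKU.hall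
      W₁_compl := hc1
      U_nilpotent := hUnil
      U_normal := hKU.normal
      U_compl := hFS ▸ hc2
      H_not_cyclic := h64.2.2.2
      derived_two_le := by
        rw [sup_comm, ← h56.2.1]
        exact h56.1
      fitting_eq := by
        rw [sup_comm, ← h56.2.1]
      fitting_le := h56.2.2 (kappa_nonempty_of_ne_bot hKU.hall hK1)
      W₂_le := le_inf h64.2.2.1 h65.2
      W₂_centralizer := commutator_inf_centralizer_eq hc1.2.2.1 hc2.1 h54
      selfNormalizing := isSelfNormalizingCyclic_of hKU.hall hK1 h64.2.1 h68 h70 }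

theorem isNilpotent_of_isMulCommutative {H : Type u} [Group H] (h : IsMulCommutative H) :
    Group.IsNilpotent H := by
  let _ : CommGroup H := { (inferInstance : Group H) with mul_comm := h.is_comm.comm }
  exact CommGroup.isNilpotent

/-- `M'` is of Frobenius type with `(M')_F = M_F` in the case `K ≠ 1`, `U ≠ 1`. -/
theorem typeF_commutator [Finite G] (hG : IsMinSimpleOddOrder G) {M K U : Subgroup G}
    (hM : IsCoatom M) (hKU : IsSigmaDecomposition M K U) (hU1 : U ≠ ⊥)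
    (hFS : fittingHallOf M = sigmaCore M) (hF1 : fittingHallOf M ≠ ⊥)
    (hUc : IsMulCommutative ↥U)
    (h65 : ⁅M, M⁆ = U ⊔ sigmaCore M)
    (h60 : ∃ U₀ : Subgroup G, U₀ ≤ U ∧ Monoid.exponent U₀ = Monoid.exponent U ∧
      ∀ u ∈ U₀, u ∈ sigmaHat M → u = 1) :
    IsOfTypeF ↥⁅M, M⁆ ∧ fittingHallOf ⁅M, M⁆ = fittingHallOf M := by
  set D : Subgroup G := ⁅M, M⁆ with hD
  set S : Subgroup G := sigmaCore M with hS
  have hc2 : IsComplIn S U D := isComplIn_sigmaCore hKU h65
  have hSD : S ≤ D := hc2.1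
  have hUD : U ≤ D := hc2.2.1
  have hDM : D ≤ M := PFEight.commutator_self_le M
  obtain ⟨U₀, hU₀U, hexp, hfpf⟩ := h60
  have hU₀D : U₀ ≤ D := hU₀U.trans hUD
  have hMtop : M ≠ ⊤ := hM.1
  have hsolv : Group.IsSolvable ↥D := by
    apply hG.2.2.2
    intro h
    exact hMtop (top_le_iff.1 (h ▸ hDM))
  have hodd : Odd (Nat.card ↥D) := Odd.of_dvd_nat hG.1 (Subgroup.card_subgroup_dvd_card D)
  have hSn : (S.subgroupOf D).Normal :=
    (Subgroup.normal_subgroupOf_iff_le_normalizer hSD).2 (hDM.trans (le_normalizer_sigmaCore M))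
  have hSnil : Group.IsNilpotent ↥(S.subgroupOf D) := by
    have h1 : Group.IsNilpotent ↥S := hFS ▸ isNilpotent_fittingHallOf M
    exact Group.nilpotent_of_mulEquiv (Subgroup.subgroupOfEquivOfLe hSD).symm
  have hcS : Nat.card ↥(S.subgroupOf D) = Nat.card ↥S :=
    Nat.card_congr (Subgroup.subgroupOfEquivOfLe hSD).toEquiv
  have hcU : Nat.card ↥(U.subgroupOf D) = Nat.card ↥U :=
    Nat.card_congr (Subgroup.subgroupOfEquivOfLe hUD).toEquiv
  have hne_of : ∀ H : Subgroup G, H ≤ D → H ≠ ⊥ → H.subgroupOf D ≠ ⊥ := by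
    intro H hHD hH h
    apply hH
    rw [Subgroup.eq_bot_iff_forall] at h ⊢
    intro a ha
    have := h ⟨a, hHD ha⟩ (Subgroup.mem_subgroupOf.2 ha)
    exact congrArg Subtype.val this
  have hcard : Nat.card ↥(S.subgroupOf D) * Nat.card ↥(U.subgroupOf D) = Nat.card ↥D := by
    rw [hcS, hcU]
    exact (Cfsg.Agent.Lib.Helper23.card_of_isComplIn hc2).symm
  have hcop : (Nat.card ↥(S.subgroupOf D)).Coprime (Nat.card ↥(U.subgroupOf D)) := by
    rw [hcS, hcU]
    have h1 := coprime_card_fittingHallOf_relIndex M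
    rw [hFS] at h1
    -- `|U|` divides `|M : S|`
    have h2 : Nat.card ↥U ∣ S.relIndex M := by
      have h3 : S.relIndex D * D.relIndex M = S.relIndex M :=
        Subgroup.relIndex_mul_relIndex S D M hSD hDM
      have h4 : S.relIndex D = Nat.card ↥U := by
        have h5 := Cfsg.Agent.Lib.Helper23.card_of_isComplIn hc2
        have h6 := Cfsg.Agent.Lib.Helper23.card_mul_relIndex_of_le hSD
        rw [h5] at h6
        exact Nat.eq_of_mul_eq_mul_left Nat.card_pos h6
      rw [← h3, h4]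
      exact Dvd.intro _ rfl
    exact h1.coprime_dvd_right h2
  have hS1 : S.subgroupOf D ≠ ⊥ := hne_of S hSD (hFS ▸ hF1)
  have hU1' : U.subgroupOf D ≠ ⊥ := hne_of U hUD hU1
  have hUc' : ∀ a ∈ U.subgroupOf D, ∀ b ∈ U.subgroupOf D, a * b = b * a := by
    intro a ha b hb
    have := hUc.is_comm.comm (⟨a.1, Subgroup.mem_subgroupOf.1 ha⟩ : ↥U)
      ⟨b.1, Subgroup.mem_subgroupOf.1 hb⟩
    have h2 : (a : G) * (b : G) = (b : G) * (a : G) := congrArg (Subtype.val : ↥U → G) this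
    exact Subtype.ext h2
  have hU₀' : U₀.subgroupOf D ≤ U.subgroupOf D := by
    intro a ha
    exact Subgroup.mem_subgroupOf.2 (hU₀U (Subgroup.mem_subgroupOf.1 ha))
  have hexp' : Monoid.exponent ↥(U₀.subgroupOf D) = Monoid.exponent ↥(U.subgroupOf D) := by
    rw [Monoid.exponent_eq_of_mulEquiv (Subgroup.subgroupOfEquivOfLe hU₀D),
      Monoid.exponent_eq_of_mulEquiv (Subgroup.subgroupOfEquivOfLe hUD)]
    exact hexp
  have hfpf' : ∀ u ∈ U₀.subgroupOf D, u ≠ 1 → ∀ x ∈ S.subgroupOf D, u * x = x * u → x = 1 := by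
    intro u hu hu1 x hx hux
    by_contra hx1
    apply hu1
    have hu0 : (u : G) ∈ U₀ := Subgroup.mem_subgroupOf.1 hu
    have hxS : (x : G) ∈ S := Subgroup.mem_subgroupOf.1 hx
    have hmem : (u : G) ∈ sigmaHat M := by
      refine ⟨hDM u.2, (x : G), hxS, fun h => hx1 (Subtype.ext h), ?_⟩
      exact congrArg Subtype.val hux
    exact Subtype.ext (hfpf _ hu0 hmem)
  obtain ⟨hF, hTF⟩ := fittingHall_eq_and_isOfTypeF (S.subgroupOf D) (U.subgroupOf D)
    (U₀.subgroupOf D) hsolv hodd hSnil hS1 hcard hcop hU1' hUc' hU₀' hexp' hfpf'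
  refine ⟨hTF, ?_⟩
  unfold fittingHallOf at hFS ⊢
  rw [hF, Subgroup.map_subgroupOf_eq_of_le hSD, hFS]

/-- **`K ≠ 1` and `U ≠ 1` give Type II** (all hypotheses are literal conclusions of summary rows). -/
theorem isOfTypeII_of_decomp [Finite G] (hG : IsMinSimpleOddOrder G) {M K U : Subgroup G}
    (hM : IsCoatom M) (hKU : IsSigmaDecomposition M K U) (hK1 : K ≠ ⊥) (hU1 : U ≠ ⊥)
    (hF1 : fittingHallOf M ≠ ⊥)
    (h57 : fittingHallOf M ≠ sigmaCore M → U = ⊥)
    (h56 : ⁅⁅M, M⁆, ⁅M, M⁆⁆ ≤ fittingOf M ∧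
      fittingOf M = (M ⊓ Subgroup.centralizer (fittingHallOf M : Set G)) ⊔ fittingHallOf M ∧
      ((kappa M).Nonempty → fittingOf M ≤ ⁅M, M⁆))
    (h60 : ∃ U₀ : Subgroup G, U₀ ≤ U ∧ Monoid.exponent U₀ = Monoid.exponent U ∧
      ∀ u ∈ U₀, u ∈ sigmaHat M → u = 1)
    (h63 : IsMulCommutative U ∧ ¬ Subgroup.normalizer (U : Set G) ≤ M)
    (h64 : IsCyclic ↥(sigmaCore M ⊓ Subgroup.centralizer (K : Set G)) ∧
      (sigmaCore M ⊓ Subgroup.centralizer (K : Set G)) ≠ ⊥ ∧
      (sigmaCore M ⊓ Subgroup.centralizer (K : Set G)) ≤ fittingHallOf M ∧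
      ¬ IsCyclic (fittingHallOf M))
    (h65 : ⁅M, M⁆ = U ⊔ sigmaCore M ∧
      (sigmaCore M ⊓ Subgroup.centralizer (K : Set G)) ≤ ⁅⁅M, M⁆, ⁅M, M⁆⁆)
    (h54 : ∀ k ∈ K, k ≠ 1 → M ⊓ Subgroup.centralizer ({k} : Set G) =
      K ⊔ (sigmaCore M ⊓ Subgroup.centralizer (K : Set G)))
    (h68 : IsCyclic ↥(K ⊔ (sigmaCore M ⊓ Subgroup.centralizer (K : Set G))))
    (h70 : IsTISubset ((↑(K ⊔ (sigmaCore M ⊓ Subgroup.centralizer (K : Set G))) : Set G) \
        ((K : Set G) ∪ ↑(sigmaCore M ⊓ Subgroup.centralizer (K : Set G)))) ∧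
      Subgroup.normalizer ((↑(K ⊔ (sigmaCore M ⊓ Subgroup.centralizer (K : Set G))) : Set G) \
        ((K : Set G) ∪ ↑(sigmaCore M ⊓ Subgroup.centralizer (K : Set G)))) =
        K ⊔ (sigmaCore M ⊓ Subgroup.centralizer (K : Set G)))
    (h72 : (Nat.card K).Prime ∧ IsTISubset (fittingOf M : Set G) ∧ sigmaCore M ≤ fittingOf M) :
    IsOfTypeII M := by
  have hFS : fittingHallOf M = sigmaCore M := by
    by_contra h
    exact hU1 (h57 h)
  have hP := isTypePWith_of_decomp hKU hK1 hFS (isNilpotent_of_isMulCommutative h63.1)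
    h56 h64 h65 h54 h68 h70
  have hTF := typeF_commutator hG hM hKU hU1 hFS hF1 h63.1 h65.1 h60
  exact ⟨K, U, _, hP, hU1, h72.1, h72.2.1, h63.1, h63.2, hTF.1, hTF.2⟩

end Cfsg.Agent.Lib.Helper26.BGTypes
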