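import Mathlib
import Cfsg.Agent.Lib.Helper26.PFBookA
import Cfsg.Agent.Lib.Helper26.BGTypesB
import Cfsg.Agent.S3745

/-!
# Peterfalvi section 8 in book form, part B: tools for (8.17)

* `card_fittingHallOf_map_conj`: `|(M^c)_F| = |M_F|`.
* `mem_sigma_of_dvd_card_typeCore`, `coprime_card_typeCore`: the primes of `M_s` lie in `σ(M)`; for
  non-conjugate maximal subgroups `S`, `T` the orders of `S_s`, `T_s` are coprime.
* `exists_isComplIn_mem`: an element of order prime to a normal Hall subgroup `N` of a solvable group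
  lies in a complement of `N`.
* `centralizer_le_of_mem_litA`: an element of `A(T)` of order prime to `|T_s|` has its centralizer in
  `T`, and `T` is the only maximal subgroup containing it.
-/

set_option autoImplicit false

namespace Cfsg.Agent.Lib.Helper26.PFBook

open Cfsg Cfsg.Agent.Lib.Helper4.PF Cfsg.Agent.Lib.Helper26.PFEight
open Cfsg.Agent.Lib.Helper26.BGTypes

universe u v

/-! ### `M_F` under isomorphisms -/

theorem fittingHall_set_map {A : Type u} {B : Type v} [Group A] [Group B] (f : A ≃* B)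
    {N : Subgroup A}
    (hN : N.Normal ∧ Group.IsNilpotent N ∧ (Nat.card N).Coprime N.index) :
    (N.map f.toMonoidHom).Normal ∧ Group.IsNilpotent ↥(N.map f.toMonoidHom) ∧
      (Nat.card ↥(N.map f.toMonoidHom)).Coprime (N.map f.toMonoidHom).index := by
  obtain ⟨h1, h2, h3⟩ := hN
  refine ⟨h1.map f.toMonoidHom f.surjective, ?_, ?_⟩
  · exact (Group.isNilpotent_congr
      (N.equivMapOfInjective f.toMonoidHom f.injective)).mp h2
  · rw [Subgroup.card_map_of_injective f.injective]
    have : (N.map f.toMonoidHom).index = N.index := Subgroup.index_map_equiv N f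
    rw [this]
    exact h3

theorem fittingHall_map_le {A : Type u} {B : Type v} [Group A] [Group B] (f : A ≃* B) :
    (fittingHall A).map f.toMonoidHom ≤ fittingHall B := by
  rw [Subgroup.map_le_iff_le_comap]
  unfold fittingHall
  apply sSup_le
  intro N hN
  rw [← Subgroup.map_le_iff_le_comap]
  exact le_sSup (fittingHall_set_map f hN)

theorem card_fittingHall_le {A : Type u} {B : Type v} [Group A] [Group B] [Finite B]
    (f : A ≃* B) : Nat.card (fittingHall A) ≤ Nat.card (fittingHall B) := by
  rw [← Subgroup.card_map_of_injective (K := fittingHall A) (f := f.toMonoidHom) f.injective]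
  exact Subgroup.card_le_of_le (fittingHall_map_le f)

theorem card_fittingHall_congr {A : Type u} {B : Type v} [Group A] [Group B] [Finite A] [Finite B]
    (f : A ≃* B) : Nat.card (fittingHall A) = Nat.card (fittingHall B) :=
  le_antisymm (card_fittingHall_le f) (card_fittingHall_le f.symm)

variable {G : Type u} [Group G]

/-- `|(M^c)_F| = |M_F|`. -/
theorem card_fittingHallOf_map_conj [Finite G] (M : Subgroup G) (c : G) :
    Nat.card (fittingHallOf (conjSub c M)) = Nat.card (fittingHallOf M) := by
  rw [card_fittingHallOf, card_fittingHallOf]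
  exact (card_fittingHall_congr
    (M.equivMapOfInjective (MulAut.conj c).toMonoidHom (MulAut.conj c).injective)).symm

/-! ### Complements from cardinalities; a complement through a given element -/

theorem card_subgroupOf_of_le {N X : Subgroup G} (h : N ≤ X) :
    Nat.card ↥(N.subgroupOf X) = Nat.card ↥N :=
  Nat.card_congr (Subgroup.subgroupOfEquivOfLe h).toEquiv

theorem isComplIn_of_card [Finite G] {N H X : Subgroup G} (hNX : N ≤ X) (hHX : H ≤ X)
    (hcop : (Nat.card N).Coprime (Nat.card H))
    (hcard : Nat.card N * Nat.card H = Nat.card X) : IsComplIn N H X := by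
  refine ⟨hNX, hHX, (Subgroup.disjoint_of_coprime_natCard hcop).eq_bot, ?_⟩
  have hc : Subgroup.IsComplement' (N.subgroupOf X) (H.subgroupOf X) := by
    apply Subgroup.isComplement'_of_coprime
    · rw [card_subgroupOf_of_le hNX, card_subgroupOf_of_le hHX, hcard]
    · rw [card_subgroupOf_of_le hNX, card_subgroupOf_of_le hHX]
      exact hcop
  intro m hm
  obtain ⟨⟨n, h⟩, hnh⟩ := hc.2 ⟨m, hm⟩
  refine ⟨(n : ↥X), Subgroup.mem_subgroupOf.1 n.2, (h : ↥X), Subgroup.mem_subgroupOf.1 h.2, ?_⟩
  have := congrArg (Subtype.val : ↥X → G) hnh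
  exact this.symm

/-- In a solvable subgroup `X` with a Hall subgroup `N`, every element of `X` of order prime to `|N|`
lies in a complement of `N` in `X`. -/
theorem exists_isComplIn_mem [Finite G] {N X : Subgroup G} (hNX : N ≤ X)
    (hsolv : Group.IsSolvable ↥X) (hHall : (Nat.card N).Coprime (N.relIndex X)) {y : G}
    (hy : y ∈ X) (hcop : (orderOf y).Coprime (Nat.card N)) :
    ∃ H : Subgroup G, IsComplIn N H X ∧ y ∈ H := by
  let π : Set ℕ := {q | q.Prime ∧ ¬ q ∣ Nat.card N}
  have h := Cfsg.Agent.S3745.result (⊥ : Subgroup G) X bot_le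
    (by rw [Subgroup.card_bot]; exact Nat.coprime_one_left _) hsolv π
  have hzX : Subgroup.zpowers y ≤ X := by
    rw [Subgroup.zpowers_le]; exact hy
  obtain ⟨H, hH, -, hyH⟩ := h.2.2 (Subgroup.zpowers y) hzX bot_le (by
    intro p hp hdvd
    refine ⟨hp, fun hpN => ?_⟩
    rw [Nat.card_zpowers] at hdvd
    exact hp.one_lt.ne' (Nat.eq_one_of_dvd_coprimes hcop hdvd hpN))
  refine ⟨H, ?_, hyH (Subgroup.mem_zpowers y)⟩
  obtain ⟨hHX, hHπ, hHidx⟩ := hH
  have hcopNH : (Nat.card N).Coprime (Nat.card H) := by
    apply coprime_of_forall_prime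
    intro p hp hpN hpH
    exact (hHπ p hp hpH).2 hpN
  have h1 : Nat.card ↥H * H.relIndex X = Nat.card ↥X :=
    Cfsg.Agent.Lib.Helper23.card_mul_relIndex_of_le hHX
  have h2 : Nat.card ↥N * N.relIndex X = Nat.card ↥X :=
    Cfsg.Agent.Lib.Helper23.card_mul_relIndex_of_le hNX
  have h3 : Nat.card ↥N ∣ H.relIndex X := by
    have : Nat.card ↥N ∣ Nat.card ↥H * H.relIndex X := by
      rw [h1, ← h2]; exact Dvd.intro _ rfl
    exact hcopNH.dvd_of_dvd_mul_left this
  have h4 : H.relIndex X ∣ Nat.card ↥N := by
    have h5 : (H.relIndex X).Coprime (N.relIndex X) := by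
      apply coprime_of_forall_prime
      intro p hp hpH hpN
      have hpN' : p ∣ Nat.card ↥N := by
        by_contra hcon
        exact hHidx p hp ⟨hp, hcon⟩ hpH
      exact hp.one_lt.ne' (Nat.eq_one_of_dvd_coprimes hHall hpN' hpN)
    have : H.relIndex X ∣ Nat.card ↥N * N.relIndex X := by
      rw [h2, ← h1]; exact Dvd.intro_left _ rfl
    exact h5.dvd_of_dvd_mul_right this
  have h6 : H.relIndex X = Nat.card ↥N := Nat.dvd_antisymm h4 h3
  apply isComplIn_of_card hNX hHX hcopNH
  rw [← h1, h6, mul_comm]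

/-! ### The primes of `M_s` -/

/-- Every prime divisor of `|M_s|` lies in `σ(M)` (from the summary row on Sylow normalizers). -/
theorem mem_sigma_of_dvd_card_typeCore [Finite G] (h89 : Stmt1389 G) {M : Subgroup G}
    (hM : IsCoatom M) {p : ℕ} (hp : p.Prime) (hdvd : p ∣ Nat.card (typeCore M)) :
    p ∈ sigma M := by
  haveI : Fact p.Prime := ⟨hp⟩
  have hCM : typeCore M ≤ M := typeCore_le M
  obtain ⟨hN, -, hHall⟩ := h89 M hM
  let P : Sylow p ↥(typeCore M) := default
  have hPne : (P : Subgroup ↥(typeCore M)) ≠ ⊥ := P.ne_bot_of_dvd_card hdvd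
  have hNP := hN p hp P hPne
  set Q₀ : Subgroup G := (P : Subgroup ↥(typeCore M)).map (typeCore M).subtype with hQ₀
  have hQ₀M : Q₀ ≤ M := (Subgroup.map_subtype_le _).trans hCM
  have hQ₀p : IsPGroup p ↥Q₀ := P.2.map (typeCore M).subtype
  have hidx : ¬ p ∣ Q₀.index := by
    have h1 : Q₀.index = (P : Subgroup ↥(typeCore M)).index * (typeCore M).index :=
      Subgroup.index_map_subtype _
    rw [h1]
    intro hd
    rcases (Nat.Prime.dvd_mul hp).1 hd with hd | hd
    · exact P.not_dvd_index hd
    · exact hp.one_lt.ne' (Nat.eq_one_of_dvd_coprimes hHall hdvd hd)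
  have hQ₁p : IsPGroup p ↥(Q₀.subgroupOf M) := hQ₀p.comap_subtype
  have hQ₁idx : ¬ p ∣ (Q₀.subgroupOf M).index := by
    intro hd
    exact hidx (hd.trans (Subgroup.relIndex_dvd_index_of_le hQ₀M))
  refine ⟨hp, hdvd.trans (Subgroup.card_dvd_of_le hCM), hQ₁p.toSylow hQ₁idx, ?_⟩
  rw [IsPGroup.toSylow_coe, Subgroup.map_subgroupOf_eq_of_le hQ₀M]
  exact hNP

/-- For non-conjugate maximal subgroups `S`, `T` the orders of `S_s` and `T_s` are coprime. -/
theorem coprime_card_typeCore [Finite G] (h89 : Stmt1389 G) (h78 : Stmt1378 G) {S T : Subgroup G}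
    (hS : IsCoatom S) (hT : IsCoatom T) (hnc : ∀ g : G, conjSub g T ≠ S) :
    (Nat.card (typeCore S)).Coprime (Nat.card (typeCore T)) := by
  apply coprime_of_forall_prime
  intro p hp hpS hpT
  have h1 := mem_sigma_of_dvd_card_typeCore h89 hS hp hpS
  have h2 := mem_sigma_of_dvd_card_typeCore h89 hT hp hpT
  obtain ⟨g, hg⟩ := h78.2 T S hT hS ⟨p, h2, h1⟩
  exact hnc g hg.symm

/-! ### Elements of `A(T)` of order prime to `|T_s|` -/

theorem isSolvable_of_isCoatom [Finite G] (hG : IsMinSimpleOddOrder G) {X M : Subgroup G}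
    (hM : IsCoatom M) (hXM : X ≤ M) : Group.IsSolvable ↥X := by
  apply hG.2.2.2
  intro h
  exact hM.1 (top_le_iff.1 (h ▸ hXM))

theorem mem_centralizer_singleton_of_comm {x y : G} (h : y * x = x * y) :
    x ∈ Subgroup.centralizer ({y} : Set G) := by
  rw [Subgroup.mem_centralizer_iff]
  intro z hz
  rw [Set.mem_singleton_iff] at hz
  subst hz
  exact h

/-- **Key lemma for (8.17).** An element `y ∈ A(T)` whose order is prime to `|T_s|`: then `T` is of
Type I or II, `T_s = T_F`, `C_G(y) ≤ T`, and `T` is the only maximal subgroup containing `C_G(y)`. -/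
theorem centralizer_le_of_mem_litA [Finite G] (hG : IsMinSimpleOddOrder G) (h : BookBGData G)
    {T : Subgroup G} (hT : IsCoatom T) {y : G} (hy : y ∈ litA T)
    (hcop : (orderOf y).Coprime (Nat.card (typeCore T))) :
    typeCore T = fittingHallOf T ∧ (LitTypeI T ∨ IsOfTypeII T) ∧
      Subgroup.centralizer ({y} : Set G) ≤ T ∧
      ∀ L : Subgroup G, IsCoatom L → Subgroup.centralizer ({y} : Set G) ≤ L → L = T := by
  have hy1 : y ≠ 1 := fun h1 => one_not_mem_litA T (h1 ▸ hy)
  have hynot : y ∉ typeCore T := by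
    intro hyC
    have h1 : orderOf y ∣ Nat.card (typeCore T) := Subgroup.orderOf_dvd_natCard _ hyC
    have h2 : orderOf y = 1 := Nat.eq_one_of_dvd_coprimes hcop dvd_rfl h1
    exact hy1 (orderOf_eq_one_iff.1 h2)
  by_cases h34 : IsOfTypeIII T ∨ IsOfTypeIV T
  · exfalso
    have hc : typeCore T = ⁅T, T⁆ := by unfold typeCore; rw [if_pos h34]
    have hP : IsOfTypeP T := by
      rcases h34 with ⟨W₁, U, W₂, hP, -⟩ | ⟨W₁, U, W₂, hP, -⟩
      · exact ⟨W₁, U, W₂, hP⟩
      · exact ⟨W₁, U, W₂, hP⟩
    unfold litA at hy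
    rw [if_pos hP] at hy
    exact hynot (hc ▸ hy.1)
  · have hc : typeCore T = fittingHallOf T := by unfold typeCore; rw [if_neg h34]
    rw [hc] at hcop hynot
    have hcompl := h.compl T hT
    rcases h.types T hT with hI | hII | hIII | hIV | hV
    · -- Type I
      have hnP : ¬ IsOfTypeP T := not_isOfTypeP_of_typeF hI.1
      unfold litA at hy
      rw [if_neg hnP] at hy
      obtain ⟨hyT, -, x, hx, hx1, hyx⟩ := hy
      obtain ⟨H, hH, hyH⟩ := exists_isComplIn_mem (fittingHallOf_le T)
        (isSolvable_of_isCoatom hG hT le_rfl) (coprime_card_fittingHallOf_relIndex T) hyT hcop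
      have h2 := (hcompl H (Or.inl ⟨hI, hH⟩)).2.1 {y}
        (by
          intro z hz
          rw [Set.mem_singleton_iff] at hz
          subst hz
          exact ⟨hyH, by simpa using hy1⟩)
        (Set.singleton_nonempty y)
        (by
          intro hbot
          have : x ∈ fittingHallOf T ⊓ Subgroup.centralizer ({y} : Set G) :=
            ⟨hx, mem_centralizer_singleton_of_comm hyx⟩
          rw [hbot, Subgroup.mem_bot] at this
          exact hx1 this)
      exact ⟨hc, Or.inl hI, h2.1, h2.2⟩
    · -- Type II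
      have hP : IsOfTypeP T := isOfTypeP_of_typeIItoV (Or.inl hII)
      unfold litA at hy
      rw [if_pos hP, hc] at hy
      obtain ⟨hyT, -, x, hx, hx1, hyx⟩ := hy
      obtain ⟨W₁, U, W₂, hPW, -⟩ := hII
      have hFD : fittingHallOf T ≤ ⁅T, T⁆ := hPW.U_compl.1
      have hHall : (Nat.card ↥(fittingHallOf T)).Coprime ((fittingHallOf T).relIndex ⁅T, T⁆) := by
        have h1 := coprime_card_fittingHallOf_relIndex T
        have h2 : (fittingHallOf T).relIndex ⁅T, T⁆ * (⁅T, T⁆ : Subgroup G).relIndex T =
            (fittingHallOf T).relIndex T :=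
          Subgroup.relIndex_mul_relIndex _ _ _ hFD (commutator_self_le T)
        exact h1.coprime_dvd_right (Dvd.intro _ h2)
      obtain ⟨H, hH, hyH⟩ := exists_isComplIn_mem hFD
        (isSolvable_of_isCoatom hG hT (commutator_self_le T)) hHall hyT hcop
      have hII' : IsOfTypeII T := (h.types T hT).elim
        (fun hI => absurd hP (not_isOfTypeP_of_typeF hI.1)) (fun _ => by
          rcases h.types T hT with hI | hII | hIII | hIV | hV
          · exact absurd hP (not_isOfTypeP_of_typeF hI.1)
          · exact hII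
          · exact absurd (Or.inl hIII) h34
          · exact absurd (Or.inr hIV) h34
          · exfalso
            obtain ⟨W₁', U', W₂', hP', hU', -⟩ := hV
            apply hynot
            obtain ⟨a, ha, b, hb, hab⟩ := hP'.U_compl.2.2.2 y hyT
            rw [hU', Subgroup.mem_bot] at hb
            rw [hab, hb, mul_one]
            exact ha)
      have h2 := (hcompl H (Or.inr ⟨hII', hH⟩)).2.1 {y}
        (by
          intro z hz
          rw [Set.mem_singleton_iff] at hz
          subst hz
          exact ⟨hyH, by simpa using hy1⟩)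
        (Set.singleton_nonempty y)
        (by
          intro hbot
          have : x ∈ fittingHallOf T ⊓ Subgroup.centralizer ({y} : Set G) :=
            ⟨hx, mem_centralizer_singleton_of_comm hyx⟩
          rw [hbot, Subgroup.mem_bot] at this
          exact hx1 this)
      exact ⟨hc, Or.inr hII', h2.1, h2.2⟩
    · exact absurd (Or.inl hIII) h34
    · exact absurd (Or.inr hIV) h34
    · -- Type V: `M' = M_F`
      exfalso
      have hP : IsOfTypeP T := isOfTypeP_of_typeIItoV (Or.inr (Or.inr (Or.inr hV)))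
      unfold litA at hy
      rw [if_pos hP] at hy
      obtain ⟨W₁', U', W₂', hP', hU', -⟩ := hV
      apply hynot
      obtain ⟨a, ha, b, hb, hab⟩ := hP'.U_compl.2.2.2 y hy.1
      rw [hU', Subgroup.mem_bot] at hb
      rw [hab, hb, mul_one]
      exact ha

end Cfsg.Agent.Lib.Helper26.PFBook
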