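import Mathlib
import Cfsg.Agent.Lib.Helper26.PFBookA

/-!
# The frozen rows on the Dade hypothesis (Peterfalvi section 8) from the book-form input `BookBGData`

The frozen sets `typeA M`, `typeA0 M` are always contained in the book sets `litA M`, `litA0 M`
(with equality when `M` has type-P data or is of frozen Type I), and the tame-embedding input
restricts to subsets.
-/

set_option autoImplicit false

namespace Cfsg.Agent.Lib.Helper26.PFBook

open Cfsg Cfsg.Agent.Lib.Helper4.PF Cfsg.Agent.Lib.Helper26.PFEight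

universe u

variable {G : Type u} [Group G]

theorem tameInput_mono {M : Subgroup G} {X Y : Set G} (h : TameInput M X) (hYX : Y ⊆ X) :
    TameInput M Y where
  fusion := fun x hx g hg => h.fusion x (hYX hx) g (hYX hg)
  uniq := fun x hx hC => h.uniq x (hYX hx) hC
  norm := fun x hx hC L hL hCL => h.norm x (hYX hx) hC L hL hCL
  compl := fun x hx hC L hL hCL => h.compl x (hYX hx) hC L hL hCL
  coprime := fun x hx hC L hL hCL y hy => h.coprime x (hYX hx) hC L hL hCL y (hYX hy)

theorem typeA_eq_litA_of_typeP [Finite G] {M : Subgroup G} (hP : IsOfTypeP M) :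
    typeA M = litA M := by
  obtain ⟨W₁, U, W₂, hP'⟩ := hP
  unfold typeA litA
  rw [if_neg (not_typeI_of_typeP hP'), if_pos ⟨W₁, U, W₂, hP'⟩]

theorem typeA0_eq_litA0_of_typeP [Finite G] {M : Subgroup G} (hP : IsOfTypeP M) :
    typeA0 M = litA0 M := by
  have hnI : ¬ IsOfTypeI M := by
    obtain ⟨W₁, U, W₂, hP'⟩ := hP
    exact not_typeI_of_typeP hP'
  unfold typeA0 litA0
  rw [typeA_eq_litA_of_typeP hP]
  ext v
  constructor
  · rintro (hv | ⟨-, hv⟩)
    · exact Or.inl hv
    · exact Or.inr hv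
  · rintro (hv | hv)
    · exact Or.inl hv
    · exact Or.inr ⟨hnI, hv⟩

theorem typeA_subset_litA [Finite G] (M : Subgroup G) : typeA M ⊆ litA M := by
  by_cases hP : IsOfTypeP M
  · rw [typeA_eq_litA_of_typeP hP]
  · have hTC : typeCore M = fittingHallOf M := by
      unfold typeCore
      rw [if_neg]
      rintro (⟨W₁, U, W₂, hP', -⟩ | ⟨W₁, U, W₂, hP', -⟩)
      · exact hP ⟨W₁, U, W₂, hP'⟩
      · exact hP ⟨W₁, U, W₂, hP'⟩
    unfold typeA litA
    rw [if_neg hP]
    by_cases hI : IsOfTypeI M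
    · rw [if_pos hI]
    · rw [if_neg hI, hTC]
      rintro a ⟨ha, ha1, hx⟩
      exact ⟨commutator_self_le M ha, ha1, hx⟩

theorem typeA0_subset_litA0 [Finite G] (M : Subgroup G) : typeA0 M ⊆ litA0 M := by
  unfold typeA0 litA0
  rintro v (hv | ⟨-, hv⟩)
  · exact Or.inl (typeA_subset_litA M hv)
  · exact Or.inr hv

variable [Finite G]

/-- the statement of the field `tame` of `BookBGData` (B&G Theorem II in book form) -/
def BookTame (G : Type u) [Group G] [Finite G] : Prop :=
  ∀ (M : Subgroup G), IsCoatom M → ∀ X : Set G, (X = litA M ∨ X = litA0 M) →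
      (∀ x ∈ X, ∀ g : G, g * x * g⁻¹ ∈ X → ∃ m ∈ M, m * x * m⁻¹ = g * x * g⁻¹) ∧
      (∀ x ∈ X, ¬ Subgroup.centralizer ({x} : Set G) ≤ M →
        x ∈ typeA1 M ∧ ∃! L : Subgroup G, IsCoatom L ∧ Subgroup.centralizer ({x} : Set G) ≤ L) ∧
      ∀ x ∈ X, ¬ Subgroup.centralizer ({x} : Set G) ≤ M → ∀ L : Subgroup G, IsCoatom L →
        Subgroup.centralizer ({x} : Set G) ≤ L →
        IsComplIn (fittingHallOf L) (M ⊓ L) L ∧
        Subgroup.centralizer ({x} : Set G) ≤ Subgroup.normalizer
          ((fittingHallOf L ⊓ Subgroup.centralizer ({x} : Set G) : Subgroup G) : Set G) ∧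
        IsComplIn (fittingHallOf L ⊓ Subgroup.centralizer ({x} : Set G))
          (M ⊓ Subgroup.centralizer ({x} : Set G)) (Subgroup.centralizer ({x} : Set G)) ∧
        (∀ y ∈ X, (Nat.card (fittingHallOf L)).Coprime
          (Nat.card ↥(M ⊓ Subgroup.centralizer ({y} : Set G)))) ∧
        (x ∈ litA L ∧ x ∉ typeA1 L) ∧
        (LitTypeI L ∨ IsOfTypeII L) ∧
        (IsOfTypeII L → IsFrobWithFittingHall M)

theorem bookTame_of (h : BookBGData G) : BookTame G := h.tame

theorem tameInput_of_tame (ht : BookTame G) {M : Subgroup G} (hM : IsCoatom M)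
    {X : Set G} (hX : X = litA M ∨ X = litA0 M) : TameInput M X where
  fusion := (ht M hM X hX).1
  uniq := fun x hx hC => ((ht M hM X hX).2.1 x hx hC).2
  norm := fun x hx hC L hL hCL => ((ht M hM X hX).2.2 x hx hC L hL hCL).2.1
  compl := fun x hx hC L hL hCL => ((ht M hM X hX).2.2 x hx hC L hL hCL).2.2.1
  coprime := fun x hx hC L hL hCL => ((ht M hM X hX).2.2 x hx hC L hL hCL).2.2.2.1

/-- the Type II row for the book sets, from the tame-embedding theorem and the row on `M_F` alone -/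
theorem typeII_tame (hG : IsMinSimpleOddOrder G) (ht : BookTame G) (h55 : Stmt1355 G) (M : Subgroup G)
    (hM : IsCoatom M) (hII : IsOfTypeII M) :
    (IsTISubset (litA0 M) ∧ Subgroup.normalizer (litA0 M) = M) ∧
      (IsTISubset (litA M) ∧ Subgroup.normalizer (litA M) = M) ∧
      (IsTISubset (typeA1 M) ∧ Subgroup.normalizer (typeA1 M) = M) := by
  have hsimple : IsSimpleGroup G := hG.2.1
  have hMtop : M ≠ ⊤ := hM.1
  have hsolv : Group.IsSolvable ↥⁅M, M⁆ := by
    apply hG.2.2.2
    intro h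
    exact hMtop (top_le_iff.1 (h ▸ commutator_self_le M))
  have hcore : typeCore M = fittingHallOf M := typeCore_eq_of_typeII hsolv hII
  have hT := ht M hM (litA M) (Or.inl rfl)
  have hT0 := ht M hM (litA0 M) (Or.inr rfl)
  obtain ⟨W₁, U, W₂, hP, -, -, hTI, -, -, -, -⟩ := hII
  have hF2 : fittingHallOf M ≤ ⁅M, M⁆ := hP.U_compl.1
  have hF1 : fittingHallOf M ≠ ⊥ := (h55 M hM).1
  have hFF : fittingHallOf M ≤ fittingOf M := by
    rw [← hP.fitting_eq]; exact le_sup_left
  have h10 : typeA1 M ⊆ litA M := typeA1_subset_litA M hF2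
  obtain ⟨a, haF, ha1⟩ : ∃ a ∈ fittingHallOf M, a ≠ 1 := by
    by_contra hcon
    exact hF1 ((Subgroup.eq_bot_iff_forall _).2
      (fun x hx => by_contra (fun h => hcon ⟨x, hx, h⟩)))
  have haA1 : a ∈ typeA1 M := ⟨fittingHallOf_le_typeCore hF2 haF, by simpa using ha1⟩
  have hcentA1 : ∀ x ∈ typeA1 M, Subgroup.centralizer ({x} : Set G) ≤ M := by
    intro x hx
    have hxF : x ∈ fittingHallOf M := hcore ▸ hx.1
    have hx1 : x ≠ 1 := fun h => hx.2 (by simpa using h)
    exact centralizer_le_of_TI hM hTI (hFF hxF) hx1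
  have hNA1 : Subgroup.normalizer (typeA1 M) = M :=
    normalizer_eq_of_isCoatom hM (typeA1_subset M) ⟨a, haA1, ha1⟩
      (fun m hm a ha => conj_mem_typeA1 M hm ha)
  have hNA : Subgroup.normalizer (litA M) = M :=
    normalizer_eq_of_isCoatom hM (litA_subset M) ⟨a, h10 haA1, ha1⟩
      (fun m hm a ha => conj_mem_litA M hm ha)
  have hNA0 : Subgroup.normalizer (litA0 M) = M :=
    normalizer_eq_of_isCoatom hM (litA0_subset M) ⟨a, litA_subset_litA0 M (h10 haA1), ha1⟩
      (fun m hm a ha => conj_mem_litA0 M hm ha)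
  have hcentA : ∀ x ∈ litA M, Subgroup.centralizer ({x} : Set G) ≤ M := by
    intro x hx
    by_contra hC
    exact hC (hcentA1 x (hT.2.1 x hx hC).1)
  have hcentA0 : ∀ x ∈ litA0 M, Subgroup.centralizer ({x} : Set G) ≤ M := by
    intro x hx
    by_contra hC
    exact hC (hcentA1 x (hT0.2.1 x hx hC).1)
  have hTIA : IsTISubset (litA M) := isTISubset_of_fusion hNA hT.1 hcentA
  have hTIA0 : IsTISubset (litA0 M) := isTISubset_of_fusion hNA0 hT0.1 hcentA0
  exact ⟨⟨hTIA0, hNA0⟩, ⟨hTIA, hNA⟩,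
    ⟨IsTISubset.mono_of_normalizer_eq hTIA h10 (hNA1.trans hNA.symm), hNA1⟩⟩


/-- **S1537 from B&G Theorem II in book form and the row on `M_F`.** -/
theorem s1537_of_tame (hG : IsMinSimpleOddOrder G) (ht : BookTame G) (h55 : Stmt1355 G) :
    Stmt1537 G := by
  intro M hM A hA
  exact dade_main hG M hM
    (tameInput_mono (tameInput_of_tame ht hM (Or.inl rfl)) (typeA_subset_litA M))
    (tameInput_mono (tameInput_of_tame ht hM (Or.inr rfl)) (typeA0_subset_litA0 M))
    (h55 M hM).1 ((h55 M hM).2.1.trans (h55 M hM).2.2.1) A hA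

/-- **S1538 from B&G Theorem II in book form and the row on `M_F`.** -/
theorem s1538_of_tame (hG : IsMinSimpleOddOrder G) (ht : BookTame G) (h55 : Stmt1355 G) :
    Stmt1538 G := by
  intro M hM hII
  have hP : IsOfTypeP M := by
    obtain ⟨W₁, U, W₂, hP', -⟩ := hII
    exact ⟨W₁, U, W₂, hP'⟩
  rw [typeA_eq_litA_of_typeP hP, typeA0_eq_litA0_of_typeP hP]
  exact typeII_tame hG ht h55 M hM hII


/-- **S1537 (the Dade hypothesis for the frozen sets) from the book-form input.** -/
theorem s1537_of_book (hG : IsMinSimpleOddOrder G) (h : BookBGData G) : Stmt1537 G := by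
  intro M hM A hA
  exact dade_main hG M hM
    (tameInput_mono (tameInput_of_book h hM (Or.inl rfl)) (typeA_subset_litA M))
    (tameInput_mono (tameInput_of_book h hM (Or.inr rfl)) (typeA0_subset_litA0 M))
    (h.core M hM).1 ((h.core M hM).2.1.trans (h.core M hM).2.2.1) A hA

/-- **S1538 (Type II: `A₀(M)`, `A(M)`, `A₁(M)` are TI with normalizer `M`) from the book-form
input.** -/
theorem s1538_of_book (hG : IsMinSimpleOddOrder G) (h : BookBGData G) : Stmt1538 G := by
  intro M hM hII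
  have hP : IsOfTypeP M := by
    obtain ⟨W₁, U, W₂, hP', -⟩ := hII
    exact ⟨W₁, U, W₂, hP'⟩
  rw [typeA_eq_litA_of_typeP hP, typeA0_eq_litA0_of_typeP hP]
  exact typeII_book hG h M hM hII

end Cfsg.Agent.Lib.Helper26.PFBook
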