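import Mathlib
import Cfsg.Agent.Lib.Helper26.PFBookB

/-!
# Peterfalvi section 8 in book form, part C: (8.17)(a),(c) and `BookPF8Data` from `BookBGData`
-/

set_option autoImplicit false

namespace Cfsg.Agent.Lib.Helper26.PFBook

open Cfsg Cfsg.Agent.Lib.Helper4.PF Cfsg.Agent.Lib.Helper26.PFEight
open Cfsg.Agent.Lib.Helper26.BGTypes

universe u

variable {G : Type u} [Group G]

/-! ### Conjugate subgroups, centralizers, orders -/

theorem mem_conjSub {c x : G} {M : Subgroup G} : x ∈ conjSub c M ↔ c⁻¹ * x * c ∈ M := by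
  constructor
  · rintro ⟨y, hy, rfl⟩
    have : c⁻¹ * ((MulAut.conj c).toMonoidHom y) * c = y := by
      simp [MulAut.conj_apply, mul_assoc]
    rw [this]; exact hy
  · intro h
    refine ⟨c⁻¹ * x * c, h, ?_⟩
    simp [MulAut.conj_apply, mul_assoc]

theorem conjSub_one (M : Subgroup G) : conjSub 1 M = M := by
  ext x
  rw [mem_conjSub]
  simp

theorem conjSub_conjSub_inv (w : G) (L : Subgroup G) : conjSub w (conjSub w⁻¹ L) = L := by
  ext x
  rw [mem_conjSub, mem_conjSub]
  have e : w⁻¹⁻¹ * (w⁻¹ * x * w) * w⁻¹ = x := by group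
  rw [e]

theorem conjSub_inv_conjSub (w : G) (L : Subgroup G) : conjSub w⁻¹ (conjSub w L) = L := by
  have := conjSub_conjSub_inv w⁻¹ L
  rwa [inv_inv] at this

theorem isCoatom_conjSub {M : Subgroup G} (hM : IsCoatom M) (c : G) : IsCoatom (conjSub c M) := by
  show IsCoatom ((MulAut.conj c).mapSubgroup M)
  exact ((MulAut.conj c).mapSubgroup.isCoatom_iff M).2 hM

theorem centralizer_conj_le {y w : G} {T : Subgroup G}
    (h : Subgroup.centralizer ({y} : Set G) ≤ T) :
    Subgroup.centralizer ({w * y * w⁻¹} : Set G) ≤ conjSub w T := by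
  intro g hg
  rw [mem_conjSub]
  apply h
  rw [Subgroup.mem_centralizer_iff] at hg ⊢
  intro z hz
  rw [Set.mem_singleton_iff] at hz
  subst hz
  have := hg (w * z * w⁻¹) (Set.mem_singleton _)
  have e1 : z * (w⁻¹ * g * w) = w⁻¹ * ((w * z * w⁻¹) * g) * w := by group
  have e2 : w⁻¹ * g * w * z = w⁻¹ * (g * (w * z * w⁻¹)) * w := by group
  rw [e1, e2, this]

theorem centralizer_le_conjSub_inv {y w : G} {S : Subgroup G}
    (h : Subgroup.centralizer ({w * y * w⁻¹} : Set G) ≤ S) :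
    Subgroup.centralizer ({y} : Set G) ≤ conjSub w⁻¹ S := by
  have := centralizer_conj_le (w := w⁻¹) h
  have e : w⁻¹ * (w * y * w⁻¹) * w⁻¹⁻¹ = y := by group
  rwa [e] at this

theorem orderOf_conj' (w x : G) : orderOf (w * x * w⁻¹) = orderOf x := by
  rw [← MulAut.conj_apply]
  exact MulEquiv.orderOf_eq _ _

/-- the part of a product of commuting elements of coprime orders -/
theorem exists_pow_eq_left [Finite G] {a r : G} (hcomm : a * r = r * a)
    (hcop : (orderOf a).Coprime (orderOf r)) (ha : a ≠ 1) :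
    ∃ m : ℕ, (a * r) ^ m = a ∧ orderOf r ∣ m := by
  have h1 : 1 < orderOf a := by
    have hpos : 0 < orderOf a := orderOf_pos a
    have hne : orderOf a ≠ 1 := fun h => ha (orderOf_eq_one_iff.1 h)
    omega
  obtain ⟨m₀, -, hm₀⟩ := Nat.exists_mul_mod_eq_one_of_coprime hcop.symm h1
  refine ⟨orderOf r * m₀, ?_, Dvd.intro _ rfl⟩
  have hc : Commute a r := hcomm
  rw [hc.mul_pow]
  have e1 : a ^ (orderOf r * m₀) = a := by
    rw [← pow_mod_orderOf, hm₀, pow_one]
  have e2 : r ^ (orderOf r * m₀) = 1 := by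
    rw [pow_mul, pow_orderOf_eq_one, one_pow]
  rw [e1, e2, mul_one]

/-! ### The function `R` and the tame embedding -/

theorem supportR_data [Finite G] (h : BookBGData G) {M : Subgroup G} (hM : IsCoatom M) {a r : G}
    (ha : a ∈ litA M) (hr : r ∈ supportR M a) (hr1 : r ≠ 1) :
    a ∈ typeA1 M ∧ ¬ Subgroup.centralizer ({a} : Set G) ≤ M ∧
      ∃ L : Subgroup G, IsCoatom L ∧ Subgroup.centralizer ({a} : Set G) ≤ L ∧
        (∀ L' : Subgroup G, IsCoatom L' → Subgroup.centralizer ({a} : Set G) ≤ L' → L' = L) ∧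
        r ∈ fittingHallOf L ∧
        (∀ y ∈ litA M, (Nat.card (fittingHallOf L)).Coprime
          (Nat.card ↥(M ⊓ Subgroup.centralizer ({y} : Set G)))) ∧
        (a ∈ litA L ∧ a ∉ typeA1 L) ∧ (LitTypeI L ∨ IsOfTypeII L) := by
  have hC : ¬ Subgroup.centralizer ({a} : Set G) ≤ M := by
    intro hC
    rw [supportR_eq_bot_of_le M hC, Subgroup.mem_bot] at hr
    exact hr1 hr
  have hT := h.tame M hM (litA M) (Or.inl rfl)
  have h21 := hT.2.1 a ha hC
  obtain ⟨L, ⟨hL, hCL⟩, hLu⟩ := h21.2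
  have hdata := hT.2.2 a ha hC L hL hCL
  rw [supportR_eq_of_unique M hC h21.2 hL hCL] at hr
  exact ⟨h21.1, hC, L, hL, hCL, fun L' hL' hCL' => hLu L' ⟨hL', hCL'⟩, hr.1,
    hdata.2.2.2.1, hdata.2.2.2.2.1, hdata.2.2.2.2.2.1⟩

theorem typeCore_eq_of_I_or_II [Finite G] (hG : IsMinSimpleOddOrder G) {L : Subgroup G}
    (hL : IsCoatom L) (h : LitTypeI L ∨ IsOfTypeII L) : typeCore L = fittingHallOf L := by
  rcases h with h | h
  · exact typeCore_eq_of_typeF h.1
  · exact typeCore_eq_of_typeII (isSolvable_of_isCoatom hG hL (commutator_self_le L)) h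

theorem coprime_orderOf_supportR [Finite G] (h : BookBGData G) {M : Subgroup G} (hM : IsCoatom M)
    {a r : G} (ha : a ∈ litA M) (hr : r ∈ supportR M a) : (orderOf a).Coprime (orderOf r) := by
  by_cases hr1 : r = 1
  · rw [hr1, orderOf_one]; exact Nat.coprime_one_right _
  · obtain ⟨-, -, L, -, -, -, hrL, hcop, -, -⟩ := supportR_data h hM ha hr hr1
    have h1 : orderOf r ∣ Nat.card (fittingHallOf L) := Subgroup.orderOf_dvd_natCard _ hrL
    have h2 : orderOf a ∣ Nat.card ↥(M ⊓ Subgroup.centralizer ({a} : Set G)) :=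
      Subgroup.orderOf_dvd_natCard _ ⟨litA_subset M ha, mem_centralizer_singleton_of_comm rfl⟩
    exact (((hcop a ha).coprime_dvd_left h1).coprime_dvd_right h2).symm

theorem comm_of_mem_supportR (M : Subgroup G) {a r : G} (hr : r ∈ supportR M a) :
    a * r = r * a := by
  have := supportR_le_centralizer M a hr
  rw [Subgroup.mem_centralizer_iff] at this
  exact this a (Set.mem_singleton a)

/-! ### (8.17)(a) -/

/-- **Peterfalvi (8.17)(a)**: for non-conjugate maximal subgroups `S`, `T` and `x ∈ A₁(S) ∩ A(T)`,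
the centralizer of `x` lies in `T` and not in `S`. -/
theorem supports_centralizer [Finite G] (hG : IsMinSimpleOddOrder G) (h : BookBGData G)
    {S T : Subgroup G} (hS : IsCoatom S) (hT : IsCoatom T) (hnc : ∀ g : G, conjSub g T ≠ S) :
    ∀ x ∈ typeA1 S ∩ litA T, ¬ Subgroup.centralizer ({x} : Set G) ≤ S ∧
      Subgroup.centralizer ({x} : Set G) ≤ T := by
  rintro x ⟨hxS, hxT⟩
  have hcopST := coprime_card_typeCore h.sylowNormalizers h.sigmaPrimes hS hT hnc
  have hox : orderOf x ∣ Nat.card (typeCore S) := Subgroup.orderOf_dvd_natCard _ hxS.1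
  obtain ⟨-, -, hC, hCu⟩ := centralizer_le_of_mem_litA hG h hT hxT (hcopST.coprime_dvd_left hox)
  refine ⟨fun hCS => ?_, hC⟩
  have := hCu S hS hCS
  apply hnc 1
  rw [conjSub_one, this]

/-! ### (8.17)(c) -/

/-- The main step: from an element of `Ã₁(S) ∩ Ã(T)` (written in the frame of `S`). -/
theorem main_step [Finite G] (hG : IsMinSimpleOddOrder G) (h : BookBGData G) {S T : Subgroup G}
    (hS : IsCoatom S) (hT : IsCoatom T) (hnc : ∀ g : G, conjSub g T ≠ S)
    {a r b s w : G} (ha : a ∈ typeA1 S) (hr : r ∈ supportR S a) (hb : b ∈ litA T)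
    (hs : s ∈ supportR T b) (heq : a * r = w * (b * s) * w⁻¹) :
    (∃ y ∈ litA T, orderOf y ∣ Nat.card (typeCore S)) ∧
      ∀ z ∈ litA S, (Nat.card (typeCore T)).Coprime
        (Nat.card ↥(S ⊓ Subgroup.centralizer ({z} : Set G))) := by
  have hcore := h.core
  have hFS : fittingHallOf S ≤ ⁅S, S⁆ := (hcore S hS).2.1.trans (hcore S hS).2.2.1
  have hcopST := coprime_card_typeCore h.sylowNormalizers h.sigmaPrimes hS hT hnc
  have ha1 : a ≠ 1 := fun h1 => ha.2 (by simpa using h1)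
  have haC : a ∈ typeCore S := ha.1
  have haA : a ∈ litA S := typeA1_subset_litA S hFS ha
  have hoa : orderOf a ∣ Nat.card (typeCore S) := Subgroup.orderOf_dvd_natCard _ haC
  have hcomm_ar : a * r = r * a := comm_of_mem_supportR S hr
  have hcomm_bs : b * s = s * b := comm_of_mem_supportR T hs
  have hcop_ar := coprime_orderOf_supportR h hS haA hr
  have hcop_bs := coprime_orderOf_supportR h hT hb hs
  have hord : orderOf a * orderOf r = orderOf b * orderOf s := by
    rw [← (show Commute a r from hcomm_ar).orderOf_mul_eq_mul_orderOf_of_coprime hcop_ar,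
      ← (show Commute b s from hcomm_bs).orderOf_mul_eq_mul_orderOf_of_coprime hcop_bs, heq,
      orderOf_conj']
  have hoa1 : orderOf a ≠ 1 := fun h1 => ha1 (orderOf_eq_one_iff.1 h1)
  obtain ⟨p, hp, hpa⟩ := Nat.exists_prime_and_dvd hoa1
  have hpS : p ∣ Nat.card (typeCore S) := hpa.trans hoa
  have hpT : ¬ p ∣ Nat.card (typeCore T) := fun hd =>
    hp.one_lt.ne' (Nat.eq_one_of_dvd_coprimes hcopST hpS hd)
  have hpbs : p ∣ orderOf b * orderOf s := by
    rw [← hord]; exact hpa.trans (Dvd.intro _ rfl)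
  rcases (Nat.Prime.dvd_mul hp).1 hpbs with hpb | hps
  · -- the element `b` carries the prime `p`
    have hbA1 : b ∉ typeA1 T := fun hb1 =>
      hpT (hpb.trans (Subgroup.orderOf_dvd_natCard _ hb1.1))
    have hCb : Subgroup.centralizer ({b} : Set G) ≤ T := by
      by_contra hC
      exact hbA1 ((h.tame T hT (litA T) (Or.inl rfl)).2.1 b hb hC).1
    have hs1 : s = 1 := by
      rw [supportR_eq_bot_of_le T hCb, Subgroup.mem_bot] at hs; exact hs
    rw [hs1, mul_one] at heq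
    obtain ⟨m, hm, -⟩ := exists_pow_eq_left hcomm_ar hcop_ar ha1
    have hay : a = w * b ^ m * w⁻¹ := by rw [← hm, heq, conj_pow]
    have hy1 : b ^ m ≠ 1 := by
      intro h1; apply ha1; rw [hay, h1]; group
    have hyA : b ^ m ∈ litA T := pow_mem_litA T hb m hy1
    have hoy : orderOf (b ^ m) = orderOf a := by rw [hay, orderOf_conj']
    have hoyS : orderOf (b ^ m) ∣ Nat.card (typeCore S) := hoy ▸ hoa
    obtain ⟨hcT, -, hCy, hCyu⟩ :=
      centralizer_le_of_mem_litA hG h hT hyA (hcopST.coprime_dvd_left hoyS)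
    refine ⟨⟨b ^ m, hyA, hoyS⟩, ?_⟩
    have hL : IsCoatom (conjSub w T) := isCoatom_conjSub hT w
    have hCL : Subgroup.centralizer ({a} : Set G) ≤ conjSub w T := by
      rw [hay]; exact centralizer_conj_le hCy
    have hCS : ¬ Subgroup.centralizer ({a} : Set G) ≤ S := by
      intro hC
      rw [hay] at hC
      have h1 := centralizer_le_conjSub_inv hC
      have h2 := hCyu _ (isCoatom_conjSub hS w⁻¹) h1
      apply hnc w
      rw [← h2, conjSub_conjSub_inv]
    have hdata := (h.tame S hS (litA S) (Or.inl rfl)).2.2 a haA hCS _ hL hCL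
    intro z hz
    have := hdata.2.2.2.1 z hz
    rwa [card_fittingHallOf_map_conj, ← hcT] at this
  · -- the element `s` carries the prime `p`: impossible
    exfalso
    have hs1 : s ≠ 1 := by
      intro h1; rw [h1, orderOf_one] at hps; exact hp.one_lt.ne' (Nat.dvd_one.1 hps)
    obtain ⟨hbA1, -, L', hL', hCbL', hL'u, hsL', -, -, -⟩ := supportR_data h hT hb hs hs1
    have hpL' : p ∣ Nat.card (fittingHallOf L') :=
      hps.trans (Subgroup.orderOf_dvd_natCard _ hsL')
    have hb1 : b ≠ 1 := fun h1 => one_not_mem_litA T (h1 ▸ hb)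
    have hob1 : orderOf b ≠ 1 := fun h1 => hb1 (orderOf_eq_one_iff.1 h1)
    obtain ⟨q, hq, hqb⟩ := Nat.exists_prime_and_dvd hob1
    have hobT : orderOf b ∣ Nat.card (typeCore T) := Subgroup.orderOf_dvd_natCard _ hbA1.1
    have hcop_ab : (orderOf a).Coprime (orderOf b) :=
      (hcopST.coprime_dvd_left hoa).coprime_dvd_right hobT
    have hqa : ¬ q ∣ orderOf a := fun hd =>
      hq.one_lt.ne' (Nat.eq_one_of_dvd_coprimes hcop_ab hd hqb)
    have hqr : q ∣ orderOf r := by
      have : q ∣ orderOf a * orderOf r := by rw [hord]; exact hqb.trans (Dvd.intro _ rfl)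
      exact ((Nat.Prime.dvd_mul hq).1 this).resolve_left hqa
    have hr1 : r ≠ 1 := by
      intro h1; rw [h1, orderOf_one] at hqr; exact hq.one_lt.ne' (Nat.dvd_one.1 hqr)
    obtain ⟨-, -, L, hL, hCaL, -, hrL, hcopS, haL, hLtype⟩ := supportR_data h hS haA hr hr1
    have hpCa : p ∣ Nat.card ↥(S ⊓ Subgroup.centralizer ({a} : Set G)) :=
      hpa.trans (Subgroup.orderOf_dvd_natCard _
        ⟨litA_subset S haA, mem_centralizer_singleton_of_comm rfl⟩)
    have hpL : ¬ p ∣ Nat.card (fittingHallOf L) := fun hd =>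
      hp.one_lt.ne' (Nat.eq_one_of_dvd_coprimes (hcopS a haA) hd hpCa)
    obtain ⟨m', hm', hsm'⟩ := exists_pow_eq_left hcomm_bs hcop_bs hb1
    have hoas : orderOf a ∣ orderOf s := by
      have : orderOf a ∣ orderOf b * orderOf s := by rw [← hord]; exact Dvd.intro _ rfl
      exact hcop_ab.dvd_of_dvd_mul_left this
    have ham' : a ^ m' = 1 := orderOf_dvd_iff_pow_eq_one.1 (hoas.trans hsm')
    have hb' : w * b * w⁻¹ = r ^ m' := by
      calc w * b * w⁻¹ = w * (b * s) ^ m' * w⁻¹ := by rw [hm']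
        _ = (w * (b * s) * w⁻¹) ^ m' := conj_pow.symm
        _ = (a * r) ^ m' := by rw [heq]
        _ = a ^ m' * r ^ m' := (show Commute a r from hcomm_ar).mul_pow m'
        _ = r ^ m' := by rw [ham', one_mul]
    have hb'L : w * b * w⁻¹ ∈ fittingHallOf L := by
      rw [hb']; exact Subgroup.pow_mem _ hrL m'
    have hb'1 : w * b * w⁻¹ ≠ 1 := conj_ne_one hb1
    have hL'' : IsCoatom (conjSub w L') := isCoatom_conjSub hL' w
    have hCL'' : Subgroup.centralizer ({w * b * w⁻¹} : Set G) ≤ conjSub w L' :=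
      centralizer_conj_le hCbL'
    have hpL'' : p ∣ Nat.card (fittingHallOf (conjSub w L')) := by
      rw [card_fittingHallOf_map_conj]; exact hpL'
    have hCnotL : ¬ Subgroup.centralizer ({w * b * w⁻¹} : Set G) ≤ L := by
      intro hC
      have h1 := centralizer_le_conjSub_inv hC
      have h2 := hL'u _ (isCoatom_conjSub hL w⁻¹) h1
      apply hpL
      have : L = conjSub w L' := by rw [← h2, conjSub_conjSub_inv]
      rw [this]; exact hpL''
    have hcL : typeCore L = fittingHallOf L := typeCore_eq_of_I_or_II hG hL hLtype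
    have hFL : fittingHallOf L ≤ ⁅L, L⁆ := (hcore L hL).2.1.trans (hcore L hL).2.2.1
    have hb'A1 : w * b * w⁻¹ ∈ typeA1 L := by
      refine ⟨?_, by simpa using hb'1⟩
      rw [hcL]; exact hb'L
    have hb'A : w * b * w⁻¹ ∈ litA L := typeA1_subset_litA L hFL hb'A1
    have hdata := (h.tame L hL (litA L) (Or.inl rfl)).2.2 _ hb'A hCnotL _ hL'' hCL''
    have hcop' := hdata.2.2.2.1 a haL.1
    have haLmem : a ∈ L := hCaL (mem_centralizer_singleton_of_comm rfl)
    have hpCa' : p ∣ Nat.card ↥(L ⊓ Subgroup.centralizer ({a} : Set G)) :=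
      hpa.trans (Subgroup.orderOf_dvd_natCard _
        ⟨haLmem, mem_centralizer_singleton_of_comm rfl⟩)
    exact hp.one_lt.ne' (Nat.eq_one_of_dvd_coprimes hcop' hpL'' hpCa')

theorem conj_eq_of_tilde {a r b s u v : G}
    (hv : u * (a * r) * u⁻¹ = v * (b * s) * v⁻¹) :
    a * r = (u⁻¹ * v) * (b * s) * (u⁻¹ * v)⁻¹ := by
  calc a * r = u⁻¹ * (u * (a * r) * u⁻¹) * u := by group
    _ = u⁻¹ * (v * (b * s) * v⁻¹) * u := by rw [hv]
    _ = (u⁻¹ * v) * (b * s) * (u⁻¹ * v)⁻¹ := by group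

/-- **Peterfalvi (8.17)(c)**: for non-conjugate maximal subgroups `S`, `T`, at least one of
`Ã₁(S) ∩ Ã(T)`, `Ã₁(T) ∩ Ã(S)` is empty. -/
theorem tilde_disjoint [Finite G] (hG : IsMinSimpleOddOrder G) (h : BookBGData G)
    {S T : Subgroup G} (hS : IsCoatom S) (hT : IsCoatom T) (hnc : ∀ g : G, conjSub g T ≠ S) :
    tildeOf S (typeA1 S) ∩ tildeOf T (litA T) = ∅ ∨
      tildeOf T (typeA1 T) ∩ tildeOf S (litA S) = ∅ := by
  by_contra hcon
  rw [not_or] at hcon
  obtain ⟨h1, h2⟩ := hcon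
  obtain ⟨g₁, hg₁S, hg₁T⟩ := Set.nonempty_iff_ne_empty.2 h1
  obtain ⟨g₂, hg₂T, hg₂S⟩ := Set.nonempty_iff_ne_empty.2 h2
  obtain ⟨a, ha, r, hr, u, hu⟩ := hg₁S
  obtain ⟨b, hb, s, hs, v, hv⟩ := hg₁T
  obtain ⟨a₂, ha₂, r₂, hr₂, u₂, hu₂⟩ := hg₂T
  obtain ⟨b₂, hb₂, s₂, hs₂, v₂, hv₂⟩ := hg₂S
  have heq : a * r = (u⁻¹ * v) * (b * s) * (u⁻¹ * v)⁻¹ :=
    conj_eq_of_tilde (by rw [← hu, ← hv])
  have heq₂ : a₂ * r₂ = (u₂⁻¹ * v₂) * (b₂ * s₂) * (u₂⁻¹ * v₂)⁻¹ :=
    conj_eq_of_tilde (by rw [← hu₂, ← hv₂])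
  have hnc' : ∀ g : G, conjSub g S ≠ T := by
    intro g hg
    apply hnc g⁻¹
    rw [← hg, conjSub_inv_conjSub]
  obtain ⟨-, hO2⟩ := main_step hG h hS hT hnc ha hr hb hs heq
  obtain ⟨⟨y, hyA, hoy⟩, -⟩ := main_step hG h hT hS hnc' ha₂ hr₂ hb₂ hs₂ heq₂
  have hcop := hO2 y hyA
  have hy1 : y ≠ 1 := fun h1 => one_not_mem_litA S (h1 ▸ hyA)
  have h3 : orderOf y ∣ Nat.card ↥(S ⊓ Subgroup.centralizer ({y} : Set G)) :=
    Subgroup.orderOf_dvd_natCard _ ⟨litA_subset S hyA, mem_centralizer_singleton_of_comm rfl⟩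
  have h4 : orderOf y = 1 := Nat.eq_one_of_dvd_coprimes hcop hoy h3
  exact hy1 (orderOf_eq_one_iff.1 h4)

/-- **Peterfalvi section 8 in book form** from the local analysis in book form. -/
theorem bookPF8Data_of [Finite G] (hG : IsMinSimpleOddOrder G) (h : BookBGData G) :
    BookPF8Data G where
  dade := fun M hM A hA => dade_book hG h M hM A hA
  tiII := fun M hM hII => typeII_book hG h M hM hII
  supports := fun S T hS hT hnc =>
    ⟨supports_centralizer hG h hS hT hnc, tilde_disjoint hG h hS hT hnc⟩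

end Cfsg.Agent.Lib.Helper26.PFBook
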