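import Mathlib
import Cfsg.Agent.Lib.Helper26.BGTypesB

/-!
# Bender–Glauberman section 16, part C: Frobenius type in general; the case `K = 1`
-/

set_option autoImplicit false

namespace Cfsg.Agent.Lib.Helper26.BGTypes

open Cfsg

universe u

/-- `D = S ⋊ U` with `S` a nontrivial normal nilpotent Hall subgroup and `U₀ ≤ U` of the same
exponent acting without fixed points on `S`: then `S = D_F`. -/
theorem fittingHall_eq_of_fpf {D : Type u} [Group D] [Finite D] (S U U₀ : Subgroup D)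
    [hSn : S.Normal]
    (hSnil : Group.IsNilpotent ↥S) (hS1 : S ≠ ⊥) (hcard : Nat.card S * Nat.card U = Nat.card D)
    (hcop : (Nat.card S).Coprime (Nat.card U))
    (hexp : Monoid.exponent ↥U₀ = Monoid.exponent ↥U)
    (hfpf : ∀ u ∈ U₀, u ≠ 1 → ∀ x ∈ S, u * x = x * u → x = 1) :
    fittingHall D = S := by
  have hidx : S.index = Nat.card U := by
    have h1 := Subgroup.card_mul_index S
    rw [← hcard] at h1
    exact Nat.eq_of_mul_eq_mul_left Nat.card_pos h1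
  obtain ⟨x₀, hx₀S, hx₀1⟩ : ∃ x ∈ S, x ≠ 1 := by
    by_contra hcon
    exact hS1 ((Subgroup.eq_bot_iff_forall S).2
      (fun x hx => by_contra (fun h => hcon ⟨x, hx, h⟩)))
  apply le_antisymm
  · apply le_of_coprime_index S
    rw [hidx]
    apply coprime_of_forall_prime
    intro r hr hrF hrU
    have : Fact r.Prime := ⟨hr⟩
    obtain ⟨u', hu'⟩ := exists_prime_orderOf_dvd_card' (G := ↥U) r hrU
    have hre : r ∣ Monoid.exponent ↥U₀ := by
      rw [hexp, ← hu']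
      exact Monoid.order_dvd_exponent u'
    have hrU₀ : r ∣ Nat.card ↥U₀ := hre.trans Group.exponent_dvd_nat_card
    obtain ⟨u₀, hu₀⟩ := exists_prime_orderOf_dvd_card' (G := ↥U₀) r hrU₀
    have huord : orderOf (u₀ : D) = r := by rw [Subgroup.orderOf_coe, hu₀]
    have hu1 : (u₀ : D) ≠ 1 := by
      intro h
      rw [h, orderOf_one] at huord
      exact hr.one_lt.ne huord
    have hP : IsPGroup r ↥(Subgroup.zpowers (u₀ : D)) := by
      apply IsPGroup.of_card (n := 1)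
      rw [Nat.card_zpowers, huord, pow_one]
    obtain ⟨R, hR⟩ := hP.exists_le_sylow
    have hRn := (Cfsg.Agent.Lib.Helper64.sylow_normal_of_dvd_card_fittingHall r hrF R).1
    have huR : (u₀ : D) ∈ (R : Subgroup D) := hR (Subgroup.mem_zpowers _)
    have hRS : (R : Subgroup D) ⊓ S = ⊥ := by
      apply Disjoint.eq_bot
      apply Subgroup.disjoint_of_coprime_natCard
      obtain ⟨n, hn⟩ := IsPGroup.iff_card.1 R.2
      rw [hn]
      apply Nat.Coprime.pow_left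
      rw [Nat.Prime.coprime_iff_not_dvd hr]
      intro hrS
      exact hr.one_lt.ne' (Nat.eq_one_of_dvd_coprimes hcop hrS hrU)
    have hc : (u₀ : D) * x₀ * (u₀ : D)⁻¹ * x₀⁻¹ ∈ (R : Subgroup D) ⊓ S := by
      constructor
      · have h1 : x₀ * (u₀ : D)⁻¹ * x₀⁻¹ ∈ (R : Subgroup D) :=
          hRn.conj_mem _ (Subgroup.inv_mem _ huR) x₀
        have : (u₀ : D) * x₀ * (u₀ : D)⁻¹ * x₀⁻¹ = (u₀ : D) * (x₀ * (u₀ : D)⁻¹ * x₀⁻¹) := by
          group
        rw [this]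
        exact Subgroup.mul_mem _ huR h1
      · have h1 : (u₀ : D) * x₀ * (u₀ : D)⁻¹ ∈ S := hSn.conj_mem _ hx₀S _
        exact Subgroup.mul_mem _ h1 (Subgroup.inv_mem _ hx₀S)
    rw [hRS, Subgroup.mem_bot] at hc
    have hcomm : (u₀ : D) * x₀ = x₀ * (u₀ : D) := by
      have := congrArg (fun t => t * x₀ * (u₀ : D)) hc
      simpa [mul_assoc] using this
    exact hx₀1 (hfpf _ u₀.2 hu1 x₀ hx₀S hcomm)
  · apply le_sSup
    refine ⟨hSn, hSnil, ?_⟩
    rw [hidx]
    exact hcop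

/-- Abstract criterion for Frobenius type, with a normal abelian `U₁ ≤ U` containing the centralizers
in `U` of the non-identity elements of `S`. -/
theorem fittingHall_eq_and_isOfTypeF' {D : Type u} [Group D] [Finite D] (S U U₁ U₀ : Subgroup D)
    (hsolv : Group.IsSolvable D) (hodd : Odd (Nat.card D)) [hSn : S.Normal]
    (hSnil : Group.IsNilpotent ↥S) (hS1 : S ≠ ⊥) (hcard : Nat.card S * Nat.card U = Nat.card D)
    (hcop : (Nat.card S).Coprime (Nat.card U)) (hU1 : U ≠ ⊥)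
    (hU₁U : U₁ ≤ U) (hU₁n : U ≤ Subgroup.normalizer (U₁ : Set D)) (hU₁c : IsMulCommutative ↥U₁)
    (hcent : ∀ x ∈ S, x ≠ 1 → U ⊓ Subgroup.centralizer ({x} : Set D) ≤ U₁)
    (hU₀ : U₀ ≤ U)
    (hexp : Monoid.exponent ↥U₀ = Monoid.exponent ↥U)
    (hfpf : ∀ u ∈ U₀, u ≠ 1 → ∀ x ∈ S, u * x = x * u → x = 1) :
    fittingHall D = S ∧ IsOfTypeF D := by
  have hF : fittingHall D = S := fittingHall_eq_of_fpf S U U₀ hSnil hS1 hcard hcop hexp hfpf
  refine ⟨hF, hsolv, hodd, hF ▸ hS1, ?_, U, hU1, ?_, ?_, ?_⟩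
  · rw [hF]
    intro htop
    apply hU1
    rw [← Subgroup.card_eq_one]
    rw [htop, Subgroup.card_top] at hcard
    have : Nat.card D * Nat.card U = Nat.card D * 1 := by rw [hcard, mul_one]
    exact Nat.eq_of_mul_eq_mul_left Nat.card_pos this
  · rw [hF]
    exact Subgroup.isComplement'_of_coprime hcard hcop
  · refine ⟨U₁, hU₁U, hU₁n, hU₁c, ?_⟩
    rw [hF]
    exact hcent
  · refine ⟨U₀, hU₀, hexp, ?_⟩
    rw [hF]
    exact hfpf

variable {G : Type u} [Group G]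

/-- Transfer to a subgroup `D ≤ M` of `G` with `D = M_σ ⋊ U`. -/
theorem typeF_of_isComplIn [Finite G] (hG : IsMinSimpleOddOrder G) {M D U U₁ : Subgroup G}
    (hM : IsCoatom M) (hDM : D ≤ M) (hc2 : IsComplIn (sigmaCore M) U D) (hU1 : U ≠ ⊥)
    (hFS : fittingHallOf M = sigmaCore M) (hF1 : fittingHallOf M ≠ ⊥)
    (hU₁U : U₁ ≤ U) (hU₁n : U ≤ Subgroup.normalizer (U₁ : Set G)) (hU₁c : IsMulCommutative ↥U₁)
    (hcent : ∀ x ∈ sigmaCore M, x ≠ 1 → U ⊓ Subgroup.centralizer ({x} : Set G) ≤ U₁)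
    (h60 : ∃ U₀ : Subgroup G, U₀ ≤ U ∧ Monoid.exponent U₀ = Monoid.exponent U ∧
      ∀ u ∈ U₀, u ∈ sigmaHat M → u = 1) :
    IsOfTypeF ↥D ∧ fittingHallOf D = fittingHallOf M := by
  set S : Subgroup G := sigmaCore M with hS
  have hSD : S ≤ D := hc2.1
  have hUD : U ≤ D := hc2.2.1
  obtain ⟨U₀, hU₀U, hexp, hfpf⟩ := h60
  have hU₀D : U₀ ≤ D := hU₀U.trans hUD
  have hU₁D : U₁ ≤ D := hU₁U.trans hUD
  have hMtop : M ≠ ⊤ := hM.1
  have hsolv : Group.IsSolvable ↥D := by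
    apply hG.2.2.2
    intro h
    exact hMtop (top_le_iff.1 (h ▸ hDM))
  have hodd : Odd (Nat.card ↥D) := Odd.of_dvd_nat hG.1 (Subgroup.card_subgroup_dvd_card D)
  have hSn : (S.subgroupOf D).Normal :=
    (Subgroup.normal_subgroupOf_iff_le_normalizer hSD).2 (hDM.trans (le_normalizer_sigmaCore M))
  have hSnil : Group.IsNilpotent ↥(S.subgroupOf D) := by
    have h1 : Group.IsNilpotent ↥S := hFS ▸ isNilpotent_fittingHallOf M
    exact Group.nilpotent_of_mulEquiv (Subgroup.subgroupOfEquivOfLe hSD).symm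
  have hcS : Nat.card ↥(S.subgroupOf D) = Nat.card ↥S :=
    Nat.card_congr (Subgroup.subgroupOfEquivOfLe hSD).toEquiv
  have hcU : Nat.card ↥(U.subgroupOf D) = Nat.card ↥U :=
    Nat.card_congr (Subgroup.subgroupOfEquivOfLe hUD).toEquiv
  have hne_of : ∀ H : Subgroup G, H ≤ D → H ≠ ⊥ → H.subgroupOf D ≠ ⊥ := by
    intro H hHD hH h
    apply hH
    rw [Subgroup.eq_bot_iff_forall] at h ⊢
    intro a ha
    have := h ⟨a, hHD ha⟩ (Subgroup.mem_subgroupOf.2 ha)
    exact congrArg Subtype.val this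
  have hcard : Nat.card ↥(S.subgroupOf D) * Nat.card ↥(U.subgroupOf D) = Nat.card ↥D := by
    rw [hcS, hcU]
    exact (Cfsg.Agent.Lib.Helper23.card_of_isComplIn hc2).symm
  have hcop : (Nat.card ↥(S.subgroupOf D)).Coprime (Nat.card ↥(U.subgroupOf D)) := by
    rw [hcS, hcU]
    have h1 := coprime_card_fittingHallOf_relIndex M
    rw [hFS] at h1
    have h2 : Nat.card ↥U ∣ S.relIndex M := by
      have h3 : S.relIndex D * D.relIndex M = S.relIndex M :=
        Subgroup.relIndex_mul_relIndex S D M hSD hDM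
      have h4 : S.relIndex D = Nat.card ↥U := by
        have h5 := Cfsg.Agent.Lib.Helper23.card_of_isComplIn hc2
        have h6 := Cfsg.Agent.Lib.Helper23.card_mul_relIndex_of_le hSD
        rw [h5] at h6
        exact Nat.eq_of_mul_eq_mul_left Nat.card_pos h6
      rw [← h3, h4]
      exact Dvd.intro _ rfl
    exact h1.coprime_dvd_right h2
  have hS1 : S.subgroupOf D ≠ ⊥ := hne_of S hSD (hFS ▸ hF1)
  have hU1' : U.subgroupOf D ≠ ⊥ := hne_of U hUD hU1
  have hU₁U' : U₁.subgroupOf D ≤ U.subgroupOf D := by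
    intro a ha
    exact Subgroup.mem_subgroupOf.2 (hU₁U (Subgroup.mem_subgroupOf.1 ha))
  have hU₁n' : U.subgroupOf D ≤ Subgroup.normalizer ((U₁.subgroupOf D : Subgroup ↥D) : Set ↥D) := by
    intro a ha
    rw [Subgroup.mem_set_normalizer_iff]
    intro z
    have h1 := hU₁n (Subgroup.mem_subgroupOf.1 ha)
    rw [Subgroup.mem_set_normalizer_iff] at h1
    exact h1 (z : G)
  have hU₁c' : IsMulCommutative ↥(U₁.subgroupOf D) := by
    refine ⟨⟨fun a b => ?_⟩⟩
    have := hU₁c.is_comm.comm (⟨(a : ↥D), Subgroup.mem_subgroupOf.1 a.2⟩ : ↥U₁)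
      ⟨(b : ↥D), Subgroup.mem_subgroupOf.1 b.2⟩
    have h2 : ((a : ↥D) : G) * ((b : ↥D) : G) = ((b : ↥D) : G) * ((a : ↥D) : G) :=
      congrArg (Subtype.val : ↥U₁ → G) this
    exact Subtype.ext (Subtype.ext h2)
  have hcent' : ∀ x ∈ S.subgroupOf D, x ≠ 1 →
      U.subgroupOf D ⊓ Subgroup.centralizer ({x} : Set ↥D) ≤ U₁.subgroupOf D := by
    intro x hx hx1 y hy
    rw [Subgroup.mem_subgroupOf]
    apply hcent (x : G) (Subgroup.mem_subgroupOf.1 hx) (fun h => hx1 (Subtype.ext h))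
    refine ⟨Subgroup.mem_subgroupOf.1 hy.1, ?_⟩
    have h2 : y ∈ Subgroup.centralizer ({x} : Set ↥D) := hy.2
    show (y : G) ∈ Subgroup.centralizer ({(x : G)} : Set G)
    rw [Subgroup.mem_centralizer_iff] at h2 ⊢
    intro z hz
    rw [Set.mem_singleton_iff] at hz
    subst hz
    exact congrArg (Subtype.val : ↥D → G) (h2 x (Set.mem_singleton x))
  have hU₀' : U₀.subgroupOf D ≤ U.subgroupOf D := by
    intro a ha
    exact Subgroup.mem_subgroupOf.2 (hU₀U (Subgroup.mem_subgroupOf.1 ha))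
  have hexp' : Monoid.exponent ↥(U₀.subgroupOf D) = Monoid.exponent ↥(U.subgroupOf D) := by
    rw [Monoid.exponent_eq_of_mulEquiv (Subgroup.subgroupOfEquivOfLe hU₀D),
      Monoid.exponent_eq_of_mulEquiv (Subgroup.subgroupOfEquivOfLe hUD)]
    exact hexp
  have hfpf' : ∀ u ∈ U₀.subgroupOf D, u ≠ 1 → ∀ x ∈ S.subgroupOf D, u * x = x * u → x = 1 := by
    intro u hu hu1 x hx hux
    by_contra hx1
    apply hu1
    have hu0 : (u : G) ∈ U₀ := Subgroup.mem_subgroupOf.1 hu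
    have hxS : (x : G) ∈ S := Subgroup.mem_subgroupOf.1 hx
    have hmem : (u : G) ∈ sigmaHat M := by
      refine ⟨hDM u.2, (x : G), hxS, fun h => hx1 (Subtype.ext h), ?_⟩
      exact congrArg Subtype.val hux
    exact Subtype.ext (hfpf _ hu0 hmem)
  obtain ⟨hF, hTF⟩ := fittingHall_eq_and_isOfTypeF' (S.subgroupOf D) (U.subgroupOf D)
    (U₁.subgroupOf D) (U₀.subgroupOf D) hsolv hodd hSnil hS1 hcard hcop hU1' hU₁U' hU₁n' hU₁c'
    hcent' hU₀' hexp' hfpf'
  refine ⟨hTF, ?_⟩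
  unfold fittingHallOf at hFS ⊢
  rw [hF, Subgroup.map_subgroupOf_eq_of_le hSD, hFS]

/-- conjugation by elements of `U` preserves the closure of a `U`-invariant set -/
theorem le_normalizer_closure {U : Subgroup G} {X : Set G}
    (hX : ∀ u ∈ U, ∀ a ∈ X, u * a * u⁻¹ ∈ X) :
    U ≤ Subgroup.normalizer ((Subgroup.closure X : Subgroup G) : Set G) := by
  have key : ∀ u ∈ U, ∀ g ∈ Subgroup.closure X, u * g * u⁻¹ ∈ Subgroup.closure X := by
    intro u hu g hg
    induction hg using Subgroup.closure_induction with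
    | mem x hx => exact Subgroup.subset_closure (hX u hu x hx)
    | one => simp
    | mul x y _ _ hx hy =>
      have : u * (x * y) * u⁻¹ = (u * x * u⁻¹) * (u * y * u⁻¹) := by group
      rw [this]; exact Subgroup.mul_mem _ hx hy
    | inv x _ hx =>
      have : u * x⁻¹ * u⁻¹ = (u * x * u⁻¹)⁻¹ := by group
      rw [this]; exact Subgroup.inv_mem _ hx
  intro u hu
  rw [Subgroup.mem_set_normalizer_iff]
  intro g
  refine ⟨fun hg => key u hu g hg, fun hg => ?_⟩
  have := key u⁻¹ (U.inv_mem hu) _ hg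
  simpa [mul_assoc] using this

theorem conj_mem_sigmaHat (M : Subgroup G) {m a : G} (hm : m ∈ M) (ha : a ∈ sigmaHat M) :
    m * a * m⁻¹ ∈ sigmaHat M := by
  obtain ⟨haM, y, hy, hy1, hay⟩ := ha
  exact ⟨M.mul_mem (M.mul_mem hm haM) (M.inv_mem hm), m * y * m⁻¹, conj_mem_sigmaCore M hm hy,
    PFEight.conj_ne_one hy1, PFEight.conj_commute hay⟩

/-- **The case `K = 1` of the standard factorisation: `M` is of Frobenius type** (hypotheses: literal
conclusions of the summary rows on `M_F`, on `M_F ≠ M_σ`, on `⟨U ∩ M̂_σ⟩` and on `U₀`). -/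
theorem isOfTypeF_of_decomp [Finite G] (hG : IsMinSimpleOddOrder G) {M K U : Subgroup G}
    (hM : IsCoatom M) (hKU : IsSigmaDecomposition M K U) (hK : K = ⊥)
    (h55 : fittingHallOf M ≠ ⊥ ∧ fittingHallOf M ≤ sigmaCore M ∧ sigmaCore M ≤ ⁅M, M⁆ ∧
      ⁅M, M⁆ < M)
    (h57 : fittingHallOf M ≠ sigmaCore M → U = ⊥)
    (h59 : IsMulCommutative (Subgroup.closure ((U : Set G) ∩ sigmaHat M)))
    (h60 : ∃ U₀ : Subgroup G, U₀ ≤ U ∧ Monoid.exponent U₀ = Monoid.exponent U ∧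
      ∀ u ∈ U₀, u ∈ sigmaHat M → u = 1) :
    U ≠ ⊥ ∧ fittingHallOf M = sigmaCore M ∧ IsOfTypeF ↥M := by
  have hUM : U ≤ M := hKU.compl.1
  have hU1 : U ≠ ⊥ := by
    intro hU
    have hle : M ≤ sigmaCore M := by
      intro m hm
      obtain ⟨a, ha, b, hb, rfl⟩ := hKU.compl.2.2.2 m hm
      rw [hU, Subgroup.mem_bot] at ha
      rw [hK, bot_sup_eq] at hb
      rw [ha, one_mul]; exact hb
    exact lt_irrefl M (lt_of_le_of_lt (hle.trans h55.2.2.1) h55.2.2.2)
  have hFS : fittingHallOf M = sigmaCore M := by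
    by_contra h
    exact hU1 (h57 h)
  have hc2 : IsComplIn (sigmaCore M) U M := by
    obtain ⟨h1, h2, h3, h4⟩ := hKU.compl
    rw [hK, bot_sup_eq] at h2 h3 h4
    refine ⟨h2, h1, by rw [inf_comm]; exact h3, ?_⟩
    intro m hm
    -- `m⁻¹ = a b` with `a ∈ U`, `b ∈ M_σ`, so `m = b⁻¹ a⁻¹`
    obtain ⟨a, ha, b, hb, hab⟩ := h4 m⁻¹ (M.inv_mem hm)
    refine ⟨b⁻¹, Subgroup.inv_mem _ hb, a⁻¹, Subgroup.inv_mem _ ha, ?_⟩
    have : m = (m⁻¹)⁻¹ := (inv_inv m).symm
    rw [this, hab, mul_inv_rev]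
  have hX : ∀ u ∈ U, ∀ a ∈ (U : Set G) ∩ sigmaHat M, u * a * u⁻¹ ∈ (U : Set G) ∩ sigmaHat M := by
    intro u hu a ha
    exact ⟨U.mul_mem (U.mul_mem hu ha.1) (U.inv_mem hu), conj_mem_sigmaHat M (hUM hu) ha.2⟩
  have h := typeF_of_isComplIn hG hM le_rfl hc2 hU1 hFS h55.1
    (U₁ := Subgroup.closure ((U : Set G) ∩ sigmaHat M))
    ((Subgroup.closure_le U).2 Set.inter_subset_left)
    (le_normalizer_closure hX) h59
    (by
      intro x hx hx1 y hy
      apply Subgroup.subset_closure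
      refine ⟨hy.1, hUM hy.1, x, hx, hx1, ?_⟩
      have h2 : y ∈ Subgroup.centralizer ({x} : Set G) := hy.2
      rw [Subgroup.mem_centralizer_iff] at h2
      exact (h2 x (Set.mem_singleton x)).symm)
    h60
  exact ⟨hU1, hFS, h.1⟩

end Cfsg.Agent.Lib.Helper26.BGTypes
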