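import Mathlib
import Cfsg.Agent.Lib.Helper26.BGTypesC
import Cfsg.Agent.Lib.Helper26.PFBookB

/-!
# Bender–Glauberman section 16, part D: normalizers of Hall subgroups with primes in `σ(M)`; the
cases `K ≠ 1`, `U = 1` (Types III, IV, V)
-/

set_option autoImplicit false

namespace Cfsg.Agent.Lib.Helper26.BGTypes

open Cfsg Cfsg.Agent.Lib.Helper26.PFBook

universe u

variable {G : Type u} [Group G]

/-! ### Hall subgroups as complements -/

theorem isComplIn_of_isPiHallOf [Finite G] {N H X : Subgroup G} (hNX : N ≤ X)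
    (hHall : (Nat.card N).Coprime (N.relIndex X))
    (hH : IsPiHallOf {q | q.Prime ∧ ¬ q ∣ Nat.card N} H X) : IsComplIn N H X := by
  obtain ⟨hHX, hHπ, hHidx⟩ := hH
  have hcopNH : (Nat.card N).Coprime (Nat.card H) := by
    apply coprime_of_forall_prime
    intro p hp hpN hpH
    exact (hHπ p hp hpH).2 hpN
  have h1 : Nat.card ↥H * H.relIndex X = Nat.card ↥X :=
    Cfsg.Agent.Lib.Helper23.card_mul_relIndex_of_le hHX
  have h2 : Nat.card ↥N * N.relIndex X = Nat.card ↥X :=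
    Cfsg.Agent.Lib.Helper23.card_mul_relIndex_of_le hNX
  have h3 : Nat.card ↥N ∣ H.relIndex X := by
    have : Nat.card ↥N ∣ Nat.card ↥H * H.relIndex X := by
      rw [h1, ← h2]; exact Dvd.intro _ rfl
    exact hcopNH.dvd_of_dvd_mul_left this
  have h4 : H.relIndex X ∣ Nat.card ↥N := by
    have h5 : (H.relIndex X).Coprime (N.relIndex X) := by
      apply coprime_of_forall_prime
      intro p hp hpH hpN
      have hpN' : p ∣ Nat.card ↥N := by
        by_contra hcon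
        exact hHidx p hp ⟨hp, hcon⟩ hpH
      exact hp.one_lt.ne' (Nat.eq_one_of_dvd_coprimes hHall hpN' hpN)
    have : H.relIndex X ∣ Nat.card ↥N * N.relIndex X := by
      rw [h2, ← h1]; exact Dvd.intro_left _ rfl
    exact h5.dvd_of_dvd_mul_right this
  have h6 : H.relIndex X = Nat.card ↥N := Nat.dvd_antisymm h4 h3
  apply isComplIn_of_card hNX hHX hcopNH
  rw [← h1, h6, mul_comm]

/-- a Hall `κ(M)`-subgroup has order prime to `|M_σ|` -/
theorem coprime_card_kappa_sigmaCore [Finite G] {M K : Subgroup G}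
    (hK : IsPiHallOf (kappa M) K M) : (Nat.card K).Coprime (Nat.card (sigmaCore M)) := by
  apply coprime_of_forall_prime
  intro p hp hpK hpS
  exact (hK.2.1 p hp hpK).2.2.1 (sigmaCore_isPi M p hp hpS)

/-! ### Normalizers -/

/-- If `H ≤ M` is a Hall subgroup of `M`, `p ∈ σ(M)` divides `|H|` and `Q` is a Sylow `p`-subgroup of
`H`, then `N_G(Q) ≤ M`. -/
theorem normalizer_sylow_le [Finite G] {M H : Subgroup G} (hHM : H ≤ M)
    (hHall : (Nat.card H).Coprime (H.relIndex M)) {p : ℕ} [hpF : Fact p.Prime] (hp : p ∈ sigma M)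
    (hpH : p ∣ Nat.card H) (Q : Sylow p ↥H) :
    Subgroup.normalizer (((Q : Subgroup ↥H).map H.subtype : Subgroup G) : Set G) ≤ M := by
  obtain ⟨-, -, P₀, hP₀⟩ := hp
  set Q₀ : Subgroup G := (Q : Subgroup ↥H).map H.subtype with hQ₀
  have hQ₀H : Q₀ ≤ H := Subgroup.map_subtype_le _
  have hQ₀M : Q₀ ≤ M := hQ₀H.trans hHM
  have hQ₀p : IsPGroup p ↥Q₀ := Q.2.map H.subtype
  have hQ₁p : IsPGroup p ↥(Q₀.subgroupOf M) := hQ₀p.comap_subtype
  have hidx : ¬ p ∣ (Q₀.subgroupOf M).index := by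
    have h1 : Q₀.relIndex H * H.relIndex M = Q₀.relIndex M :=
      Subgroup.relIndex_mul_relIndex Q₀ H M hQ₀H hHM
    have h2 : Q₀.relIndex H = (Q : Subgroup ↥H).index := by
      unfold Subgroup.relIndex
      congr 1
      ext x
      rw [Subgroup.mem_subgroupOf]
      constructor
      · rintro ⟨y, hy, hxy⟩
        have : y = x := Subtype.ext hxy
        rwa [← this]
      · intro hx
        exact ⟨x, hx, rfl⟩
    show ¬ p ∣ Q₀.relIndex M
    rw [← h1, h2]
    intro hd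
    rcases (Nat.Prime.dvd_mul hpF.out).1 hd with hd | hd
    · exact Q.not_dvd_index hd
    · exact hpF.out.one_lt.ne' (Nat.eq_one_of_dvd_coprimes hHall hpH hd)
  obtain ⟨m, hm⟩ := MulAction.exists_smul_eq ↥M P₀ (hQ₁p.toSylow hidx)
  have hR : ((hQ₁p.toSylow hidx : Sylow p ↥M) : Subgroup ↥M).map M.subtype = Q₀ := by
    rw [IsPGroup.toSylow_coe, Subgroup.map_subgroupOf_eq_of_le hQ₀M]
  have hQ₀eq : Q₀ = ((P₀ : Subgroup ↥M).map M.subtype).map (MulAut.conj (m : G)).toMonoidHom := by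
    rw [← hR, ← hm, Sylow.coe_subgroup_smul]
    ext x
    constructor
    · rintro ⟨y, hy, rfl⟩
      obtain ⟨s, hs, rfl⟩ := (Subgroup.mem_smul_pointwise_iff_exists _ _ _).1 hy
      refine ⟨(s : G), ⟨s, hs, rfl⟩, ?_⟩
      simp [MulAut.smul_def, MulAut.conj_apply]
    · rintro ⟨z, ⟨s, hs, rfl⟩, rfl⟩
      refine ⟨MulAut.conj m • s, (Subgroup.mem_smul_pointwise_iff_exists _ _ _).2 ⟨s, hs, rfl⟩, ?_⟩
      simp [MulAut.smul_def, MulAut.conj_apply]
  rw [hQ₀eq, ← Subgroup.map_equiv_normalizer_eq]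
  rintro x ⟨y, hy, rfl⟩
  have hyM : y ∈ M := hP₀ hy
  have : (MulAut.conj (m : G)).toMonoidHom y = (m : G) * y * (m : G)⁻¹ := by
    simp [MulAut.conj_apply]
  rw [this]
  exact M.mul_mem (M.mul_mem m.2 hyM) (M.inv_mem m.2)

/-- The normalizer of a nilpotent subgroup normalizes each of its Sylow subgroups. -/
theorem normalizer_le_normalizer_sylow [Finite G] {H : Subgroup G} (hnil : Group.IsNilpotent ↥H)
    {p : ℕ} [Fact p.Prime] (Q : Sylow p ↥H) :
    Subgroup.normalizer (H : Set G) ≤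
      Subgroup.normalizer (((Q : Subgroup ↥H).map H.subtype : Subgroup G) : Set G) := by
  haveI := hnil
  have hQn : (Q : Subgroup ↥H).Normal := inferInstance
  haveI : Unique (Sylow p ↥H) := Sylow.unique_of_normal Q hQn
  apply PFEight.le_normalizer_of_conj_mem
  intro g hg a ha
  obtain ⟨a', ha', rfl⟩ := ha
  have hgH : g * (a' : G) * g⁻¹ ∈ H := by
    rw [Subgroup.mem_set_normalizer_iff] at hg
    exact (hg (a' : G)).1 a'.2
  -- the subgroup `g Q g⁻¹` of `H`
  let Q' : Subgroup G := ((Q : Subgroup ↥H).map H.subtype).map (MulAut.conj g).toMonoidHom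
  have hQ'p : IsPGroup p ↥(Q'.subgroupOf H) :=
    ((Q.2.map H.subtype).map (MulAut.conj g).toMonoidHom).comap_subtype
  obtain ⟨R, hR⟩ := hQ'p.exists_le_sylow
  have hRQ : R = Q := Subsingleton.elim _ _
  have hmem : (⟨g * (a' : G) * g⁻¹, hgH⟩ : ↥H) ∈ Q'.subgroupOf H := by
    rw [Subgroup.mem_subgroupOf]
    refine ⟨(a' : G), ⟨a', ha', rfl⟩, ?_⟩
    simp [MulAut.conj_apply]
  have := hR hmem
  rw [hRQ] at this
  exact ⟨⟨g * (a' : G) * g⁻¹, hgH⟩, this, rfl⟩

/-- A nontrivial nilpotent Hall subgroup of `M` all of whose primes lie in `σ(M)` has its normalizer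
in `M`. -/
theorem normalizer_le_of_hall_nilpotent [Finite G] {M H : Subgroup G} (hHM : H ≤ M)
    (hnil : Group.IsNilpotent ↥H) (hne : H ≠ ⊥)
    (hσ : ∀ p : ℕ, p.Prime → p ∣ Nat.card H → p ∈ sigma M)
    (hHall : (Nat.card H).Coprime (H.relIndex M)) : Subgroup.normalizer (H : Set G) ≤ M := by
  have h1 : Nat.card H ≠ 1 := fun h => hne (Subgroup.card_eq_one.1 h)
  obtain ⟨p, hp, hpH⟩ := Nat.exists_prime_and_dvd h1
  haveI : Fact p.Prime := ⟨hp⟩
  let Q : Sylow p ↥H := default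
  exact (normalizer_le_normalizer_sylow hnil Q).trans
    (normalizer_sylow_le hHM hHall (hσ p hp hpH) hpH Q)

/-! ### Type-P data with an arbitrary complement of `M_F` in `M'` -/

/-- type-P data `(K, U_P, K*)` for any nilpotent `K`-invariant complement `U_P` of `M_F` in `M'`. -/
theorem isTypePWith_of_decomp' [Finite G] {M K U UP : Subgroup G}
    (hKU : IsSigmaDecomposition M K U) (hK1 : K ≠ ⊥)
    (hUPnil : Group.IsNilpotent ↥UP) (hUPn : K ≤ Subgroup.normalizer (UP : Set G))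
    (hUPc : IsComplIn (fittingHallOf M) UP ⁅M, M⁆)
    (h56 : ⁅⁅M, M⁆, ⁅M, M⁆⁆ ≤ fittingOf M ∧
      fittingOf M = (M ⊓ Subgroup.centralizer (fittingHallOf M : Set G)) ⊔ fittingHallOf M ∧
      ((kappa M).Nonempty → fittingOf M ≤ ⁅M, M⁆))
    (h64 : IsCyclic ↥(sigmaCore M ⊓ Subgroup.centralizer (K : Set G)) ∧
      (sigmaCore M ⊓ Subgroup.centralizer (K : Set G)) ≠ ⊥ ∧
      (sigmaCore M ⊓ Subgroup.centralizer (K : Set G)) ≤ fittingHallOf M ∧
      ¬ IsCyclic (fittingHallOf M))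
    (h65 : ⁅M, M⁆ = U ⊔ sigmaCore M ∧
      (sigmaCore M ⊓ Subgroup.centralizer (K : Set G)) ≤ ⁅⁅M, M⁆, ⁅M, M⁆⁆)
    (h54 : ∀ k ∈ K, k ≠ 1 → M ⊓ Subgroup.centralizer ({k} : Set G) =
      K ⊔ (sigmaCore M ⊓ Subgroup.centralizer (K : Set G)))
    (h68 : IsCyclic ↥(K ⊔ (sigmaCore M ⊓ Subgroup.centralizer (K : Set G))))
    (h70 : IsTISubset ((↑(K ⊔ (sigmaCore M ⊓ Subgroup.centralizer (K : Set G))) : Set G) \
        ((K : Set G) ∪ ↑(sigmaCore M ⊓ Subgroup.centralizer (K : Set G)))) ∧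
      Subgroup.normalizer ((↑(K ⊔ (sigmaCore M ⊓ Subgroup.centralizer (K : Set G))) : Set G) \
        ((K : Set G) ∪ ↑(sigmaCore M ⊓ Subgroup.centralizer (K : Set G)))) =
        K ⊔ (sigmaCore M ⊓ Subgroup.centralizer (K : Set G))) :
    IsTypePWith M K UP (sigmaCore M ⊓ Subgroup.centralizer (K : Set G)) := by
  have hc1 := isComplIn_commutator hKU h65.1
  have hc2 := isComplIn_sigmaCore hKU h65.1
  exact
    { W₁_ne := hK1
      W₁_cyclic := hKU.cyclic
      W₁_hall := coprime_card_relIndex_of_hall hKU.hall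
      W₁_compl := hc1
      U_nilpotent := hUPnil
      U_normal := hUPn
      U_compl := hUPc
      H_not_cyclic := h64.2.2.2
      derived_two_le := by
        rw [sup_comm, ← h56.2.1]
        exact h56.1
      fitting_eq := by
        rw [sup_comm, ← h56.2.1]
      fitting_le := h56.2.2 (kappa_nonempty_of_ne_bot hKU.hall hK1)
      W₂_le := le_inf h64.2.2.1 h65.2
      W₂_centralizer := commutator_inf_centralizer_eq hc1.2.2.1 hc2.1 h54
      selfNormalizing := isSelfNormalizingCyclic_of hKU.hall hK1 h64.2.1 h68 h70 }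

/-- a complement of `M_F` in `M' = M_σ` (case `U = 1`) is a Hall subgroup of `M` with primes in
`σ(M)` -/
theorem hall_of_isComplIn_sigmaCore [Finite G] {M K U UP : Subgroup G}
    (hKU : IsSigmaDecomposition M K U)
    (h65 : ⁅M, M⁆ = U ⊔ sigmaCore M) (hU : U = ⊥)
    (hUPc : IsComplIn (fittingHallOf M) UP ⁅M, M⁆) :
    UP ≤ M ∧ (∀ p : ℕ, p.Prime → p ∣ Nat.card UP → p ∈ sigma M) ∧
      (Nat.card UP).Coprime (UP.relIndex M) := by
  have hMS : ⁅M, M⁆ = sigmaCore M := by rw [h65, hU, bot_sup_eq]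
  have hUPS : UP ≤ sigmaCore M := hMS ▸ hUPc.2.1
  have hUPM : UP ≤ M := hUPS.trans (sigmaCore_le M)
  have hσ : ∀ p : ℕ, p.Prime → p ∣ Nat.card UP → p ∈ sigma M := fun p hp hd =>
    sigmaCore_isPi M p hp (hd.trans (Subgroup.card_dvd_of_le hUPS))
  refine ⟨hUPM, hσ, ?_⟩
  have hc1 := isComplIn_commutator hKU h65
  have h1 := Cfsg.Agent.Lib.Helper23.card_of_isComplIn hc1
  have h2 := Cfsg.Agent.Lib.Helper23.card_of_isComplIn hUPc
  have h3 := Cfsg.Agent.Lib.Helper23.card_mul_relIndex_of_le hUPM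
  have h4 : UP.relIndex M = Nat.card (fittingHallOf M) * Nat.card K := by
    rw [h1, h2] at h3
    have h5 : Nat.card ↥UP * UP.relIndex M =
        Nat.card ↥UP * (Nat.card (fittingHallOf M) * Nat.card K) := by
      rw [h3]; ring
    exact Nat.eq_of_mul_eq_mul_left Nat.card_pos h5
  rw [h4]
  apply Nat.Coprime.mul_right
  · -- `|U_P|` is prime to `|M_F|`
    have h6 := coprime_card_fittingHallOf_relIndex M
    have h7 : Nat.card ↥UP ∣ (fittingHallOf M).relIndex M := by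
      have h8 := Cfsg.Agent.Lib.Helper23.card_mul_relIndex_of_le (PFEight.fittingHallOf_le M)
      rw [h1, h2] at h8
      have h9 : Nat.card ↥(fittingHallOf M) * (fittingHallOf M).relIndex M =
          Nat.card ↥(fittingHallOf M) * (Nat.card ↥UP * Nat.card ↥K) := by
        rw [h8]; ring
      rw [Nat.eq_of_mul_eq_mul_left Nat.card_pos h9]
      exact Dvd.intro _ rfl
    exact (h6.coprime_dvd_right h7).symm
  · apply coprime_of_forall_prime
    intro p hp hpU hpK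
    exact (hKU.hall.2.1 p hp hpK).2.2.1 (hσ p hp hpU)

/-! ### The case `K ≠ 1`, `U = 1`, `M_F ≠ M_σ`: Types III and IV -/

theorem isOfTypeIII_or_IV_of_decomp [Finite G] (hG : IsMinSimpleOddOrder G) {M K U : Subgroup G}
    (hM : IsCoatom M) (hKU : IsSigmaDecomposition M K U) (hK1 : K ≠ ⊥) (hU : U = ⊥)
    (hne : fittingHallOf M ≠ sigmaCore M)
    (h55 : fittingHallOf M ≤ sigmaCore M)
    (h57 : IsTISubset (fittingOf M : Set G) ∧ (Nat.card K).Prime)
    (q : ℕ) (hq : q.Prime)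
    (h37 : ∃ Q : Subgroup G, Q ≤ fittingHallOf M ∧ IsPGroup q Q ∧
      ¬ q ∣ Q.relIndex (sigmaCore M) ∧
      ∀ D : Subgroup G, IsComplIn Q D (sigmaCore M) → Group.IsNilpotent D)
    (h56 : ⁅⁅M, M⁆, ⁅M, M⁆⁆ ≤ fittingOf M ∧
      fittingOf M = (M ⊓ Subgroup.centralizer (fittingHallOf M : Set G)) ⊔ fittingHallOf M ∧
      ((kappa M).Nonempty → fittingOf M ≤ ⁅M, M⁆))
    (h64 : IsCyclic ↥(sigmaCore M ⊓ Subgroup.centralizer (K : Set G)) ∧
      (sigmaCore M ⊓ Subgroup.centralizer (K : Set G)) ≠ ⊥ ∧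
      (sigmaCore M ⊓ Subgroup.centralizer (K : Set G)) ≤ fittingHallOf M ∧
      ¬ IsCyclic (fittingHallOf M))
    (h65 : ⁅M, M⁆ = U ⊔ sigmaCore M ∧
      (sigmaCore M ⊓ Subgroup.centralizer (K : Set G)) ≤ ⁅⁅M, M⁆, ⁅M, M⁆⁆)
    (h54 : ∀ k ∈ K, k ≠ 1 → M ⊓ Subgroup.centralizer ({k} : Set G) =
      K ⊔ (sigmaCore M ⊓ Subgroup.centralizer (K : Set G)))
    (h68 : IsCyclic ↥(K ⊔ (sigmaCore M ⊓ Subgroup.centralizer (K : Set G))))
    (h70 : IsTISubset ((↑(K ⊔ (sigmaCore M ⊓ Subgroup.centralizer (K : Set G))) : Set G) \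
        ((K : Set G) ∪ ↑(sigmaCore M ⊓ Subgroup.centralizer (K : Set G)))) ∧
      Subgroup.normalizer ((↑(K ⊔ (sigmaCore M ⊓ Subgroup.centralizer (K : Set G))) : Set G) \
        ((K : Set G) ∪ ↑(sigmaCore M ⊓ Subgroup.centralizer (K : Set G)))) =
        K ⊔ (sigmaCore M ⊓ Subgroup.centralizer (K : Set G))) :
    IsOfTypeIII M ∨ IsOfTypeIV M := by
  haveI : Fact q.Prime := ⟨hq⟩
  have hKM : K ≤ M := hKU.hall.1
  have hMS : ⁅M, M⁆ = sigmaCore M := by rw [h65.1, hU, bot_sup_eq]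
  have hsolv : Group.IsSolvable ↥(sigmaCore M) := isSolvable_of_isCoatom hG hM (sigmaCore_le M)
  -- a `K`-invariant complement of `M_F` in `M_σ`
  have hHallF : (Nat.card (fittingHallOf M)).Coprime ((fittingHallOf M).relIndex (sigmaCore M)) := by
    have h1 := coprime_card_fittingHallOf_relIndex M
    have h2 : (fittingHallOf M).relIndex (sigmaCore M) * (sigmaCore M).relIndex M =
        (fittingHallOf M).relIndex M :=
      Subgroup.relIndex_mul_relIndex _ _ _ h55 (sigmaCore_le M)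
    exact h1.coprime_dvd_right (Dvd.intro _ h2)
  have h45 := Cfsg.Agent.S3745.result K (sigmaCore M) (hKM.trans (le_normalizer_sigmaCore M))
    (coprime_card_kappa_sigmaCore hKU.hall) hsolv {r | r.Prime ∧ ¬ r ∣ Nat.card (fittingHallOf M)}
  obtain ⟨UP, hUPhall, hUPn⟩ := h45.1
  have hUPc' : IsComplIn (fittingHallOf M) UP (sigmaCore M) :=
    isComplIn_of_isPiHallOf h55 hHallF hUPhall
  have hUPc : IsComplIn (fittingHallOf M) UP ⁅M, M⁆ := hMS ▸ hUPc'
  have hUPS : UP ≤ sigmaCore M := hUPc'.2.1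
  have hcopFU : (Nat.card (fittingHallOf M)).Coprime (Nat.card UP) := by
    apply coprime_of_forall_prime
    intro p hp hpF hpU
    exact (hUPhall.2.1 p hp hpU).2 hpF
  -- `U_P ≠ 1`
  have hUP1 : UP ≠ ⊥ := by
    intro hbot
    apply hne
    apply le_antisymm h55
    intro x hx
    obtain ⟨a, ha, b, hb, rfl⟩ := hUPc'.2.2.2 x hx
    rw [hbot, Subgroup.mem_bot] at hb
    rw [hb, mul_one]; exact ha
  -- `U_P` is nilpotent
  obtain ⟨Q, hQF, hQp, hQidx, hQD⟩ := h37
  have hQS : Q ≤ sigmaCore M := hQF.trans h55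
  have hHallQ : (Nat.card Q).Coprime (Q.relIndex (sigmaCore M)) := by
    apply coprime_of_forall_prime
    intro r hr hrQ hrI
    obtain ⟨n, hn⟩ := IsPGroup.iff_card.1 hQp
    rw [hn] at hrQ
    have : r = q := (Nat.prime_dvd_prime_iff_eq hr hq).1 (hr.dvd_of_dvd_pow hrQ)
    exact hQidx (this ▸ hrI)
  have h45' := Cfsg.Agent.S3745.result (⊥ : Subgroup G) (sigmaCore M) bot_le
    (by rw [Subgroup.card_bot]; exact Nat.coprime_one_left _) hsolv
    {r | r.Prime ∧ ¬ r ∣ Nat.card Q}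
  obtain ⟨D, hDhall, -, hUPD⟩ := h45'.2.2 UP hUPS bot_le (by
    intro r hr hrU
    refine ⟨hr, fun hrQ => ?_⟩
    exact hr.one_lt.ne' (Nat.eq_one_of_dvd_coprimes hcopFU
      (hrQ.trans (Subgroup.card_dvd_of_le hQF)) hrU))
  have hDc : IsComplIn Q D (sigmaCore M) := isComplIn_of_isPiHallOf hQS hHallQ hDhall
  have hDnil : Group.IsNilpotent ↥D := hQD D hDc
  have hUPnil : Group.IsNilpotent ↥UP := by
    haveI := hDnil
    exact Group.nilpotent_of_mulEquiv (Subgroup.subgroupOfEquivOfLe hUPD)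
  -- `N_G(U_P) ≤ M`
  obtain ⟨hUPM, hσ, hHallU⟩ := hall_of_isComplIn_sigmaCore hKU h65.1 hU hUPc
  have hNU : Subgroup.normalizer (UP : Set G) ≤ M :=
    normalizer_le_of_hall_nilpotent hUPM hUPnil hUP1 hσ hHallU
  have hP := isTypePWith_of_decomp' hKU hK1 hUPnil hUPn hUPc h56 h64 h65 h54 h68 h70
  by_cases hab : IsMulCommutative ↥UP
  · exact Or.inl ⟨K, UP, _, hP, hUP1, h57.2, h57.1, hab, hNU⟩
  · exact Or.inr ⟨K, UP, _, hP, hUP1, h57.2, h57.1, hab, hNU⟩

end Cfsg.Agent.Lib.Helper26.BGTypes
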