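import Mathlib
import Cfsg.Agent.Lib.Helper26.BGTypesD

/-!
# Bender–Glauberman section 16, part E: Type V; from the types back to the factorisation
-/

set_option autoImplicit false

namespace Cfsg.Agent.Lib.Helper26.BGTypes

open Cfsg Cfsg.Agent.Lib.Helper26.PFBook

universe u

variable {G : Type u} [Group G]

/-- a cyclic subgroup `K` of `M` meeting `M_F` trivially embeds in `M/M_F`, so `|K|` divides the
exponent of `M/M_F` -/
theorem card_dvd_exponent_quotient [Finite G] {M K : Subgroup G} (hKM : K ≤ M)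
    (hKc : IsCyclic K) (hKF : K ⊓ fittingHallOf M = ⊥) :
    Nat.card K ∣ Monoid.exponent (↥M ⧸ fittingHall ↥M) := by
  obtain ⟨k, hk⟩ := hKc.exists_generator
  have hord : orderOf k = Nat.card K := orderOf_eq_card_of_forall_mem_zpowers hk
  let k' : ↥M := ⟨(k : G), hKM k.2⟩
  have h1 : orderOf (QuotientGroup.mk k' : ↥M ⧸ fittingHall ↥M) ∣
      Monoid.exponent (↥M ⧸ fittingHall ↥M) := Monoid.order_dvd_exponent _
  refine dvd_trans ?_ h1
  rw [← hord, orderOf_dvd_iff_pow_eq_one]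
  have h2 : (QuotientGroup.mk k' : ↥M ⧸ fittingHall ↥M) ^
      orderOf (QuotientGroup.mk k' : ↥M ⧸ fittingHall ↥M) = 1 := pow_orderOf_eq_one _
  rw [← QuotientGroup.mk_pow, QuotientGroup.eq_one_iff] at h2
  have h3 : (k : G) ^ orderOf (QuotientGroup.mk k' : ↥M ⧸ fittingHall ↥M) ∈
      K ⊓ fittingHallOf M := by
    refine ⟨K.pow_mem k.2 _, ?_⟩
    exact ⟨k' ^ orderOf (QuotientGroup.mk k' : ↥M ⧸ fittingHall ↥M), h2, by simp [k']⟩
  rw [hKF, Subgroup.mem_bot] at h3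
  exact Subtype.ext (by simpa using h3)

/-- **The case `K ≠ 1`, `U = 1`, `M_F = M_σ`: Type V.**  The hypothesis `h40` consists of two
clauses of the conclusion of the summary row on `F(M) ∩ F(M)^g ≠ 1`. -/
theorem isOfTypeV_of_decomp [Finite G] {M K U : Subgroup G}
    (hKU : IsSigmaDecomposition M K U) (hK1 : K ≠ ⊥) (hU : U = ⊥)
    (hFS : fittingHallOf M = sigmaCore M)
    (h56 : ⁅⁅M, M⁆, ⁅M, M⁆⁆ ≤ fittingOf M ∧
      fittingOf M = (M ⊓ Subgroup.centralizer (fittingHallOf M : Set G)) ⊔ fittingHallOf M ∧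
      ((kappa M).Nonempty → fittingOf M ≤ ⁅M, M⁆))
    (h64 : IsCyclic ↥(sigmaCore M ⊓ Subgroup.centralizer (K : Set G)) ∧
      (sigmaCore M ⊓ Subgroup.centralizer (K : Set G)) ≠ ⊥ ∧
      (sigmaCore M ⊓ Subgroup.centralizer (K : Set G)) ≤ fittingHallOf M ∧
      ¬ IsCyclic (fittingHallOf M))
    (h65 : ⁅M, M⁆ = U ⊔ sigmaCore M ∧
      (sigmaCore M ⊓ Subgroup.centralizer (K : Set G)) ≤ ⁅⁅M, M⁆, ⁅M, M⁆⁆)
    (h54 : ∀ k ∈ K, k ≠ 1 → M ⊓ Subgroup.centralizer ({k} : Set G) =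
      K ⊔ (sigmaCore M ⊓ Subgroup.centralizer (K : Set G)))
    (h68 : IsCyclic ↥(K ⊔ (sigmaCore M ⊓ Subgroup.centralizer (K : Set G))))
    (h70 : IsTISubset ((↑(K ⊔ (sigmaCore M ⊓ Subgroup.centralizer (K : Set G))) : Set G) \
        ((K : Set G) ∪ ↑(sigmaCore M ⊓ Subgroup.centralizer (K : Set G)))) ∧
      Subgroup.normalizer ((↑(K ⊔ (sigmaCore M ⊓ Subgroup.centralizer (K : Set G))) : Set G) \
        ((K : Set G) ∪ ↑(sigmaCore M ⊓ Subgroup.centralizer (K : Set G)))) =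
        K ⊔ (sigmaCore M ⊓ Subgroup.centralizer (K : Set G)))
    (h40 : ∀ g : G, g ∉ M →
      fittingOf M ⊓ (fittingOf M).map (MulAut.conj g).toMonoidHom ≠ ⊥ →
      (fittingOf M ⊓ (fittingOf M).map (MulAut.conj g).toMonoidHom ≤ fittingHallOf M) ∧
      ((K = ⊥ ∧ IsMulCommutative (fittingHallOf M) ∧ RankLE 2 (fittingHallOf M) ∧
          ¬ RankLE 1 (fittingHallOf M)) ∨
       (∃ p : ℕ, p.Prime ∧
          Nat.card ↥(fittingOf M ⊓ (fittingOf M).map (MulAut.conj g).toMonoidHom) = p ∧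
          p ∈ sigma M ∧ p ∉ beta M ∧
          ¬ IsMulCommutative (pCore p ↥(fittingHallOf M)) ∧
          IsCyclic (pPrimeCore p ↥(fittingHallOf M)) ∧
          ∀ q : ℕ, q.Prime → q ∣ Nat.card (fittingHallOf M) →
            Monoid.exponent (↥M ⧸ fittingHall ↥M) ∣ q - 1) ∨
       (∃ p : ℕ, p.Prime ∧
          Nat.card ↥(fittingOf M ⊓ (fittingOf M).map (MulAut.conj g).toMonoidHom) = p ∧
          p ∈ sigma M ∧ p ∉ beta M ∧
          IsCyclic (pPrimeCore p ↥(fittingHallOf M)) ∧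
          Nat.card (pCore p ↥(fittingHallOf M)) = p ^ 3 ∧
          ¬ IsMulCommutative (pCore p ↥(fittingHallOf M)) ∧ K ≠ ⊥ ∧ U = ⊥ ∧
          (fittingHallOf M).relIndex M ∣ p + 1))) :
    IsOfTypeV M := by
  have hKM : K ≤ M := hKU.hall.1
  have hUnil : Group.IsNilpotent ↥U := by
    apply isNilpotent_of_isMulCommutative
    refine ⟨⟨fun a b => ?_⟩⟩
    have ha : (a : G) = 1 := (Subgroup.eq_bot_iff_forall U).1 hU (a : G) a.2
    have hb : (b : G) = 1 := (Subgroup.eq_bot_iff_forall U).1 hU (b : G) b.2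
    exact Subtype.ext (by simp [ha, hb])
  have hP := isTypePWith_of_decomp hKU hK1 hFS hUnil h56 h64 h65 h54 h68 h70
  refine ⟨K, U, _, hP, hU, ?_⟩
  by_cases hTI : IsTISubset (fittingHallOf M : Set G)
  · exact Or.inl hTI
  · right
    have hex : ∃ g : G, g ∉ Subgroup.normalizer (fittingHallOf M : Set G) ∧
        ∃ x ∈ fittingHallOf M, g * x * g⁻¹ ∈ fittingHallOf M ∧ x ≠ 1 := by
      by_contra hcon
      apply hTI
      intro g hg x hx hgx
      by_contra hx1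
      exact hcon ⟨g, hg, x, hx, hgx, hx1⟩
    obtain ⟨g, hg, x, hx, hgx, hx1⟩ := hex
    have hgM : g ∉ M := fun hgM => hg
      (PFEight.le_normalizer_of_conj_mem
        (fun m hm a ha => PFEight.conj_mem_fittingHallOf M hm ha) hgM)
    have hFF : fittingHallOf M ≤ fittingOf M := by
      rw [h56.2.1]; exact le_sup_right
    have hX : fittingOf M ⊓ (fittingOf M).map (MulAut.conj g).toMonoidHom ≠ ⊥ := by
      intro hbot
      have : g * x * g⁻¹ ∈ fittingOf M ⊓ (fittingOf M).map (MulAut.conj g).toMonoidHom :=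
        ⟨hFF hgx, ⟨x, hFF hx, by simp [MulAut.conj_apply]⟩⟩
      rw [hbot, Subgroup.mem_bot] at this
      exact PFEight.conj_ne_one hx1 this
    obtain ⟨hXF, h3⟩ := h40 g hgM hX
    have hKF : K ⊓ fittingHallOf M = ⊥ := by
      rw [hFS]; exact inf_sigmaCore_eq_bot hKU.hall
    rcases h3 with h3 | ⟨p, hp, hcard, -, -, -, hcyc, hexp⟩ | ⟨p, hp, hcard, -, -, hcyc, hp3, -, -, -, hidx⟩
    · exact absurd h3.1 hK1
    · left
      have hpF : p ∣ Nat.card (fittingHallOf M) := by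
        rw [← hcard]; exact Subgroup.card_dvd_of_le hXF
      exact ⟨p, hp, hpF,
        (card_dvd_exponent_quotient hKM hKU.cyclic hKF).trans (hexp p hp hpF), hcyc⟩
    · right
      have hpF : p ∣ Nat.card (fittingHallOf M) := by
        rw [← hcard]; exact Subgroup.card_dvd_of_le hXF
      refine ⟨p, hp, hpF, hp3, ?_, hcyc⟩
      have hc1 := isComplIn_commutator hKU h65.1
      have hMS : ⁅M, M⁆ = fittingHallOf M := by rw [h65.1, hU, bot_sup_eq, hFS]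
      rw [hMS] at hc1
      have hc1' : IsComplIn K (fittingHallOf M) M := by
        refine ⟨hc1.2.1, hc1.1, by rw [inf_comm]; exact hc1.2.2.1, fun m hm => ?_⟩
        obtain ⟨a, ha, b, hb, hab⟩ := hc1.2.2.2 m⁻¹ (M.inv_mem hm)
        refine ⟨b⁻¹, Subgroup.inv_mem _ hb, a⁻¹, Subgroup.inv_mem _ ha, ?_⟩
        have : m = (m⁻¹)⁻¹ := (inv_inv m).symm
        rw [this, hab, mul_inv_rev]
      rw [PFEight.relIndex_of_isComplIn hc1'] at hidx
      exact hidx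

/-! ### Complements of a normal Hall subgroup are conjugate -/

theorem exists_conj_of_isComplIn [Finite G] {N X U U' : Subgroup G}
    (hsolv : Group.IsSolvable ↥X) (hc : IsComplIn N U X) (hc' : IsComplIn N U' X)
    (hcop : (Nat.card N).Coprime (Nat.card U)) :
    ∃ c ∈ X, U' = U.map (MulAut.conj c).toMonoidHom := by
  have hcard : Nat.card ↥U' = Nat.card ↥U := by
    have h1 := Cfsg.Agent.Lib.Helper23.card_of_isComplIn hc
    have h2 := Cfsg.Agent.Lib.Helper23.card_of_isComplIn hc'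
    have hpos : 0 < Nat.card ↥N := Nat.card_pos
    rw [h1] at h2
    exact (Nat.eq_of_mul_eq_mul_left hpos h2).symm
  let π : Set ℕ := {p | p ∣ Nat.card ↥U}
  have hU : IsPiHallOf π U X := by
    refine ⟨hc.2.1, fun p _ hp => hp, fun p hp hpπ hdvd => ?_⟩
    rw [PFEight.relIndex_of_isComplIn hc] at hdvd
    exact hp.one_lt.ne' (Nat.eq_one_of_dvd_coprimes hcop hdvd hpπ)
  have hU' : IsPiHallOf π U' X := by
    refine ⟨hc'.2.1, fun p _ hp => ?_, fun p hp hpπ hdvd => ?_⟩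
    · show p ∣ Nat.card ↥U
      rw [← hcard]; exact hp
    · rw [PFEight.relIndex_of_isComplIn hc'] at hdvd
      exact hp.one_lt.ne' (Nat.eq_one_of_dvd_coprimes hcop hdvd hpπ)
  have h := Cfsg.Agent.S3745.result (⊥ : Subgroup G) X bot_le
    (by rw [Subgroup.card_bot]; exact Nat.coprime_one_left _) hsolv π
  obtain ⟨c, hc0, hcU⟩ := h.2.1 U U' hU bot_le hU' bot_le
  exact ⟨c, hc0.1, hcU⟩

/-! ### From the types back to the standard factorisation -/

section back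

variable [Finite G] (hG : IsMinSimpleOddOrder G) {M K U : Subgroup G} (hM : IsCoatom M)
  (hKU : IsSigmaDecomposition M K U)
  (h55 : fittingHallOf M ≠ ⊥ ∧ fittingHallOf M ≤ sigmaCore M ∧ sigmaCore M ≤ ⁅M, M⁆ ∧
    ⁅M, M⁆ < M)
  (h57 : fittingHallOf M ≠ sigmaCore M → U = ⊥)
  (h59 : IsMulCommutative (Subgroup.closure ((U : Set G) ∩ sigmaHat M)))
  (h60 : ∃ U₀ : Subgroup G, U₀ ≤ U ∧ Monoid.exponent U₀ = Monoid.exponent U ∧
    ∀ u ∈ U₀, u ∈ sigmaHat M → u = 1)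

include hG hM hKU h55 h57 h59 h60

/-- a maximal subgroup with type-P data has `K ≠ 1` -/
theorem ne_bot_of_typeP {W₁ U' W₂ : Subgroup G} (hP : IsTypePWith M W₁ U' W₂) : K ≠ ⊥ := by
  intro hK
  obtain ⟨-, -, hF⟩ := isOfTypeF_of_decomp hG hM hKU hK h55 h57 h59 h60
  exact PFEight.not_typeF_of_typeP hF hP

theorem decomp_of_typeII (h65 : K ≠ ⊥ → ⁅M, M⁆ = U ⊔ sigmaCore M) (hII : IsOfTypeII M) :
    K ≠ ⊥ ∧ U ≠ ⊥ := by
  obtain ⟨W₁, U', W₂, hP, hU'1, -, -, -, hN, -, -⟩ := hII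
  have hK1 : K ≠ ⊥ := ne_bot_of_typeP hG hM hKU h55 h57 h59 h60 hP
  refine ⟨hK1, fun hU => ?_⟩
  obtain ⟨hU'M, hσ, hHall⟩ := hall_of_isComplIn_sigmaCore hKU (h65 hK1) hU hP.U_compl
  exact hN (normalizer_le_of_hall_nilpotent hU'M hP.U_nilpotent hU'1 hσ hHall)

theorem decomp_of_typeIII_IV (h65 : K ≠ ⊥ → ⁅M, M⁆ = U ⊔ sigmaCore M)
    (h63 : K ≠ ⊥ → ¬ Subgroup.normalizer (U : Set G) ≤ M)
    (h34 : IsOfTypeIII M ∨ IsOfTypeIV M) :
    K ≠ ⊥ ∧ U = ⊥ ∧ fittingHallOf M ≠ sigmaCore M := by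
  obtain ⟨W₁, U', W₂, hP, hU'1, hN⟩ : ∃ W₁ U' W₂ : Subgroup G, IsTypePWith M W₁ U' W₂ ∧ U' ≠ ⊥ ∧
      Subgroup.normalizer (U' : Set G) ≤ M := by
    rcases h34 with ⟨W₁, U', W₂, hP, hU'1, -, -, -, hN⟩ | ⟨W₁, U', W₂, hP, hU'1, -, -, -, hN⟩
    · exact ⟨W₁, U', W₂, hP, hU'1, hN⟩
    · exact ⟨W₁, U', W₂, hP, hU'1, hN⟩
  have hK1 : K ≠ ⊥ := ne_bot_of_typeP hG hM hKU h55 h57 h59 h60 hP
  by_cases hU : U = ⊥
  · refine ⟨hK1, hU, fun hFS => ?_⟩
    have hMS : ⁅M, M⁆ = sigmaCore M := by rw [h65 hK1, hU, bot_sup_eq]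
    have h1 := Cfsg.Agent.Lib.Helper23.card_of_isComplIn hP.U_compl
    rw [hMS, ← hFS] at h1
    apply hU'1
    rw [← Subgroup.card_eq_one]
    have h2 : Nat.card ↥(fittingHallOf M) * Nat.card ↥U' = Nat.card ↥(fittingHallOf M) * 1 := by
      rw [← h1, mul_one]
    exact Nat.eq_of_mul_eq_mul_left Nat.card_pos h2
  · exfalso
    have hFS : fittingHallOf M = sigmaCore M := by
      by_contra h
      exact hU (h57 h)
    have hc2 := isComplIn_sigmaCore hKU (h65 hK1)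
    rw [← hFS] at hc2
    have hsolv : Group.IsSolvable ↥⁅M, M⁆ :=
      isSolvable_of_isCoatom hG hM (PFEight.commutator_self_le M)
    have hcop := (Cfsg.Agent.Lib.Helper23.typeP_coprime hP).1
    have hcardU : Nat.card ↥U = Nat.card ↥U' := by
      have h1 := Cfsg.Agent.Lib.Helper23.card_of_isComplIn hc2
      have h2 := Cfsg.Agent.Lib.Helper23.card_of_isComplIn hP.U_compl
      rw [h1] at h2
      exact Nat.eq_of_mul_eq_mul_left Nat.card_pos h2
    rw [← hcardU] at hcop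
    obtain ⟨c, hc, hcU⟩ := exists_conj_of_isComplIn hsolv hc2 hP.U_compl hcop
    exact h63 hK1 (PFEight.normalizer_le_of_conj (PFEight.commutator_self_le M hc) hcU hN)

theorem decomp_of_typeV (h65 : K ≠ ⊥ → ⁅M, M⁆ = U ⊔ sigmaCore M) (hV : IsOfTypeV M) :
    K ≠ ⊥ ∧ U = ⊥ ∧ fittingHallOf M = sigmaCore M := by
  obtain ⟨W₁, U', W₂, hP, hU', -⟩ := hV
  have hK1 : K ≠ ⊥ := ne_bot_of_typeP hG hM hKU h55 h57 h59 h60 hP
  have hMF : ⁅M, M⁆ ≤ fittingHallOf M := by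
    intro m hm
    obtain ⟨a, ha, b, hb, rfl⟩ := hP.U_compl.2.2.2 m hm
    rw [hU', Subgroup.mem_bot] at hb
    rw [hb, mul_one]; exact ha
  have hFS : fittingHallOf M = sigmaCore M :=
    le_antisymm h55.2.1 (h55.2.2.1.trans hMF)
  refine ⟨hK1, ?_, hFS⟩
  have hUS : U ≤ sigmaCore M := by
    have : U ≤ ⁅M, M⁆ := by rw [h65 hK1]; exact le_sup_left
    exact (this.trans hMF).trans h55.2.1
  rw [eq_bot_iff]
  intro x hx
  have : x ∈ U ⊓ (K ⊔ sigmaCore M) := ⟨hx, Subgroup.mem_sup_right (hUS hx)⟩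
  rwa [hKU.compl.2.2.1] at this

end back

end Cfsg.Agent.Lib.Helper26.BGTypes
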