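import Mathlib
import Cfsg.Agent.Lib.Helper26.BGTypesE
import Cfsg.Agent.Lib.Helper4.PFInterface

/-!
# Bender–Glauberman section 16, part F: the rows "Type II / III-IV / V iff ..." from the literal
statements of the other summary rows
-/

set_option autoImplicit false

namespace Cfsg.Agent.Lib.Helper26.BGTypes

open Cfsg Cfsg.Agent.Lib.Helper4.PF

/-- literal body of the frozen statement S1437 -/
def Stmt1437 (G : Type*) [Group G] [Finite G] : Prop :=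
  ∀ (M : Subgroup G) (hM : IsCoatom M) (K U : Subgroup G) (hKU : Cfsg.IsSigmaDecomposition M K U) (hne : Cfsg.fittingHallOf M ≠ Cfsg.sigmaCore M),
    U = ⊥ ∧ Cfsg.sigmaCore M = ⁅M, M⁆ ∧ (Nat.card K).Prime ∧ (Nat.card ↥(Cfsg.sigmaCore M ⊓ Subgroup.centralizer (K : Set G))).Prime ∧
      Nat.card ↥(Cfsg.sigmaCore M ⊓ Subgroup.centralizer (K : Set G)) ∣ Nat.card (Cfsg.fittingHallOf M) ∧ Nat.card ↥(Cfsg.sigmaCore M ⊓ Subgroup.centralizer (K : Set G)) ∈ Cfsg.beta M ∧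
      ∃ Q : Subgroup G, Q ≤ Cfsg.fittingHallOf M ∧ M ≤ Subgroup.normalizer (Q : Set G) ∧ IsPGroup (Nat.card ↥(Cfsg.sigmaCore M ⊓ Subgroup.centralizer (K : Set G))) Q ∧
        ¬ Nat.card ↥(Cfsg.sigmaCore M ⊓ Subgroup.centralizer (K : Set G)) ∣ Q.relIndex (Cfsg.sigmaCore M) ∧
        ∀ D : Subgroup G, Cfsg.IsComplIn Q D (Cfsg.sigmaCore M) →
          Group.IsNilpotent D ∧ M ≤ Subgroup.normalizer ((Q ⊓ Subgroup.centralizer (D : Set G) : Subgroup G) : Set G) ∧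
          Q ⊓ Subgroup.centralizer (D : Set G) < Q ∧
          Nat.card Q = Nat.card ↥(Q ⊓ Subgroup.centralizer (D : Set G)) * Nat.card ↥(Cfsg.sigmaCore M ⊓ Subgroup.centralizer (K : Set G)) ^ Nat.card K ∧
          (∀ a ∈ Q, ∀ b ∈ Q, a ^ Nat.card ↥(Cfsg.sigmaCore M ⊓ Subgroup.centralizer (K : Set G)) ∈ Q ⊓ Subgroup.centralizer (D : Set G) ∧
            a * b * a⁻¹ * b⁻¹ ∈ Q ⊓ Subgroup.centralizer (D : Set G)) ∧
          ∀ N : Subgroup G, Q ⊓ Subgroup.centralizer (D : Set G) < N → N < Q → ¬ M ≤ Subgroup.normalizer (N : Set G)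

/-- literal body of the frozen statement S1440 -/
def Stmt1440 (G : Type*) [Group G] [Finite G] : Prop :=
  ∀ (M : Subgroup G) (hM : IsCoatom M) (K U : Subgroup G) (hKU : Cfsg.IsSigmaDecomposition M K U) (g : G) (hg : g ∉ M) (hX : Cfsg.fittingOf M ⊓ (Cfsg.fittingOf M).map (MulAut.conj g).toMonoidHom ≠ ⊥),
    (Cfsg.fittingOf M ⊓ (Cfsg.fittingOf M).map (MulAut.conj g).toMonoidHom ≤ Cfsg.fittingHallOf M ∧ IsCyclic ↥(Cfsg.fittingOf M ⊓ (Cfsg.fittingOf M).map (MulAut.conj g).toMonoidHom)) ∧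
      (⁅M, M⁆ = Cfsg.fittingOf M ∧ Cfsg.fittingOf M = Cfsg.sigmaCore M ⊔ Cfsg.piCoreOf {q | q.Prime ∧ q ∉ Cfsg.sigma M} (Cfsg.fittingOf M)) ∧
      ((K = ⊥ ∧ IsMulCommutative (Cfsg.fittingHallOf M) ∧ Cfsg.RankLE 2 (Cfsg.fittingHallOf M) ∧ ¬ Cfsg.RankLE 1 (Cfsg.fittingHallOf M)) ∨
       (∃ p : ℕ, p.Prime ∧ Nat.card ↥(Cfsg.fittingOf M ⊓ (Cfsg.fittingOf M).map (MulAut.conj g).toMonoidHom) = p ∧ p ∈ Cfsg.sigma M ∧ p ∉ Cfsg.beta M ∧
          ¬ IsMulCommutative (Cfsg.pCore p ↥(Cfsg.fittingHallOf M)) ∧ IsCyclic (Cfsg.pPrimeCore p ↥(Cfsg.fittingHallOf M)) ∧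
          ∀ q : ℕ, q.Prime → q ∣ Nat.card (Cfsg.fittingHallOf M) → Monoid.exponent (↥M ⧸ Cfsg.fittingHall ↥M) ∣ q - 1) ∨
       (∃ p : ℕ, p.Prime ∧ Nat.card ↥(Cfsg.fittingOf M ⊓ (Cfsg.fittingOf M).map (MulAut.conj g).toMonoidHom) = p ∧ p ∈ Cfsg.sigma M ∧ p ∉ Cfsg.beta M ∧
          IsCyclic (Cfsg.pPrimeCore p ↥(Cfsg.fittingHallOf M)) ∧ Nat.card (Cfsg.pCore p ↥(Cfsg.fittingHallOf M)) = p ^ 3 ∧
          ¬ IsMulCommutative (Cfsg.pCore p ↥(Cfsg.fittingHallOf M)) ∧ K ≠ ⊥ ∧ U = ⊥ ∧ (Cfsg.fittingHallOf M).relIndex M ∣ p + 1))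

universe u

variable {G : Type u} [Group G] [Finite G]

/-- **S1381 from the other summary rows.** -/
theorem s1381_of (hG : IsMinSimpleOddOrder G)
    (h54 : Stmt1354 G) (h55 : Stmt1355 G) (h56 : Stmt1356 G) (h57 : Stmt1357 G)
    (h59 : Stmt1359 G) (h60 : Stmt1360 G) (h63 : Stmt1363 G) (h64 : Stmt1364 G)
    (h65 : Stmt1365 G) (h66 : Stmt1366 G) (h68 : Stmt1368 G) (h70 : Stmt1370 G)
    (h72 : Stmt1372 G) : Stmt1381 G := by
  intro M hM K U hKU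
  have c55 := h55 M hM
  have c57 : fittingHallOf M ≠ sigmaCore M → U = ⊥ := fun hne => (h57 M hM K U hKU hne).1
  constructor
  · intro hII
    exact decomp_of_typeII hG hM hKU ⟨c55.1, c55.2.1, c55.2.2.1, c55.2.2.2.1⟩ c57
      (h59 M hM K U hKU) (h60 M hM K U hKU) (fun hK1 => (h65 M hM K U hKU hK1).1) hII
  · rintro ⟨hK1, hU1⟩
    obtain ⟨Mstar, ⟨hMs, hKst, hKstH⟩, -⟩ := h66 M hM K U hKU hK1
    have c68 := (h68 M hM K U hKU hK1 Mstar hMs hKst hKstH).2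
    exact isOfTypeII_of_decomp hG hM hKU hK1 hU1 c55.1 c57 (h56 M hM) (h60 M hM K U hKU)
      (h63 M hM K U hKU hK1) (h64 M hM K U hKU hK1) (h65 M hM K U hKU hK1)
      ((h54 M hM K hKU.cyclic hKU.hall).2 hK1) c68 (h70 M hM K U hKU hK1)
      (h72 M hM K U hKU hK1 hU1)

/-- **S1382 from the other summary rows.** -/
theorem s1382_of (hG : IsMinSimpleOddOrder G)
    (h54 : Stmt1354 G) (h55 : Stmt1355 G) (h56 : Stmt1356 G) (h57 : Stmt1357 G)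
    (h59 : Stmt1359 G) (h60 : Stmt1360 G) (h63 : Stmt1363 G) (h64 : Stmt1364 G)
    (h65 : Stmt1365 G) (h66 : Stmt1366 G) (h68 : Stmt1368 G) (h70 : Stmt1370 G)
    (h37 : Stmt1437 G) : Stmt1382 G := by
  intro M hM K U hKU
  have c55 := h55 M hM
  have c57 : fittingHallOf M ≠ sigmaCore M → U = ⊥ := fun hne => (h57 M hM K U hKU hne).1
  constructor
  · intro h34
    exact decomp_of_typeIII_IV hG hM hKU ⟨c55.1, c55.2.1, c55.2.2.1, c55.2.2.2.1⟩ c57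
      (h59 M hM K U hKU) (h60 M hM K U hKU) (fun hK1 => (h65 M hM K U hKU hK1).1)
      (fun hK1 => (h63 M hM K U hKU hK1).2) h34
  · rintro ⟨hK1, hU, hne⟩
    obtain ⟨Mstar, ⟨hMs, hKst, hKstH⟩, -⟩ := h66 M hM K U hKU hK1
    have c68 := (h68 M hM K U hKU hK1 Mstar hMs hKst hKstH).2
    obtain ⟨-, -, -, hqprime, -, -, Q, hQF, -, hQp, hQidx, hQD⟩ := h37 M hM K U hKU hne
    have c57' := h57 M hM K U hKU hne
    exact isOfTypeIII_or_IV_of_decomp hG hM hKU hK1 hU hne c55.2.1 ⟨c57'.2.1, c57'.2.2⟩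
      _ hqprime ⟨Q, hQF, hQp, hQidx, fun D hD => (hQD D hD).1⟩ (h56 M hM)
      (h64 M hM K U hKU hK1) (h65 M hM K U hKU hK1)
      ((h54 M hM K hKU.cyclic hKU.hall).2 hK1) c68 (h70 M hM K U hKU hK1)

/-- **S1383 from the other summary rows.** -/
theorem s1383_of (hG : IsMinSimpleOddOrder G)
    (h54 : Stmt1354 G) (h55 : Stmt1355 G) (h56 : Stmt1356 G) (h57 : Stmt1357 G)
    (h59 : Stmt1359 G) (h60 : Stmt1360 G) (h64 : Stmt1364 G)
    (h65 : Stmt1365 G) (h66 : Stmt1366 G) (h68 : Stmt1368 G) (h70 : Stmt1370 G)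
    (h40 : Stmt1440 G) : Stmt1383 G := by
  intro M hM K U hKU
  have c55 := h55 M hM
  have c57 : fittingHallOf M ≠ sigmaCore M → U = ⊥ := fun hne => (h57 M hM K U hKU hne).1
  constructor
  · intro hV
    exact decomp_of_typeV hG hM hKU ⟨c55.1, c55.2.1, c55.2.2.1, c55.2.2.2.1⟩ c57
      (h59 M hM K U hKU) (h60 M hM K U hKU) (fun hK1 => (h65 M hM K U hKU hK1).1) hV
  · rintro ⟨hK1, hU, hFS⟩
    obtain ⟨Mstar, ⟨hMs, hKst, hKstH⟩, -⟩ := h66 M hM K U hKU hK1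
    have c68 := (h68 M hM K U hKU hK1 Mstar hMs hKst hKstH).2
    exact isOfTypeV_of_decomp hKU hK1 hU hFS (h56 M hM)
      (h64 M hM K U hKU hK1) (h65 M hM K U hKU hK1)
      ((h54 M hM K hKU.cyclic hKU.hall).2 hK1) c68 (h70 M hM K U hKU hK1)
      (fun g hg hX => ⟨(h40 M hM K U hKU g hg hX).1.1, (h40 M hM K U hKU g hg hX).2.2⟩)

end Cfsg.Agent.Lib.Helper26.BGTypes
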