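import Mathlib
import Cfsg.Agent.Lib.Helper26.BGTypesF

/-!
# Bender–Glauberman section 16, part G: the weak form of the row on `F(M) ∩ F(M)^g ≠ 1` that Type V
needs; the row on `M_s` (Sylow normalizers, Hall property); conjugating a standard factorisation
-/

set_option autoImplicit false

namespace Cfsg.Agent.Lib.Helper26.BGTypes

open Cfsg Cfsg.Agent.Lib.Helper4.PF

/-- the two clauses of the frozen statement S1440 that the Type V row needs (the frozen statement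
also claims `M' = F(M)`, which the book only has as `M' ≤ F(M)`) -/
def Stmt1440w (G : Type*) [Group G] [Finite G] : Prop :=
  ∀ (M : Subgroup G) (hM : IsCoatom M) (K U : Subgroup G) (hKU : Cfsg.IsSigmaDecomposition M K U) (g : G) (hg : g ∉ M) (hX : Cfsg.fittingOf M ⊓ (Cfsg.fittingOf M).map (MulAut.conj g).toMonoidHom ≠ ⊥),
    (Cfsg.fittingOf M ⊓ (Cfsg.fittingOf M).map (MulAut.conj g).toMonoidHom ≤ Cfsg.fittingHallOf M) ∧
      ((K = ⊥ ∧ IsMulCommutative (Cfsg.fittingHallOf M) ∧ Cfsg.RankLE 2 (Cfsg.fittingHallOf M) ∧ ¬ Cfsg.RankLE 1 (Cfsg.fittingHallOf M)) ∨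
       (∃ p : ℕ, p.Prime ∧ Nat.card ↥(Cfsg.fittingOf M ⊓ (Cfsg.fittingOf M).map (MulAut.conj g).toMonoidHom) = p ∧ p ∈ Cfsg.sigma M ∧ p ∉ Cfsg.beta M ∧
          ¬ IsMulCommutative (Cfsg.pCore p ↥(Cfsg.fittingHallOf M)) ∧ IsCyclic (Cfsg.pPrimeCore p ↥(Cfsg.fittingHallOf M)) ∧
          ∀ q : ℕ, q.Prime → q ∣ Nat.card (Cfsg.fittingHallOf M) → Monoid.exponent (↥M ⧸ Cfsg.fittingHall ↥M) ∣ q - 1) ∨
       (∃ p : ℕ, p.Prime ∧ Nat.card ↥(Cfsg.fittingOf M ⊓ (Cfsg.fittingOf M).map (MulAut.conj g).toMonoidHom) = p ∧ p ∈ Cfsg.sigma M ∧ p ∉ Cfsg.beta M ∧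
          IsCyclic (Cfsg.pPrimeCore p ↥(Cfsg.fittingHallOf M)) ∧ Nat.card (Cfsg.pCore p ↥(Cfsg.fittingHallOf M)) = p ^ 3 ∧
          ¬ IsMulCommutative (Cfsg.pCore p ↥(Cfsg.fittingHallOf M)) ∧ K ≠ ⊥ ∧ U = ⊥ ∧ (Cfsg.fittingHallOf M).relIndex M ∣ p + 1))

universe u

variable {G : Type u} [Group G] [Finite G]

theorem stmt1440w_of (h40 : Stmt1440 G) : Stmt1440w G :=
  fun M hM K U hKU g hg hX =>
    ⟨(h40 M hM K U hKU g hg hX).1.1, (h40 M hM K U hKU g hg hX).2.2⟩

/-- **S1383 from the other summary rows**, with the weak form of S1440. -/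
theorem s1383_of' (hG : IsMinSimpleOddOrder G)
    (h54 : Stmt1354 G) (h55 : Stmt1355 G) (h56 : Stmt1356 G) (h57 : Stmt1357 G)
    (h59 : Stmt1359 G) (h60 : Stmt1360 G) (h64 : Stmt1364 G)
    (h65 : Stmt1365 G) (h66 : Stmt1366 G) (h68 : Stmt1368 G) (h70 : Stmt1370 G)
    (h40 : Stmt1440w G) : Stmt1383 G := by
  intro M hM K U hKU
  have c55 := h55 M hM
  have c57 : fittingHallOf M ≠ sigmaCore M → U = ⊥ := fun hne => (h57 M hM K U hKU hne).1
  constructor
  · intro hV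
    exact decomp_of_typeV hG hM hKU ⟨c55.1, c55.2.1, c55.2.2.1, c55.2.2.2.1⟩ c57
      (h59 M hM K U hKU) (h60 M hM K U hKU) (fun hK1 => (h65 M hM K U hKU hK1).1) hV
  · rintro ⟨hK1, hU, hFS⟩
    obtain ⟨Mstar, ⟨hMs, hKst, hKstH⟩, -⟩ := h66 M hM K U hKU hK1
    have c68 := (h68 M hM K U hKU hK1 Mstar hMs hKst hKstH).2
    exact isOfTypeV_of_decomp hKU hK1 hU hFS (h56 M hM)
      (h64 M hM K U hKU hK1) (h65 M hM K U hKU hK1)
      ((h54 M hM K hKU.cyclic hKU.hall).2 hK1) c68 (h70 M hM K U hKU hK1)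
      (fun g hg hX => h40 M hM K U hKU g hg hX)

/-! ### Hall subgroups of `M` inside `M_σ` -/

/-- A Hall subgroup `H` of `M` contained in `M_σ`: the normalizers of its nontrivial Sylow subgroups
lie in `M`, and `H` is a Hall subgroup of `G`. -/
theorem hall_core_props {M H : Subgroup G} (hHS : H ≤ sigmaCore M)
    (hHall : (Nat.card H).Coprime (H.relIndex M))
    (hS : IsPiHall (sigma M) (sigmaCore M)) :
    (∀ (p : ℕ), p.Prime → ∀ P : Sylow p ↥H, (P : Subgroup ↥H) ≠ ⊥ →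
      Subgroup.normalizer (((P : Subgroup ↥H).map H.subtype : Subgroup G) : Set G) ≤ M) ∧
    (Nat.card H).Coprime H.index := by
  have hHM : H ≤ M := hHS.trans (sigmaCore_le M)
  have hσ : ∀ p : ℕ, p.Prime → p ∣ Nat.card H → p ∈ sigma M := fun p hp hpH =>
    sigmaCore_isPi M p hp (dvd_trans hpH (Subgroup.card_dvd_of_le hHS))
  constructor
  · intro p hp P hP
    haveI : Fact p.Prime := ⟨hp⟩
    have hpH : p ∣ Nat.card H := by
      rcases P.2.card_eq_or_dvd with h | h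
      · exact absurd (Subgroup.card_eq_one.1 h) hP
      · exact dvd_trans h (Subgroup.card_subgroup_dvd_card _)
    exact normalizer_sylow_le hHM hHall (hσ p hp hpH) hpH P
  · apply coprime_of_forall_prime
    intro p hp hpH hpidx
    rw [← Subgroup.relIndex_mul_index hHS] at hpidx
    rcases (Nat.Prime.dvd_mul hp).1 hpidx with hd | hd
    · have h1 : H.relIndex (sigmaCore M) ∣ H.relIndex M :=
        Dvd.intro _ (Subgroup.relIndex_mul_relIndex H (sigmaCore M) M hHS (sigmaCore_le M))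
      exact hp.one_lt.ne' (Nat.eq_one_of_dvd_coprimes hHall hpH (dvd_trans hd h1))
    · exact hS.2 p hp (hσ p hp hpH) hd

/-- **S1389 from the other summary rows.** -/
theorem s1389_of (hG : IsMinSimpleOddOrder G)
    (h50 : Stmt1350 G) (h51 : Stmt1351 G) (h52 : Stmt1352 G) (h55 : Stmt1355 G)
    (h57 : Stmt1357 G) (h59 : Stmt1359 G) (h60 : Stmt1360 G) (h63 : Stmt1363 G)
    (h65 : Stmt1365 G) : Stmt1389 G := by
  intro M hM
  obtain ⟨K, hK⟩ := (h51 M hM).1
  have hKc : IsCyclic K := (h51 M hM).2 K hK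
  obtain ⟨U, hKU⟩ := (h52 M hM K hKc hK).1
  have c55 := h55 M hM
  have c57 : fittingHallOf M ≠ sigmaCore M → U = ⊥ := fun hne => (h57 M hM K U hKU hne).1
  have c50 := h50 M hM
  have hS : IsPiHall (sigma M) (sigmaCore M) := c50.2.1
  have hcopS : (Nat.card (sigmaCore M)).Coprime ((sigmaCore M).relIndex M) := by
    apply coprime_of_forall_prime
    intro p hp hpS hpi
    exact c50.1.2.2 p hp (c50.1.2.1 p hp hpS) hpi
  have hcopF := coprime_card_fittingHallOf_relIndex M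
  have hcore : typeCore M ≤ sigmaCore M ∧
      (Nat.card (typeCore M)).Coprime ((typeCore M).relIndex M) := by
    by_cases h34 : IsOfTypeIII M ∨ IsOfTypeIV M
    · have htc : typeCore M = ⁅M, M⁆ := by
        unfold typeCore
        rw [if_pos h34]
      obtain ⟨hK1, hU, -⟩ := decomp_of_typeIII_IV hG hM hKU
        ⟨c55.1, c55.2.1, c55.2.2.1, c55.2.2.2.1⟩ c57
        (h59 M hM K U hKU) (h60 M hM K U hKU) (fun hK1 => (h65 M hM K U hKU hK1).1)
        (fun hK1 => (h63 M hM K U hKU hK1).2) h34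
      have hMS : ⁅M, M⁆ = sigmaCore M := by
        rw [(h65 M hM K U hKU hK1).1, hU, bot_sup_eq]
      rw [htc, hMS]
      exact ⟨le_rfl, hcopS⟩
    · have htc : typeCore M = fittingHallOf M := by
        unfold typeCore
        rw [if_neg h34]
      rw [htc]
      exact ⟨c55.2.1, hcopF⟩
  have h1 := hall_core_props hcore.1 hcore.2 hS
  have h2 := hall_core_props c55.2.1 hcopF hS
  exact ⟨h1.1, h2.2, h1.2⟩

end Cfsg.Agent.Lib.Helper26.BGTypes
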