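import Mathlib
import Cfsg.Agent.Lib.Helper26.BGTypesG

/-!
# Bender–Glauberman section 16, part H: the row on the complement `U` of `M_F` for Types I and II
-/

set_option autoImplicit false

namespace Cfsg.Agent.Lib.Helper26.BGTypes

open Cfsg Cfsg.Agent.Lib.Helper4.PF Cfsg.Agent.Lib.Helper26.PFBook

universe u

variable {G : Type u} [Group G]

theorem isComplIn_symm {A B M : Subgroup G} (h : IsComplIn A B M) : IsComplIn B A M := by
  refine ⟨h.2.1, h.1, by rw [inf_comm]; exact h.2.2.1, fun m hm => ?_⟩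
  obtain ⟨a, ha, b, hb, hab⟩ := h.2.2.2 m⁻¹ (M.inv_mem hm)
  refine ⟨b⁻¹, Subgroup.inv_mem _ hb, a⁻¹, Subgroup.inv_mem _ ha, ?_⟩
  have : m = (m⁻¹)⁻¹ := (inv_inv m).symm
  rw [this, hab, mul_inv_rev]

theorem sup_eq_of_isComplIn {A B M : Subgroup G} (h : IsComplIn A B M) : A ⊔ B = M := by
  apply le_antisymm (sup_le h.1 h.2.1)
  intro m hm
  obtain ⟨a, ha, b, hb, rfl⟩ := h.2.2.2 m hm
  exact Subgroup.mul_mem _ (Subgroup.mem_sup_left ha) (Subgroup.mem_sup_right hb)

theorem sigmaCore_map_conj (M : Subgroup G) {c : G} (hc : c ∈ M) :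
    (sigmaCore M).map (MulAut.conj c).toMonoidHom = sigmaCore M := by
  apply le_antisymm
  · rintro _ ⟨x, hx, rfl⟩
    have : (MulAut.conj c).toMonoidHom x = c * x * c⁻¹ := by simp [MulAut.conj_apply]
    rw [this]
    exact conj_mem_sigmaCore M hc hx
  · intro x hx
    refine ⟨c⁻¹ * x * c, ?_, ?_⟩
    · have := conj_mem_sigmaCore M (M.inv_mem hc) hx
      simpa using this
    · simp [MulAut.conj_apply, mul_assoc]

/-- Conjugating a standard factorisation by an element of `M` gives a standard factorisation. -/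
theorem isSigmaDecomposition_conj [Finite G] {M K U : Subgroup G}
    (hKU : IsSigmaDecomposition M K U) {c : G} (hc : c ∈ M) :
    IsSigmaDecomposition M (K.map (MulAut.conj c).toMonoidHom)
      (U.map (MulAut.conj c).toMonoidHom) := by
  set f : G →* G := (MulAut.conj c).toMonoidHom with hf
  have hfinj : Function.Injective f := (MulAut.conj c).injective
  have hfapp : ∀ x, f x = c * x * c⁻¹ := fun x => by simp [hf, MulAut.conj_apply]
  have hmapM : ∀ H : Subgroup G, H ≤ M → H.map f ≤ M := by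
    rintro H hH _ ⟨x, hx, rfl⟩
    rw [hfapp]
    exact M.mul_mem (M.mul_mem hc (hH hx)) (M.inv_mem hc)
  have hKM := hKU.hall.1
  have hS : (sigmaCore M).map f = sigmaCore M := sigmaCore_map_conj M hc
  have hsup : K.map f ⊔ sigmaCore M = (K ⊔ sigmaCore M).map f := by
    rw [Subgroup.map_sup, hS]
  refine ⟨?_, ⟨hmapM K hKM, ?_, ?_⟩, ⟨hmapM U hKU.compl.1, ?_, ?_, ?_⟩, ?_⟩
  · haveI := hKU.cyclic
    exact isCyclic_of_surjective (f.subgroupMap K) (f.subgroupMap_surjective K)
  · intro p hp hpK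
    rw [Subgroup.card_map_of_injective hfinj] at hpK
    exact hKU.hall.2.1 p hp hpK
  · intro p hp hpκ hd
    apply hKU.hall.2.2 p hp hpκ
    have h1 := Cfsg.Agent.Lib.Helper23.card_mul_relIndex_of_le hKM
    have h2 := Cfsg.Agent.Lib.Helper23.card_mul_relIndex_of_le (hmapM K hKM)
    rw [Subgroup.card_map_of_injective hfinj, ← h1] at h2
    have h3 := Nat.eq_of_mul_eq_mul_left Nat.card_pos h2
    rwa [h3] at hd
  · rw [hsup]; exact hmapM _ hKU.compl.2.1
  · rw [hsup, ← Subgroup.map_inf _ _ f hfinj, hKU.compl.2.2.1, Subgroup.map_bot]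
  · intro m hm
    have hm' : c⁻¹ * m * c ∈ M := M.mul_mem (M.mul_mem (M.inv_mem hc) hm) hc
    obtain ⟨a, ha, b, hb, hab⟩ := hKU.compl.2.2.2 _ hm'
    refine ⟨f a, Subgroup.mem_map_of_mem f ha, f b, ?_, ?_⟩
    · rw [hsup]; exact Subgroup.mem_map_of_mem f hb
    · rw [← map_mul, ← hab, hfapp]; group
  · exact (Subgroup.map_mono hKU.normal).trans (Subgroup.le_normalizer_map f)

/-- A subgroup of Frobenius type has `K = 1`, given `1 ≠ C_{M_σ}(K) ≤ M_F` for `K ≠ 1`. -/
theorem eq_bot_of_typeF [Finite G] {M K : Subgroup G} (hF : IsOfTypeF ↥M)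
    (hK : IsPiHallOf (kappa M) K M) (hFS : fittingHallOf M ≤ sigmaCore M)
    (h64 : K ≠ ⊥ → (sigmaCore M ⊓ Subgroup.centralizer (K : Set G)) ≠ ⊥ ∧
      (sigmaCore M ⊓ Subgroup.centralizer (K : Set G)) ≤ fittingHallOf M) : K = ⊥ := by
  by_contra hK1
  obtain ⟨hZne, hZF⟩ := h64 hK1
  obtain ⟨-, -, -, -, U', -, hcompl, -, U₀, -, hexp, hfpf⟩ := hF
  have hKM : K ≤ M := hK.1
  have hZM : sigmaCore M ⊓ Subgroup.centralizer (K : Set G) ≤ M :=
    hZF.trans (PFEight.fittingHallOf_le M)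
  have hc : Nat.card ↥(K.subgroupOf M) = Nat.card ↥K :=
    Nat.card_congr (Subgroup.subgroupOfEquivOfLe hKM).toEquiv
  refine PFEight.frob_vs_hall_false (fittingHall ↥M) U' U₀ hcompl hexp hfpf
    (K.subgroupOf M) ((sigmaCore M ⊓ Subgroup.centralizer (K : Set G)).subgroupOf M)
    ?_ ?_ ?_ ?_ ?_ ?_
  · intro h
    apply hK1
    rw [Subgroup.eq_bot_iff_forall] at h ⊢
    intro a ha
    have := h ⟨a, hKM ha⟩ (Subgroup.mem_subgroupOf.2 ha)
    exact congrArg Subtype.val this
  · rw [hc]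
    exact coprime_card_relIndex_of_hall hK
  · rw [hc, ← PFEight.card_fittingHallOf]
    exact (coprime_card_kappa_sigmaCore hK).coprime_dvd_right (Subgroup.card_dvd_of_le hFS)
  · intro h
    apply hZne
    rw [Subgroup.eq_bot_iff_forall] at h ⊢
    intro a ha
    have := h ⟨a, hZM ha⟩ (Subgroup.mem_subgroupOf.2 ha)
    exact congrArg Subtype.val this
  · intro z hz
    exact PFEight.mem_fittingHall_of_coe_mem M z (hZF (Subgroup.mem_subgroupOf.1 hz))
  · intro w hw hw1 z hz
    have hwK : (w : G) ∈ K := Subgroup.mem_subgroupOf.1 hw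
    have hzZ : (z : G) ∈ sigmaCore M ⊓ Subgroup.centralizer (K : Set G) :=
      Subgroup.mem_subgroupOf.1 hz
    have h2 : (z : G) ∈ Subgroup.centralizer (K : Set G) := hzZ.2
    have := (Subgroup.mem_centralizer_iff.1 h2) (w : G) hwK
    exact Subtype.ext this

theorem centralizer_closure_eq (X : Set G) :
    Subgroup.centralizer ((Subgroup.closure X : Subgroup G) : Set G) = Subgroup.centralizer X := by
  apply le_antisymm
  · exact Subgroup.centralizer_le Subgroup.subset_closure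
  · intro g hg
    rw [Subgroup.mem_centralizer_iff] at hg ⊢
    intro h hh
    have hcl : Subgroup.closure X ≤ Subgroup.centralizer ({g} : Set G) := by
      rw [Subgroup.closure_le]
      intro x hx
      rw [SetLike.mem_coe, Subgroup.mem_centralizer_iff]
      intro y hy
      rw [Set.mem_singleton_iff] at hy
      subst hy
      exact (hg x hx).symm
    have h2 := hcl hh
    rw [Subgroup.mem_centralizer_iff] at h2
    exact (h2 g rfl).symm

/-- `A(M) ∖ A₁(M)` in the language of the standard factorisation. -/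
theorem typeA_diff_eq {M U D : Subgroup G}
    (hA : typeA M = {a | a ∈ D ∧ a ≠ 1 ∧ ∃ x ∈ fittingHallOf M, x ≠ 1 ∧ a * x = x * a})
    (hC : typeCore M = fittingHallOf M) (hD : D = U ⊔ sigmaCore M) (hDM : D ≤ M)
    (hFS : fittingHallOf M = sigmaCore M) :
    typeA M \ typeA1 M = sigmaA M U \ (sigmaCore M : Set G) := by
  ext a
  unfold typeA1 sigmaA sigmaHat
  rw [hA, hC, hFS]
  constructor
  · rintro ⟨⟨haD, ha1, x, hx, hx1, hax⟩, hnot⟩
    refine ⟨⟨⟨hDM haD, x, hx, hx1, hax⟩, ?_⟩, fun haS => hnot ⟨haS, ha1⟩⟩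
    rw [← hD]; exact haD
  · rintro ⟨⟨⟨haM, x, hx, hx1, hax⟩, haU⟩, haS⟩
    have ha1 : a ≠ 1 := fun h => haS (h ▸ Subgroup.one_mem _)
    refine ⟨⟨?_, ha1, x, hx, hx1, hax⟩, fun h => haS h.1⟩
    rw [hD]; exact haU

variable [Finite G]

/-- **S1390 from the other summary rows.** -/
theorem s1390_of (hG : IsMinSimpleOddOrder G)
    (h51 : Stmt1351 G) (h52 : Stmt1352 G) (h55 : Stmt1355 G) (h57 : Stmt1357 G)
    (h58 : Stmt1358 G) (h59 : Stmt1359 G) (h60 : Stmt1360 G) (h61 : Stmt1361 G)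
    (h62 : Stmt1362 G) (h64 : Stmt1364 G) (h65 : Stmt1365 G) : Stmt1390 G := by
  intro M hM U hU
  obtain ⟨K, hK⟩ := (h51 M hM).1
  have hKc : IsCyclic K := (h51 M hM).2 K hK
  obtain ⟨U₀, hKU⟩ := (h52 M hM K hKc hK).1
  have c55 := h55 M hM
  have c57 : fittingHallOf M ≠ sigmaCore M → U₀ = ⊥ := fun hne => (h57 M hM K U₀ hKU hne).1
  obtain ⟨K', hKU', hFS, hset⟩ : ∃ K' : Subgroup G, IsSigmaDecomposition M K' U ∧
      fittingHallOf M = sigmaCore M ∧
      typeA M \ typeA1 M = sigmaA M U \ (sigmaCore M : Set G) := by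
    rcases hU with ⟨hI, hc⟩ | ⟨hII, hc⟩
    · -- Type I
      have hK1 : K = ⊥ := eq_bot_of_typeF hI.1 hK c55.2.1
        (fun hK1 => ⟨(h64 M hM K U₀ hKU hK1).2.1, (h64 M hM K U₀ hKU hK1).2.2.1⟩)
      have hFS : fittingHallOf M = sigmaCore M := by
        by_contra hne
        have := (h57 M hM K U₀ hKU hne).2.2
        rw [hK1, Subgroup.card_bot] at this
        exact Nat.not_prime_one this
      refine ⟨⊥, ⟨hK1 ▸ hKc, hK1 ▸ hK, ?_, bot_le⟩, hFS, ?_⟩
      · rw [bot_sup_eq, ← hFS]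
        exact isComplIn_symm hc
      · refine typeA_diff_eq (D := M) ?_ (PFEight.typeCore_eq_of_typeI hI) ?_ le_rfl hFS
        · unfold typeA
          rw [if_pos hI]
        · rw [← hFS, sup_comm]
          exact (sup_eq_of_isComplIn hc).symm
    · -- Type II
      obtain ⟨hK1, hU₀1⟩ := decomp_of_typeII hG hM hKU
        ⟨c55.1, c55.2.1, c55.2.2.1, c55.2.2.2.1⟩ c57
        (h59 M hM K U₀ hKU) (h60 M hM K U₀ hKU) (fun hK1 => (h65 M hM K U₀ hKU hK1).1) hII
      have hFS : fittingHallOf M = sigmaCore M := by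
        by_contra hne
        exact hU₀1 (c57 hne)
      have h65' := (h65 M hM K U₀ hKU hK1).1
      have hc0 := isComplIn_sigmaCore hKU h65'
      rw [← hFS] at hc0
      have hsolv : Group.IsSolvable ↥⁅M, M⁆ :=
        isSolvable_of_isCoatom hG hM (PFEight.commutator_self_le M)
      have hcop : (Nat.card ↥(fittingHallOf M)).Coprime (Nat.card ↥U₀) := by
        have h1 := PFEight.relIndex_of_isComplIn (isComplIn_symm hc0)
        have h2 : (fittingHallOf M).relIndex ⁅M, M⁆ ∣ (fittingHallOf M).relIndex M :=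
          Dvd.intro _ (Subgroup.relIndex_mul_relIndex (fittingHallOf M) ⁅M, M⁆ M hc0.1
            (PFEight.commutator_self_le M))
        rw [h1] at h2
        exact (coprime_card_fittingHallOf_relIndex M).coprime_dvd_right h2
      obtain ⟨c, hcM', hcU⟩ := exists_conj_of_isComplIn hsolv hc0 hc hcop
      have hcM : c ∈ M := PFEight.commutator_self_le M hcM'
      have hKU' := isSigmaDecomposition_conj hKU hcM
      rw [← hcU] at hKU'
      have hTC := PFEight.typeCore_eq_of_typeII hsolv hII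
      obtain ⟨W₁, UP, W₂, hP, -⟩ := hII
      refine ⟨_, hKU', hFS, ?_⟩
      refine typeA_diff_eq (D := ⁅M, M⁆) ?_ hTC ?_ (PFEight.commutator_self_le M) hFS
      · unfold typeA
        rw [if_neg (PFEight.not_typeI_of_typeP hP), hTC]
      · rw [← hFS, sup_comm]
        exact (sup_eq_of_isComplIn hc).symm
  refine ⟨h58 M hM K' U hKU', ?_, ?_⟩
  · intro X hXU hXne hcX
    have hcl : Subgroup.closure X ≤ U := (Subgroup.closure_le U).2 (fun x hx => (hXU hx).1)
    have hne : Subgroup.closure X ≠ ⊥ := by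
      obtain ⟨x, hx⟩ := hXne
      intro h
      have hx1 : x ∈ Subgroup.closure X := Subgroup.subset_closure hx
      rw [h, Subgroup.mem_bot] at hx1
      exact (hXU hx).2 hx1
    have h := h61 M hM K' U hKU' (Subgroup.closure X) hcl hne
    rw [centralizer_closure_eq, ← hFS] at h
    exact h hcX
  · rw [hset]
    exact h62 M hM K' U hKU'

end Cfsg.Agent.Lib.Helper26.BGTypes
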