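import Mathlib
import Cfsg.Agent.Lib.Helper26.BGTypesH
import Cfsg.Agent.Lib.Helper4.PFTypes

/-!
# Bender–Glauberman Theorem I in book form: the fields `types` and `compl` of `BookBGData`
from the literal statements of the summary rows
-/

set_option autoImplicit false

namespace Cfsg.Agent.Lib.Helper26.BGBook

open Cfsg Cfsg.Agent.Lib.Helper4.PF Cfsg.Agent.Lib.Helper26.PFBook Cfsg.Agent.Lib.Helper26.BGTypes

universe u

variable {G : Type u} [Group G]

theorem fittingHallOf_le_fittingOf' [Finite G] (M : Subgroup G) :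
    fittingHallOf M ≤ fittingOf M := by
  unfold fittingHallOf fittingOf
  apply Subgroup.map_mono
  exact le_sSup ⟨inferInstance, Cfsg.Agent.S1474.fittingHall_isNilpotent (G := ↥M)⟩

/-- **The case `K = 1` of the standard factorisation: `M` is of Type I in the book sense.**  The
hypothesis `h40` consists of two clauses of the conclusion of the summary row on
`F(M) ∩ F(M)^g ≠ 1`. -/
theorem litTypeI_of_decomp [Finite G] (hG : IsMinSimpleOddOrder G) {M K U : Subgroup G}
    (hM : IsCoatom M) (hKU : IsSigmaDecomposition M K U) (hK : K = ⊥)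
    (h55 : fittingHallOf M ≠ ⊥ ∧ fittingHallOf M ≤ sigmaCore M ∧ sigmaCore M ≤ ⁅M, M⁆ ∧
      ⁅M, M⁆ < M)
    (h57 : fittingHallOf M ≠ sigmaCore M → U = ⊥)
    (h59 : IsMulCommutative (Subgroup.closure ((U : Set G) ∩ sigmaHat M)))
    (h60 : ∃ U₀ : Subgroup G, U₀ ≤ U ∧ Monoid.exponent U₀ = Monoid.exponent U ∧
      ∀ u ∈ U₀, u ∈ sigmaHat M → u = 1)
    (h40 : ∀ g : G, g ∉ M →
      fittingOf M ⊓ (fittingOf M).map (MulAut.conj g).toMonoidHom ≠ ⊥ →
      (fittingOf M ⊓ (fittingOf M).map (MulAut.conj g).toMonoidHom ≤ fittingHallOf M) ∧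
      ((K = ⊥ ∧ IsMulCommutative (fittingHallOf M) ∧ RankLE 2 (fittingHallOf M) ∧
          ¬ RankLE 1 (fittingHallOf M)) ∨
       (∃ p : ℕ, p.Prime ∧
          Nat.card ↥(fittingOf M ⊓ (fittingOf M).map (MulAut.conj g).toMonoidHom) = p ∧
          p ∈ sigma M ∧ p ∉ beta M ∧
          ¬ IsMulCommutative (pCore p ↥(fittingHallOf M)) ∧
          IsCyclic (pPrimeCore p ↥(fittingHallOf M)) ∧
          ∀ q : ℕ, q.Prime → q ∣ Nat.card (fittingHallOf M) →
            Monoid.exponent (↥M ⧸ fittingHall ↥M) ∣ q - 1) ∨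
       (∃ p : ℕ, p.Prime ∧
          Nat.card ↥(fittingOf M ⊓ (fittingOf M).map (MulAut.conj g).toMonoidHom) = p ∧
          p ∈ sigma M ∧ p ∉ beta M ∧
          IsCyclic (pPrimeCore p ↥(fittingHallOf M)) ∧
          Nat.card (pCore p ↥(fittingHallOf M)) = p ^ 3 ∧
          ¬ IsMulCommutative (pCore p ↥(fittingHallOf M)) ∧ K ≠ ⊥ ∧ U = ⊥ ∧
          (fittingHallOf M).relIndex M ∣ p + 1))) :
    LitTypeI M := by
  obtain ⟨-, -, hF⟩ := isOfTypeF_of_decomp hG hM hKU hK h55 h57 h59 h60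
  refine ⟨hF, ?_⟩
  by_cases hTI : IsTISubset (fittingHallOf M : Set G)
  · exact Or.inl hTI
  · right
    have hex : ∃ g : G, g ∉ Subgroup.normalizer (fittingHallOf M : Set G) ∧
        ∃ x ∈ fittingHallOf M, g * x * g⁻¹ ∈ fittingHallOf M ∧ x ≠ 1 := by
      by_contra hcon
      apply hTI
      intro g hg x hx hgx
      by_contra hx1
      exact hcon ⟨g, hg, x, hx, hgx, hx1⟩
    obtain ⟨g, hg, x, hx, hgx, hx1⟩ := hex
    have hgM : g ∉ M := fun hgM => hg
      (PFEight.le_normalizer_of_conj_mem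
        (fun m hm a ha => PFEight.conj_mem_fittingHallOf M hm ha) hgM)
    have hFF := fittingHallOf_le_fittingOf' M
    have hX : fittingOf M ⊓ (fittingOf M).map (MulAut.conj g).toMonoidHom ≠ ⊥ := by
      intro hbot
      have : g * x * g⁻¹ ∈ fittingOf M ⊓ (fittingOf M).map (MulAut.conj g).toMonoidHom :=
        ⟨hFF hgx, ⟨x, hFF hx, by simp [MulAut.conj_apply]⟩⟩
      rw [hbot, Subgroup.mem_bot] at this
      exact PFEight.conj_ne_one hx1 this
    obtain ⟨hXF, h3⟩ := h40 g hgM hX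
    rcases h3 with ⟨-, hab, hr2, hr1⟩ | ⟨p, hp, hcard, -, -, -, hcyc, hexp⟩ |
      ⟨p, hp, hcard, -, -, -, -, -, hK1, -⟩
    · exact Or.inl ⟨hab, hr2, hr1⟩
    · right
      refine ⟨hexp, p, hp, ?_, hcyc⟩
      rw [← hcard]
      exact Subgroup.card_dvd_of_le hXF
    · exact absurd hK hK1

theorem set_diff_eq {M U D : Subgroup G} {A : Set G}
    (hA : A = {a | a ∈ D ∧ a ≠ 1 ∧ ∃ x ∈ fittingHallOf M, x ≠ 1 ∧ a * x = x * a})
    (hC : typeCore M = fittingHallOf M) (hD : D = U ⊔ sigmaCore M) (hDM : D ≤ M)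
    (hFS : fittingHallOf M = sigmaCore M) :
    A \ typeA1 M = sigmaA M U \ (sigmaCore M : Set G) := by
  ext a
  unfold typeA1 sigmaA sigmaHat
  rw [hA, hC, hFS]
  constructor
  · rintro ⟨⟨haD, ha1, x, hx, hx1, hax⟩, hnot⟩
    refine ⟨⟨⟨hDM haD, x, hx, hx1, hax⟩, ?_⟩, fun haS => hnot ⟨haS, ha1⟩⟩
    rw [← hD]; exact haD
  · rintro ⟨⟨⟨haM, x, hx, hx1, hax⟩, haU⟩, haS⟩
    have ha1 : a ≠ 1 := fun h => haS (h ▸ Subgroup.one_mem _)
    refine ⟨⟨?_, ha1, x, hx, hx1, hax⟩, fun h => haS h.1⟩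
    rw [hD]; exact haU

variable [Finite G]

/-- **The field `types` of `BookBGData`** (B&G Theorem I: every maximal subgroup is of Type I in the
book sense or of Type II, III, IV, V) from the literal summary rows. -/
theorem types_of (hG : IsMinSimpleOddOrder G)
    (h51 : Stmt1351 G) (h52 : Stmt1352 G)
    (h54 : Stmt1354 G) (h55 : Stmt1355 G) (h56 : Stmt1356 G) (h57 : Stmt1357 G)
    (h59 : Stmt1359 G) (h60 : Stmt1360 G) (h63 : Stmt1363 G) (h64 : Stmt1364 G)
    (h65 : Stmt1365 G) (h66 : Stmt1366 G) (h68 : Stmt1368 G) (h70 : Stmt1370 G)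
    (h72 : Stmt1372 G) (h37 : Stmt1437 G) (h40 : Stmt1440w G) :
    ∀ M : Subgroup G, IsCoatom M → LitTypeI M ∨ IsTypeIItoV M := by
  intro M hM
  obtain ⟨K, hK⟩ := (h51 M hM).1
  have hKc : IsCyclic K := (h51 M hM).2 K hK
  obtain ⟨U, hKU⟩ := (h52 M hM K hKc hK).1
  have c55 := h55 M hM
  by_cases hK1 : K = ⊥
  · left
    exact litTypeI_of_decomp hG hM hKU hK1 ⟨c55.1, c55.2.1, c55.2.2.1, c55.2.2.2.1⟩
      (fun hne => (h57 M hM K U hKU hne).1) (h59 M hM K U hKU) (h60 M hM K U hKU)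
      (fun g hg hX => h40 M hM K U hKU g hg hX)
  · right
    by_cases hU1 : U = ⊥
    · by_cases hFS : fittingHallOf M = sigmaCore M
      · right; right; right
        exact (s1383_of' hG h54 h55 h56 h57 h59 h60 h64 h65 h66 h68 h70 h40 M hM K U hKU).2
          ⟨hK1, hU1, hFS⟩
      · rcases (s1382_of hG h54 h55 h56 h57 h59 h60 h63 h64 h65 h66 h68 h70 h37
          M hM K U hKU).2 ⟨hK1, hU1, hFS⟩ with h | h
        · exact Or.inr (Or.inl h)
        · exact Or.inr (Or.inr (Or.inl h))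
    · left
      exact (s1381_of hG h54 h55 h56 h57 h59 h60 h63 h64 h65 h66 h68 h70 h72
        M hM K U hKU).2 ⟨hK1, hU1⟩

/-- the book-form row "`κ(M) = ∅` implies Type I" for a given standard factorisation -/
theorem litTypeI_of_kappa_empty (hG : IsMinSimpleOddOrder G)
    (h55 : Stmt1355 G) (h57 : Stmt1357 G) (h59 : Stmt1359 G) (h60 : Stmt1360 G)
    (h40 : Stmt1440w G) (M : Subgroup G) (hM : IsCoatom M) (K U : Subgroup G)
    (hKU : IsSigmaDecomposition M K U) (hK1 : K = ⊥) : LitTypeI M := by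
  have c55 := h55 M hM
  exact litTypeI_of_decomp hG hM hKU hK1 ⟨c55.1, c55.2.1, c55.2.2.1, c55.2.2.2.1⟩
    (fun hne => (h57 M hM K U hKU hne).1) (h59 M hM K U hKU) (h60 M hM K U hKU)
    (fun g hg hX => h40 M hM K U hKU g hg hX)

/-- **The field `compl` of `BookBGData`** (the row on the complement `U` of `M_F` for Types I and II,
with the book-faithful Type I and `A(M)`) from the literal summary rows. -/
theorem compl_of (hG : IsMinSimpleOddOrder G)
    (h51 : Stmt1351 G) (h52 : Stmt1352 G) (h55 : Stmt1355 G) (h57 : Stmt1357 G)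
    (h58 : Stmt1358 G) (h59 : Stmt1359 G) (h60 : Stmt1360 G) (h61 : Stmt1361 G)
    (h62 : Stmt1362 G) (h64 : Stmt1364 G) (h65 : Stmt1365 G) :
    ∀ (M : Subgroup G), IsCoatom M → ∀ U : Subgroup G,
      ((LitTypeI M ∧ IsComplIn (fittingHallOf M) U M) ∨
        (IsOfTypeII M ∧ IsComplIn (fittingHallOf M) U ⁅M, M⁆)) →
      (∀ (p : ℕ), p.Prime → ∀ P : Sylow p U,
        IsMulCommutative (P : Subgroup U) ∧ PRankLE p 2 (P : Subgroup U)) ∧
      (∀ X : Set G, X ⊆ (U : Set G) \ {1} → X.Nonempty →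
        fittingHallOf M ⊓ Subgroup.centralizer X ≠ ⊥ →
        Subgroup.centralizer X ≤ M ∧
          ∀ L : Subgroup G, IsCoatom L → Subgroup.centralizer X ≤ L → L = M) ∧
      IsTISubset (litA M \ typeA1 M) := by
  intro M hM U hU
  obtain ⟨K, hK⟩ := (h51 M hM).1
  have hKc : IsCyclic K := (h51 M hM).2 K hK
  obtain ⟨U₀, hKU⟩ := (h52 M hM K hKc hK).1
  have c55 := h55 M hM
  have c57 : fittingHallOf M ≠ sigmaCore M → U₀ = ⊥ := fun hne => (h57 M hM K U₀ hKU hne).1
  obtain ⟨K', hKU', hFS, hset⟩ : ∃ K' : Subgroup G, IsSigmaDecomposition M K' U ∧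
      fittingHallOf M = sigmaCore M ∧
      litA M \ typeA1 M = sigmaA M U \ (sigmaCore M : Set G) := by
    rcases hU with ⟨hI, hc⟩ | ⟨hII, hc⟩
    · -- Type I
      have hK1 : K = ⊥ := eq_bot_of_typeF hI.1 hK c55.2.1
        (fun hK1 => ⟨(h64 M hM K U₀ hKU hK1).2.1, (h64 M hM K U₀ hKU hK1).2.2.1⟩)
      have hFS : fittingHallOf M = sigmaCore M := by
        by_contra hne
        have := (h57 M hM K U₀ hKU hne).2.2
        rw [hK1, Subgroup.card_bot] at this
        exact Nat.not_prime_one this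
      have hnP : ¬ IsOfTypeP M := by
        rintro ⟨W₁, UP, W₂, hP⟩
        exact PFEight.not_typeF_of_typeP hI.1 hP
      have hTC : typeCore M = fittingHallOf M := by
        unfold typeCore
        rw [if_neg]
        rintro (⟨W₁, UP, W₂, hP, -⟩ | ⟨W₁, UP, W₂, hP, -⟩)
        · exact PFEight.not_typeF_of_typeP hI.1 hP
        · exact PFEight.not_typeF_of_typeP hI.1 hP
      refine ⟨⊥, ⟨hK1 ▸ hKc, hK1 ▸ hK, ?_, bot_le⟩, hFS, ?_⟩
      · rw [bot_sup_eq, ← hFS]
        exact isComplIn_symm hc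
      · refine set_diff_eq (D := M) ?_ hTC ?_ le_rfl hFS
        · unfold litA
          rw [if_neg hnP]
        · rw [← hFS, sup_comm]
          exact (sup_eq_of_isComplIn hc).symm
    · -- Type II
      obtain ⟨hK1, hU₀1⟩ := decomp_of_typeII hG hM hKU
        ⟨c55.1, c55.2.1, c55.2.2.1, c55.2.2.2.1⟩ c57
        (h59 M hM K U₀ hKU) (h60 M hM K U₀ hKU) (fun hK1 => (h65 M hM K U₀ hKU hK1).1) hII
      have hFS : fittingHallOf M = sigmaCore M := by
        by_contra hne
        exact hU₀1 (c57 hne)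
      have h65' := (h65 M hM K U₀ hKU hK1).1
      have hc0 := isComplIn_sigmaCore hKU h65'
      rw [← hFS] at hc0
      have hsolv : Group.IsSolvable ↥⁅M, M⁆ :=
        isSolvable_of_isCoatom hG hM (PFEight.commutator_self_le M)
      have hcop : (Nat.card ↥(fittingHallOf M)).Coprime (Nat.card ↥U₀) := by
        have h1 := PFEight.relIndex_of_isComplIn (isComplIn_symm hc0)
        have h2 : (fittingHallOf M).relIndex ⁅M, M⁆ ∣ (fittingHallOf M).relIndex M :=
          Dvd.intro _ (Subgroup.relIndex_mul_relIndex (fittingHallOf M) ⁅M, M⁆ M hc0.1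
            (PFEight.commutator_self_le M))
        rw [h1] at h2
        exact (coprime_card_fittingHallOf_relIndex M).coprime_dvd_right h2
      obtain ⟨c, hcM', hcU⟩ := exists_conj_of_isComplIn hsolv hc0 hc hcop
      have hcM : c ∈ M := PFEight.commutator_self_le M hcM'
      have hKU' := isSigmaDecomposition_conj hKU hcM
      rw [← hcU] at hKU'
      have hTC := PFEight.typeCore_eq_of_typeII hsolv hII
      obtain ⟨W₁, UP, W₂, hP, -⟩ := hII
      refine ⟨_, hKU', hFS, ?_⟩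
      refine set_diff_eq (D := ⁅M, M⁆) ?_ hTC ?_ (PFEight.commutator_self_le M) hFS
      · unfold litA
        rw [if_pos ⟨W₁, UP, W₂, hP⟩, hTC]
      · rw [← hFS, sup_comm]
        exact (sup_eq_of_isComplIn hc).symm
  refine ⟨h58 M hM K' U hKU', ?_, ?_⟩
  · intro X hXU hXne hcX
    have hcl : Subgroup.closure X ≤ U := (Subgroup.closure_le U).2 (fun x hx => (hXU hx).1)
    have hne : Subgroup.closure X ≠ ⊥ := by
      obtain ⟨x, hx⟩ := hXne
      intro h
      have hx1 : x ∈ Subgroup.closure X := Subgroup.subset_closure hx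
      rw [h, Subgroup.mem_bot] at hx1
      exact (hXU hx).2 hx1
    have h := h61 M hM K' U hKU' (Subgroup.closure X) hcl hne
    rw [centralizer_closure_eq, ← hFS] at h
    exact h hcX
  · rw [hset]
    exact h62 M hM K' U hKU'

end Cfsg.Agent.Lib.Helper26.BGBook
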