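import Mathlib
import Cfsg.Agent.Lib.Helper26.BGBookTypes

/-!
# The dictionary between the sets of Peterfalvi section 8 and those of Bender–Glauberman section 14:
`M_s = M_σ`, `M` has type-P data iff `K ≠ 1`, `A(M) = (M̂_σ ∩ U M_σ) ∖ {1}`
(from the literal statements of the summary rows)
-/

set_option autoImplicit false

namespace Cfsg.Agent.Lib.Helper26.BGBook

open Cfsg Cfsg.Agent.Lib.Helper4.PF Cfsg.Agent.Lib.Helper26.PFBook Cfsg.Agent.Lib.Helper26.BGTypes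

universe u

variable {G : Type u} [Group G] [Finite G]

/-- the literal rows used by the dictionary -/
structure DictInput (G : Type u) [Group G] [Finite G] : Prop where
  h51 : Stmt1351 G
  h52 : Stmt1352 G
  h54 : Stmt1354 G
  h55 : Stmt1355 G
  h56 : Stmt1356 G
  h57 : Stmt1357 G
  h59 : Stmt1359 G
  h60 : Stmt1360 G
  h63 : Stmt1363 G
  h64 : Stmt1364 G
  h65 : Stmt1365 G
  h66 : Stmt1366 G
  h68 : Stmt1368 G
  h70 : Stmt1370 G
  h72 : Stmt1372 G
  h37 : Stmt1437 G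
  h40 : Stmt1440w G

variable (hG : IsMinSimpleOddOrder G) (d : DictInput G)

include hG d

theorem typeIItoV_of_ne_bot {M K U : Subgroup G} (hM : IsCoatom M)
    (hKU : IsSigmaDecomposition M K U) (hK1 : K ≠ ⊥) : IsTypeIItoV M := by
  by_cases hU1 : U = ⊥
  · by_cases hFS : fittingHallOf M = sigmaCore M
    · right; right; right
      exact (s1383_of' hG d.h54 d.h55 d.h56 d.h57 d.h59 d.h60 d.h64 d.h65 d.h66 d.h68 d.h70 d.h40
        M hM K U hKU).2 ⟨hK1, hU1, hFS⟩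
    · rcases (s1382_of hG d.h54 d.h55 d.h56 d.h57 d.h59 d.h60 d.h63 d.h64 d.h65 d.h66 d.h68 d.h70
        d.h37 M hM K U hKU).2 ⟨hK1, hU1, hFS⟩ with h | h
      · exact Or.inr (Or.inl h)
      · exact Or.inr (Or.inr (Or.inl h))
  · left
    exact (s1381_of hG d.h54 d.h55 d.h56 d.h57 d.h59 d.h60 d.h63 d.h64 d.h65 d.h66 d.h68 d.h70
      d.h72 M hM K U hKU).2 ⟨hK1, hU1⟩

/-- `M` has type-P data iff `K ≠ 1`. -/
theorem isOfTypeP_iff {M K U : Subgroup G} (hM : IsCoatom M)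
    (hKU : IsSigmaDecomposition M K U) : IsOfTypeP M ↔ K ≠ ⊥ := by
  have c55 := d.h55 M hM
  constructor
  · rintro ⟨W₁, U', W₂, hP⟩
    exact ne_bot_of_typeP hG hM hKU ⟨c55.1, c55.2.1, c55.2.2.1, c55.2.2.2.1⟩
      (fun hne => (d.h57 M hM K U hKU hne).1) (d.h59 M hM K U hKU) (d.h60 M hM K U hKU) hP
  · intro hK1
    exact isOfTypeP_of_typeIItoV (typeIItoV_of_ne_bot hG d hM hKU hK1)

/-- `M_s = M_σ` for every maximal subgroup. -/
theorem typeCore_eq_sigmaCore {M K U : Subgroup G} (hM : IsCoatom M)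
    (hKU : IsSigmaDecomposition M K U) : typeCore M = sigmaCore M := by
  have c55 := d.h55 M hM
  by_cases h34 : IsOfTypeIII M ∨ IsOfTypeIV M
  · have htc : typeCore M = ⁅M, M⁆ := by
      unfold typeCore
      rw [if_pos h34]
    obtain ⟨hK1, hU, -⟩ := decomp_of_typeIII_IV hG hM hKU
      ⟨c55.1, c55.2.1, c55.2.2.1, c55.2.2.2.1⟩ (fun hne => (d.h57 M hM K U hKU hne).1)
      (d.h59 M hM K U hKU) (d.h60 M hM K U hKU) (fun hK1 => (d.h65 M hM K U hKU hK1).1)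
      (fun hK1 => (d.h63 M hM K U hKU hK1).2) h34
    rw [htc, (d.h65 M hM K U hKU hK1).1, hU, bot_sup_eq]
  · have htc : typeCore M = fittingHallOf M := by
      unfold typeCore
      rw [if_neg h34]
    rw [htc]
    by_contra hne
    have c57 := d.h57 M hM K U hKU hne
    have hK1 : K ≠ ⊥ := by
      intro hK
      have := c57.2.2
      rw [hK, Subgroup.card_bot] at this
      exact Nat.not_prime_one this
    exact h34 ((s1382_of hG d.h54 d.h55 d.h56 d.h57 d.h59 d.h60 d.h63 d.h64 d.h65 d.h66 d.h68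
      d.h70 d.h37 M hM K U hKU).2 ⟨hK1, c57.1, hne⟩)

/-- `A(M) = (M̂_σ ∩ U M_σ) ∖ {1}`. -/
theorem litA_eq_sigmaA {M K U : Subgroup G} (hM : IsCoatom M)
    (hKU : IsSigmaDecomposition M K U) : litA M = sigmaA M U \ {1} := by
  have hTC := typeCore_eq_sigmaCore hG d hM hKU
  have hUSM : U ⊔ sigmaCore M ≤ M := sup_le hKU.compl.1 (sigmaCore_le M)
  by_cases hP : IsOfTypeP M
  · have hK1 : K ≠ ⊥ := (isOfTypeP_iff hG d hM hKU).1 hP
    have h65 := (d.h65 M hM K U hKU hK1).1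
    unfold litA sigmaA sigmaHat
    rw [if_pos hP, hTC, h65]
    ext a
    constructor
    · rintro ⟨ha, ha1, x, hx, hx1, hax⟩
      exact ⟨⟨⟨hUSM ha, x, hx, hx1, hax⟩, ha⟩, ha1⟩
    · rintro ⟨⟨⟨-, x, hx, hx1, hax⟩, ha⟩, ha1⟩
      exact ⟨ha, ha1, x, hx, hx1, hax⟩
  · have hK : K = ⊥ := by
      by_contra hK1
      exact hP ((isOfTypeP_iff hG d hM hKU).2 hK1)
    have hTC' : typeCore M = fittingHallOf M := by
      unfold typeCore
      rw [if_neg]
      rintro (⟨W₁, U', W₂, hP', -⟩ | ⟨W₁, U', W₂, hP', -⟩)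
      · exact hP ⟨W₁, U', W₂, hP'⟩
      · exact hP ⟨W₁, U', W₂, hP'⟩
    have hMU : M = U ⊔ sigmaCore M := by
      have := sup_eq_of_isComplIn hKU.compl
      rw [hK, bot_sup_eq] at this
      exact this.symm
    unfold litA sigmaA sigmaHat
    rw [if_neg hP, ← hTC', hTC, ← hMU]
    ext a
    constructor
    · rintro ⟨ha, ha1, x, hx, hx1, hax⟩
      exact ⟨⟨⟨ha, x, hx, hx1, hax⟩, ha⟩, ha1⟩
    · rintro ⟨⟨⟨-, x, hx, hx1, hax⟩, ha⟩, ha1⟩
      exact ⟨ha, ha1, x, hx, hx1, hax⟩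

/-- `A₁(M) = M_σ ∖ {1}`. -/
theorem typeA1_eq {M K U : Subgroup G} (hM : IsCoatom M)
    (hKU : IsSigmaDecomposition M K U) : typeA1 M = (sigmaCore M : Set G) \ {1} := by
  unfold typeA1
  rw [typeCore_eq_sigmaCore hG d hM hKU]

omit d in
/-- A maximal subgroup of Frobenius type (in particular of book Type I) has `κ(M) = ∅`. -/
theorem kappa_eq_empty_of_typeF (h51 : Stmt1351 G) (h52 : Stmt1352 G) (h55 : Stmt1355 G)
    (h64 : Stmt1364 G) {M : Subgroup G} (hM : IsCoatom M) (hF : IsOfTypeF ↥M) : kappa M = ∅ := by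
  obtain ⟨K, hK⟩ := (h51 M hM).1
  have hKc : IsCyclic K := (h51 M hM).2 K hK
  obtain ⟨U, hKU⟩ := (h52 M hM K hKc hK).1
  have hK1 : K = ⊥ := eq_bot_of_typeF hF hK (h55 M hM).2.1
    (fun hK1 => ⟨(h64 M hM K U hKU hK1).2.1, (h64 M hM K U hKU hK1).2.2.1⟩)
  rw [Set.eq_empty_iff_forall_notMem]
  intro p hp
  apply hK.2.2 p hp.1 hp
  rw [hK1, Subgroup.relIndex_bot_left]
  exact hp.2.1

omit d in
/-- A maximal subgroup of Frobenius type (in particular of book Type I) has `M_σ = M_F`. -/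
theorem sigmaCore_eq_of_typeF (h51 : Stmt1351 G) (h52 : Stmt1352 G) (h55 : Stmt1355 G)
    (h57 : Stmt1357 G) (h64 : Stmt1364 G) {M : Subgroup G} (hM : IsCoatom M)
    (hF : IsOfTypeF ↥M) : sigmaCore M = fittingHallOf M := by
  obtain ⟨K, hK⟩ := (h51 M hM).1
  have hKc : IsCyclic K := (h51 M hM).2 K hK
  obtain ⟨U, hKU⟩ := (h52 M hM K hKc hK).1
  have hK1 : K = ⊥ := eq_bot_of_typeF hF hK (h55 M hM).2.1
    (fun hK1 => ⟨(h64 M hM K U hKU hK1).2.1, (h64 M hM K U hKU hK1).2.2.1⟩)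
  by_contra hne
  have := (h57 M hM K U hKU (fun h => hne h.symm)).2.2
  rw [hK1, Subgroup.card_bot] at this
  exact Nat.not_prime_one this

end Cfsg.Agent.Lib.Helper26.BGBook
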