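import Mathlib
import Cfsg.Agent.Lib.Helper26.PFFrozen
import Cfsg.Agent.Lib.Helper26.BGBookSets
import Cfsg.Agent.Lib.Helper10.BGTameH
import Cfsg.Agent.Lib.Helper51.BGFifteenSevenMain
import Cfsg.Agent.S1350
import Cfsg.Agent.S1351
import Cfsg.Agent.S1352
import Cfsg.Agent.S1354
import Cfsg.Agent.S1355
import Cfsg.Agent.S1356
import Cfsg.Agent.S1357
import Cfsg.Agent.S1359
import Cfsg.Agent.S1360
import Cfsg.Agent.S1363
import Cfsg.Agent.S1364
import Cfsg.Agent.S1365
import Cfsg.Agent.S1366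
import Cfsg.Agent.S1368
import Cfsg.Agent.S1370
import Cfsg.Agent.S1372
import Cfsg.Agent.S1374
import Cfsg.Agent.S1375
import Cfsg.Agent.S1376
import Cfsg.Agent.S1378
import Cfsg.Agent.S1432
import Cfsg.Agent.S1436
import Cfsg.Agent.S1437

/-!
# Glue: the book-form Theorem I (types) and Theorem II (tame embedding) of Bender–Glauberman from
the proved rows and helper51's book form of B&G Theorem 15.7

CONDITIONAL file: it imports the rows `Cfsg.Agent.SNNNN` of other seats and builds once all of them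
are on main.
-/

set_option autoImplicit false

namespace Cfsg.Agent.Lib.Helper26.BGRows

open Cfsg Cfsg.Agent.Lib.Helper4.PF Cfsg.Agent.Lib.Helper26.PFBook Cfsg.Agent.Lib.Helper26.BGTypes
  Cfsg.Agent.Lib.Helper26.BGBook

universe u

variable {G : Type u} [Group G] [Finite G]

/-- the weak form of the row on `F(M) ∩ F(M)^g ≠ 1` (B&G Theorem 15.7, book form) -/
theorem stmt1440w (hG : IsMinSimpleOddOrder G) : Stmt1440w G :=
  Cfsg.Agent.Lib.Helper51.BGFifteenSeven.stmt1440w_of hG (Cfsg.Agent.S1357.result hG)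

theorem dictInput (hG : IsMinSimpleOddOrder G) : DictInput G where
  h51 := Cfsg.Agent.S1351.result hG
  h52 := Cfsg.Agent.S1352.result hG
  h54 := Cfsg.Agent.S1354.result hG
  h55 := Cfsg.Agent.S1355.result hG
  h56 := Cfsg.Agent.S1356.result hG
  h57 := Cfsg.Agent.S1357.result hG
  h59 := Cfsg.Agent.S1359.result hG
  h60 := Cfsg.Agent.S1360.result hG
  h63 := Cfsg.Agent.S1363.result hG
  h64 := Cfsg.Agent.S1364.result hG
  h65 := Cfsg.Agent.S1365.result hG
  h66 := Cfsg.Agent.S1366.result hG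
  h68 := Cfsg.Agent.S1368.result hG
  h70 := Cfsg.Agent.S1370.result hG
  h72 := Cfsg.Agent.S1372.result hG
  h37 := Cfsg.Agent.S1437.result hG
  h40 := stmt1440w hG

/-- B&G Theorem I, book form -/
theorem types (hG : IsMinSimpleOddOrder G) :
    ∀ M : Subgroup G, IsCoatom M → LitTypeI M ∨ IsTypeIItoV M :=
  let d := dictInput hG
  types_of hG d.h51 d.h52 d.h54 d.h55 d.h56 d.h57 d.h59 d.h60 d.h63 d.h64 d.h65 d.h66 d.h68 d.h70
    d.h72 d.h37 d.h40

theorem stmt1381 (hG : IsMinSimpleOddOrder G) : Stmt1381 G :=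
  let d := dictInput hG
  s1381_of hG d.h54 d.h55 d.h56 d.h57 d.h59 d.h60 d.h63 d.h64 d.h65 d.h66 d.h68 d.h70 d.h72

theorem stmt1382 (hG : IsMinSimpleOddOrder G) : Stmt1382 G :=
  let d := dictInput hG
  s1382_of hG d.h54 d.h55 d.h56 d.h57 d.h59 d.h60 d.h63 d.h64 d.h65 d.h66 d.h68 d.h70 d.h37

theorem stmt1383 (hG : IsMinSimpleOddOrder G) : Stmt1383 G :=
  let d := dictInput hG
  s1383_of' hG d.h54 d.h55 d.h56 d.h57 d.h59 d.h60 d.h64 d.h65 d.h66 d.h68 d.h70 d.h40

/-- B&G Theorem II, book form -/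
theorem bookTame (hG : IsMinSimpleOddOrder G) : BookTame G :=
  Cfsg.Agent.Lib.Helper10.BGTame.tame_of hG (Cfsg.Agent.S1350.result hG)
    (Cfsg.Agent.S1351.result hG) (Cfsg.Agent.S1352.result hG) (Cfsg.Agent.S1355.result hG)
    (Cfsg.Agent.S1357.result hG) (Cfsg.Agent.S1365.result hG) (Cfsg.Agent.S1374.result hG)
    (Cfsg.Agent.S1375.result hG) (Cfsg.Agent.S1376.result hG) (Cfsg.Agent.S1378.result hG)
    (stmt1381 hG) (stmt1382 hG) (stmt1383 hG)
    (Cfsg.Agent.S1432.result hG) (Cfsg.Agent.S1436.result hG) (types hG)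

/-- the frozen row S1537 -/
theorem stmt1537 (hG : IsMinSimpleOddOrder G) : Stmt1537 G :=
  s1537_of_tame hG (bookTame hG) (Cfsg.Agent.S1355.result hG)

/-- the frozen row S1538 -/
theorem stmt1538 (hG : IsMinSimpleOddOrder G) : Stmt1538 G :=
  s1538_of_tame hG (bookTame hG) (Cfsg.Agent.S1355.result hG)

/-- a maximal subgroup of book Type I has `κ(M) = ∅` (hypothesis `hκ` of helper64's module X1) -/
theorem kappa_eq_empty (hG : IsMinSimpleOddOrder G) (M : Subgroup G) (hM : IsCoatom M)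
    (hI : LitTypeI M) : kappa M = ∅ :=
  kappa_eq_empty_of_typeF hG (Cfsg.Agent.S1351.result hG) (Cfsg.Agent.S1352.result hG)
    (Cfsg.Agent.S1355.result hG) (Cfsg.Agent.S1364.result hG) hM hI.1

/-- a maximal subgroup of book Type I has `M_σ = M_F` (hypothesis `hσ` of helper64's module X1) -/
theorem sigmaCore_eq (hG : IsMinSimpleOddOrder G) (M : Subgroup G) (hM : IsCoatom M)
    (hI : LitTypeI M) : sigmaCore M = fittingHallOf M :=
  sigmaCore_eq_of_typeF hG (Cfsg.Agent.S1351.result hG) (Cfsg.Agent.S1352.result hG)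
    (Cfsg.Agent.S1355.result hG) (Cfsg.Agent.S1357.result hG) (Cfsg.Agent.S1364.result hG) hM hI.1

end Cfsg.Agent.Lib.Helper26.BGRows
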