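import Mathlib
import Cfsg.Agent.Lib.Helper60.PFTenTDefs
import Cfsg.Agent.Lib.Helper60.PFCycB2
import Cfsg.Agent.Lib.Helper50.PFCycMuRes

/-!
# PF sec. 10, T-side, module [TS-B2T] (helper26, for helper60)

`tau_muSum_sub_T`: the Dade map of `T` on `ν_{β₁} - ν_{β₂}` (sums of the `ν`'s of the Type II
partner) in terms of the cyclic TI family `η` of `(W₁, W₂)`.  Statement verbatim from helper60's
board post #4511; the proof applies `Helper60.PFCycB.dade_mu_sub` to `T` with the swapped family.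
-/

set_option autoImplicit false

namespace Cfsg.Agent.Lib.Helper26.PFTenT

open Cfsg Cfsg.Agent.Lib.Helper24.PFCyc Cfsg.Agent.Lib.Helper4.PF Cfsg.Agent.Lib.Helper4.PFTen
  Cfsg.Agent.Lib.Helper74.PF127 Cfsg.Agent.Lib.Helper60.PFTenT

universe u

section

variable {G : Type u} [Group G] [Fintype G] {W₁ W₂ : Subgroup G}

/-- two signs that differ by a multiple of an integer `≥ 3` are equal -/
theorem sign_eq_of_sub_eq_mul {a b : ℂ} (ha : a = 1 ∨ a = -1) (hb : b = 1 ∨ b = -1)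
    (p : ℕ) (hp : 3 ≤ p) (k : ℤ) (h : b - a = k * (p : ℂ)) : a = b := by
  have key : ∀ k : ℤ, (2 : ℤ) ≠ k * (p : ℤ) := by
    intro k hk
    have hdvd : ((p : ℤ)) ∣ 2 := ⟨k, by rw [hk]; ring⟩
    have hle : (p : ℤ) ≤ 2 := Int.le_of_dvd (by norm_num) hdvd
    have : (3 : ℤ) ≤ p := by exact_mod_cast hp
    omega
  rcases ha with rfl | rfl <;> rcases hb with rfl | rfl
  · rfl
  · exfalso
    apply key (-k)
    have h' : ((2 : ℤ) : ℂ) = ((-k * (p : ℤ) : ℤ) : ℂ) := by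
      push_cast
      linear_combination -h
    exact_mod_cast h'
  · exfalso
    apply key k
    have h' : ((2 : ℤ) : ℂ) = ((k * (p : ℤ) : ℤ) : ℂ) := by
      push_cast
      linear_combination h
    exact_mod_cast h'
  · rfl

/-- MODULE [TS-B2T] -/
theorem tau_muSum_sub_T {T V : Subgroup G} [Fintype T] (tf : TFrame T W₁ W₂ V)
    (hoddT : Odd (Nat.card T)) (hD : DadeHypothesis (litA0 T) T (supportR T))
    {nu : WChar W₂ W₁ → (↥T → ℂ)} {dlT : WChar W₂ W₁ → ℂ} (md : MuData T W₂ W₁ nu dlT)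
    (η : WChar W₁ W₂ → (G → ℂ)) (hη : IsCyclicTIFamily W₁ W₂ η)
    (β₁ β₂ : WChar W₂ W₁) (h₁ : TrivOn W₂ β₁) (h₂ : TrivOn W₂ β₂) (h₁1 : β₁ ≠ 1) (h₂1 : β₂ ≠ 1)
    (hne : β₁ ≠ β₂) (hdeg : nu β₁ 1 = nu β₂ 1)
    (hvan₁ : ∀ x : ↥T, (x : G) ∈ ⁅T, T⁆ → (x : G) ∉ litA T → x ≠ 1 → nu β₁ x = 0)
    (hvan₂ : ∀ x : ↥T, (x : G) ∈ ⁅T, T⁆ → (x : G) ∉ litA T → x ≠ 1 → nu β₂ x = 0) :
    tauM T (muSum nu β₁ - muSum nu β₂) =
      dlT β₁ • ((∑ ψ ∈ trivSet W₁ W₂ W₁, η (swapChar W₁ W₂ β₁ * ψ)) -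
        ∑ ψ ∈ trivSet W₁ W₂ W₁, η (swapChar W₁ W₂ β₂ * ψ)) := by
  classical
  -- `p = |W₂| ≥ 3`
  have hW₂T : W₂ ≤ T := tf.hTP.W₁_compl.2.1
  have hp3 : 3 ≤ Nat.card W₂ := by
    have hp := tf.hp
    have hdvd : Nat.card W₂ ∣ Nat.card T := Subgroup.card_dvd_of_le hW₂T
    have hoddp : Odd (Nat.card W₂) := Odd.of_dvd_nat hoddT hdvd
    have h2 : 2 ≤ Nat.card W₂ := hp.two_le
    rcases Nat.lt_or_ge 2 (Nat.card W₂) with h | h
    · exact h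
    · exfalso
      have : Nat.card W₂ = 2 := le_antisymm h h2
      rw [this] at hoddp
      exact absurd hoddp (by decide)
  -- the signs agree
  have hdl : dlT β₁ = dlT β₂ := by
    obtain ⟨n₁, hn₁⟩ := md.deg β₁
    obtain ⟨n₂, hn₂⟩ := md.deg β₂
    apply sign_eq_of_sub_eq_mul (md.sign β₁) (md.sign β₂) (Nat.card W₂) hp3 (n₁ - n₂)
    push_cast
    rw [sub_mul, ← hn₁, ← hn₂, hdeg]
    ring
  -- the support hypothesis
  have hsupp : ∀ x : ↥T, (x : G) ∈ ⁅T, T⁆ → (x : G) ∉ litA0 T → x ≠ 1 →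
      ∀ φ : WChar W₂ W₁, TrivOn W₁ φ → nu (φ * β₁) x = nu (φ * β₂) x := by
    intro x hx hx0 hx1 φ hφ
    have hxA : (x : G) ∉ litA T := fun h => hx0 (Or.inl h)
    have e₁ : nu (φ * β₁) x = nu β₁ x := by
      apply Cfsg.Agent.Lib.Helper50.PFCyc.mu_res_eq tf.hTP md (φ * β₁) β₁ _ x hx
      intro w hw
      rw [MonoidHom.mul_apply, hφ w hw, one_mul]
    have e₂ : nu (φ * β₂) x = nu β₂ x := by
      apply Cfsg.Agent.Lib.Helper50.PFCyc.mu_res_eq tf.hTP md (φ * β₂) β₂ _ x hx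
      intro w hw
      rw [MonoidHom.mul_apply, hφ w hw, one_mul]
    rw [e₁, e₂, hvan₁ x hx hxA hx1, hvan₂ x hx hxA hx1]
  have key := (Cfsg.Agent.Lib.Helper60.PFCycB.dade_mu_sub tf.hTP hD md hoddT (etaSwap η)
    (isCyclicTIFamily_swap hη) β₁ β₂ h₁ h₂ h₁1 h₂1 hne hdl hdeg hsupp).2
  rw [etaSum_etaSwap, etaSum_etaSwap] at key
  exact key

end

end Cfsg.Agent.Lib.Helper26.PFTenT
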