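import Mathlib
import Cfsg.Agent.Lib.Helper60.PFTenTDefs
import Cfsg.Agent.Lib.Helper60.PFCycB2
import Cfsg.Agent.Lib.Helper51.PFCycCalS
import Cfsg.Agent.Lib.Helper51.PFCycMuInd

/-!
# PF sec. 10, T-side, module [TS-ORTH] (helper26, for helper60)

Five small lemmas on `RowIdx` / `ColIdx` / `Efam`: orthonormality, cardinalities, row and
column sums.  Statements verbatim from helper60's board post #4511.
-/

set_option autoImplicit false

namespace Cfsg.Agent.Lib.Helper26.PFTenT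

open Cfsg Cfsg.Agent.Lib.Helper24.PFCyc Cfsg.Agent.Lib.Helper4.PF Cfsg.Agent.Lib.Helper4.PFTen
  Cfsg.Agent.Lib.Helper74.PF127 Cfsg.Agent.Lib.Helper60.PFTenT

universe u

section

variable {G : Type u} [Group G] [Fintype G] {W₁ W₂ : Subgroup G}

/-- MODULE [TS-ORTH] (1) -/
theorem Efam_orthonormal [DecidableEq (RowIdx W₁ W₂)] [DecidableEq (ColIdx W₁ W₂)]
    (hW : IsSelfNormalizingCyclic W₁ W₂) (η : WChar W₁ W₂ → (G → ℂ))
    (hη : IsCyclicTIFamily W₁ W₂ η) (i : RowIdx W₁ W₂) (j : ColIdx W₁ W₂)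
    (i' : RowIdx W₁ W₂) (j' : ColIdx W₁ W₂) :
    classInner (Efam η i j) (Efam η i' j') = if i = i' ∧ j = j' then 1 else 0 := by
  classical
  unfold Efam
  rw [hη.orthonormal]
  have hi : TrivOn W₂ i.1 := mem_trivSet.mp i.2
  have hi' : TrivOn W₂ i'.1 := mem_trivSet.mp i'.2
  have hj : TrivOn W₁ j.1 := mem_trivSet.mp j.2
  have hj' : TrivOn W₁ j'.1 := mem_trivSet.mp j'.2
  by_cases h : i.1 * j.1 = i'.1 * j'.1
  · have hval : ∀ w, i.1 w * j.1 w = i'.1 w * j'.1 w := by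
      intro w
      have := DFunLike.congr_fun h w
      rwa [MonoidHom.mul_apply, MonoidHom.mul_apply] at this
    -- `δ = i * i'⁻¹ = j' * j⁻¹` is trivial on `W₁` and on `W₂`
    have hδ : i.1 * i'.1⁻¹ = j'.1 * j.1⁻¹ := by
      apply MonoidHom.ext
      intro w
      rw [MonoidHom.mul_apply, MonoidHom.mul_apply, MonoidHom.inv_apply, MonoidHom.inv_apply]
      have h1 := hval w
      rw [mul_inv_eq_iff_eq_mul, mul_right_comm, mul_comm (j'.1 w) (i'.1 w), ← h1, mul_assoc,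
        mul_inv_cancel, mul_one]
    have h2 : TrivOn W₂ (i.1 * i'.1⁻¹) := hi.mul hi'.inv
    have h1 : TrivOn W₁ (i.1 * i'.1⁻¹) := by rw [hδ]; exact hj'.mul hj.inv
    have hone : i.1 * i'.1⁻¹ = 1 := Cfsg.Agent.Lib.Helper51.PFCyc.eq_one_of_trivOn hW h1 h2
    have hone' : j'.1 * j.1⁻¹ = 1 := hδ ▸ hone
    have e1 : i = i' := Subtype.ext (mul_inv_eq_one.mp hone)
    have e2 : j = j' := Subtype.ext (mul_inv_eq_one.mp hone').symm
    rw [if_pos h, if_pos ⟨e1, e2⟩]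
  · rw [if_neg h, if_neg]
    rintro ⟨e1, e2⟩
    exact h (by rw [e1, e2])

/-- MODULE [TS-ORTH] (2) -/
theorem card_RowIdx (hW : IsSelfNormalizingCyclic W₁ W₂) :
    Fintype.card (RowIdx W₁ W₂) = Nat.card W₁ := by
  rw [Fintype.card_coe]
  exact Cfsg.Agent.Lib.Helper51.PFCyc.card_trivSet_W₂ hW

/-- MODULE [TS-ORTH] (3) -/
theorem card_ColIdx (hW : IsSelfNormalizingCyclic W₁ W₂) :
    Fintype.card (ColIdx W₁ W₂) = Nat.card W₂ := by
  classical
  rw [Fintype.card_coe]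
  rw [← Cfsg.Agent.Lib.Helper51.PFCyc.card_trivSet_W₂ (isSelfNormalizingCyclic_swap hW)]
  symm
  apply Finset.card_bij (fun ω _ => swapChar W₁ W₂ ω)
  · intro ω hω
    rw [mem_trivSet] at hω ⊢
    exact trivOn_swapChar.mpr hω
  · intro a _ b _ hab
    exact (swapChar W₁ W₂).injective hab
  · intro ψ hψ
    refine ⟨(swapChar W₁ W₂).symm ψ, ?_, MulEquiv.apply_symm_apply _ _⟩
    rw [mem_trivSet] at hψ ⊢
    apply (trivOn_swapChar (W₁ := W₁) (W₂ := W₂) (X := W₁)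
      (ω := (swapChar W₁ W₂).symm ψ)).mp
    rw [MulEquiv.apply_symm_apply]
    exact hψ

/-- MODULE [TS-ORTH] (4) -/
theorem rowSum_Efam (η : WChar W₁ W₂ → (G → ℂ)) (i : RowIdx W₁ W₂) :
    rowSum (Efam η) i = ∑ ψ ∈ trivSet W₁ W₂ W₁, η (i.1 * ψ) := by
  unfold rowSum Efam
  exact Finset.sum_coe_sort (trivSet W₁ W₂ W₁) (fun ψ => η (i.1 * ψ))

/-- MODULE [TS-ORTH] (5) -/
theorem colSum_Efam_base (η : WChar W₁ W₂ → (G → ℂ)) :
    colSum (Efam η) (colBase W₁ W₂) = etaSum η 1 := by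
  unfold colSum Efam colBase etaSum
  exact Finset.sum_coe_sort (trivSet W₁ W₂ W₂) (fun φ => η (φ * 1))

end

end Cfsg.Agent.Lib.Helper26.PFTenT
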