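import Mathlib

/-!
# PF sec. 10, T-side, module [TS-C2-NUM] (helper26, for helper60)

The final numeric contradiction of Case 2 of Peterfalvi (10.8): pure real arithmetic.
Statement verbatim from helper60's board post #4511.
-/

set_option autoImplicit false

namespace Cfsg.Agent.Lib.Helper26.PFTenT

/-- MODULE [TS-C2-NUM] -/
theorem case2_numeric (n m t h v p q h' : ℕ) (a c R regT : ℝ)
    (hn : 0 < n) (hm : 0 < m) (ht : t = h * v * p) (hh : h = q * h') (hh' : 0 < h')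
    (hv : 13 ≤ v) (hp : 3 ≤ p) (hq : 3 ≤ q)
    (hR : R ≤ (n : ℝ) * (a + c) / m)
    (hsing : ((n : ℝ) - R) * t ≤ (n : ℝ) * ((t : ℝ) - regT))
    (hreg : (1 : ℝ) + ((v : ℝ) - 1) * h + (v : ℝ) * ((p : ℝ) - 1) * h' ≤ regT)
    (hnum : (a + c) / m < 1 / (q : ℝ) + (1 / (p : ℝ)) * (1 - 1 / (q : ℝ) - 1 / 13)) : False := by
  have hnR : (0 : ℝ) < n := by exact_mod_cast hn
  have hQ : (3 : ℝ) ≤ q := by exact_mod_cast hq
  have hP : (3 : ℝ) ≤ p := by exact_mod_cast hp
  have hV : (13 : ℝ) ≤ v := by exact_mod_cast hv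
  have hH' : (0 : ℝ) < h' := by exact_mod_cast hh'
  have hQ0 : (0 : ℝ) < q := by linarith
  have hP0 : (0 : ℝ) < p := by linarith
  have hV0 : (0 : ℝ) < v := by linarith
  have hhR : (h : ℝ) = q * h' := by rw [hh]; push_cast; ring
  have htR : (t : ℝ) = q * h' * v * p := by rw [ht, hh]; push_cast; ring
  have ht0 : (0 : ℝ) < t := by rw [htR]; positivity
  -- `n * regT ≤ R * t`
  have h1 : (n : ℝ) * regT ≤ R * t := by linarith
  -- `R * t ≤ n * x * t`
  have h2 : R * t ≤ (n : ℝ) * ((a + c) / m) * t := by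
    apply mul_le_mul_of_nonneg_right _ ht0.le
    rw [← mul_div_assoc]
    exact hR
  -- `regT ≤ x * t`
  have h3 : regT ≤ (a + c) / m * t := by
    have h4 : (n : ℝ) * regT ≤ n * ((a + c) / m * t) := by
      calc (n : ℝ) * regT ≤ R * t := h1
        _ ≤ (n : ℝ) * ((a + c) / m) * t := h2
        _ = n * ((a + c) / m * t) := by ring
    exact le_of_mul_le_mul_left h4 hnR
  -- `x * t < RHS * t`
  have h5 : (a + c) / m * t <
      (1 / (q : ℝ) + (1 / (p : ℝ)) * (1 - 1 / (q : ℝ) - 1 / 13)) * t :=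
    mul_lt_mul_of_pos_right hnum ht0
  have h6 : (1 / (q : ℝ) + (1 / (p : ℝ)) * (1 - 1 / (q : ℝ) - 1 / 13)) * t =
      (h' : ℝ) * v * p + q * h' * v - h' * v - q * h' * v / 13 := by
    rw [htR]
    field_simp
    ring
  have h7 : (0 : ℝ) ≤ q * h' * (v - 13) :=
    mul_nonneg (mul_nonneg hQ0.le hH'.le) (by linarith)
  rw [hhR] at hreg
  nlinarith [h3, h5, h6, h7, hreg]

end Cfsg.Agent.Lib.Helper26.PFTenT
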