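import Mathlib
import Cfsg.Agent.Lib.Helper7.M24SLP
import Cfsg.Agent.Lib.Helper7.M24Pres

/-!
# Orbit certificates for permutations of the 24 points acting on bitmasks

* tables packed into one natural number (`lookP`, `MatchesP`), image of a mask (`applyP`);
* lists of masks packed into one natural number (`getM`);
* `runC`: a certificate runner proving that all listed masks are images of a root set under a
  subgroup containing the given generators (`runC_sound`).
-/

set_option autoImplicit false

namespace Cfsg.Agent.Lib.Helper26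

open Cfsg Cfsg.Agent.Lib.Helper7
open scoped Pointwise

/-- lookup in a packed table (5 bits per entry) -/
def lookP (T i : ℕ) : ℕ := (T >>> (5 * i)) % 32

/-- `T` is the packed table of `σ` -/
def MatchesP (σ : Equiv.Perm GolayPt) (T : ℕ) : Prop :=
  ∀ p : GolayPt, idx (σ p) = lookP T (idx p)

theorem matchesP_of_matches {σ : Equiv.Perm GolayPt} {t : List ℕ} (h : Matches σ t) (T : ℕ)
    (hT : ∀ i < 24, t.getD i 0 = lookP T i) : MatchesP σ T := by
  intro p
  rw [h p, hT _ (idx_lt p)]

/-- the packed identity table -/
def idP : ℕ := 0xbdab49ca307b9ac5a928398a418820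

theorem lookP_idP : ∀ i < 24, lookP idP i = i := by decide

theorem matchesP_one : MatchesP 1 idP := by
  intro p
  rw [lookP_idP _ (idx_lt p)]
  rfl

/-- the loop computing the image of a mask -/
def goP : ℕ → ℕ → ℕ → ℕ → ℕ
  | 0, _, _, acc => acc
  | (k + 1), T, m, acc => goP k (T >>> 5) (m >>> 1) (acc ||| ((m &&& 1) <<< (T &&& 31)))

/-- image of a mask under a packed table -/
def applyP (T m : ℕ) : ℕ := goP 24 T m 0

theorem testBit_goP (n : ℕ) : ∀ (T m acc k : ℕ), (goP n T m acc).testBit k = true ↔
    (acc.testBit k = true ∨ ∃ i < n, m.testBit i = true ∧ lookP T i = k) := by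
  induction n with
  | zero =>
    intro T m acc k
    simp [goP]
  | succ n ih =>
    intro T m acc k
    rw [goP, ih]
    have hx : ((m &&& 1) <<< (T &&& 31)).testBit k = true ↔ (m.testBit 0 = true ∧ lookP T 0 = k) := by
      have h31 : T &&& 31 = T % 32 := Nat.and_two_pow_sub_one_eq_mod T 5
      have hl : lookP T 0 = T % 32 := by simp [lookP]
      rw [hl, h31, Nat.testBit_shiftLeft]
      simp only [Bool.and_eq_true, decide_eq_true_eq, Nat.testBit_and]
      constructor
      · rintro ⟨hge, hm, h1⟩
        have : k - T % 32 = 0 := Nat.testBit_one_eq_true_iff_self_eq_zero.1 h1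
        rw [this] at hm
        exact ⟨hm, by omega⟩
      · rintro ⟨hm, hk⟩
        subst hk
        simp [hm]
    rw [Nat.testBit_or, Bool.or_eq_true, hx]
    constructor
    · rintro ((h | ⟨h0, hk⟩) | ⟨i, hi, hmi, hli⟩)
      · exact Or.inl h
      · exact Or.inr ⟨0, by omega, h0, hk⟩
      · refine Or.inr ⟨i + 1, by omega, ?_, ?_⟩
        · rw [Nat.testBit_shiftRight] at hmi
          rwa [Nat.add_comm] at hmi
        · rw [← hli]
          simp only [lookP, ← Nat.shiftRight_add]
          congr 2
          ring
    · rintro (h | ⟨i, hi, hmi, hli⟩)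
      · exact Or.inl (Or.inl h)
      · rcases Nat.eq_zero_or_pos i with rfl | hpos
        · exact Or.inl (Or.inr ⟨hmi, hli⟩)
        · obtain ⟨i', rfl⟩ : ∃ i', i = i' + 1 := ⟨i - 1, by omega⟩
          refine Or.inr ⟨i', by omega, ?_, ?_⟩
          · rw [Nat.testBit_shiftRight, Nat.add_comm]; exact hmi
          · rw [← hli]
            simp only [lookP, ← Nat.shiftRight_add]
            congr 2
            ring

theorem mem_setOf_applyP {T m : ℕ} {p : GolayPt} :
    p ∈ setOf (applyP T m) ↔ ∃ i < 24, m.testBit i = true ∧ lookP T i = idx p := by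
  rw [mem_setOf, applyP, testBit_goP]
  simp

/-- The image of the set of a mask under a permutation with packed table `T`. -/
theorem smul_setOf_eq_applyP {σ : Equiv.Perm GolayPt} {T : ℕ} (h : MatchesP σ T) (m : ℕ) :
    σ • setOf m = setOf (applyP T m) := by
  ext p
  rw [mem_perm_smul_finset, mem_setOf_applyP, mem_setOf]
  constructor
  · intro hp
    refine ⟨idx (σ.symm p), idx_lt _, hp, ?_⟩
    rw [← h (σ.symm p)]
    simp
  · rintro ⟨i, hi, hmi, hli⟩
    have hq : σ (pt i) = p := by
      apply idx_injective
      rw [h (pt i), idx_pt hi, hli]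
    have : σ.symm p = pt i := by rw [← hq]; simp
    rw [this, idx_pt hi]
    exact hmi

/-- the `j`-th mask of a packed list of 24-bit masks -/
def getM (B j : ℕ) : ℕ := (B >>> (24 * j)) % 16777216

/-- one step of the certificate runner: entry `(j, p, g)` claims that generator `g` maps the
`p`-th mask to the `j`-th mask, the `p`-th mask being already reached. -/
def stepC (Ts : List ℕ) (B : ℕ) (done : ℕ) (e : ℕ × ℕ × ℕ) : ℕ :=
  if done.testBit e.2.1 && (applyP (Ts.getD e.2.2 idP) (getM B e.2.1) == getM B e.1) then
    done ||| (1 <<< e.1)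
  else done

/-- the certificate runner -/
def runC (Ts : List ℕ) (B : ℕ) (done : ℕ) (cert : List (ℕ × ℕ × ℕ)) : ℕ :=
  cert.foldl (stepC Ts B) done

theorem forall₂_getD' {α β : Type*} {R : α → β → Prop} {l1 : List α} {l2 : List β}
    (h : List.Forall₂ R l1 l2) {d1 : α} {d2 : β} (hd : R d1 d2) (i : ℕ) :
    R (l1.getD i d1) (l2.getD i d2) := by
  induction h generalizing i with
  | nil => simpa using hd
  | cons hab _ ih =>
    cases i with
    | zero => simpa using hab
    | succ i => simpa using ih i

theorem getD_mem_subgroup {H : Subgroup (Equiv.Perm GolayPt)} {gens : List (Equiv.Perm GolayPt)}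
    (hH : ∀ g ∈ gens, g ∈ H) (i : ℕ) : gens.getD i 1 ∈ H := by
  by_cases hi : i < gens.length
  · rw [List.getD_eq_getElem _ _ hi]
    exact hH _ (List.getElem_mem hi)
  · rw [List.getD_eq_default _ _ (not_lt.mp hi)]
    exact H.one_mem

theorem runC_sound (H : Subgroup (Equiv.Perm GolayPt)) (gens : List (Equiv.Perm GolayPt))
    (Ts : List ℕ) (hm : List.Forall₂ MatchesP gens Ts) (hH : ∀ g ∈ gens, g ∈ H) (B : ℕ)
    (root : Finset GolayPt) (cert : List (ℕ × ℕ × ℕ)) :
    ∀ done : ℕ, (∀ j, done.testBit j = true → ∃ h ∈ H, h • root = setOf (getM B j)) →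
      ∀ j, (runC Ts B done cert).testBit j = true → ∃ h ∈ H, h • root = setOf (getM B j) := by
  induction cert with
  | nil => intro done hdone j hj; exact hdone j hj
  | cons e cert ih =>
    intro done hdone
    rw [runC, List.foldl_cons]
    apply ih
    intro j hj
    unfold stepC at hj
    split_ifs at hj with hc
    · rw [Bool.and_eq_true, beq_iff_eq] at hc
      rw [Nat.testBit_or, Bool.or_eq_true] at hj
      rcases hj with hj | hj
      · exact hdone j hj
      · rw [Nat.one_shiftLeft, Nat.testBit_two_pow, decide_eq_true_eq] at hj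
        subst hj
        obtain ⟨h, hh, hroot⟩ := hdone _ hc.1
        have hmg : MatchesP (gens.getD e.2.2 1) (Ts.getD e.2.2 idP) :=
          forall₂_getD' hm matchesP_one _
        refine ⟨gens.getD e.2.2 1 * h, H.mul_mem (getD_mem_subgroup hH _) hh, ?_⟩
        rw [mul_smul, hroot, smul_setOf_eq_applyP hmg, hc.2]
    · exact hdone j hj

end Cfsg.Agent.Lib.Helper26
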