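import Mathlib
import Cfsg.Agent.Lib.Helper26.OrbitCert
import Cfsg.Agent.Lib.Helper26.GolayBitsWeights

/-!
# Families of subsets of the 24 points given by lists of bitmasks, and orbit certificates on them

* `famOf l` : the family (finset of finsets) of the sets of the masks in the list `l`;
* `getF w B j` : the `j`-th family of width `w` in a packed list of 24-bit masks;
* byte tables of permutations (`applyB`, `ByteOK`), checked against packed tables;
* `runQN` : certificate runner on families (`runQN_sound`), written so that the kernel evaluates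
  it eagerly (`forceNat`);
* `invS f S X = ∑ s ∈ S, ∑ x ∈ X, f |s ∩ x|`, invariant under permutations, and its mask version
  `invM` (`invS_famOf`).
-/

set_option autoImplicit false

namespace Cfsg.Agent.Lib.Helper26

open Cfsg
open scoped Pointwise

local notation "setOf₇" => Cfsg.Agent.Lib.Helper7.setOf

theorem setOf7_eq (m : ℕ) : setOf₇ m = setOf m := by
  unfold Cfsg.Agent.Lib.Helper7.setOf setOf
  ext p
  have : Cfsg.Agent.Lib.Helper7.idx p = idx p := by cases p <;> rfl
  simp only [Finset.mem_filter, Finset.mem_univ, true_and, this]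

theorem card_setOf7 {m : ℕ} (h : m < 2 ^ 24) : (setOf₇ m).card = popT m := by
  rw [setOf7_eq, card_setOf, popc_eq_popT h]

theorem setOf7_injOn {m n : ℕ} (hm : m < 2 ^ 24) (hn : n < 2 ^ 24) (h : setOf₇ m = setOf₇ n) :
    m = n := by
  rw [setOf7_eq, setOf7_eq] at h
  exact setOf_injOn hm hn h

/-- the family of sets of a list of masks -/
def famOf (l : List ℕ) : Finset (Finset GolayPt) := (l.map setOf₇).toFinset

theorem mem_famOf {l : List ℕ} {s : Finset GolayPt} : s ∈ famOf l ↔ ∃ m ∈ l, setOf₇ m = s := by
  simp [famOf]

theorem card_famOf_le (l : List ℕ) : (famOf l).card ≤ l.length := by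
  unfold famOf
  exact (List.toFinset_card_le _).trans (by simp)

theorem nodup_map_setOf {l : List ℕ} (hl : l.Pairwise (· < ·)) (hlt : ∀ m ∈ l, m < 2 ^ 24) :
    (l.map setOf₇).Nodup := by
  rw [List.nodup_map_iff_inj_on (hl.imp (fun h => Nat.ne_of_lt h))]
  intro a ha b hb hab
  exact setOf7_injOn (hlt a ha) (hlt b hb) hab

theorem card_famOf {l : List ℕ} (hl : l.Pairwise (· < ·)) (hlt : ∀ m ∈ l, m < 2 ^ 24) :
    (famOf l).card = l.length := by
  unfold famOf
  rw [List.toFinset_card_of_nodup (nodup_map_setOf hl hlt), List.length_map]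

/-- sorted lists of masks with the same family are equal -/
theorem eq_of_famOf_eq {l l' : List ℕ} (hl : l.Pairwise (· < ·)) (hl' : l'.Pairwise (· < ·))
    (hlt : ∀ m ∈ l, m < 2 ^ 24) (hlt' : ∀ m ∈ l', m < 2 ^ 24) (h : famOf l = famOf l') :
    l = l' := by
  apply List.Pairwise.eq_of_mem_iff hl hl'
  intro a
  constructor
  · intro ha
    have : setOf₇ a ∈ famOf l' := h ▸ mem_famOf.2 ⟨a, ha, rfl⟩
    obtain ⟨b, hb, hab⟩ := mem_famOf.1 this
    rw [← setOf7_injOn (hlt' b hb) (hlt a ha) hab]
    exact hb
  · intro ha
    have : setOf₇ a ∈ famOf l := h.symm ▸ mem_famOf.2 ⟨a, ha, rfl⟩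
    obtain ⟨b, hb, hab⟩ := mem_famOf.1 this
    rw [← setOf7_injOn (hlt b hb) (hlt' a ha) hab]
    exact hb

theorem smul_famOf {σ : Equiv.Perm GolayPt} {T : ℕ} (h : MatchesP σ T) (l : List ℕ) :
    σ • famOf l = famOf (l.map (applyP T)) := by
  ext s
  rw [Finset.mem_smul_finset, mem_famOf]
  constructor
  · rintro ⟨t, ht, rfl⟩
    obtain ⟨m, hm, rfl⟩ := mem_famOf.1 ht
    exact ⟨applyP T m, List.mem_map_of_mem hm, (smul_setOf_eq_applyP h m).symm⟩
  · rintro ⟨m', hm', rfl⟩
    obtain ⟨m, hm, rfl⟩ := List.mem_map.1 hm'
    exact ⟨setOf₇ m, mem_famOf.2 ⟨m, hm, rfl⟩, smul_setOf_eq_applyP h m⟩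

/-- every mask of `l` occurs in `l'` -/
def subF (l l' : List ℕ) : Bool := l.all fun m => l'.contains m

theorem famOf_subset_of_subF {l l' : List ℕ} (h : subF l l' = true) : famOf l ⊆ famOf l' := by
  intro s hs
  obtain ⟨m, hm, rfl⟩ := mem_famOf.1 hs
  rw [subF, List.all_eq_true] at h
  have := h m hm
  rw [List.contains_iff_mem] at this
  exact mem_famOf.2 ⟨m, this, rfl⟩

/-! ### Forcing evaluation (for kernel reduction) -/

/-- force the evaluation of a natural number before continuing -/
def forceNat {α : Sort _} (n : ℕ) (k : ℕ → α) : α :=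
  match n with
  | 0 => k 0
  | Nat.succ m => k (Nat.succ m)

@[simp] theorem forceNat_eq {α : Sort _} (n : ℕ) (k : ℕ → α) : forceNat n k = k n := by
  cases n <;> rfl

/-- raw test bit -/
def tbit (d p : ℕ) : Bool := Nat.beq (Nat.land (Nat.shiftRight d p) 1) 1

theorem tbit_eq (d p : ℕ) : tbit d p = d.testBit p := by
  unfold tbit
  rw [Nat.testBit_eq_decide_div_mod_eq]
  show Nat.beq ((d >>> p) &&& 1) 1 = _
  rw [Nat.and_one_is_mod, Nat.shiftRight_eq_div_pow]
  by_cases h : d / 2 ^ p % 2 = 1
  · rw [h]; simp
  · rw [decide_eq_false h]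
    cases hb : Nat.beq (d / 2 ^ p % 2) 1
    · rfl
    · exact absurd (Nat.eq_of_beq_eq_true hb) h

/-! ### Byte tables of permutations -/

theorem applyP_or (T a b : ℕ) : applyP T (a ||| b) = applyP T a ||| applyP T b := by
  apply Nat.eq_of_testBit_eq
  intro k
  rw [Nat.testBit_or]
  unfold applyP
  rw [Bool.eq_iff_iff, Bool.or_eq_true, testBit_goP, testBit_goP, testBit_goP]
  simp only [Nat.zero_testBit, Bool.false_eq_true, false_or, Nat.testBit_or, Bool.or_eq_true]
  constructor
  · rintro ⟨i, hi, h1 | h1, h2⟩
    · exact Or.inl ⟨i, hi, h1, h2⟩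
    · exact Or.inr ⟨i, hi, h1, h2⟩
  · rintro (⟨i, hi, h1, h2⟩ | ⟨i, hi, h1, h2⟩)
    · exact ⟨i, hi, Or.inl h1, h2⟩
    · exact ⟨i, hi, Or.inr h1, h2⟩

theorem byte_decomp (m : ℕ) :
    m = (m &&& 255) ||| (((m >>> 8) &&& 255) <<< 8) ||| ((m >>> 16) <<< 16) := by
  apply Nat.eq_of_testBit_eq
  intro k
  have h255 : (255 : ℕ) = 2 ^ 8 - 1 := by norm_num
  simp only [Nat.testBit_or, Nat.testBit_and, Nat.testBit_shiftLeft, Nat.testBit_shiftRight, h255,
    Nat.testBit_two_pow_sub_one]
  by_cases h8 : k < 8
  · have : ¬ (8 ≤ k) := by omega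
    have h16 : ¬ (16 ≤ k) := by omega
    simp [h8, this, h16]
  · by_cases h16 : k < 16
    · have h8' : 8 ≤ k := by omega
      have h16' : ¬ (16 ≤ k) := by omega
      have : k - 8 < 8 := by omega
      have e : 8 + (k - 8) = k := by omega
      simp [h8, h8', h16', this, e]
    · have h8' : 8 ≤ k := by omega
      have h16' : 16 ≤ k := by omega
      have : ¬ (k - 8 < 8) := by omega
      have e : 16 + (k - 16) = k := by omega
      simp [h8, h8', h16', this, e]

/-- the `i`-th entry (24 bits) of a byte table -/
def lookB (tab i : ℕ) : ℕ := Nat.land (Nat.shiftRight tab (Nat.mul 24 i)) 16777215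

/-- image of a mask under a byte table: entry `256 * pos + v` is the image of the byte `v` at
position `pos` -/
def applyB (tab m : ℕ) : ℕ :=
  Nat.lor (Nat.lor (lookB tab (Nat.land m 255))
    (lookB tab (Nat.add 256 (Nat.land (Nat.shiftRight m 8) 255))))
    (lookB tab (Nat.add 512 (Nat.shiftRight m 16)))

/-- the byte table `tab` computes the same images as the packed table `T` -/
def ByteOK (T tab : ℕ) : Prop := ∀ m < 2 ^ 24, applyB tab m = applyP T m

/-- checker for byte tables -/
def byteChk (T tab : ℕ) : Bool :=
  allRange (fun i => decide (768 ≤ i) ||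
    Nat.beq (lookB tab i) (applyP T (Nat.shiftLeft (i % 256) (8 * (i / 256))))) 10 0

theorem byteOK_of_chk {T tab : ℕ} (h : byteChk T tab = true) : ByteOK T tab := by
  have key : ∀ i < 768, lookB tab i = applyP T ((i % 256) <<< (8 * (i / 256))) := by
    intro i hi
    have := (allRange_zero_iff _ 10).1 h i (by norm_num; omega)
    rw [Bool.or_eq_true, decide_eq_true_eq] at this
    rcases this with h1 | h1
    · omega
    · exact Nat.eq_of_beq_eq_true h1
  intro m hm
  have h0 : m &&& 255 < 256 := lt_of_le_of_lt Nat.and_le_right (by norm_num)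
  have h1 : (m >>> 8) &&& 255 < 256 := lt_of_le_of_lt Nat.and_le_right (by norm_num)
  have h2 : m >>> 16 < 256 := by
    rw [Nat.shiftRight_eq_div_pow]
    exact Nat.div_lt_of_lt_mul (by norm_num at hm ⊢; omega)
  have e0 := key (m &&& 255) (by omega)
  have e1 := key (256 + ((m >>> 8) &&& 255)) (by omega)
  have e2 := key (512 + (m >>> 16)) (by omega)
  rw [show (m &&& 255) % 256 = m &&& 255 from Nat.mod_eq_of_lt h0,
    show (m &&& 255) / 256 = 0 from Nat.div_eq_of_lt h0] at e0
  rw [show (256 + ((m >>> 8) &&& 255)) % 256 = (m >>> 8) &&& 255 by omega,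
    show (256 + ((m >>> 8) &&& 255)) / 256 = 1 by omega] at e1
  rw [show (512 + (m >>> 16)) % 256 = m >>> 16 by omega,
    show (512 + (m >>> 16)) / 256 = 2 by omega] at e2
  show lookB tab (m &&& 255) ||| lookB tab (256 + ((m >>> 8) &&& 255)) |||
    lookB tab (512 + (m >>> 16)) = applyP T m
  rw [e0, e1, e2, ← applyP_or, ← applyP_or]
  congr 1
  exact (byte_decomp m).symm

/-- the byte table of the identity -/
def idB : ℕ := 0xff0000fe0000fd0000fc0000fb0000fa0000f90000f80000f70000f60000f50000f40000f30000f20000f10000f00000ef0000ee0000ed0000ec0000eb0000ea0000e90000e80000e70000e60000e50000e40000e30000e20000e10000e00000df0000de0000dd0000dc0000db0000da0000d90000d80000d70000d60000d50000d40000d30000d20000d10000d00000cf0000ce0000cd0000cc0000cb0000ca0000c90000c80000c70000c60000c50000c40000c30000c20000c10000c00000bf0000be0000bd0000bc0000bb0000ba0000b90000b80000b70000b60000b50000b40000b30000b20000b10000b00000af0000ae0000ad0000ac0000ab0000aa0000a90000a80000a70000a60000a50000a40000a30000a20000a10000a000009f00009e00009d00009c00009b00009a00009900009800009700009600009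500009400009300009200009100009000008f00008e00008d00008c00008b00008a00008900008800008700008600008500008400008300008200008100008000007f00007e00007d00007c00007b00007a00007900007800007700007600007500007400007300007200007100007000006f00006e00006d00006c00006b00006a00006900006800006700006600006500006400006300006200006100006000005f00005e00005d00005c00005b00005a00005900005800005700005600005500005400005300005200005100005000004f00004e00004d00004c00004b00004a00004900004800004700004600004500004400004300004200004100004000003f00003e00003d00003c00003b00003a00003900003800003700003600003500003400003300003200003100003000002f00002e00002d00002c00002b00002a00002900002800002700002600002500002400002300002200002100002000001f00001e00001d00001c00001b00001a00001900001800001700001600001500001400001300001200001100001000000f00000e00000d00000c00000b00000a000009000008000007000006000005000004000003000002000001000000000000ff0000fe0000fd0000fc0000fb0000fa0000f90000f80000f70000f60000f50000f40000f30000f20000f10000f00000ef0000ee0000ed0000ec0000eb0000ea0000e90000e80000e70000e60000e50000e40000e30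000e20000e10000e00000df0000de0000dd0000dc0000db0000da0000d90000d80000d70000d60000d50000d40000d30000d20000d10000d00000cf0000ce0000cd0000cc0000cb0000ca0000c90000c80000c70000c60000c50000c40000c30000c20000c10000c00000bf0000be0000bd0000bc0000bb0000ba0000b90000b80000b70000b60000b50000b40000b30000b20000b10000b00000af0000ae0000ad0000ac0000ab0000aa0000a90000a80000a70000a60000a50000a40000a30000a20000a10000a000009f00009e00009d00009c00009b00009a00009900009800009700009600009500009400009300009200009100009000008f00008e00008d00008c00008b00008a00008900008800008700008600008500008400008300008200008100008000007f00007e00007d00007c00007b00007a00007900007800007700007600007500007400007300007200007100007000006f00006e00006d00006c00006b00006a00006900006800006700006600006500006400006300006200006100006000005f00005e00005d00005c00005b00005a00005900005800005700005600005500005400005300005200005100005000004f00004e00004d00004c00004b00004a00004900004800004700004600004500004400004300004200004100004000003f00003e00003d00003c00003b00003a00003900003800003700003600003500003400003300003200003100003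000002f00002e00002d00002c00002b00002a00002900002800002700002600002500002400002300002200002100002000001f00001e00001d00001c00001b00001a00001900001800001700001600001500001400001300001200001100001000000f00000e00000d00000c00000b00000a000009000008000007000006000005000004000003000002000001000000000000ff0000fe0000fd0000fc0000fb0000fa0000f90000f80000f70000f60000f50000f40000f30000f20000f10000f00000ef0000ee0000ed0000ec0000eb0000ea0000e90000e80000e70000e60000e50000e40000e30000e20000e10000e00000df0000de0000dd0000dc0000db0000da0000d90000d80000d70000d60000d50000d40000d30000d20000d10000d00000cf0000ce0000cd0000cc0000cb0000ca0000c90000c80000c70000c60000c50000c40000c30000c20000c10000c00000bf0000be0000bd0000bc0000bb0000ba0000b90000b80000b70000b60000b50000b40000b30000b20000b10000b00000af0000ae0000ad0000ac0000ab0000aa0000a90000a80000a70000a60000a50000a40000a30000a20000a10000a000009f00009e00009d00009c00009b00009a00009900009800009700009600009500009400009300009200009100009000008f00008e00008d00008c00008b00008a00008900008800008700008600008500008400008300008200008100008000007f00007e0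0007d00007c00007b00007a00007900007800007700007600007500007400007300007200007100007000006f00006e00006d00006c00006b00006a00006900006800006700006600006500006400006300006200006100006000005f00005e00005d00005c00005b00005a00005900005800005700005600005500005400005300005200005100005000004f00004e00004d00004c00004b00004a00004900004800004700004600004500004400004300004200004100004000003f00003e00003d00003c00003b00003a00003900003800003700003600003500003400003300003200003100003000002f00002e00002d00002c00002b00002a00002900002800002700002600002500002400002300002200002100002000001f00001e00001d00001c00001b00001a00001900001800001700001600001500001400001300001200001100001000000f00000e00000d00000c00000b00000a000009000008000007000006000005000004000003000002000001000000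

theorem byteOK_id : ByteOK idP idB := byteOK_of_chk (by decide +kernel)

/-- checker for lists of byte tables -/
def byteTabsChk : List ℕ → List ℕ → Bool
  | [], [] => true
  | T :: Ts, tab :: Bs => byteChk T tab && byteTabsChk Ts Bs
  | _, _ => false

theorem forall₂_byteOK : ∀ (Ts Bs : List ℕ), byteTabsChk Ts Bs = true →
    List.Forall₂ ByteOK Ts Bs
  | [], [], _ => List.Forall₂.nil
  | T :: Ts, tab :: Bs, h => by
    rw [byteTabsChk, Bool.and_eq_true] at h
    exact List.Forall₂.cons (byteOK_of_chk h.1) (forall₂_byteOK Ts Bs h.2)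
  | [], _ :: _, h => by simp [byteTabsChk] at h
  | _ :: _, [], h => by simp [byteTabsChk] at h

/-! ### Packed lists of families -/

/-- the packed `j`-th family of width `w`; `B` is a list of chunks of 128 families -/
def keyF (w : ℕ) (B : List ℕ) (j : ℕ) : ℕ :=
  Nat.land (Nat.shiftRight (B.getD (Nat.shiftRight j 7) 0) (Nat.mul (Nat.mul 24 w) (Nat.land j 127)))
    (Nat.sub (Nat.shiftLeft 1 (Nat.mul 24 w)) 1)

/-- the masks of a packed family -/
def unpackL : ℕ → ℕ → List ℕ
  | 0, _ => []
  | w + 1, key => Nat.land key 16777215 :: unpackL w (Nat.shiftRight key 24)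

/-- the `j`-th family of width `w` of a packed list -/
def getF (w : ℕ) (B : List ℕ) (j : ℕ) : List ℕ := unpackL w (keyF w B j)

theorem length_unpackL (w key : ℕ) : (unpackL w key).length = w := by
  induction w generalizing key with
  | zero => rfl
  | succ w ih => simp [unpackL, ih]

theorem unpackL_lt (w key : ℕ) : ∀ m ∈ unpackL w key, m < 2 ^ 24 := by
  induction w generalizing key with
  | zero => intro m hm; simp [unpackL] at hm
  | succ w ih =>
    intro m hm
    rw [unpackL, List.mem_cons] at hm
    rcases hm with rfl | hm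
    · exact lt_of_le_of_lt (Nat.and_le_right (n := key) (m := 16777215)) (by norm_num)
    · exact ih _ m hm

theorem length_getF (w : ℕ) (B : List ℕ) (j : ℕ) : (getF w B j).length = w :=
  length_unpackL _ _

theorem getF_lt (w : ℕ) (B : List ℕ) (j : ℕ) : ∀ m ∈ getF w B j, m < 2 ^ 24 :=
  unpackL_lt _ _

/-- continue with the (evaluated) masks of a packed family -/
def unpackK {α : Sort _} : ℕ → ℕ → (List ℕ → α) → α
  | 0, _, k => k []
  | w + 1, key, k =>
    forceNat (Nat.land key 16777215) fun a => forceNat (Nat.shiftRight key 24) fun key' =>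
      unpackK w key' fun t => k (a :: t)

theorem unpackK_eq {α : Sort _} (w key : ℕ) (k : List ℕ → α) :
    unpackK w key k = k (unpackL w key) := by
  induction w generalizing key k with
  | zero => rfl
  | succ w ih => simp only [unpackK, forceNat_eq, ih, unpackL]

/-- continue with the (evaluated) `j`-th family -/
def withFam {α : Sort _} (w : ℕ) (B : List ℕ) (j : ℕ) (k : List ℕ → α) : α :=
  forceNat (keyF w B j) fun key => unpackK w key k

@[simp] theorem withFam_eq {α : Sort _} (w : ℕ) (B : List ℕ) (j : ℕ) (k : List ℕ → α) :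
    withFam w B j k = k (getF w B j) := by
  simp only [withFam, forceNat_eq, unpackK_eq, getF]

/-! ### The certificate runner -/

/-- membership in a list of numbers -/
def memB (a : ℕ) : List ℕ → Bool
  | [] => false
  | b :: t => cond (Nat.beq a b) true (memB a t)

theorem mem_of_memB {a : ℕ} : ∀ {l : List ℕ}, memB a l = true → a ∈ l
  | [], h => by simp [memB] at h
  | b :: t, h => by
    rw [memB] at h
    cases hb : Nat.beq a b
    · rw [hb] at h
      exact List.mem_cons_of_mem _ (mem_of_memB h)
    · rw [Nat.eq_of_beq_eq_true hb]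
      exact List.mem_cons_self

/-- all images of the masks of `src` under the byte table occur in `tgt` -/
def allInB (tab : ℕ) : List ℕ → List ℕ → Bool
  | [], _ => true
  | a :: t, tgt => forceNat (applyB tab a) (fun a' => memB a' tgt) && allInB tab t tgt

theorem allInB_sound {T tab : ℕ} (hT : ByteOK T tab) :
    ∀ (src tgt : List ℕ), (∀ m ∈ src, m < 2 ^ 24) → allInB tab src tgt = true →
      famOf (src.map (applyP T)) ⊆ famOf tgt
  | [], _, _, _ => by
    intro s hs
    simp [famOf] at hs
  | a :: t, tgt, hlt, h => by
    rw [allInB, forceNat_eq, Bool.and_eq_true] at h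
    have ih := allInB_sound hT t tgt (fun m hm => hlt m (List.mem_cons_of_mem _ hm)) h.2
    have ha : applyP T a ∈ tgt := by
      rw [← hT a (hlt a List.mem_cons_self)]
      exact mem_of_memB h.1
    intro s hs
    rw [mem_famOf] at hs
    obtain ⟨m, hm, rfl⟩ := hs
    rw [List.map_cons, List.mem_cons] at hm
    rcases hm with rfl | hm
    · exact mem_famOf.2 ⟨_, ha, rfl⟩
    · exact ih (mem_famOf.2 ⟨m, hm, rfl⟩)

/-- one step of the certificate runner: generator `g` maps the (reached) family `p` to the family
`j` -/
def stepB (w : ℕ) (Bs : List ℕ) (B : List ℕ) (done j p g : ℕ) : ℕ :=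
  cond (tbit done p)
    (withFam w B p fun src => withFam w B j fun tgt =>
      cond (allInB (Bs.getD g idB) src tgt) (Nat.lor done (Nat.shiftLeft 1 j)) done)
    done

theorem stepB_sound (H : Subgroup (Equiv.Perm GolayPt)) (gens : List (Equiv.Perm GolayPt))
    (Ts Bs : List ℕ) (hm : List.Forall₂ MatchesP gens Ts) (hB : List.Forall₂ ByteOK Ts Bs)
    (hH : ∀ g ∈ gens, g ∈ H) (w : ℕ)
    (B : List ℕ) (root : Finset (Finset GolayPt)) (done : ℕ)
    (hdone : ∀ j, done.testBit j = true → ∃ h ∈ H, h • root ⊆ famOf (getF w B j))
    (j p g : ℕ) :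
    ∀ i, (stepB w Bs B done j p g).testBit i = true →
      ∃ h ∈ H, h • root ⊆ famOf (getF w B i) := by
  intro i hi
  unfold stepB at hi
  rw [tbit_eq, withFam_eq, withFam_eq] at hi
  cases hp : done.testBit p
  · rw [hp] at hi
    exact hdone i hi
  · rw [hp] at hi
    cases hc : allInB (Bs.getD g idB) (getF w B p) (getF w B j)
    · rw [hc] at hi
      exact hdone i hi
    · rw [hc] at hi
      have hi' : (done ||| (1 <<< j)).testBit i = true := hi
      rw [Nat.testBit_or, Bool.or_eq_true] at hi'
      rcases hi' with hi' | hi'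
      · exact hdone i hi'
      · rw [Nat.one_shiftLeft, Nat.testBit_two_pow, decide_eq_true_eq] at hi'
        subst hi'
        obtain ⟨h, hh, hroot⟩ := hdone _ hp
        have hmg : MatchesP (gens.getD g 1) (Ts.getD g idP) := forall₂_getD' hm matchesP_one _
        have hbg : ByteOK (Ts.getD g idP) (Bs.getD g idB) := forall₂_getD' hB byteOK_id _
        refine ⟨gens.getD g 1 * h, H.mul_mem (getD_mem_subgroup hH _) hh, ?_⟩
        rw [mul_smul]
        refine (Finset.smul_finset_subset_smul_finset_iff.2 hroot).trans ?_
        rw [smul_famOf hmg]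
        exact allInB_sound hbg _ _ (getF_lt _ _ _) hc

/-- the certificate runner on families; the certificate is a packed list of `n` entries of 32
bits: target index (12 bits), source index (12 bits), generator index (8 bits).  The matches force
the evaluation of the state at every step. -/
def runQN (w : ℕ) (Bs : List ℕ) (B : List ℕ) : ℕ → ℕ → ℕ → ℕ
  | 0, _, done => done
  | n + 1, cert, done =>
    match forceNat (Nat.land cert 4294967295) (fun e => stepB w Bs B done (Nat.land e 4095)
        (Nat.land (Nat.shiftRight e 12) 4095) (Nat.shiftRight e 24)), Nat.shiftRight cert 32 with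
    | 0, _ => 0
    | Nat.succ d, 0 => Nat.succ d
    | Nat.succ d, Nat.succ c => runQN w Bs B n (Nat.succ c) (Nat.succ d)

theorem runQN_sound (H : Subgroup (Equiv.Perm GolayPt)) (gens : List (Equiv.Perm GolayPt))
    (Ts Bs : List ℕ) (hm : List.Forall₂ MatchesP gens Ts) (hB : List.Forall₂ ByteOK Ts Bs)
    (hH : ∀ g ∈ gens, g ∈ H) (w : ℕ)
    (B : List ℕ) (root : Finset (Finset GolayPt)) (n : ℕ) :
    ∀ cert done : ℕ, (∀ j, done.testBit j = true → ∃ h ∈ H, h • root ⊆ famOf (getF w B j)) →
      ∀ j, (runQN w Bs B n cert done).testBit j = true →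
        ∃ h ∈ H, h • root ⊆ famOf (getF w B j) := by
  induction n with
  | zero => intro cert done hdone j hj; exact hdone j hj
  | succ n ih =>
    intro cert done hdone
    have hstep : ∀ j, (forceNat (Nat.land cert 4294967295) (fun e => stepB w Bs B done
        (Nat.land e 4095) (Nat.land (Nat.shiftRight e 12) 4095) (Nat.shiftRight e 24))).testBit j
          = true → ∃ h ∈ H, h • root ⊆ famOf (getF w B j) := by
      rw [forceNat_eq]
      exact stepB_sound H gens Ts Bs hm hB hH w B root done hdone _ _ _
    rw [runQN]
    split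
    · intro j hj
      simp at hj
    · next d heq _ =>
      rw [← heq]
      exact hstep
    · next d c heq _ =>
      apply ih
      rw [← heq]
      exact hstep

/-- the runner started at the family with index `j0` -/
theorem runQN_sound' (H : Subgroup (Equiv.Perm GolayPt)) (gens : List (Equiv.Perm GolayPt))
    (Ts Bs : List ℕ) (hm : List.Forall₂ MatchesP gens Ts) (hB : List.Forall₂ ByteOK Ts Bs)
    (hH : ∀ g ∈ gens, g ∈ H) (w : ℕ)
    (B : List ℕ) (j0 n cert : ℕ) (j : ℕ)
    (hj : (runQN w Bs B n cert (1 <<< j0)).testBit j = true) :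
    ∃ h ∈ H, h • famOf (getF w B j0) ⊆ famOf (getF w B j) := by
  refine runQN_sound H gens Ts Bs hm hB hH w B _ n cert (1 <<< j0) ?_ j hj
  intro i hi
  rw [Nat.one_shiftLeft, Nat.testBit_two_pow, decide_eq_true_eq] at hi
  subst hi
  exact ⟨1, H.one_mem, by rw [one_smul]⟩

/-! ### The invariant -/

/-- `∑ s ∈ S, ∑ x ∈ X, f |s ∩ x|` -/
def invS (f : ℕ → ℕ) (S X : Finset (Finset GolayPt)) : ℕ := ∑ s ∈ S, ∑ x ∈ X, f (s ∩ x).card

theorem invS_smul (f : ℕ → ℕ) (g : Equiv.Perm GolayPt) (S X : Finset (Finset GolayPt)) :
    invS f (g • S) (g • X) = invS f S X := by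
  unfold invS
  have hinj : Function.Injective (fun s : Finset GolayPt => g • s) := MulAction.injective g
  rw [show g • S = S.image (fun s => g • s) from rfl, show g • X = X.image (fun s => g • s) from rfl,
    Finset.sum_image (fun a _ b _ h => hinj h)]
  apply Finset.sum_congr rfl
  intro s _
  rw [Finset.sum_image (fun a _ b _ h => hinj h)]
  apply Finset.sum_congr rfl
  intro x _
  rw [← Finset.smul_finset_inter, Finset.card_smul_finset]

/-- the mask version of the invariant -/
def invM (f : ℕ → ℕ) (l l' : List ℕ) : ℕ :=
  (l.map fun a => (l'.map fun b => f (popT (a &&& b))).sum).sum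

theorem invS_famOf (f : ℕ → ℕ) {l l' : List ℕ} (hl : l.Pairwise (· < ·))
    (hl' : l'.Pairwise (· < ·)) (hlt : ∀ m ∈ l, m < 2 ^ 24) (hlt' : ∀ m ∈ l', m < 2 ^ 24) :
    invS f (famOf l) (famOf l') = invM f l l' := by
  unfold invS invM famOf
  rw [List.sum_toFinset _ (nodup_map_setOf hl hlt), List.map_map]
  congr 1
  apply List.map_congr_left
  intro a ha
  simp only [Function.comp]
  rw [List.sum_toFinset _ (nodup_map_setOf hl' hlt'), List.map_map]
  congr 1
  apply List.map_congr_left
  intro b _
  simp only [Function.comp]
  rw [← Cfsg.Agent.Lib.Helper7.setOf_and, card_setOf7]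
  exact lt_of_le_of_lt Nat.and_le_left (hlt a ha)

/-- raw popcount of a 24-bit number -/
def popQ (m : ℕ) : ℕ :=
  Nat.add (Nat.land (Nat.shiftRight popTable (Nat.mul 4 (Nat.land m 4095))) 15)
    (Nat.land (Nat.shiftRight popTable (Nat.mul 4 (Nat.shiftRight m 12))) 15)

theorem popQ_eq (m : ℕ) : popQ m = popT m := by
  show ((popTable >>> (4 * (m &&& 4095))) &&& 15) + ((popTable >>> (4 * (m >>> 12))) &&& 15) = _
  unfold popT pop12
  rw [show (4095 : ℕ) = 2 ^ 12 - 1 by norm_num, show (15 : ℕ) = 2 ^ 4 - 1 by norm_num,
    Nat.and_two_pow_sub_one_eq_mod, Nat.and_two_pow_sub_one_eq_mod,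
    Nat.and_two_pow_sub_one_eq_mod, Nat.shiftRight_eq_div_pow m 12]

/-- one row of the invariant, with forced evaluation -/
def invRow (f : ℕ → ℕ) (a : ℕ) : List ℕ → ℕ → ℕ
  | [], acc => acc
  | b :: t, acc => forceNat (Nat.add acc (f (popQ (Nat.land a b)))) fun acc' => invRow f a t acc'

theorem invRow_eq (f : ℕ → ℕ) (a : ℕ) (l : List ℕ) (acc : ℕ) :
    invRow f a l acc = acc + (l.map fun b => f (popT (a &&& b))).sum := by
  induction l generalizing acc with
  | nil => simp [invRow]
  | cons b t ih =>
    rw [invRow, forceNat_eq, ih, popQ_eq]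
    show acc + f (popT (a &&& b)) + _ = _
    rw [List.map_cons, List.sum_cons, add_assoc]

/-- the invariant, with forced evaluation -/
def invAcc (f : ℕ → ℕ) : List ℕ → List ℕ → ℕ → ℕ
  | [], _, acc => acc
  | a :: t, l, acc => forceNat (invRow f a l acc) fun acc' => invAcc f t l acc'

theorem invAcc_eq (f : ℕ → ℕ) (l0 l : List ℕ) (acc : ℕ) :
    invAcc f l0 l acc = acc + invM f l0 l := by
  induction l0 generalizing acc with
  | nil => simp [invAcc, invM]
  | cons a t ih =>
    rw [invAcc, forceNat_eq, ih, invRow_eq]
    unfold invM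
    rw [List.map_cons, List.sum_cons, add_assoc]

/-- the mask version of the invariant, with forced evaluation -/
def invQ (f : ℕ → ℕ) (l l' : List ℕ) : ℕ := invAcc f l l' 0

theorem invQ_eq (f : ℕ → ℕ) (l l' : List ℕ) : invQ f l l' = invM f l l' := by
  rw [invQ, invAcc_eq, zero_add]

end Cfsg.Agent.Lib.Helper26
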