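import Mathlib
import Cfsg.Prelude.Def_Sporadic_a

/-!
# Bitmask encoding of subsets of the 24 Golay points and of binary words on them

* `idx : GolayPt → ℕ` : `some x ↦ x.val` (0..22), `none ↦ 23`.
* `pt : ℕ → GolayPt` : inverse on `[0, 24)`.
* `setOf m : Finset GolayPt` : the points `p` with bit `idx p` of `m` set.
* `wordOf m : GolayPt → ZMod 2` : the indicator word of `setOf m`.
* `maskOfSet s : ℕ`, `maskOf w : ℕ` : the inverse encodings (always `< 2 ^ 24`).
* `popc m` : number of set bits among the low 24 bits, kernel-friendly.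

Transfer lemmas relate `^^^`, `&&&`, `|||` on masks to `+` on words and to
`symmDiff`, `∩`, `∪` on sets.
-/

set_option autoImplicit false

namespace Cfsg.Agent.Lib.Helper26

open Cfsg

/-- Index of a point: residues `0..22`, the extra point is `23`. -/
def idx : GolayPt → ℕ
  | none => 23
  | some x => x.val

/-- The point with index `i` (for `i < 24`; junk `none` for `i ≥ 23`). -/
def pt (i : ℕ) : GolayPt := if i < 23 then some (i : ZMod 23) else none

theorem idx_lt (p : GolayPt) : idx p < 24 := by
  cases p with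
  | none => simp [idx]
  | some x => have := ZMod.val_lt x; simp only [idx]; omega

theorem pt_idx (p : GolayPt) : pt (idx p) = p := by
  cases p with
  | none => simp [idx, pt]
  | some x =>
    have := ZMod.val_lt x
    simp only [idx, pt, this, if_true]
    rw [ZMod.natCast_zmod_val]

theorem idx_pt {i : ℕ} (h : i < 24) : idx (pt i) = i := by
  unfold pt
  split_ifs with h1
  · simp only [idx]
    rw [ZMod.val_natCast, Nat.mod_eq_of_lt h1]
  · simp only [idx]; omega

theorem idx_injective : Function.Injective idx := fun p q h => by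
  rw [← pt_idx p, ← pt_idx q, h]

theorem idx_eq_iff {p : GolayPt} {i : ℕ} (h : i < 24) : idx p = i ↔ p = pt i :=
  ⟨fun e => by rw [← e, pt_idx], fun e => by rw [e, idx_pt h]⟩

/-- Reindexing a sum over the 24 points by their indices. -/
theorem sum_idx {M : Type*} [AddCommMonoid M] (f : ℕ → M) :
    ∑ p : GolayPt, f (idx p) = ∑ i ∈ Finset.range 24, f i := by
  symm
  apply Finset.sum_bij (fun i _ => pt i)
  · intro i _; exact Finset.mem_univ _
  · intro i hi j hj h
    have := congrArg idx h
    rwa [idx_pt (Finset.mem_range.1 hi), idx_pt (Finset.mem_range.1 hj)] at this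
  · intro p _
    exact ⟨idx p, Finset.mem_range.2 (idx_lt p), pt_idx p⟩
  · intro i hi
    rw [idx_pt (Finset.mem_range.1 hi)]

/-! ### masks to sets and words -/

/-- The set of points whose bit is set in `m`. -/
def setOf (m : ℕ) : Finset GolayPt := Finset.univ.filter fun p => m.testBit (idx p) = true

/-- The indicator word of `setOf m`. -/
def wordOf (m : ℕ) : GolayPt → ZMod 2 := fun p => if m.testBit (idx p) = true then 1 else 0

/-- The mask of a set of points. -/
def maskOfSet (s : Finset GolayPt) : ℕ := Nat.ofBits fun i : Fin 24 => decide (pt i ∈ s)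

/-- The mask of a word. -/
def maskOf (w : GolayPt → ZMod 2) : ℕ := maskOfSet (support₂ w)

@[simp] theorem mem_setOf {m : ℕ} {p : GolayPt} : p ∈ setOf m ↔ m.testBit (idx p) = true := by
  simp [setOf]

theorem wordOf_apply (m : ℕ) (p : GolayPt) :
    wordOf m p = if m.testBit (idx p) = true then 1 else 0 := rfl

theorem wordOf_eq_one {m : ℕ} {p : GolayPt} : wordOf m p = 1 ↔ m.testBit (idx p) = true := by
  rw [wordOf_apply]; split_ifs with h <;> simp [h]

theorem wordOf_ne_zero {m : ℕ} {p : GolayPt} : wordOf m p ≠ 0 ↔ m.testBit (idx p) = true := by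
  rw [wordOf_apply]; split_ifs with h <;> simp [h]

theorem zmod2_cases (a : ZMod 2) : a = 0 ∨ a = 1 := by
  revert a; decide

theorem zmod2_ne_zero_iff {a : ZMod 2} : a ≠ 0 ↔ a = 1 := by
  revert a; decide

@[simp] theorem mem_support₂ {α : Type*} [Fintype α] {w : α → ZMod 2} {a : α} :
    a ∈ support₂ w ↔ w a ≠ 0 := by
  simp [support₂]

theorem support₂_wordOf (m : ℕ) : support₂ (wordOf m) = setOf m := by
  ext p; rw [mem_support₂, wordOf_ne_zero, mem_setOf]

theorem maskOfSet_lt (s : Finset GolayPt) : maskOfSet s < 2 ^ 24 := Nat.ofBits_lt_two_pow _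

theorem maskOf_lt (w : GolayPt → ZMod 2) : maskOf w < 2 ^ 24 := maskOfSet_lt _

theorem testBit_maskOfSet_idx (s : Finset GolayPt) (p : GolayPt) :
    (maskOfSet s).testBit (idx p) = decide (p ∈ s) := by
  unfold maskOfSet
  rw [Nat.testBit_ofBits_lt _ _ (idx_lt p)]
  simp only [pt_idx]

theorem testBit_maskOfSet_ge (s : Finset GolayPt) {i : ℕ} (h : 24 ≤ i) :
    (maskOfSet s).testBit i = false := Nat.testBit_ofBits_ge _ _ h

theorem testBit_maskOfSet (s : Finset GolayPt) {i : ℕ} (h : i < 24) :
    (maskOfSet s).testBit i = decide (pt i ∈ s) := by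
  have := testBit_maskOfSet_idx s (pt i)
  rwa [idx_pt h] at this

theorem setOf_maskOfSet (s : Finset GolayPt) : setOf (maskOfSet s) = s := by
  ext p; rw [mem_setOf, testBit_maskOfSet_idx]; simp

theorem wordOf_maskOf (w : GolayPt → ZMod 2) : wordOf (maskOf w) = w := by
  funext p
  rw [wordOf_apply, maskOf, testBit_maskOfSet_idx]
  rcases zmod2_cases (w p) with h | h <;> simp [h]

/-- Two masks below `2^24` with the same bits at all point indices are equal. -/
theorem eq_of_testBit_idx {m n : ℕ} (hm : m < 2 ^ 24) (hn : n < 2 ^ 24)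
    (h : ∀ p : GolayPt, m.testBit (idx p) = n.testBit (idx p)) : m = n := by
  apply Nat.eq_of_testBit_eq
  intro i
  by_cases hi : i < 24
  · have := h (pt i); rwa [idx_pt hi] at this
  · have hi' : 24 ≤ i := by omega
    have h1 : (2 : ℕ) ^ 24 ≤ 2 ^ i := Nat.pow_le_pow_right (by norm_num) hi'
    rw [Nat.testBit_lt_two_pow (lt_of_lt_of_le hm h1), Nat.testBit_lt_two_pow (lt_of_lt_of_le hn h1)]

theorem testBit_mod_idx (m : ℕ) (p : GolayPt) :
    (m % 2 ^ 24).testBit (idx p) = m.testBit (idx p) := by
  rw [Nat.testBit_mod_two_pow]; simp [idx_lt p]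

theorem maskOfSet_setOf (m : ℕ) : maskOfSet (setOf m) = m % 2 ^ 24 := by
  apply eq_of_testBit_idx (maskOfSet_lt _) (Nat.mod_lt _ (by norm_num))
  intro p
  rw [testBit_maskOfSet_idx, testBit_mod_idx]
  simp

theorem maskOfSet_setOf_of_lt {m : ℕ} (h : m < 2 ^ 24) : maskOfSet (setOf m) = m := by
  rw [maskOfSet_setOf, Nat.mod_eq_of_lt h]

theorem maskOf_wordOf (m : ℕ) : maskOf (wordOf m) = m % 2 ^ 24 := by
  rw [maskOf, support₂_wordOf, maskOfSet_setOf]

theorem maskOf_wordOf_of_lt {m : ℕ} (h : m < 2 ^ 24) : maskOf (wordOf m) = m := by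
  rw [maskOf_wordOf, Nat.mod_eq_of_lt h]

theorem setOf_mod (m : ℕ) : setOf (m % 2 ^ 24) = setOf m := by
  ext p; rw [mem_setOf, mem_setOf, testBit_mod_idx]

theorem wordOf_mod (m : ℕ) : wordOf (m % 2 ^ 24) = wordOf m := by
  funext p; rw [wordOf_apply, wordOf_apply, testBit_mod_idx]

theorem setOf_injOn {m n : ℕ} (hm : m < 2 ^ 24) (hn : n < 2 ^ 24) (h : setOf m = setOf n) :
    m = n := by
  rw [← maskOfSet_setOf_of_lt hm, ← maskOfSet_setOf_of_lt hn, h]

theorem wordOf_injOn {m n : ℕ} (hm : m < 2 ^ 24) (hn : n < 2 ^ 24) (h : wordOf m = wordOf n) :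
    m = n := by
  rw [← maskOf_wordOf_of_lt hm, ← maskOf_wordOf_of_lt hn, h]

theorem maskOfSet_injective : Function.Injective maskOfSet := fun s t h => by
  rw [← setOf_maskOfSet s, ← setOf_maskOfSet t, h]

theorem maskOf_injective : Function.Injective maskOf := fun v w h => by
  rw [← wordOf_maskOf v, ← wordOf_maskOf w, h]

theorem maskOf_eq_maskOfSet_support (w : GolayPt → ZMod 2) : maskOf w = maskOfSet (support₂ w) := rfl

theorem setOf_maskOf (w : GolayPt → ZMod 2) : setOf (maskOf w) = support₂ w := setOf_maskOfSet _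

/-! ### Boolean operations -/

theorem wordOf_xor (m n : ℕ) : wordOf (m ^^^ n) = wordOf m + wordOf n := by
  funext p
  simp only [wordOf_apply, Pi.add_apply, Nat.testBit_xor]
  cases m.testBit (idx p) <;> cases n.testBit (idx p) <;> decide

theorem wordOf_zero : wordOf 0 = 0 := by
  funext p; simp [wordOf_apply]

theorem setOf_zero : setOf 0 = ∅ := by
  ext p; simp

theorem maskOf_zero : maskOf (0 : GolayPt → ZMod 2) = 0 := by
  rw [← wordOf_zero, maskOf_wordOf, Nat.zero_mod]

theorem maskOf_add (v w : GolayPt → ZMod 2) : maskOf (v + w) = maskOf v ^^^ maskOf w := by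
  have h : v + w = wordOf (maskOf v ^^^ maskOf w) := by
    rw [wordOf_xor, wordOf_maskOf, wordOf_maskOf]
  rw [h, maskOf_wordOf_of_lt (Nat.xor_lt_two_pow (maskOf_lt v) (maskOf_lt w))]

theorem setOf_and (m n : ℕ) : setOf (m &&& n) = setOf m ∩ setOf n := by
  ext p; simp [Nat.testBit_and]

theorem setOf_or (m n : ℕ) : setOf (m ||| n) = setOf m ∪ setOf n := by
  ext p; simp [Nat.testBit_or]

theorem setOf_xor (m n : ℕ) : setOf (m ^^^ n) = symmDiff (setOf m) (setOf n) := by
  ext p
  simp only [mem_setOf, Nat.testBit_xor, Finset.mem_symmDiff]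
  cases m.testBit (idx p) <;> cases n.testBit (idx p) <;> simp

/-- The full mask. -/
def fullMask : ℕ := 0xFFFFFF

theorem testBit_fullMask {i : ℕ} (h : i < 24) : fullMask.testBit i = true := by
  have : fullMask = 2 ^ 24 - 1 := by norm_num [fullMask]
  rw [this, Nat.testBit_two_pow_sub_one]; simpa using h

theorem setOf_fullMask : setOf fullMask = Finset.univ := by
  ext p; simp [testBit_fullMask (idx_lt p)]

theorem wordOf_fullMask : wordOf fullMask = 1 := by
  funext p; simp [wordOf_apply, testBit_fullMask (idx_lt p)]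

theorem setOf_xor_fullMask (m : ℕ) : setOf (m ^^^ fullMask) = (setOf m)ᶜ := by
  ext p
  simp only [mem_setOf, Nat.testBit_xor, testBit_fullMask (idx_lt p), Finset.mem_compl]
  cases m.testBit (idx p) <;> simp

theorem maskOfSet_inter (s t : Finset GolayPt) : maskOfSet (s ∩ t) = maskOfSet s &&& maskOfSet t := by
  apply eq_of_testBit_idx (maskOfSet_lt _)
    (lt_of_le_of_lt Nat.and_le_left (maskOfSet_lt _))
  intro p
  simp only [Nat.testBit_and, testBit_maskOfSet_idx, Finset.mem_inter, Bool.decide_and]

theorem maskOfSet_union (s t : Finset GolayPt) : maskOfSet (s ∪ t) = maskOfSet s ||| maskOfSet t := by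
  apply eq_of_testBit_idx (maskOfSet_lt _) (Nat.or_lt_two_pow (maskOfSet_lt _) (maskOfSet_lt _))
  intro p
  simp only [Nat.testBit_or, testBit_maskOfSet_idx, Finset.mem_union, Bool.decide_or]

theorem maskOfSet_compl (s : Finset GolayPt) : maskOfSet sᶜ = maskOfSet s ^^^ fullMask := by
  apply eq_of_testBit_idx (maskOfSet_lt _)
    (Nat.xor_lt_two_pow (maskOfSet_lt _) (by norm_num [fullMask]))
  intro p
  simp only [Nat.testBit_xor, testBit_maskOfSet_idx, testBit_fullMask (idx_lt p),
    Finset.mem_compl]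
  by_cases h : p ∈ s <;> simp [h]

theorem maskOfSet_empty : maskOfSet ∅ = 0 := by
  have := maskOfSet_setOf 0
  rwa [setOf_zero] at this

theorem maskOfSet_univ : maskOfSet Finset.univ = fullMask := by
  rw [← setOf_fullMask, maskOfSet_setOf_of_lt (by norm_num [fullMask])]

theorem setOf_subset_iff {m n : ℕ} : setOf m ⊆ setOf n ↔ setOf (m &&& n) = setOf m := by
  rw [setOf_and, Finset.inter_eq_left]

theorem setOf_disjoint_iff {m n : ℕ} : Disjoint (setOf m) (setOf n) ↔ setOf (m &&& n) = ∅ := by
  rw [setOf_and, Finset.disjoint_iff_inter_eq_empty]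

theorem subset_iff_and {m n : ℕ} (hm : m < 2 ^ 24) : setOf m ⊆ setOf n ↔ m &&& n = m := by
  rw [setOf_subset_iff]
  constructor
  · intro h
    exact setOf_injOn (lt_of_le_of_lt Nat.and_le_left hm) hm h
  · intro h; rw [h]

theorem disjoint_iff_and {m n : ℕ} (hm : m < 2 ^ 24) : Disjoint (setOf m) (setOf n) ↔ m &&& n = 0 := by
  rw [setOf_disjoint_iff, ← setOf_zero]
  constructor
  · intro h
    exact setOf_injOn (lt_of_le_of_lt Nat.and_le_left hm) (by norm_num) h
  · intro h; rw [h]

/-! ### popcount -/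

/-- Number of set bits among the lowest `k` bits of `m` (structural recursion on `k`). -/
def popcAux : ℕ → ℕ → ℕ
  | 0, _ => 0
  | k + 1, m => m % 2 + popcAux k (m / 2)

/-- Number of set bits among the low 24 bits. -/
def popc (m : ℕ) : ℕ := popcAux 24 m

theorem popcAux_eq_sum (k m : ℕ) :
    popcAux k m = ∑ i ∈ Finset.range k, if m.testBit i = true then 1 else 0 := by
  induction k generalizing m with
  | zero => simp [popcAux]
  | succ k ih =>
    rw [popcAux, ih, Finset.sum_range_succ']
    have h0 : (if m.testBit 0 = true then 1 else 0) = m % 2 := by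
      rw [Nat.testBit_zero]
      rcases Nat.mod_two_eq_zero_or_one m with h | h <;> simp [h]
    rw [h0, add_comm]
    congr 1
    apply Finset.sum_congr rfl
    intro i _
    rw [Nat.testBit_succ]

theorem card_setOf (m : ℕ) : (setOf m).card = popc m := by
  rw [popc, popcAux_eq_sum, ← sum_idx (fun i => if m.testBit i = true then 1 else 0), setOf,
    Finset.card_filter]

theorem card_support₂_eq_popc (w : GolayPt → ZMod 2) : (support₂ w).card = popc (maskOf w) := by
  rw [← card_setOf, setOf_maskOf]

end Cfsg.Agent.Lib.Helper26
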