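import Mathlib
import Cfsg.Prelude.Def_Sporadic_a
import Cfsg.Agent.Lib.Helper26.GolayBitsBasic

/-!
# Decidable membership in `Cfsg.golayCode` via bitmasks

* `genMask t` (t < 24): masks of the generators `qrWord t` (t < 23) and of the all-ones word (t = 23).
* `basisMasks`: a systematic basis of the code with pivots at bit positions `0..11`.
* `comb c`: the codeword (mask) with information bits `c` (`c < 4096`), i.e. the XOR of the basis
  masks selected by the bits of `c`.  `comb c % 4096 = c` for `c < 4096`.
* `isCode m : Bool := comb (m % 4096) == m`.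
* `mem_golayCode_iff : w ∈ golayCode ↔ isCode (maskOf w) = true`.
* `mem_supports_golayCode_iff : s ∈ supports golayCode ↔ isCode (maskOfSet s) = true`.
* `allRange`, `countRange`: kernel-friendly (binary splitting) universal check / counting over
  ranges `[lo, lo + 2^k)`.
-/

set_option autoImplicit false

namespace Cfsg.Agent.Lib.Helper26

open Cfsg

/-! ### kernel-friendly loops -/

/-- `allRange p k lo`: `p c` holds for all `c ∈ [lo, lo + 2^k)`. -/
def allRange (p : ℕ → Bool) : ℕ → ℕ → Bool
  | 0, lo => p lo
  | k + 1, lo => allRange p k lo && allRange p k (lo + 2 ^ k)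

/-- `countRange p k lo`: the number of `c ∈ [lo, lo + 2^k)` with `p c`. -/
def countRange (p : ℕ → Bool) : ℕ → ℕ → ℕ
  | 0, lo => if p lo then 1 else 0
  | k + 1, lo => countRange p k lo + countRange p k (lo + 2 ^ k)

theorem allRange_iff (p : ℕ → Bool) (k lo : ℕ) :
    allRange p k lo = true ↔ ∀ c, lo ≤ c → c < lo + 2 ^ k → p c = true := by
  induction k generalizing lo with
  | zero =>
    simp only [allRange, pow_zero]
    constructor
    · intro h c h1 h2
      have : c = lo := by omega
      rw [this]; exact h
    · intro h; exact h lo le_rfl (by omega)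
  | succ k ih =>
    simp only [allRange, Bool.and_eq_true, ih, pow_succ]
    constructor
    · rintro ⟨h1, h2⟩ c hc1 hc2
      by_cases hc : c < lo + 2 ^ k
      · exact h1 c hc1 hc
      · exact h2 c (by omega) (by omega)
    · intro h
      exact ⟨fun c h1 h2 => h c h1 (by omega), fun c h1 h2 => h c (by omega) (by omega)⟩

theorem allRange_zero_iff (p : ℕ → Bool) (k : ℕ) :
    allRange p k 0 = true ↔ ∀ c < 2 ^ k, p c = true := by
  rw [allRange_iff]
  constructor
  · intro h c hc; exact h c (Nat.zero_le _) (by omega)
  · intro h c _ hc; exact h c (by omega)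

theorem countRange_eq (p : ℕ → Bool) (k lo : ℕ) :
    countRange p k lo = ((Finset.Ico lo (lo + 2 ^ k)).filter fun c => p c = true).card := by
  induction k generalizing lo with
  | zero =>
    simp only [countRange, pow_zero]
    have : Finset.Ico lo (lo + 1) = {lo} := by
      ext c; simp only [Finset.mem_Ico, Finset.mem_singleton]; omega
    rw [this, Finset.filter_singleton]
    split_ifs <;> simp
  | succ k ih =>
    simp only [countRange, ih, pow_succ]
    have hsplit : Finset.Ico lo (lo + 2 ^ k * 2) =
        Finset.Ico lo (lo + 2 ^ k) ∪ Finset.Ico (lo + 2 ^ k) (lo + 2 ^ k + 2 ^ k) := by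
      ext c; simp only [Finset.mem_Ico, Finset.mem_union]; omega
    rw [hsplit, Finset.filter_union, Finset.card_union_of_disjoint]
    apply Finset.disjoint_filter_filter
    rw [Finset.disjoint_left]
    intro c h1 h2
    simp only [Finset.mem_Ico] at h1 h2
    omega

theorem countRange_zero_eq (p : ℕ → Bool) (k : ℕ) :
    countRange p k 0 = ((Finset.range (2 ^ k)).filter fun c => p c = true).card := by
  rw [countRange_eq]
  congr 1
  ext c; simp

/-! ### XOR selection -/

/-- XOR of the members of `l` selected by the bits of `c` (bit `i` selects `l[i]`). -/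
def xorSel : List ℕ → ℕ → ℕ
  | [], _ => 0
  | b :: l, c => (if c % 2 = 1 then b else 0) ^^^ xorSel l (c / 2)

theorem xorSel_xor (l : List ℕ) (c d : ℕ) : xorSel l (c ^^^ d) = xorSel l c ^^^ xorSel l d := by
  induction l generalizing c d with
  | nil => simp [xorSel]
  | cons b l ih =>
    simp only [xorSel, Nat.xor_div_two, ih]
    have hc := Nat.mod_two_eq_zero_or_one c
    have hd := Nat.mod_two_eq_zero_or_one d
    have hcd : (c ^^^ d) % 2 = (c + d) % 2 := Nat.xor_mod_two_eq
    have e : (if (c ^^^ d) % 2 = 1 then b else 0) =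
        (if c % 2 = 1 then b else 0) ^^^ (if d % 2 = 1 then b else 0) := by
      rcases hc with hc | hc <;> rcases hd with hd | hd
      · have : (c ^^^ d) % 2 = 0 := by omega
        simp [this, hc, hd]
      · have : (c ^^^ d) % 2 = 1 := by omega
        simp [this, hc, hd]
      · have : (c ^^^ d) % 2 = 1 := by omega
        simp [this, hc, hd]
      · have : (c ^^^ d) % 2 = 0 := by omega
        simp [this, hc, hd]
    rw [e]
    simp only [Nat.xor_assoc]
    congr 1
    rw [← Nat.xor_assoc, Nat.xor_comm (if d % 2 = 1 then b else 0), Nat.xor_assoc]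

theorem xorSel_zero (l : List ℕ) : xorSel l 0 = 0 := by
  induction l with
  | nil => rfl
  | cons b l ih => simp [xorSel, ih]

theorem xorSel_lt (l : List ℕ) (c n : ℕ) (h : ∀ b ∈ l, b < 2 ^ n) : xorSel l c < 2 ^ n := by
  induction l generalizing c with
  | nil => simp [xorSel]
  | cons b l ih =>
    simp only [xorSel]
    apply Nat.xor_lt_two_pow
    · split_ifs
      · exact h b (List.mem_cons_self)
      · positivity
    · exact ih _ fun b hb => h b (List.mem_cons_of_mem _ hb)

/-- If all `wordOf b`, `b ∈ l`, lie in a submodule, so does `wordOf (xorSel l c)`. -/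
theorem wordOf_xorSel_mem (C : Submodule (ZMod 2) (GolayPt → ZMod 2)) (l : List ℕ)
    (h : ∀ b ∈ l, wordOf b ∈ C) (c : ℕ) : wordOf (xorSel l c) ∈ C := by
  induction l generalizing c with
  | nil => simp only [xorSel, wordOf_zero]; exact C.zero_mem
  | cons b l ih =>
    simp only [xorSel, wordOf_xor]
    apply C.add_mem
    · split_ifs
      · exact h b List.mem_cons_self
      · rw [wordOf_zero]; exact C.zero_mem
    · exact ih (fun b hb => h b (List.mem_cons_of_mem _ hb)) _

/-! ### Generators and basis -/

/-- masks of the generators: `qrWord t` for `t = 0..22`, and the all-ones word (index 23). -/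
def genMasks : List ℕ :=
  [0x5335f, 0xa66be, 0x14cd7c, 0x299af8, 0x5335f0, 0x266be1, 0x4cd7c2, 0x19af85, 0x335f0a,
   0x66be14, 0x4d7c29, 0x1af853, 0x35f0a6, 0x6be14c, 0x57c299, 0x2f8533, 0x5f0a66, 0x3e14cd,
   0x7c299a, 0x785335, 0x70a66b, 0x614cd7, 0x4299af, 0xffffff]

/-- mask of the `t`-th generator. -/
def genMask (t : ℕ) : ℕ := genMasks.getD t 0

/-- systematic basis: `basisMasks[i] % 4096 = 2^i`. -/
def basisMasks : List ℕ :=
  [0xc75001, 0x49f002, 0xd4b004, 0x6e3008, 0x9b3010, 0xb66020, 0xecc040, 0x1ed080, 0x3da100,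
   0x7b4200, 0xb1d400, 0xe3a800]

/-- selectors expressing the basis in terms of the generators: `basisMasks[i] = xorSel genMasks basisSel[i]`. -/
def basisSel : List ℕ :=
  [0x8006a9, 0x118, 0x800499, 0x578, 0x8006ba, 0x800797, 0x8005cd, 0x7d0, 0x543, 0x65,
   0x800663, 0x800625]

/-- The codeword mask with information bits `c`. -/
def comb (c : ℕ) : ℕ := xorSel basisMasks c

/-- Membership test for masks. -/
def isCode (m : ℕ) : Bool := comb (m % 4096) == m

theorem wordOf_genMask_apply :
    ∀ (t : ZMod 23) (p : GolayPt), wordOf (genMask t.val) p = qrWord t p := by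
  decide +kernel

theorem wordOf_genMask (t : ZMod 23) : wordOf (genMask t.val) = qrWord t :=
  funext (wordOf_genMask_apply t)

theorem genMask_23 : genMask 23 = fullMask := by decide

theorem genMask_lt : ∀ t < 24, genMask t < 2 ^ 24 := by decide

theorem maskOf_qrWord (t : ZMod 23) : maskOf (qrWord t) = genMask t.val := by
  rw [← wordOf_genMask, maskOf_wordOf_of_lt (genMask_lt _ (by have := ZMod.val_lt t; omega))]

theorem maskOf_one : maskOf (1 : GolayPt → ZMod 2) = fullMask := by
  rw [← wordOf_fullMask, maskOf_wordOf_of_lt (by norm_num [fullMask])]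

theorem qrWord_mem (t : ZMod 23) : qrWord t ∈ golayCode :=
  Submodule.subset_span (Or.inl ⟨t, rfl⟩)

theorem one_mem_golayCode : (1 : GolayPt → ZMod 2) ∈ golayCode :=
  Submodule.subset_span (Or.inr rfl)

theorem genMasks_eq_map : genMasks = (List.range 24).map genMask := by decide

theorem wordOf_genMasks_mem : ∀ b ∈ genMasks, wordOf b ∈ golayCode := by
  intro b hb
  rw [genMasks_eq_map, List.mem_map] at hb
  obtain ⟨i, hi, rfl⟩ := hb
  have hi24 : i < 24 := List.mem_range.1 hi
  by_cases h23 : i = 23
  · rw [h23, genMask_23, wordOf_fullMask]; exact one_mem_golayCode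
  · have hlt : i < 23 := by omega
    have : i = ((i : ZMod 23)).val := by rw [ZMod.val_natCast, Nat.mod_eq_of_lt hlt]
    rw [this, wordOf_genMask]; exact qrWord_mem _

theorem basisMasks_eq : basisMasks = basisSel.map (xorSel genMasks) := by decide

theorem wordOf_basisMasks_mem : ∀ b ∈ basisMasks, wordOf b ∈ golayCode := by
  intro b hb
  rw [basisMasks_eq, List.mem_map] at hb
  obtain ⟨s, _, rfl⟩ := hb
  exact wordOf_xorSel_mem _ _ wordOf_genMasks_mem s

theorem wordOf_comb_mem (c : ℕ) : wordOf (comb c) ∈ golayCode :=
  wordOf_xorSel_mem _ _ wordOf_basisMasks_mem c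

theorem comb_xor (c d : ℕ) : comb (c ^^^ d) = comb c ^^^ comb d := xorSel_xor _ _ _

theorem comb_zero : comb 0 = 0 := xorSel_zero _

theorem comb_lt (c : ℕ) : comb c < 2 ^ 24 :=
  xorSel_lt _ _ _ (by decide)

/-- generators pass the membership test -/
theorem comb_genMask : ∀ t < 24, comb (genMask t % 4096) = genMask t := by decide

/-- `comb c` has information bits `c`. -/
theorem comb_mod : allRange (fun c => comb c % 4096 == c) 12 0 = true := by decide +kernel

theorem comb_mod_eq {c : ℕ} (h : c < 4096) : comb c % 4096 = c := by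
  have := (allRange_zero_iff _ 12).1 comb_mod c (by norm_num; exact h)
  simpa using this

theorem comb_injOn {c d : ℕ} (hc : c < 4096) (hd : d < 4096) (h : comb c = comb d) : c = d := by
  rw [← comb_mod_eq hc, ← comb_mod_eq hd, h]

theorem isCode_iff {m : ℕ} : isCode m = true ↔ comb (m % 4096) = m := by
  simp [isCode]

theorem isCode_comb (c : ℕ) (h : c < 4096) : isCode (comb c) = true := by
  rw [isCode_iff, comb_mod_eq h]

theorem isCode_iff_exists {m : ℕ} : isCode m = true ↔ ∃ c < 4096, comb c = m := by
  constructor
  · intro h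
    exact ⟨m % 4096, Nat.mod_lt _ (by norm_num), isCode_iff.1 h⟩
  · rintro ⟨c, hc, rfl⟩
    exact isCode_comb c hc

theorem isCode_lt {m : ℕ} (h : isCode m = true) : m < 2 ^ 24 := by
  rw [isCode_iff] at h; rw [← h]; exact comb_lt _

theorem isCode_xor {m n : ℕ} (hm : isCode m = true) (hn : isCode n = true) :
    isCode (m ^^^ n) = true := by
  rw [isCode_iff] at *
  have : (m ^^^ n) % 4096 = m % 4096 ^^^ n % 4096 := Nat.xor_mod_two_pow (n := 12)
  rw [this, comb_xor, hm, hn]

theorem isCode_zero : isCode 0 = true := by decide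

theorem isCode_fullMask : isCode fullMask = true := by decide

/-- **Membership in the Golay code is decided by the mask test.** -/
theorem mem_golayCode_iff (w : GolayPt → ZMod 2) : w ∈ golayCode ↔ isCode (maskOf w) = true := by
  constructor
  · intro hw
    unfold golayCode at hw
    induction hw using Submodule.span_induction with
    | mem x hx =>
      rcases hx with ⟨t, rfl⟩ | hx
      · rw [maskOf_qrWord, isCode_iff]
        exact comb_genMask _ (by have := ZMod.val_lt t; omega)
      · rw [Set.mem_singleton_iff] at hx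
        rw [hx, maskOf_one]; exact isCode_fullMask
    | zero => rw [maskOf_zero]; exact isCode_zero
    | add x y _ _ hx hy => rw [maskOf_add]; exact isCode_xor hx hy
    | smul a x _ hx =>
      rcases zmod2_cases a with rfl | rfl
      · rw [zero_smul, maskOf_zero]; exact isCode_zero
      · rw [one_smul]; exact hx
  · intro h
    rw [isCode_iff] at h
    rw [← wordOf_maskOf w, ← h]
    exact wordOf_comb_mem _

theorem wordOf_mem_golayCode_iff {m : ℕ} (hm : m < 2 ^ 24) :
    wordOf m ∈ golayCode ↔ isCode m = true := by
  rw [mem_golayCode_iff, maskOf_wordOf_of_lt hm]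

/-- **Membership of a set in the family of supports of the code.** -/
theorem mem_supports_golayCode_iff (s : Finset GolayPt) :
    s ∈ supports (golayCode : Set (GolayPt → ZMod 2)) ↔ isCode (maskOfSet s) = true := by
  constructor
  · rintro ⟨w, hw, rfl⟩
    exact (mem_golayCode_iff w).1 hw
  · intro h
    refine ⟨wordOf (maskOfSet s), ?_, ?_⟩
    · exact (wordOf_mem_golayCode_iff (maskOfSet_lt s)).2 h
    · rw [support₂_wordOf, setOf_maskOfSet]

theorem setOf_mem_supports_iff {m : ℕ} (hm : m < 2 ^ 24) :
    setOf m ∈ supports (golayCode : Set (GolayPt → ZMod 2)) ↔ isCode m = true := by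
  rw [mem_supports_golayCode_iff, maskOfSet_setOf_of_lt hm]

/-- Every codeword is `wordOf (comb c)` for a unique `c < 4096`. -/
theorem exists_comb_of_mem {w : GolayPt → ZMod 2} (hw : w ∈ golayCode) :
    ∃ c < 4096, w = wordOf (comb c) := by
  have h := (mem_golayCode_iff w).1 hw
  rw [isCode_iff] at h
  exact ⟨maskOf w % 4096, Nat.mod_lt _ (by norm_num), by rw [h, wordOf_maskOf]⟩

end Cfsg.Agent.Lib.Helper26
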