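import Mathlib
import Cfsg.Agent.Lib.Helper26.GolayBitsCode
import Cfsg.Agent.Lib.Helper26.FamCert

/-!
# Forcing evaluation of natural-number arguments in kernel computations

The kernel evaluates lazily and without sharing: a term substituted into several places of a function
body is re-evaluated at each use.  `forceNat r f` (defined in `FamCert`) is propositionally `f r`, but it
pattern-matches on `r` first, so the kernel evaluates `r` once (to a literal) before passing it on.  `allRangeF` and
`countRangeF` are the variants of `allRange` and `countRange` that force the running index.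
-/

set_option autoImplicit false

namespace Cfsg.Agent.Lib.Helper26

/-- `allRange` with forced indices -/
def allRangeF (p : ℕ → Bool) : ℕ → ℕ → Bool
  | 0, lo => p lo
  | k + 1, lo => allRangeF p k lo && forceNat (lo + 2 ^ k) (allRangeF p k)

theorem allRangeF_eq (p : ℕ → Bool) (k lo : ℕ) : allRangeF p k lo = allRange p k lo := by
  induction k generalizing lo with
  | zero => rfl
  | succ k ih => simp only [allRangeF, allRange, forceNat_eq, ih]

theorem allRangeF_zero_iff (p : ℕ → Bool) (k : ℕ) :
    allRangeF p k 0 = true ↔ ∀ c < 2 ^ k, p c = true := by
  rw [allRangeF_eq, allRange_zero_iff]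

/-- `countRange` with forced indices -/
def countRangeF (p : ℕ → Bool) : ℕ → ℕ → ℕ
  | 0, lo => if p lo then 1 else 0
  | k + 1, lo => countRangeF p k lo + forceNat (lo + 2 ^ k) (countRangeF p k)

theorem countRangeF_eq (p : ℕ → Bool) (k lo : ℕ) : countRangeF p k lo = countRange p k lo := by
  induction k generalizing lo with
  | zero => rfl
  | succ k ih => simp only [countRangeF, countRange, forceNat_eq, ih]

theorem countRangeF_zero_eq (p : ℕ → Bool) (k : ℕ) :
    countRangeF p k 0 = ((Finset.range (2 ^ k)).filter fun c => p c = true).card := by
  rw [countRangeF_eq, countRange_zero_eq]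

end Cfsg.Agent.Lib.Helper26
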