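import Mathlib
import Cfsg.Agent.Lib.Helper26.ForceNat

/-!
# A cheap bounded universal quantifier for kernel computations

`allBelow n p` checks `p k` for all `k < n` using the recursor of `ℕ` directly (no course-of-values
structure), from `k = n - 1` downwards, with constant stack.
-/

set_option autoImplicit false

namespace Cfsg.Agent.Lib.Helper26

/-- `p k` for all `k < n` -/
def allBelow (n : ℕ) (p : ℕ → Bool) : Bool :=
  Nat.rec (motive := fun _ => Bool) true (fun k ih => (p k).and ih) n

theorem allBelow_succ (n : ℕ) (p : ℕ → Bool) : allBelow (n + 1) p = ((p n).and (allBelow n p)) := rfl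

theorem allBelow_iff (n : ℕ) (p : ℕ → Bool) : allBelow n p = true ↔ ∀ k < n, p k = true := by
  induction n with
  | zero => simp [allBelow]
  | succ n ih =>
    rw [allBelow_succ, Bool.and_eq_true, ih]
    constructor
    · rintro ⟨h1, h2⟩ k hk
      rcases Nat.lt_succ_iff_lt_or_eq.1 hk with h | rfl
      · exact h2 k h
      · exact h1
    · intro h
      exact ⟨h n (Nat.lt_succ_self n), fun k hk => h k (Nat.lt_succ_of_lt hk)⟩

/-- number of `k < n` with `p k` -/
def countBelow (n : ℕ) (p : ℕ → Bool) : ℕ :=
  Nat.rec (motive := fun _ => ℕ) 0 (fun k ih => Nat.add (cond (p k) 1 0) ih) n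

theorem countBelow_succ (n : ℕ) (p : ℕ → Bool) :
    countBelow (n + 1) p = (cond (p n) 1 0) + countBelow n p := rfl

theorem countBelow_eq (n : ℕ) (p : ℕ → Bool) :
    countBelow n p = ((Finset.range n).filter fun c => p c = true).card := by
  induction n with
  | zero => simp [countBelow]
  | succ n ih =>
    rw [countBelow_succ, ih, Finset.range_add_one, Finset.filter_insert]
    by_cases h : p n = true
    · rw [if_pos h, Finset.card_insert_of_notMem (by simp), h]; simp [Nat.add_comm]
    · rw [if_neg h]; simp only [Bool.not_eq_true] at h; rw [h]; simp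

end Cfsg.Agent.Lib.Helper26
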