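import Mathlib
import Cfsg.Prelude.Def_Amalgam
import Cfsg.Agent.Lib.Helper12.AmalDefs
import Cfsg.Agent.Lib.Helper12.AmalCrit
import Cfsg.Agent.Lib.Helper12.AmalTreeDefs
import Cfsg.Agent.Lib.Helper12.AmalGen
import Cfsg.Agent.Lib.Helper12.AmalNat
import Cfsg.Agent.Lib.Helper68.AmalDDefs
import Cfsg.Agent.Lib.Helper68.AmalDDefs2
import Cfsg.Agent.Lib.Helper68.AmalDOrb
import Cfsg.Agent.Lib.Helper7.AmalDBase
import Cfsg.Agent.Lib.Helper7.AmalCBridge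
import Cfsg.Agent.Lib.Helper13.AmalDFCommon
import Cfsg.Agent.Lib.Helper13.AmalDF3

/-!
# S2858 case (D), batch 2 (helper26 for helper68): label calculus from `|C_x| = 2` alone

The lemmas of [D-LAB] that only need `hC : ∀ x, |C_x| = 2` (not the whole flat structure `FS`),
for use in [D-F4] and [D-F6].
-/

set_option autoImplicit false

namespace Cfsg.Agent.Lib.Helper26.AmalD0

open Cfsg Cfsg.Agent.Lib.Helper68.AmalD Cfsg.Agent.Lib.Helper7.AmalC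
open Cfsg.Agent.Lib.Helper12.Amal hiding Flat
open Cfsg.Agent.Lib.Helper13.AmalDF

universe u

variable {G : Type u} [Group G] {P₁ P₂ : Subgroup G}

section lab

variable (hC : ∀ x : CosetVertex P₁ P₂, Nat.card ↥(Cx x) = 2)
include hC

theorem cv0_spec (x : CosetVertex P₁ P₂) : cv x ∈ Cx x ∧ cv x ≠ 1 := by
  have h := (Nat.card_eq_two_iff' (1 : ↥(Cx x))).1 (hC x)
  obtain ⟨g, hg⟩ := h.exists
  have hex : ∃ g : G, g ∈ Cx x ∧ g ≠ 1 := ⟨g.1, g.2, fun h1 => hg (Subtype.ext h1)⟩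
  unfold cv
  rw [dif_pos hex]
  exact hex.choose_spec

theorem cv0_mem (x : CosetVertex P₁ P₂) : cv x ∈ Cx x := (cv0_spec hC x).1

theorem cv0_ne_one (x : CosetVertex P₁ P₂) : cv x ≠ 1 := (cv0_spec hC x).2

theorem cv0_mem_Zv (x : CosetVertex P₁ P₂) : cv x ∈ Zv x := (cv0_mem hC x).1

theorem eq_cv0 {x : CosetVertex P₁ P₂} {g : G} (hg : g ∈ Cx x) (h1 : g ≠ 1) : g = cv x := by
  have hu := (Nat.card_eq_two_iff' (1 : ↥(Cx x))).1 (hC x)
  have h1' : (⟨g, hg⟩ : ↥(Cx x)) ≠ 1 := fun h => h1 (congrArg Subtype.val h)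
  have h2' : (⟨cv x, cv0_mem hC x⟩ : ↥(Cx x)) ≠ 1 :=
    fun h => cv0_ne_one hC x (congrArg Subtype.val h)
  have := hu.unique h1' h2'
  exact congrArg Subtype.val this

theorem mem_Cx0 {x : CosetVertex P₁ P₂} {g : G} (hg : g ∈ Cx x) : g = 1 ∨ g = cv x := by
  by_cases h1 : g = 1
  · exact Or.inl h1
  · exact Or.inr (eq_cv0 hC hg h1)

theorem Cx_le_of_cv0 {x : CosetVertex P₁ P₂} {K : Subgroup G} (hk : cv x ∈ K) : Cx x ≤ K := by
  intro g hg
  rcases mem_Cx0 hC hg with rfl | rfl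
  · exact K.one_mem
  · exact hk

theorem cv0_sq (hB : Base P₁ P₂) (x : CosetVertex P₁ P₂) : cv x * cv x = 1 :=
  hB.Z_sq x _ (cv0_mem hC x).1

theorem cv0_inv (hB : Base P₁ P₂) (x : CosetVertex P₁ P₂) : (cv x)⁻¹ = cv x :=
  inv_eq_of_mul_eq_one_right (cv0_sq hC hB x)

theorem cv0_fixed {x : CosetVertex P₁ P₂} {g : G} (hg : g ∈ Gv x) : g * cv x * g⁻¹ = cv x := by
  have := (Subgroup.mem_centralizer_iff.1 (cv0_mem hC x).2) g hg
  rw [this]; group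

theorem cv0_smul (hB : Base P₁ P₂) (g : G) (x : CosetVertex P₁ P₂) :
    cv (g • x) = g * cv x * g⁻¹ := by
  symm
  apply eq_cv0 hC
  · refine Subgroup.mem_inf.2 ⟨?_, ?_⟩
    · rw [hB.smul_Z g x]
      exact ⟨cv x, (cv0_mem hC x).1, rfl⟩
    · rw [Subgroup.mem_centralizer_iff]
      intro k hk
      have hk' : k ∈ Gv (g • x) := hk
      rw [hB.smul_G g x] at hk'
      obtain ⟨k', hk', rfl⟩ := hk'
      have := (Subgroup.mem_centralizer_iff.1 (cv0_mem hC x).2) k' hk'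
      simp only [MulEquiv.coe_toMonoidHom, MulAut.conj_apply]
      calc g * k' * g⁻¹ * (g * cv x * g⁻¹) = g * (k' * cv x) * g⁻¹ := by group
        _ = g * (cv x * k') * g⁻¹ := by rw [this]
        _ = g * cv x * g⁻¹ * (g * k' * g⁻¹) := by group
  · intro h
    apply cv0_ne_one hC x
    have : cv x = g⁻¹ * (g * cv x * g⁻¹) * g := by group
    rw [this, h]; group

/-- `g C_x g⁻¹ ≤ C_{g x}` elementwise -/
theorem conj_mem_Cx0 (hB : Base P₁ P₂) (g : G) {x : CosetVertex P₁ P₂} {c : G} (hc : c ∈ Cx x) :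
    g * c * g⁻¹ ∈ Cx (g • x) := by
  rcases mem_Cx0 hC hc with rfl | rfl
  · have : g * 1 * g⁻¹ = 1 := by group
    rw [this]; exact Subgroup.one_mem _
  · rw [← cv0_smul hC hB]; exact cv0_mem hC _

/-- `c_x ∈ Z_y` for `x ~ y` -/
theorem cv0_mem_Zv_adj (h : Pair P₁ P₂ (P₁ ⊓ P₂)) {x y : CosetVertex P₁ P₂}
    (hxy : (cosetGraph P₁ P₂).Adj x y) : cv x ∈ Zv y :=
  (Cx_le_inf h hxy (cv0_mem hC x)).2

/-- adjacent vertices have different labels -/
theorem cv0_ne_adj (hB : Base P₁ P₂) {x y : CosetVertex P₁ P₂}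
    (hxy : (cosetGraph P₁ P₂).Adj x y) : cv x ≠ cv y := by
  intro he
  have h1 : cv x ∈ Cx x ⊓ Cx y := ⟨cv0_mem hC x, he ▸ cv0_mem hC y⟩
  rw [Cx_inf_Cx hB hxy, Subgroup.mem_bot] at h1
  exact cv0_ne_one hC x h1

/-- siblings have different labels -/
theorem cv0_ne_sib (h : Pair P₁ P₂ (P₁ ⊓ P₂)) {z x y : CosetVertex P₁ P₂}
    (hx : (cosetGraph P₁ P₂).Adj z x) (hy : (cosetGraph P₁ P₂).Adj z y) (hxy : x ≠ y) :
    cv x ≠ cv y := by
  have hB := base_of_pair h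
  intro he
  have hcx : Gv x ≤ Subgroup.centralizer ({cv x} : Set G) := by
    intro g hg
    rw [Subgroup.mem_centralizer_singleton_iff]
    exact (Subgroup.mem_centralizer_iff.1 (cv0_mem hC x).2) g hg
  have hcy : Gv y ≤ Subgroup.centralizer ({cv x} : Set G) := by
    intro g hg
    rw [Subgroup.mem_centralizer_singleton_iff, he]
    exact (Subgroup.mem_centralizer_iff.1 (cv0_mem hC y).2) g hg
  have hz : Gv z ≤ Subgroup.centralizer ({cv x} : Set G) := by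
    rw [hB.gen_two z x y hx hy hxy]
    exact sup_le (inf_le_right.trans hcx) (inf_le_right.trans hcy)
  have hmem : cv x ∈ Cx z := by
    refine Subgroup.mem_inf.2 ⟨cv0_mem_Zv_adj hC h hx.symm, ?_⟩
    rw [Subgroup.mem_centralizer_iff]
    intro g hg
    exact Subgroup.mem_centralizer_singleton_iff.1 (hz hg)
  exact cv0_ne_adj hC hB hx ((eq_cv0 hC hmem (cv0_ne_one hC x)).symm)

/-- `C_x ⊓ C_y = ⊥` when the labels differ -/
theorem Cx_inf_eq_bot0 {x y : CosetVertex P₁ P₂} (hne : cv x ≠ cv y) : Cx x ⊓ Cx y = ⊥ := by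
  rw [eq_bot_iff]
  intro g hg
  rw [Subgroup.mem_bot]
  by_contra h1
  exact hne ((eq_cv0 hC hg.1 h1).symm.trans (eq_cv0 hC hg.2 h1))

end lab

/-- elements of `Z_x` commute -/
theorem Zv_comm0 (hB : Base P₁ P₂) {x : CosetVertex P₁ P₂} {u v : G} (hu : u ∈ Zv x)
    (hv : v ∈ Zv x) : u * v = v * u :=
  ((Subgroup.mem_centralizer_iff.1 (hB.Z_cent_Q x hu)) v (hB.Z_le_Q x hv)).symm

/-- `Q_x` centralizes `Z_x`, conjugation form -/
theorem Q_conj_Z0 (hB : Base P₁ P₂) {x : CosetVertex P₁ P₂} {q z : G} (hq : q ∈ Qv x)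
    (hz : z ∈ Zv x) : q * z * q⁻¹ = z := by
  have h2 : q * z = z * q := (Subgroup.mem_centralizer_iff.mp (hB.Z_cent_Q x hz)) q hq
  rw [h2]; group

/-- inverse in `Z_x` -/
theorem Zv_inv0 (hB : Base P₁ P₂) {x : CosetVertex P₁ P₂} {z : G} (hz : z ∈ Zv x) : z⁻¹ = z :=
  inv_eq_of_mul_eq_one_right (hB.Z_sq x z hz)

/-- there is `u ∈ Q_y ∖ Q_l` for `y ~ l` -/
theorem exists_Q_not_Q (h : Pair P₁ P₂ (P₁ ⊓ P₂)) {y l : CosetVertex P₁ P₂}
    (hl : (cosetGraph P₁ P₂).Adj y l) : ∃ u ∈ Qv y, u ∉ Qv l := by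
  by_contra hcon
  push Not at hcon
  obtain ⟨g, hg, hgQ⟩ := exists_edge_not_mem h hl.symm
  apply hgQ
  have hsup : vertexQ 2 y ⊔ vertexQ 2 l ≤ vertexQ 2 l := sup_le hcon le_rfl
  apply hsup
  rw [vertexQ_sup h hl]
  exact ⟨hg.2, hg.1⟩

/-- `u ∈ Q_y ∖ Q_l` swaps the two other neighbours of `l` -/
theorem Q_swap (h : Pair P₁ P₂ (P₁ ⊓ P₂)) {y l x' x'' : CosetVertex P₁ P₂}
    (hl : (cosetGraph P₁ P₂).Adj y l) (hx' : (cosetGraph P₁ P₂).Adj l x')
    (hx'' : (cosetGraph P₁ P₂).Adj l x'') (n' : x' ≠ y) (n'' : x'' ≠ y) (hne : x' ≠ x'')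
    {u : G} (hu : u ∈ Qv y) (huQ : u ∉ Qv l) : u • y = y ∧ u • l = l ∧ u • x' = x'' := by
  have hB := base_of_pair h
  have huy : u • y = y := MulAction.mem_stabilizer_iff.1 (((hB.Q_iff y u).1 hu).1)
  have hul : u • l = l := ((hB.Q_iff y u).1 hu).2 l hl
  refine ⟨huy, hul, ?_⟩
  have hmove : u • x' ≠ x' :=
    smul_ne_of_not_mem h hl.symm hx' (Ne.symm n')
      ⟨MulAction.mem_stabilizer_iff.2 hul, MulAction.mem_stabilizer_iff.2 huy⟩ huQ
  have hadj : (cosetGraph P₁ P₂).Adj l (u • x') := by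
    have := hB.smul_adj u _ _ hx'
    rwa [hul] at this
  have hney : u • x' ≠ y := by
    intro he
    rw [← huy] at he
    exact n' (smul_left_cancel u he)
  exact nbr_eq_of_base hB l y x' (u • x') x'' hl.symm hx' (Ne.symm n') hadj hney hmove hx'' n''
    (Ne.symm hne)

end Cfsg.Agent.Lib.Helper26.AmalD0
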