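import Mathlib
import Cfsg.Prelude.Def_Amalgam
import Cfsg.Agent.Lib.Helper12.AmalDefs
import Cfsg.Agent.Lib.Helper12.AmalCrit
import Cfsg.Agent.Lib.Helper12.AmalTreeDefs
import Cfsg.Agent.Lib.Helper12.AmalGen
import Cfsg.Agent.Lib.Helper12.AmalNat
import Cfsg.Agent.Lib.Helper12.AmalFlat
import Cfsg.Agent.Lib.Helper68.AmalDDefs
import Cfsg.Agent.Lib.Helper68.AmalDDefs2
import Cfsg.Agent.Lib.Helper68.AmalDOrb
import Cfsg.Agent.Lib.Helper7.AmalDBase
import Cfsg.Agent.Lib.Helper7.AmalCBridge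
import Cfsg.Agent.Lib.Helper13.AmalDFCommon
import Cfsg.Agent.Lib.Helper13.AmalDF3
import Cfsg.Agent.Lib.Helper26.AmalDLab0

/-!
# S2858 case (D), batch 2 (helper26 for helper68): module [D-F4] `flat_labels`

`l` not flat, `Δ(l) = {y, x', x''}`: `c_y c_x' c_x'' = 1` (`rel_L`), and
`F_y = {1, c_y, c_l c_x', c_l c_x''}` (`F_mem`, `F_notC`).
-/

set_option autoImplicit false

namespace Cfsg.Agent.Lib.Helper26.AmalDF4

open Cfsg Cfsg.Agent.Lib.Helper68.AmalD Cfsg.Agent.Lib.Helper7.AmalC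
open Cfsg.Agent.Lib.Helper12.Amal hiding Flat
open Cfsg.Agent.Lib.Helper13.AmalDF Cfsg.Agent.Lib.Helper26.AmalD0

universe u

variable {G : Type u} [Group G] {P₁ P₂ : Subgroup G}

/-- `|C_x| = 2` for all vertices, from [D-F3] -/
theorem cardC_of_F3 (F3 : F3Prop P₁ P₂) (x : CosetVertex P₁ P₂) : Nat.card ↥(Cx x) = 2 := by
  by_cases hx : Flat x
  · exact (F3.1 x hx).1
  · exact (F3.2 x hx).2

/-- `|Z_x| = 8` for all vertices, from [D-F3] -/
theorem cardZ_of_F3 (F3 : F3Prop P₁ P₂) (x : CosetVertex P₁ P₂) : Nat.card ↥(Zv x) = 8 := by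
  by_cases hx : Flat x
  · exact (F3.1 x hx).2.2
  · exact (F3.2 x hx).1

/-- the local configuration: `y` flat, `l ~ y`, `Δ(l) = {y, x', x''}` -/
theorem labels_local (h : Pair P₁ P₂ (P₁ ⊓ P₂)) {n : ℕ} (hn : 2 ≤ n) {a a' : CosetVertex P₁ P₂}
    (hc : CritPair P₁ P₂ n a a') (hf : Flat a) (F2 : F2Prop P₁ P₂)
    (F3 : F3Prop P₁ P₂) {y l x' x'' : CosetVertex P₁ P₂} (hy : Flat y)
    (hl : (cosetGraph P₁ P₂).Adj y l) (hx' : (cosetGraph P₁ P₂).Adj l x')
    (hx'' : (cosetGraph P₁ P₂).Adj l x'') (n' : x' ≠ y) (n'' : x'' ≠ y) (hne : x' ≠ x'') :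
    cv y * cv x' * cv x'' = 1 ∧ cv l * cv x' ∈ Fv y ∧ cv l * cv x' ∉ Cx y := by
  have hB := base_of_pair h
  have hC := cardC_of_F3 F3
  have hN : Nat1 y := flat_nat1 h hn hc hf hy
  have hFy : Nat.card ↥(Fv y) = 4 := (F3.1 y hy).2.1
  have hZl : Nat.card ↥(Zv l) = 8 := cardZ_of_F3 F3 l
  have hfinl : Finite ↥(Zv l) := vertexZ_finite h l
  have hfiny : Finite ↥(Zv y) := vertexZ_finite h y
  have hFZ : Fv y ≤ Zv l := fun v hv => mem_Fv.1 hv l hl
  have hCF : Cx y ≤ Fv y := Cx_le_Fv h y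
  have hF2a := (F2 y hy).1
  have hF2b := (F2 y hy).2
  -- `M = Z_y ∩ Z_l`
  have hMcard : Nat.card ↥(Zv y ⊓ Zv l : Subgroup G) = 4 := by
    have := hN.card_inf h hl
    rw [show Nat.card ↥(vC y) = 2 from hC y] at this
    exact this
  have hMl : Zv y ⊓ Zv l ≤ Zv l := inf_le_right
  have hfinM : Finite ↥(Zv y ⊓ Zv l : Subgroup G) :=
    Finite.of_injective _ (Subgroup.inclusion_injective hMl)
  have hcyM : Cx y ≤ Zv y ⊓ Zv l := Cx_le_inf h hl
  have hclM : Cx l ≤ Zv y ⊓ Zv l := by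
    have := Cx_le_inf h hl.symm
    rwa [inf_comm] at this
  have hcomm : ∀ a ∈ Cx y, ∀ b ∈ Cx l, a * b = b * a := fun a ha b hb =>
    Zv_comm0 hB (hcyM ha).1 (hclM hb).1
  have hMeq : Cx y ⊔ Cx l = Zv y ⊓ Zv l := by
    apply Subgroup.eq_of_le_of_card_ge (sup_le hcyM hclM)
    rw [card_sup_of_commute hcomm (Cx_inf_Cx hB hl), hC y, hC l, hMcard]
  -- labels in `Z_l`
  have hcy : cv y ∈ Zv l := cv0_mem_Zv_adj hC h hl
  have hcx' : cv x' ∈ Zv l := cv0_mem_Zv_adj hC h hx'.symm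
  have hcx'' : cv x'' ∈ Zv l := cv0_mem_Zv_adj hC h hx''.symm
  have hcl : cv l ∈ Zv l := cv0_mem_Zv hC l
  have hclM' : cv l ∈ Zv y ⊓ Zv l := hclM (cv0_mem hC l)
  -- the element `u`
  obtain ⟨u, hu, huQ⟩ := exists_Q_not_Q h hl
  obtain ⟨huy, hul, hux⟩ := Q_swap h hl hx' hx'' n' n'' hne hu huQ
  have huGy : u ∈ Gv y := MulAction.mem_stabilizer_iff.2 huy
  have huGl : u ∈ MulAction.stabilizer G l := MulAction.mem_stabilizer_iff.2 hul
  have hucx : u * cv x' * u⁻¹ = cv x'' := by rw [← cv0_smul hC hB, hux]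
  -- `w ∈ M ∖ F_y`
  obtain ⟨w, hw, hwF⟩ : ∃ w ∈ Zv y ⊓ Zv l, w ∉ Fv y := by
    by_contra hcon
    push Not at hcon
    have h1 : Zv y ⊓ Zv l ≤ Cx y := fun v hv => hF2a ⟨hcon v hv, hv.1⟩
    have hfinC : Finite ↥(Cx y) := Finite.of_injective _ (Subgroup.inclusion_injective hcyM)
    have := Subgroup.card_le_of_le h1
    rw [hMcard, hC y] at this
    omega
  -- `u` does not centralize `F_y`
  obtain ⟨v, hv, hvu⟩ : ∃ v ∈ Fv y, u * v ≠ v * u := by
    by_contra hcon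
    push Not at hcon
    apply huQ
    apply mem_vQ_of_comm h l huGl
    intro z hz
    have huw : u * w = w * u := vQ_comm h y hw.1 hu
    by_cases hzF : z ∈ Fv y
    · exact (hcon z hzF).symm
    · have hwz : w * z ∈ Fv y :=
        mul_mem_of_card hFZ (by rw [hFy, hZl]) hw.2 hz hwF hzF
      have h3 := hcon _ hwz
      calc z * u = w⁻¹ * ((w * z) * u) := by group
        _ = w⁻¹ * (u * (w * z)) := by rw [h3]
        _ = w⁻¹ * (u * w) * z := by group
        _ = w⁻¹ * (w * u) * z := by rw [huw]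
        _ = u * z := by group
  have hvZ : v ∈ Zv l := hFZ hv
  -- `u v u⁻¹ = c_y v`
  have hzC : u * v * u⁻¹ * v⁻¹ ∈ Cx y := hF2b u huGy v hv
  have hz1 : u * v * u⁻¹ * v⁻¹ ≠ 1 := by
    intro h1
    apply hvu
    calc u * v = (u * v * u⁻¹ * v⁻¹) * v * u := by group
      _ = v * u := by rw [h1, one_mul]
  have huv : u * v * u⁻¹ = cv y * v := by
    have := eq_cv0 hC hzC hz1
    rw [← this]; group
  -- `v ∉ M`
  have hvM : v ∉ Zv y ⊓ Zv l := by
    intro hvM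
    apply hvu
    exact vQ_comm h y hvM.1 hu
  -- `c_x' ∉ M`
  have hxM : cv x' ∉ Zv y ⊓ Zv l := by
    intro hxM
    have h1 : u * cv x' * u⁻¹ = cv x' := Q_conj_Z0 hB hu hxM.1
    rw [hucx] at h1
    exact cv0_ne_sib hC h hx' hx'' hne h1.symm
  -- `m = v c_x' ∈ M`
  have hmM : v * cv x' ∈ Zv y ⊓ Zv l :=
    mul_mem_of_card hMl (by rw [hMcard, hZl]) hvZ hcx' hvM hxM
  have hum : u * (v * cv x') * u⁻¹ = v * cv x' := Q_conj_Z0 hB hu hmM.1
  have hrel0 : cv y * v * cv x'' = v * cv x' := by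
    rw [← huv, ← hucx, ← hum]; group
  -- `c_y c_x'' = c_x'`
  have hrel1 : cv y * cv x'' = cv x' := by
    have e1 : cv y * v = v * cv y := Zv_comm0 hB hcy hvZ
    rw [e1, mul_assoc] at hrel0
    exact mul_left_cancel hrel0
  have hrel : cv y * cv x' * cv x'' = 1 := by
    rw [← hrel1]
    have e1 : cv y * cv x'' = cv x'' * cv y := Zv_comm0 hB hcy hcx''
    calc cv y * (cv y * cv x'') * cv x'' = (cv y * cv y) * (cv x'' * cv x'') := by group
      _ = 1 := by rw [cv0_sq hC hB, cv0_sq hC hB, one_mul]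
  refine ⟨hrel, ?_⟩
  -- decompose `m = a b`
  have hmS : v * cv x' ∈ Cx y ⊔ Cx l := by rw [hMeq]; exact hmM
  obtain ⟨a₀, ha₀, b₀, hb₀, hab⟩ := (mem_sup_of_commute hcomm).1 hmS
  have hvinv : v⁻¹ = v := Zv_inv0 hB hvZ
  rcases mem_Cx0 hC hb₀ with rfl | rfl
  · -- the bad case: `c_x' ∈ F_y`
    exfalso
    rw [mul_one] at hab
    have hxF : cv x' ∈ Fv y := by
      have : cv x' = v⁻¹ * a₀ := by rw [← hab]; group
      rw [this]
      exact (Fv y).mul_mem ((Fv y).inv_mem hv) (hCF ha₀)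
    have hyF : cv y ∈ Fv y := hCF (cv0_mem hC y)
    have hx''F : cv x'' ∈ Fv y := by
      have : cv x'' = (cv y * cv x')⁻¹ := (inv_eq_of_mul_eq_one_right hrel).symm
      rw [this]
      exact (Fv y).inv_mem ((Fv y).mul_mem hyF hxF)
    have hall : ∀ w, (cosetGraph P₁ P₂).Adj l w → Cx w ≤ Fv y := by
      intro w hw
      apply Cx_le_of_cv0 hC
      by_cases h1 : w = y
      · rw [h1]; exact hyF
      by_cases h2 : w = x'
      · rw [h2]; exact hxF
      · have : w = x'' :=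
          nbr_eq_of_base hB l y x' w x'' hl.symm hx' (Ne.symm n') hw h1 h2 hx'' n'' (Ne.symm hne)
        rw [this]; exact hx''F
    -- `F_y = C_y ⊔ C_x'`
    have hcomm2 : ∀ a ∈ Cx y, ∀ b ∈ Cx x', a * b = b * a := fun a ha b hb =>
      Zv_comm0 hB (hcyM ha).2 ((Cx_le_inf h hx'.symm hb).2)
    have hdisj : Cx y ⊓ Cx x' = ⊥ :=
      Cx_inf_eq_bot0 hC (cv0_ne_sib hC h hl.symm hx' (Ne.symm n'))
    have hfinF : Finite ↥(Fv y) := Finite.of_injective _ (Subgroup.inclusion_injective hFZ)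
    have hFeq : Cx y ⊔ Cx x' = Fv y := by
      apply Subgroup.eq_of_le_of_card_ge (sup_le hCF (hall x' hx'))
      rw [card_sup_of_commute hcomm2 hdisj, hC y, hC x', hFy]
    -- `F_y` is normalized by `G_y` and `G_l`, and lies in `T_yl`
    have hbot : Fv y = ⊥ := by
      apply eq_bot_of_normalized h hl (Fv y)
      · intro z hz
        have hzQ : z ∈ Qv l := hB.Z_le_Q l (hFZ hz)
        exact ⟨hB.Q_le_G_adj hl.symm hzQ, hB.Q_le_G l hzQ⟩
      · intro g hg z hz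
        exact Fv_conj hB hg hz
      · intro g hg z hz
        have hgl : g • l = l := MulAction.mem_stabilizer_iff.1 hg
        rw [← hFeq] at hz
        obtain ⟨a₁, ha₁, b₁, hb₁, rfl⟩ := (mem_sup_of_commute hcomm2).1 hz
        have e : g * (a₁ * b₁) * g⁻¹ = (g * a₁ * g⁻¹) * (g * b₁ * g⁻¹) := by group
        rw [e]
        apply (Fv y).mul_mem
        · have hadj : (cosetGraph P₁ P₂).Adj l (g • y) := by
            have := hB.smul_adj g _ _ hl.symm
            rwa [hgl] at this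
          exact hall _ hadj (conj_mem_Cx0 hC hB g ha₁)
        · have hadj : (cosetGraph P₁ P₂).Adj l (g • x') := by
            have := hB.smul_adj g _ _ hx'
            rwa [hgl] at this
          exact hall _ hadj (conj_mem_Cx0 hC hB g hb₁)
    apply cv0_ne_one hC y
    have := hyF
    rw [hbot, Subgroup.mem_bot] at this
    exact this
  · -- the good case: `v c_x' = a c_l`
    have hmem : cv l * cv x' ∈ Fv y := by
      have e1 : cv x' = v⁻¹ * (a₀ * cv l) := by rw [← hab]; group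
      have ha₀Z : a₀ ∈ Zv l := (hcyM ha₀).2
      have e2 : cv l * cv x' = v⁻¹ * a₀ := by
        rw [e1]
        have c1 : cv l * v⁻¹ = v⁻¹ * cv l := Zv_comm0 hB hcl ((Zv l).inv_mem hvZ)
        have c2 : cv l * a₀ = a₀ * cv l := Zv_comm0 hB hcl ha₀Z
        calc cv l * (v⁻¹ * (a₀ * cv l)) = (cv l * v⁻¹) * (a₀ * cv l) := by group
          _ = (v⁻¹ * cv l) * (a₀ * cv l) := by rw [c1]
          _ = v⁻¹ * (cv l * a₀) * cv l := by group
          _ = v⁻¹ * (a₀ * cv l) * cv l := by rw [c2]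
          _ = v⁻¹ * a₀ * (cv l * cv l) := by group
          _ = v⁻¹ * a₀ := by rw [cv0_sq hC hB, mul_one]
      rw [e2]
      exact (Fv y).mul_mem ((Fv y).inv_mem hv) (hCF ha₀)
    refine ⟨hmem, ?_⟩
    intro hcon
    apply hxM
    have h1 : cv l * cv x' ∈ Zv y ⊓ Zv l := hcyM hcon
    have : cv x' = (cv l)⁻¹ * (cv l * cv x') := by group
    rw [this]
    exact (Zv y ⊓ Zv l).mul_mem ((Zv y ⊓ Zv l).inv_mem hclM') h1

/-- **[D-F4]** the labels -/
theorem flat_labels (h : Pair P₁ P₂ (P₁ ⊓ P₂)) {n : ℕ} (hn : 2 ≤ n) {a a' : CosetVertex P₁ P₂}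
    (hc : CritPair P₁ P₂ n a a') (hf : Flat a) (F1 : F1Prop P₁ P₂) (F2 : F2Prop P₁ P₂)
    (F3 : F3Prop P₁ P₂) :
    (∀ l a a' a'' : CosetVertex P₁ P₂, ¬ Flat l → (cosetGraph P₁ P₂).Adj l a →
      (cosetGraph P₁ P₂).Adj l a' → (cosetGraph P₁ P₂).Adj l a'' → a ≠ a' → a ≠ a'' → a' ≠ a'' →
      cv a * cv a' * cv a'' = 1) ∧
    (∀ y l x : CosetVertex P₁ P₂, Flat y → (cosetGraph P₁ P₂).Adj y l →
      (cosetGraph P₁ P₂).Adj l x → x ≠ y → cv l * cv x ∈ Fv y ∧ cv l * cv x ∉ Cx y) := by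
  have hB := base_of_pair h
  refine ⟨?_, ?_⟩
  · intro l b b' b'' hnl hb hb' hb'' n1 n2 n3
    have hfb : Flat b := by
      by_contra hnb
      exact hnl ((flat_iff hB hf hb).2 hnb)
    exact (labels_local h hn hc hf F2 F3 hfb hb.symm hb' hb'' (Ne.symm n1) (Ne.symm n2) n3).1
  · intro y l x hy hl hx hxy
    obtain ⟨x'', hx'', hx''y, hx''x⟩ := cubic_of_base hB l y x
    exact (labels_local h hn hc hf F2 F3 hy hl hx hx'' hxy hx''y (Ne.symm hx''x)).2

end Cfsg.Agent.Lib.Helper26.AmalDF4
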