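import Mathlib
import Cfsg.Prelude.Def_Amalgam
import Cfsg.Agent.Lib.Helper12.AmalDefs
import Cfsg.Agent.Lib.Helper12.AmalCrit
import Cfsg.Agent.Lib.Helper12.AmalTreeDefs
import Cfsg.Agent.Lib.Helper12.AmalGen
import Cfsg.Agent.Lib.Helper12.AmalNat
import Cfsg.Agent.Lib.Helper12.AmalRF
import Cfsg.Agent.Lib.Helper12.AmalFlat
import Cfsg.Agent.Lib.Helper76.AmalVConj
import Cfsg.Agent.Lib.Helper68.AmalDDefs
import Cfsg.Agent.Lib.Helper68.AmalDDefs2
import Cfsg.Agent.Lib.Helper68.AmalDOrb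
import Cfsg.Agent.Lib.Helper7.AmalDBase
import Cfsg.Agent.Lib.Helper7.AmalCBridge
import Cfsg.Agent.Lib.Helper7.AmalCStr
import Cfsg.Agent.Lib.Helper7.AmalDF1
import Cfsg.Agent.Lib.Helper13.AmalDFCommon
import Cfsg.Agent.Lib.Helper13.AmalDF3
import Cfsg.Agent.Lib.Helper26.AmalDLab0

/-!
# S2858 case (D), batch 2 (helper26 for helper68): module [D-F6] `flat_eps`

`y` flat, `l ~ y`: `Z_y ∩ Z_l = {1, c_y, c_l, c_y c_l} = C_y × vR y l`, so `vR y l = ⟨c_l⟩` (case `ε = 0`: `Eps0`)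
or `vR y l = ⟨c_y c_l⟩` (case `ε = 1`: `FS1`), the same alternative for all edges.
-/

set_option autoImplicit false

namespace Cfsg.Agent.Lib.Helper26.AmalDF6

open Cfsg Cfsg.Agent.Lib.Helper68.AmalD Cfsg.Agent.Lib.Helper7.AmalC
open Cfsg.Agent.Lib.Helper12.Amal hiding Flat
open Cfsg.Agent.Lib.Helper13.AmalDF Cfsg.Agent.Lib.Helper26.AmalD0
open Cfsg.Agent.Lib.Helper7.AmalDF1

universe u

variable {G : Type u} [Group G] {P₁ P₂ : Subgroup G}

/-- every edge at a flat vertex is a conjugate of a given one -/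
theorem edge_eq_smul (hB : Base P₁ P₂) {a a₁ y l : CosetVertex P₁ P₂} (ha : Flat a)
    (ha₁ : (cosetGraph P₁ P₂).Adj a a₁) (hy : Flat y) (hl : (cosetGraph P₁ P₂).Adj y l) :
    ∃ g : G, g • a = y ∧ g • a₁ = l := by
  obtain ⟨g, ⟨hx, hx'⟩ | ⟨hx, _⟩⟩ := hB.edge_trans a a₁ y l ha₁ hl
  · exact ⟨g, hx, hx'⟩
  · exfalso
    have : Flat l := hx ▸ ha.smul hB g
    exact not_flat_adj hB hl hy this

/-- the generator of `vR a a₁` is `c_{a₁}` or `c_a c_{a₁}` -/
theorem vR_gen_cases (h : Pair P₁ P₂ (P₁ ⊓ P₂)) (hC : ∀ x : CosetVertex P₁ P₂, Nat.card ↥(Cx x) = 2)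
    {a a₁ : CosetVertex P₁ P₂} (hN : Nat1 a) (ha₁ : (cosetGraph P₁ P₂).Adj a a₁) :
    cv a₁ ∈ vR a a₁ ∨ cv a * cv a₁ ∈ vR a a₁ := by
  have hB := base_of_pair h
  have hfina : Finite ↥(Zv a) := vertexZ_finite h a
  have hMa : Zv a ⊓ Zv a₁ ≤ Zv a := inf_le_left
  have hfinM : Finite ↥(Zv a ⊓ Zv a₁ : Subgroup G) :=
    Finite.of_injective _ (Subgroup.inclusion_injective hMa)
  have hMcard : Nat.card ↥(Zv a ⊓ Zv a₁ : Subgroup G) = 4 := by
    have := hN.card_inf h ha₁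
    rw [show Nat.card ↥(vC a) = 2 from hC a] at this
    exact this
  have hcaM : Cx a ≤ Zv a ⊓ Zv a₁ := Cx_le_inf h ha₁
  have hclM : Cx a₁ ≤ Zv a ⊓ Zv a₁ := by
    have := Cx_le_inf h ha₁.symm
    rwa [inf_comm] at this
  have hcomm : ∀ u ∈ Cx a, ∀ v ∈ Cx a₁, u * v = v * u := fun u hu v hv =>
    Zv_comm0 hB (hcaM hu).1 (hclM hv).1
  have hMeq : Cx a ⊔ Cx a₁ = Zv a ⊓ Zv a₁ := by
    apply Subgroup.eq_of_le_of_card_ge (sup_le hcaM hclM)
    rw [card_sup_of_commute hcomm (Cx_inf_Cx hB ha₁), hC a, hC a₁, hMcard]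
  -- a non-trivial element of `vR a a₁`
  have hR2 := hN.card_R a₁ ha₁
  obtain ⟨r, hr⟩ := ((Nat.card_eq_two_iff' (1 : ↥(vR a a₁))).1 hR2).exists
  have hr1 : (r : G) ≠ 1 := fun h1 => hr (Subtype.ext h1)
  have hrM : (r : G) ∈ Cx a ⊔ Cx a₁ := by
    rw [hMeq]
    have := hN.inf_Z a₁ ha₁
    show (r : G) ∈ vertexZ 2 a ⊓ vertexZ 2 a₁
    rw [this]
    exact Subgroup.mem_sup_right r.2
  obtain ⟨α, hα, β, hβ, hαβ⟩ := (mem_sup_of_commute hcomm).1 hrM
  rcases mem_Cx0 hC hβ with rfl | rfl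
  · exfalso
    rw [mul_one] at hαβ
    apply hr1
    have h1 : (r : G) ∈ vC a ⊓ vW a := by
      refine ⟨?_, hN.R_le_W a₁ ha₁ r.2⟩
      rw [hαβ]
      exact hα
    rw [hN.disj, Subgroup.mem_bot] at h1
    exact h1
  · rcases mem_Cx0 hC hα with rfl | rfl
    · left
      rw [one_mul] at hαβ
      rw [← hαβ]
      exact r.2
    · right
      rw [← hαβ]
      exact r.2

/-- transport along conjugation: membership in `vR` -/
theorem conj_mem_vR (h : Pair P₁ P₂ (P₁ ⊓ P₂)) (g : G) {x y : CosetVertex P₁ P₂} {z : G}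
    (hz : z ∈ vR x y) : g * z * g⁻¹ ∈ vR (g • x) (g • y) := by
  rw [vR_smul h g x y]
  exact ⟨z, hz, rfl⟩

/-- case `ε = 0` -/
theorem eps0_of (h : Pair P₁ P₂ (P₁ ⊓ P₂)) (hC : ∀ x : CosetVertex P₁ P₂, Nat.card ↥(Cx x) = 2)
    (hN : ∀ y : CosetVertex P₁ P₂, Flat y → Nat1 y)
    (h0 : ∀ y l : CosetVertex P₁ P₂, Flat y → (cosetGraph P₁ P₂).Adj y l → cv l ∈ vR y l) :
    Eps0 P₁ P₂ := by
  have hB := base_of_pair h
  intro s l hs hl
  have hQ : Qv l ≤ MulAction.stabilizer G s ⊓ MulAction.stabilizer G l :=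
    fun q hq => ⟨hB.Q_le_G_adj hl.symm hq, hB.Q_le_G l hq⟩
  have h1 : ⁅Zv s, Qv l⁆ ≤ vR s l := Subgroup.commutator_mono le_rfl hQ
  refine h1.trans ?_
  intro z hz
  have hR2 := (hN s hs).card_R l hl
  rcases mem_of_card_two hR2 (h0 s l hs hl) (cv0_ne_one hC l) hz with rfl | rfl
  · exact Subgroup.one_mem _
  · exact (cv0_mem hC l).2

/-- case `ε = 1` -/
theorem fs1_of (h : Pair P₁ P₂ (P₁ ⊓ P₂)) {n : ℕ} (hn : 2 ≤ n) {a a' : CosetVertex P₁ P₂}
    (hc : CritPair P₁ P₂ n a a') (hf : Flat a)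
    (hC : ∀ x : CosetVertex P₁ P₂, Nat.card ↥(Cx x) = 2)
    (hN : ∀ y : CosetVertex P₁ P₂, Flat y → Nat1 y)
    (h1 : ∀ y l : CosetVertex P₁ P₂, Flat y → (cosetGraph P₁ P₂).Adj y l →
      cv y * cv l ∈ vR y l) :
    FS1 P₁ P₂ n := by
  have hB := base_of_pair h
  have hbel := hc.below
  -- `vR y l = {1, c_y c_l}`
  have hne1 : ∀ y l : CosetVertex P₁ P₂, (cosetGraph P₁ P₂).Adj y l → cv y * cv l ≠ 1 := by
    intro y l hl he
    apply cv0_ne_adj hC hB hl
    have : cv y = (cv l)⁻¹ := eq_inv_of_mul_eq_one_left he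
    rw [this, cv0_inv hC hB]
  have hRmem : ∀ y l : CosetVertex P₁ P₂, Flat y → (cosetGraph P₁ P₂).Adj y l → ∀ z ∈ vR y l,
      z = 1 ∨ z = cv y * cv l := by
    intro y l hy hl z hz
    exact mem_of_card_two ((hN y hy).card_R l hl) (h1 y l hy hl) (hne1 y l hl) hz
  -- `rel_A`
  have relA : ∀ y l l' l'' : CosetVertex P₁ P₂, Flat y → (cosetGraph P₁ P₂).Adj y l →
      (cosetGraph P₁ P₂).Adj y l' → (cosetGraph P₁ P₂).Adj y l'' → l ≠ l' → l ≠ l'' → l' ≠ l'' →
      cv y = cv l * cv l' * cv l'' := by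
    intro y l l' l'' hy hl hl' hl'' n1 n2 n3
    have N := hN y hy
    have hyZ : cv y ∈ Zv y := cv0_mem_Zv hC y
    have hlZ : cv l ∈ Zv y := cv0_mem_Zv_adj hC h hl.symm
    have hl'Z : cv l' ∈ Zv y := cv0_mem_Zv_adj hC h hl'.symm
    have hr'' : cv y * cv l'' ∈ vR y l ⊔ vR y l' := by
      rw [← N.W_eq l l' hl hl' n1]
      exact N.R_le_W l'' hl'' (h1 y l'' hy hl'')
    obtain ⟨s, hs, s', hs', hss'⟩ := (mem_sup_of_commute (vR_comm h y l l')).1 hr''
    have key : cv y * cv l'' = cv y * cv l * (cv y * cv l') := by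
      rcases hRmem y l hy hl s hs with rfl | rfl <;> rcases hRmem y l' hy hl' s' hs' with rfl | rfl
      · exfalso
        rw [mul_one] at hss'
        exact hne1 y l'' hl'' hss'
      · exfalso
        rw [one_mul] at hss'
        have hm : cv y * cv l'' ∈ vR y l' ⊓ vR y l'' := ⟨hss' ▸ hs', h1 y l'' hy hl''⟩
        rw [N.R_disj l' l'' hl' hl'' n3, Subgroup.mem_bot] at hm
        exact hne1 y l'' hl'' hm
      · exfalso
        rw [mul_one] at hss'
        have hm : cv y * cv l'' ∈ vR y l ⊓ vR y l'' := ⟨hss' ▸ hs, h1 y l'' hy hl''⟩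
        rw [N.R_disj l l'' hl hl'' n2, Subgroup.mem_bot] at hm
        exact hne1 y l'' hl'' hm
      · exact hss'
    -- algebra in the elementary abelian group `Z_y`
    have e0 : cv l'' = cv l * (cv y * cv l') := by
      rw [mul_assoc (cv y) (cv l)] at key
      exact mul_left_cancel key
    have c1 : cv y * cv l' = cv l' * cv y := Zv_comm0 hB hyZ hl'Z
    have sq : (cv l * cv l') * (cv l * cv l') = 1 := hB.Z_sq y _ ((Zv y).mul_mem hlZ hl'Z)
    symm
    calc cv l * cv l' * cv l'' = cv l * cv l' * (cv l * (cv y * cv l')) := by rw [e0]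
      _ = cv l * cv l' * (cv l * (cv l' * cv y)) := by rw [c1]
      _ = (cv l * cv l') * (cv l * cv l') * cv y := by group
      _ = cv y := by rw [sq, one_mul]
  -- `noncrit_L`
  have noncrit : ∀ l w : CosetVertex P₁ P₂, ¬ Flat l → (cosetGraph P₁ P₂).dist l w ≤ n →
      Zv l ≤ Qv w := by
    intro l w hnl hd
    by_contra hcon
    have hdn : (cosetGraph P₁ P₂).dist l w = n := by
      by_contra hne
      exact hcon (hbel l w (by omega))
    have hcl : CritPair P₁ P₂ n l w := ⟨hbel, hdn, hcon⟩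
    obtain ⟨p, hp, hp0, hpn⟩ := exists_crit_ends hB hcl
    have ha₁ : (cosetGraph P₁ P₂).Adj l (p 1) := by
      have := hp.1 0 (by omega)
      rwa [hp0] at this
    have hy₁ : (cosetGraph P₁ P₂).Adj w (p (n - 1)) := by
      have := hp.1 (n - 1) (by omega)
      have e : n - 1 + 1 = n := by omega
      rw [e, hpn] at this
      exact this.symm
    have hdd : (cosetGraph P₁ P₂).dist (p 1) (p (n - 1)) + 2 = n := by
      rw [dist_crit hB hbel hp (by omega) (by omega)]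
      omega
    obtain ⟨m, hm, hm1, -⟩ := cubic_of_base hB l (p 1) (p 1)
    have hfm : Flat m := by
      by_contra hnm
      exact hnl ((flat_iff hB hf hm).2 hnm)
    have hRC := (vR_eq_vC_of_not_flat h hcl hn ha₁ hy₁ hdd hm hm1 hnl).1
    have hmem : cv m * cv l ∈ Cx l := by
      have := h1 m l hfm hm.symm
      rw [hRC] at this
      exact this
    rcases mem_Cx0 hC hmem with he | he
    · exact hne1 m l hm.symm he
    · apply cv0_ne_one hC m
      have : cv m * cv l = 1 * cv l := by rw [one_mul]; exact he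
      exact mul_right_cancel this
  refine ⟨relA, ?_, ?_, noncrit⟩
  · -- `Z_gen`
    intro y hy
    have N := hN y hy
    obtain ⟨l, hl⟩ := exists_adj y
    obtain ⟨l', l'', hl', hl'', n1, n2, n3, -⟩ := exists_three_nbrs hB hl
    set K : Subgroup G := Subgroup.closure {g : G | ∃ l, (cosetGraph P₁ P₂).Adj y l ∧ g = cv l}
      with hK
    have hmemK : ∀ m, (cosetGraph P₁ P₂).Adj y m → cv m ∈ K :=
      fun m hm => Subgroup.subset_closure ⟨m, hm, rfl⟩
    have hyK : cv y ∈ K := by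
      rw [relA y l l' l'' hy hl hl' hl'' (Ne.symm n1) (Ne.symm n2) n3]
      exact K.mul_mem (K.mul_mem (hmemK l hl) (hmemK l' hl')) (hmemK l'' hl'')
    have hRK : ∀ m, (cosetGraph P₁ P₂).Adj y m → vR y m ≤ K := by
      intro m hm z hz
      rcases hRmem y m hy hm z hz with rfl | rfl
      · exact K.one_mem
      · exact K.mul_mem hyK (hmemK m hm)
    have hCK : vC y ≤ K := Cx_le_of_cv0 hC hyK
    show vertexZ 2 y ≤ K
    rw [← N.sup, N.W_eq l l' hl hl' (Ne.symm n1)]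
    exact sup_le hCK (sup_le (hRK l hl) (hRK l' hl'))
  · -- `rform`
    intro p hp hp0
    have hcp := critPair_of_crit hB hbel hp
    have hx : (cosetGraph P₁ P₂).Adj (p 0) (p 1) := hp.1 0 (by omega)
    have hy : (cosetGraph P₁ P₂).Adj (p n) (p (n - 1)) := by
      have := hp.1 (n - 1) (by omega)
      have e : n - 1 + 1 = n := by omega
      rw [e] at this
      exact this.symm
    have hdx : (cosetGraph P₁ P₂).dist (p 1) (p n) + 1 = n := by
      rw [dist_crit hB hbel hp (by omega) (le_refl n)]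
      omega
    have hdy : (cosetGraph P₁ P₂).dist (p 0) (p (n - 1)) + 1 = n := by
      rw [dist_crit hB hbel hp (by omega) (by omega)]
      omega
    have hReq := hcp.vR_eq h (by omega) hx hdx hy hdy
    have hpn : Flat (p n) := by
      by_contra hnf
      have hd : (cosetGraph P₁ P₂).dist (p n) (p 0) ≤ n := by
        rw [SimpleGraph.dist_comm, hcp.dist]
      exact (hcp.symm h (by omega)).crit (noncrit (p n) (p 0) hnf hd)
    have hm : cv (p 0) * cv (p 1) ∈ vR (p n) (p (n - 1)) := by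
      rw [← hReq]
      exact h1 (p 0) (p 1) hp0 hx
    rcases hRmem (p n) (p (n - 1)) hpn hy _ hm with he | he
    · exact absurd he (hne1 (p 0) (p 1) hx)
    · exact he

/-- **[D-F6]** the dichotomy `ε = 0` / `ε = 1` -/
theorem flat_eps (h : Pair P₁ P₂ (P₁ ⊓ P₂)) {n : ℕ} (hn : 2 ≤ n) {a a' : CosetVertex P₁ P₂}
    (hc : CritPair P₁ P₂ n a a') (hf : Flat a) (S : FS P₁ P₂) :
    Eps0 P₁ P₂ ∨ FS1 P₁ P₂ n := by
  have hB := base_of_pair h
  have hC := S.cardC
  have hN : ∀ y : CosetVertex P₁ P₂, Flat y → Nat1 y := fun y hy => flat_nat1 h hn hc hf hy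
  obtain ⟨a₁, ha₁⟩ := exists_adj a
  rcases vR_gen_cases h hC (hN a hf) ha₁ with h0 | h1
  · left
    apply eps0_of h hC hN
    intro y l hy hl
    obtain ⟨g, rfl, rfl⟩ := edge_eq_smul hB hf ha₁ hy hl
    rw [cv0_smul hC hB]
    exact conj_mem_vR h g h0
  · right
    apply fs1_of h hn hc hf hC hN
    intro y l hy hl
    obtain ⟨g, rfl, rfl⟩ := edge_eq_smul hB hf ha₁ hy hl
    rw [cv0_smul hC hB, cv0_smul hC hB]
    have e : g * cv a * g⁻¹ * (g * cv a₁ * g⁻¹) = g * (cv a * cv a₁) * g⁻¹ := by group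
    rw [e]
    exact conj_mem_vR h g h1

end Cfsg.Agent.Lib.Helper26.AmalDF6
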