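import Mathlib
import Cfsg.Prelude.Def_OddOrderLocal
import Cfsg.Agent.Lib.Helper55.Cores
import Cfsg.Agent.Lib.Helper49.RankOneCyclic

/-!
# The cores `O_q(H)` of a nilpotent subgroup `H` of a finite group `G`, as subgroups of `G`
(modules [NB] and [CYC] for Bender–Glauberman Theorem 15.7)
-/

set_option autoImplicit false

namespace Cfsg.Agent.Lib.Helper26.NilpCore

open Cfsg Cfsg.Agent.Lib.Helper55

open scoped commutatorElement

theorem dvd_of_forall_prime_pow {n m : ℕ} (hn : n ≠ 0) (hm : m ≠ 0)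
    (h : ∀ q : ℕ, q.Prime → q ^ n.factorization q ∣ m) : n ∣ m :=
  (Nat.factorization_prime_le_iff_dvd hn hm).1
    (fun q hq => (hq.pow_dvd_iff_le_factorization hm).1 (h q hq))

section abstract

variable {K : Type*} [Group K]

/-- in a nilpotent finite group the Sylow `q`-subgroup is `O_q` -/
theorem sylow_eq_pCore [Finite K] (hK : Group.IsNilpotent K) (q : ℕ) [Fact q.Prime]
    (S : Sylow q K) : (S : Subgroup K) = pCore q K := by
  haveI := hK
  have hSn : (S : Subgroup K).Normal := inferInstance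
  exact le_antisymm (le_pCore hSn S.2) (pCore_le_sylow S)

theorem card_pCore [Finite K] (hK : Group.IsNilpotent K) (q : ℕ) [Fact q.Prime] :
    Nat.card ↥(pCore q K) = q ^ (Nat.card K).factorization q := by
  have S : Sylow q K := default
  rw [← sylow_eq_pCore hK q S]
  exact S.card_eq_multiplicity

/-- a subgroup of a nilpotent finite group containing every `O_q` is everything -/
theorem eq_top_of_forall_pCore_le [Finite K] (hK : Group.IsNilpotent K) (D : Subgroup K)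
    (h : ∀ q : ℕ, q.Prime → pCore q K ≤ D) : D = ⊤ := by
  apply Subgroup.eq_top_of_le_card
  apply Nat.le_of_dvd Nat.card_pos
  apply dvd_of_forall_prime_pow Nat.card_pos.ne' Nat.card_pos.ne'
  intro q hq
  haveI : Fact q.Prime := ⟨hq⟩
  rw [← card_pCore hK q]
  exact Subgroup.card_dvd_of_le (h q hq)

theorem commute_of_normal_of_coprime [Finite K] {A B : Subgroup K} (hA : A.Normal) (hB : B.Normal)
    (hcop : (Nat.card A).Coprime (Nat.card B)) {a b : K} (ha : a ∈ A) (hb : b ∈ B) :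
    a * b = b * a :=
  (Subgroup.commute_of_normal_of_disjoint A B hA hB
    (Subgroup.disjoint_of_coprime_natCard hcop) a b ha hb).eq

/-- `Q ∩ K' ≤ Q'` for a direct factor `Q` of `K` -/
theorem inf_commutator_le_of_direct {Q C : Subgroup K} (hQ : Q.Normal) (hC : C.Normal)
    (hdis : Q ⊓ C = ⊥) (hsup : Q ⊔ C = ⊤) :
    Q ⊓ (⁅(⊤ : Subgroup K), (⊤ : Subgroup K)⁆ : Subgroup K) ≤ ⁅Q, Q⁆ := by
  haveI := hQ
  haveI := hC
  have hcomm : ∀ a ∈ Q, ∀ c ∈ C, ⁅a, c⁆ = 1 := by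
    intro a ha c hc
    have h1 : ⁅a, c⁆ ∈ ⁅Q, C⁆ := Subgroup.commutator_mem_commutator ha hc
    have h2 : ⁅a, c⁆ ∈ Q ⊓ C := Subgroup.commutator_le_inf Q C h1
    rwa [hdis, Subgroup.mem_bot] at h2
  have hcomm' : ∀ c ∈ C, ∀ a ∈ Q, ⁅c, a⁆ = 1 := by
    intro c hc a ha
    rw [← commutatorElement_inv, hcomm a ha c hc, inv_one]
  have hRn : (⁅Q, Q⁆ ⊔ ⁅C, C⁆ : Subgroup K).Normal := inferInstance
  have hQR : ⁅Q, Q⁆ ≤ ⁅Q, Q⁆ ⊔ ⁅C, C⁆ := le_sup_left
  have hCR : ⁅C, C⁆ ≤ ⁅Q, Q⁆ ⊔ ⁅C, C⁆ := le_sup_right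
  have hdecomp : ∀ g : K, ∃ a ∈ Q, ∃ c ∈ C, a * c = g := by
    intro g
    have : g ∈ Q ⊔ C := by rw [hsup]; exact Subgroup.mem_top g
    exact Subgroup.mem_sup_of_normal_right.1 this
  have h1 : ∀ a ∈ Q, ∀ g : K, ⁅a, g⁆ ∈ ⁅Q, Q⁆ ⊔ ⁅C, C⁆ := by
    intro a ha g
    obtain ⟨a', ha', c', hc', rfl⟩ := hdecomp g
    rw [commutatorElement_mul_right_eq_mul_conj, hcomm a ha c' hc', mul_one,
      mul_inv_cancel_right]
    exact hQR (Subgroup.commutator_mem_commutator ha ha')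
  have h2 : ∀ c ∈ C, ∀ g : K, ⁅c, g⁆ ∈ ⁅Q, Q⁆ ⊔ ⁅C, C⁆ := by
    intro c hc g
    obtain ⟨a', ha', c', hc', rfl⟩ := hdecomp g
    rw [commutatorElement_mul_right_eq_mul_conj, hcomm' c hc a' ha', one_mul]
    exact hRn.conj_mem _ (hCR (Subgroup.commutator_mem_commutator hc hc')) a'
  have htop : (⁅(⊤ : Subgroup K), (⊤ : Subgroup K)⁆ : Subgroup K) ≤ ⁅Q, Q⁆ ⊔ ⁅C, C⁆ := by
    rw [Subgroup.commutator_le]
    intro g₁ _ g₂ _
    obtain ⟨a, ha, c, hc, rfl⟩ := hdecomp g₁
    rw [commutatorElement_mul_left_eq_conj_mul]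
    exact Subgroup.mul_mem _ (hRn.conj_mem _ (h2 c hc g₂) a) (h1 a ha g₂)
  rintro y ⟨hyQ, hy⟩
  have hy' : y ∈ ⁅Q, Q⁆ ⊔ ⁅C, C⁆ := htop hy
  rw [Subgroup.mem_sup_of_normal_right] at hy'
  obtain ⟨u, hu, v, hv, rfl⟩ := hy'
  have huQ : u ∈ Q := Subgroup.commutator_le_left Q Q hu
  have hvC : v ∈ C := Subgroup.commutator_le_left C C hv
  have hvQ : v ∈ Q := by
    have : v = u⁻¹ * (u * v) := by group
    rw [this]
    exact Q.mul_mem (Q.inv_mem huQ) hyQ
  have hv1 : v = 1 := by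
    have : v ∈ Q ⊓ C := ⟨hvQ, hvC⟩
    rwa [hdis, Subgroup.mem_bot] at this
  rw [hv1, mul_one]
  exact hu

end abstract

variable {G : Type*} [Group G] [Finite G]

/-- NB1 -/
theorem exists_sylow_eq_pCore (H : Subgroup G) (hH : Group.IsNilpotent H) (q : ℕ) [Fact q.Prime] :
    ∃ S : Sylow q ↥H, (S : Subgroup ↥H) = Cfsg.pCore q ↥H :=
  ⟨default, sylow_eq_pCore hH q default⟩

/-- NB1' -/
theorem le_map_pCore_of_isPGroup (H : Subgroup G) (hH : Group.IsNilpotent H) (q : ℕ)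
    [Fact q.Prime] {B : Subgroup G} (hBH : B ≤ H) (hB : IsPGroup q B) :
    B ≤ (Cfsg.pCore q ↥H).map H.subtype := by
  have hB' : IsPGroup q ↥(B.subgroupOf H) := hB.comap_subtype
  obtain ⟨S, hS⟩ := hB'.exists_le_sylow
  rw [sylow_eq_pCore hH q S] at hS
  intro b hb
  exact ⟨⟨b, hBH hb⟩, hS (Subgroup.mem_subgroupOf.2 hb), rfl⟩

/-- NB2 -/
theorem le_of_forall_map_pCore_le (H : Subgroup G) (hH : Group.IsNilpotent H) {C : Subgroup G}
    (h : ∀ q : ℕ, q.Prime → (Cfsg.pCore q ↥H).map H.subtype ≤ C) : H ≤ C := by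
  have htop : C.subgroupOf H = ⊤ := by
    apply eq_top_of_forall_pCore_le hH
    intro q hq x hx
    rw [Subgroup.mem_subgroupOf]
    exact h q hq ⟨x, hx, rfl⟩
  intro x hx
  have : (⟨x, hx⟩ : ↥H) ∈ C.subgroupOf H := by rw [htop]; exact Subgroup.mem_top _
  exact Subgroup.mem_subgroupOf.1 this

/-- NB3 -/
theorem map_pCore_ne_bot (H : Subgroup G) (hH : Group.IsNilpotent H) (q : ℕ) [Fact q.Prime]
    (hq : q ∣ Nat.card H) : (Cfsg.pCore q ↥H).map H.subtype ≠ ⊥ := by
  intro h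
  rw [Subgroup.map_eq_bot_iff_of_injective _ H.subtype_injective] at h
  have S : Sylow q ↥H := default
  have hS := sylow_eq_pCore hH q S
  rw [h] at hS
  exact S.ne_bot_of_dvd_card hq hS

/-- NB4 -/
theorem commute_of_mem_map_pCore (H : Subgroup G) (q r : ℕ) [hq : Fact q.Prime]
    [hr : Fact r.Prime] (hqr : q ≠ r) {a b : G} (ha : a ∈ (Cfsg.pCore q ↥H).map H.subtype)
    (hb : b ∈ (Cfsg.pCore r ↥H).map H.subtype) : a * b = b * a := by
  obtain ⟨a', ha', rfl⟩ := ha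
  obtain ⟨b', hb', rfl⟩ := hb
  obtain ⟨m, hm⟩ := (isPGroup_pCore (G := ↥H) q).exists_card_eq
  obtain ⟨n, hn⟩ := (isPGroup_pCore (G := ↥H) r).exists_card_eq
  have hcop : (Nat.card ↥(pCore q ↥H)).Coprime (Nat.card ↥(pCore r ↥H)) := by
    rw [hm, hn]
    exact Nat.Coprime.pow m n ((Nat.coprime_primes hq.out hr.out).2 hqr)
  have := commute_of_normal_of_coprime (pCore_normal' q) (pCore_normal' r) hcop ha' hb'
  exact congrArg Subtype.val this

/-- NB5 -/
theorem commute_of_mem_map_pCore_pPrimeCore (H : Subgroup G) (p : ℕ) [Fact p.Prime] {a b : G}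
    (ha : a ∈ (Cfsg.pCore p ↥H).map H.subtype) (hb : b ∈ (Cfsg.pPrimeCore p ↥H).map H.subtype) :
    a * b = b * a := by
  obtain ⟨a', ha', rfl⟩ := ha
  obtain ⟨b', hb', rfl⟩ := hb
  obtain ⟨m, hm⟩ := (isPGroup_pCore (G := ↥H) p).exists_card_eq
  have hcop : (Nat.card ↥(pCore p ↥H)).Coprime (Nat.card ↥(pPrimeCore p ↥H)) := by
    rw [hm]
    exact Nat.Coprime.pow_left m (card_pPrimeCore_coprime (G := ↥H) p).symm
  have := commute_of_normal_of_coprime (pCore_normal' p) (pPrimeCore_normal' p) hcop ha' hb'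
  exact congrArg Subtype.val this

/-- NB6 -/
theorem map_pCore_inf_commutator_le (H : Subgroup G) (hH : Group.IsNilpotent H) (q : ℕ)
    [Fact q.Prime] :
    (Cfsg.pCore q ↥H).map H.subtype ⊓ ⁅H, H⁆ ≤
      ⁅(Cfsg.pCore q ↥H).map H.subtype, (Cfsg.pCore q ↥H).map H.subtype⁆ := by
  have hQn : (pCore q ↥H).Normal := pCore_normal' q
  have hCn : (pPrimeCore q ↥H).Normal := pPrimeCore_normal' q
  obtain ⟨m, hm⟩ := (isPGroup_pCore (G := ↥H) q).exists_card_eq
  have hcop : (Nat.card ↥(pCore q ↥H)).Coprime (Nat.card ↥(pPrimeCore q ↥H)) := by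
    rw [hm]
    exact Nat.Coprime.pow_left m (card_pPrimeCore_coprime (G := ↥H) q).symm
  have hdis : pCore q ↥H ⊓ pPrimeCore q ↥H = ⊥ :=
    (Subgroup.disjoint_of_coprime_natCard hcop).eq_bot
  have hsup : pCore q ↥H ⊔ pPrimeCore q ↥H = ⊤ := by
    apply eq_top_of_forall_pCore_le hH
    intro r hr
    haveI : Fact r.Prime := ⟨hr⟩
    by_cases hrq : r = q
    · subst hrq
      exact le_sup_left
    · refine le_trans ?_ le_sup_right
      apply le_pPrimeCore (pCore_normal' r)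
      obtain ⟨n, hn⟩ := (isPGroup_pCore (G := ↥H) r).exists_card_eq
      rw [hn]
      exact Nat.Coprime.pow_left n ((Nat.coprime_primes hr (Fact.out : q.Prime)).2 hrq)
  have key := inf_commutator_le_of_direct hQn hCn hdis hsup
  have hHH : ⁅H, H⁆ =
      (⁅(⊤ : Subgroup ↥H), (⊤ : Subgroup ↥H)⁆ : Subgroup ↥H).map H.subtype := by
    rw [← Subgroup.map_subtype_commutator, commutator_def]
  rw [hHH, ← Subgroup.map_commutator, ← Subgroup.map_inf _ _ _ H.subtype_injective]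
  exact Subgroup.map_mono key

/-- NB7 -/
theorem normalizer_le_normalizer_map_pCore (H : Subgroup G) (hH : Group.IsNilpotent H) (q : ℕ)
    [Fact q.Prime] :
    Subgroup.normalizer (H : Set G) ≤
      Subgroup.normalizer (((Cfsg.pCore q ↥H).map H.subtype : Subgroup G) : Set G) := by
  set Q : Subgroup G := (Cfsg.pCore q ↥H).map H.subtype with hQ
  have hQH : Q ≤ H := Subgroup.map_subtype_le _
  have hQq : IsPGroup q ↥Q := (isPGroup_pCore (G := ↥H) q).map H.subtype
  -- conjugation by an element of `N_G(H)` maps `Q` into `Q`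
  have hconj : ∀ g ∈ Subgroup.normalizer (H : Set G), ∀ a ∈ Q, g * a * g⁻¹ ∈ Q := by
    intro g hg a ha
    have hle : Q.map (MulAut.conj g).toMonoidHom ≤ H := by
      rintro _ ⟨x, hx, rfl⟩
      rw [Subgroup.mem_set_normalizer_iff] at hg
      have := (hg x).1 (hQH hx)
      simpa [MulAut.conj_apply] using this
    have hp : IsPGroup q ↥(Q.map (MulAut.conj g).toMonoidHom) := hQq.map _
    have := le_map_pCore_of_isPGroup H hH q hle hp
    apply this
    exact ⟨a, ha, by simp [MulAut.conj_apply]⟩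
  intro g hg
  rw [Subgroup.mem_set_normalizer_iff]
  intro a
  constructor
  · exact hconj g hg a
  · intro h
    have := hconj g⁻¹ (Subgroup.inv_mem _ hg) _ h
    simpa [mul_assoc] using this

/-- [CYC] -/
theorem isCyclic_of_comm_of_pRankLE_one {A : Type*} [Group A] [Finite A]
    (hodd : Odd (Nat.card A)) (hc : ∀ a b : A, a * b = b * a)
    (hr : ∀ q : ℕ, q.Prime → Cfsg.PRankLE q 1 A) : IsCyclic A := by
  letI : CommGroup A := { (inferInstance : Group A) with mul_comm := hc }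
  apply IsCyclic.of_exponent_eq_card
  apply Nat.dvd_antisymm Group.exponent_dvd_nat_card
  apply dvd_of_forall_prime_pow Nat.card_pos.ne' Monoid.exponent_ne_zero_of_finite
  intro q hq
  haveI : Fact q.Prime := ⟨hq⟩
  by_cases hqA : q ∣ Nat.card A
  · have hq2 : q ≠ 2 := by
      rintro rfl
      exact (Nat.not_even_iff_odd.2 hodd) (even_iff_two_dvd.2 hqA)
    have S : Sylow q A := default
    have hrk : Cfsg.PRankLE q 1 ↥(S : Subgroup A) := by
      intro B hBc hBq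
      have h1 := hr q hq (B.map (S : Subgroup A).subtype) ?_ ?_
      · rwa [Subgroup.card_map_of_injective (Subgroup.subtype_injective _)] at h1
      · exact ⟨⟨fun a b => Subtype.ext (hc _ _)⟩⟩
      · rintro _ ⟨b, hb, rfl⟩
        have := hBq b hb
        rw [← map_pow, this, map_one]
    haveI : IsCyclic ↥(S : Subgroup A) :=
      Cfsg.Agent.Lib.Helper49.isCyclic_of_pRankLE_one hq2 S.2 hrk
    obtain ⟨g, hg⟩ := IsCyclic.exists_generator (α := ↥(S : Subgroup A))
    have hord : orderOf g = Nat.card ↥(S : Subgroup A) :=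
      orderOf_eq_card_of_forall_mem_zpowers hg
    rw [← S.card_eq_multiplicity, ← hord, ← Subgroup.orderOf_coe]
    exact Monoid.order_dvd_exponent _
  · rw [Nat.factorization_eq_zero_of_not_dvd hqA, pow_zero]
    exact one_dvd _

end Cfsg.Agent.Lib.Helper26.NilpCore
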