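import Mathlib
import Cfsg.Agent.Lib.Helper30.BSW.Defs
import Cfsg.Agent.Lib.Helper78.CharOrtho
import Cfsg.Agent.Lib.Helper84.BSWOuter
import Cfsg.Agent.Lib.Helper51.BSWValues
import Cfsg.Agent.Lib.Helper87.BSWF1b

set_option autoImplicit false
set_option linter.style.haveILetI false

/-!
# BSW module [F1c] (helper26): the normalizer of `Q = C(x₀)` is large

Pure counting core `card_le_mul_normalizer` and the hypothesis-taking form
`pos_normalizer_card_of` of `pos_normalizer_card` (module [F1c] of helper30's S3282 project).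
-/

open Cfsg Cfsg.Agent.Lib.Helper30.BSW

namespace Cfsg.Agent.Lib.Helper26.BSWF1c

variable {G : Type*} [Group G] {t s : G} {K : Subgroup G}

theorem conj_mem_centralizer_singleton_iff (n h y : G) :
    n * h * n⁻¹ ∈ Subgroup.centralizer ({n * y * n⁻¹} : Set G) ↔
      h ∈ Subgroup.centralizer ({y} : Set G) := by
  rw [Subgroup.mem_centralizer_singleton_iff, Subgroup.mem_centralizer_singleton_iff]
  constructor
  · intro H
    have : n * (h * y) * n⁻¹ = n * (y * h) * n⁻¹ := by
      have e1 : n * (h * y) * n⁻¹ = n * h * n⁻¹ * (n * y * n⁻¹) := by group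
      have e2 : n * (y * h) * n⁻¹ = n * y * n⁻¹ * (n * h * n⁻¹) := by group
      rw [e1, e2, H]
    exact mul_left_cancel (mul_right_cancel this)
  · intro H
    have e1 : n * h * n⁻¹ * (n * y * n⁻¹) = n * (h * y) * n⁻¹ := by group
    have e2 : n * y * n⁻¹ * (n * h * n⁻¹) = n * (y * h) * n⁻¹ := by group
    rw [e1, e2, H]

/-- Counting core: if the nonidentity elements of `Q` all have centralizer `Q` and all their
conjugates lie in a set `O` with at most `(|Q|-1) n` elements, then `|G| ≤ n |N(Q)|`. -/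
theorem card_le_mul_normalizer [Finite G] (Q : Subgroup G) (O : Set G) (m n : ℕ) (hm : 0 < m)
    (hQm : Nat.card Q = m + 1)
    (hO : Nat.card O ≤ m * n)
    (hconj : ∀ g : G, ∀ y ∈ Q, y ≠ 1 → g * y * g⁻¹ ∈ O)
    (hcent : ∀ y ∈ Q, y ≠ 1 → Subgroup.centralizer ({y} : Set G) = Q) :
    Nat.card G ≤ n * Nat.card (Subgroup.normalizer (Q : Set G)) := by
  classical
  haveI : Fintype G := Fintype.ofFinite G
  set N := Subgroup.normalizer (Q : Set G) with hN
  let Q1 : Finset G := Finset.univ.filter (fun y => y ∈ Q ∧ y ≠ 1)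
  let S : Finset (G × G) := Finset.univ ×ˢ Q1
  let f : G × G → G := fun p => p.1 * p.2 * p.1⁻¹
  let OF : Finset G := Finset.univ.filter (fun y => y ∈ O)
  let NF : Finset G := Finset.univ.filter (fun y => y ∈ N)
  have hQ1 : Q1.card = m := by
    have h1 : (Finset.univ.filter (fun y : G => y ∈ Q)).card = m + 1 := by
      rw [← hQm, Nat.card_eq_fintype_card, Fintype.card_subtype]
    have h2 : Q1 = (Finset.univ.filter (fun y : G => y ∈ Q)).erase 1 := by
      ext y
      simp only [Q1, Finset.mem_filter, Finset.mem_univ, true_and, Finset.mem_erase]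
      tauto
    rw [h2, Finset.card_erase_of_mem (by simp [Q.one_mem]), h1]
    rfl
  have hS : S.card = Nat.card G * m := by
    rw [Finset.card_product, Finset.card_univ, hQ1, Nat.card_eq_fintype_card]
  have hOF : OF.card = Nat.card O := by
    rw [Nat.card_eq_fintype_card, Fintype.card_subtype]
  have hNF : NF.card = Nat.card N := by
    rw [Nat.card_eq_fintype_card, Fintype.card_subtype]
  have himg : S.image f ⊆ OF := by
    intro z hz
    obtain ⟨⟨g, y⟩, hmem, rfl⟩ := Finset.mem_image.mp hz
    simp only [S, Q1, Finset.mem_product, Finset.mem_univ, true_and, Finset.mem_filter] at hmem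
    simp only [OF, Finset.mem_filter, Finset.mem_univ, true_and, f]
    exact hconj g y hmem.1 hmem.2
  have hfib : ∀ z ∈ S.image f, (S.filter (fun p => f p = z)).card ≤ Nat.card N := by
    intro z hz
    obtain ⟨⟨g, y⟩, hmem, rfl⟩ := Finset.mem_image.mp hz
    simp only [S, Q1, Finset.mem_product, Finset.mem_univ, true_and, Finset.mem_filter] at hmem
    rw [← hNF]
    apply Finset.card_le_card_of_injOn (fun p => g⁻¹ * p.1)
    · intro p hp
      have hp' := Finset.mem_filter.mp (Finset.mem_coe.mp hp)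
      obtain ⟨hpS, hpz⟩ := hp'
      simp only [S, Q1, Finset.mem_product, Finset.mem_univ, true_and, Finset.mem_filter] at hpS
      simp only [f] at hpz
      simp only [NF, Finset.coe_filter, Finset.mem_univ, true_and, Set.mem_ofPred_eq]
      rw [hN, Subgroup.mem_normalizer_iff]
      intro h
      -- y = n y' n⁻¹ with n = g⁻¹ p.1
      have hy : y = (g⁻¹ * p.1) * p.2 * (g⁻¹ * p.1)⁻¹ := by
        have : (g⁻¹ * p.1) * p.2 * (g⁻¹ * p.1)⁻¹ = g⁻¹ * (p.1 * p.2 * p.1⁻¹) * g := by group
        rw [this, hpz]; group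
      have hc1 : Subgroup.centralizer ({p.2} : Set G) = Q := hcent p.2 hpS.1 hpS.2
      have hc2 : Subgroup.centralizer ({y} : Set G) = Q := hcent y hmem.1 hmem.2
      have key := conj_mem_centralizer_singleton_iff (g⁻¹ * p.1) h p.2
      rw [← hy, hc1, hc2] at key
      exact key.symm
    · intro p hp p' hp' hpp
      have hp1 := Finset.mem_filter.mp (Finset.mem_coe.mp hp)
      have hp2 := Finset.mem_filter.mp (Finset.mem_coe.mp hp')
      have e1 : p.1 = p'.1 := mul_left_cancel hpp
      have hz1 : p.1 * p.2 * p.1⁻¹ = g * y * g⁻¹ := hp1.2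
      have hz2 : p'.1 * p'.2 * p'.1⁻¹ = g * y * g⁻¹ := hp2.2
      have e2 : p.2 = p'.2 := by
        have : p.1 * p.2 * p.1⁻¹ = p.1 * p'.2 * p.1⁻¹ := by
          rw [hz1, e1, hz2]
        exact mul_left_cancel (mul_right_cancel this)
      exact Prod.ext e1 e2
  have h1 := Finset.card_le_mul_card_image S (Nat.card N) hfib
  have h2 : (S.image f).card ≤ m * n := (Finset.card_le_card himg).trans (hOF ▸ hO)
  have h3 : Nat.card G * m ≤ (n * Nat.card N) * m := by
    calc Nat.card G * m = S.card := hS.symm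
      _ ≤ Nat.card N * (S.image f).card := h1
      _ ≤ Nat.card N * (m * n) := Nat.mul_le_mul_left _ h2
      _ = (n * Nat.card N) * m := by ring
  exact Nat.le_of_mul_le_mul_right h3 hm

/-- Module [F1c], with the outputs of [F1a] and [F1b] as hypotheses. -/
theorem pos_normalizer_card_of [Finite G] {Χ : G → ℂ} (hcl : IsClassFunction G Χ)
    (hcard : Nat.card G = 2 * Nat.card K * (2 * Nat.card K + 1) * (Nat.card K + 1))
    (hO : Nat.card {x : G // IsOuter K x ∧ Χ x = 0} = (2 * Nat.card K + 1) ^ 2 - 1)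
    {x₀ : G}
    (hQ : Nat.card (Subgroup.centralizer ({x₀} : Set G)) = 2 * Nat.card K + 1 ∧
      ∀ y ∈ Subgroup.centralizer ({x₀} : Set G), y ≠ 1 →
        IsOuter K y ∧ Χ y = 0 ∧
          Subgroup.centralizer ({y} : Set G) = Subgroup.centralizer ({x₀} : Set G)) :
    (2 * Nat.card K + 1) * Nat.card K ≤
      Nat.card (Subgroup.normalizer
        ((Subgroup.centralizer ({x₀} : Set G) : Subgroup G) : Set G)) := by
  have hk : 0 < Nat.card K := Nat.card_pos
  have key := card_le_mul_normalizer (Subgroup.centralizer ({x₀} : Set G))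
    {x : G | IsOuter K x ∧ Χ x = 0} (2 * Nat.card K) (2 * Nat.card K + 2) (by omega)
    hQ.1 ?_ ?_ ?_
  · rw [hcard] at key
    set k := Nat.card K
    set N := Nat.card (Subgroup.normalizer
        ((Subgroup.centralizer ({x₀} : Set G) : Subgroup G) : Set G))
    have : (2 * k + 1) * k * (2 * (k + 1)) ≤ N * (2 * (k + 1)) := by
      calc (2 * k + 1) * k * (2 * (k + 1)) = 2 * k * (2 * k + 1) * (k + 1) := by ring
        _ ≤ (2 * k + 2) * N := key
        _ = N * (2 * (k + 1)) := by ring
    exact Nat.le_of_mul_le_mul_right this (by omega)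
  · have : Nat.card ({x : G | IsOuter K x ∧ Χ x = 0} : Set G) =
        Nat.card {x : G // IsOuter K x ∧ Χ x = 0} := rfl
    rw [this, hO]
    have : (2 * Nat.card K + 1) ^ 2 = 2 * Nat.card K * (2 * Nat.card K + 2) + 1 := by ring
    rw [this]
    simp
  · intro g y hy hy1
    obtain ⟨ho, hv, _⟩ := hQ.2 y hy hy1
    exact ⟨Cfsg.Agent.Lib.Helper84.BSWOuter.outer_conj ho g, by rw [hcl y g, hv]⟩
  · intro y hy hy1
    exact (hQ.2 y hy hy1).2.2

/-- Module [F1c] of S3282 (statement verbatim from helper30's board post #3810). -/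
theorem pos_normalizer_card [Finite G] (h : Hyp t s K) (b : Basic t s K) (hk : 4 ≤ Nat.card K)
    {Χ : G → ℂ} (p : PartI K 1 Χ) {x₀ : G} (hx₀ : IsOuter K x₀) (hΧ : Χ x₀ = 0) :
    (2 * Nat.card K + 1) * Nat.card K ≤
      Nat.card (Subgroup.normalizer
        ((Subgroup.centralizer ({x₀} : Set G) : Subgroup G) : Set G)) := by
  have hcl : IsClassFunction G Χ := by
    haveI : Fintype G := Fintype.ofFinite G
    exact Cfsg.Agent.Lib.Helper78.isClassFunction_irr ⟨Χ, p.hirr⟩
  have hcard : Nat.card G = 2 * Nat.card K * (2 * Nat.card K + 1) * (Nat.card K + 1) := by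
    have := p.hcard
    exact_mod_cast this
  exact pos_normalizer_card_of hcl hcard (Cfsg.Agent.Lib.Helper51.BSW.pos_values h b hk p).2
    (Cfsg.Agent.Lib.Helper87.BSW.pos_Q h b hk p hx₀ hΧ)

end Cfsg.Agent.Lib.Helper26.BSWF1c
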