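import Mathlib
import Cfsg.Agent.Lib.Helper30.BSW.Defs
import Cfsg.Agent.Lib.Helper78.CharOrtho
import Cfsg.Agent.Lib.Helper79.ClassCount
import Cfsg.Agent.Lib.Helper84.BSWOuter
import Cfsg.Agent.Lib.Helper84.BSWReal
import Cfsg.Agent.Lib.Helper51.BSWValues

set_option autoImplicit false
set_option linter.style.haveILetI false

/-!
# BSW module [F2c] (helper26): the non-real outer elements for `δ = -1`

`neg_nonreal_of` is `neg_nonreal` (module [F2c] of helper30's S3282 project) with the output of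
[F2a] as hypotheses.
-/

open Cfsg Cfsg.Agent.Lib.Helper30.BSW

namespace Cfsg.Agent.Lib.Helper26.BSWF2c

open Cfsg.Agent.Lib.Helper84.BSWOuter Cfsg.Agent.Lib.Helper84.BSWReal

variable {G : Type*} [Group G] {t s : G} {K : Subgroup G}

theorem rinv_eq_zero_iff [Finite G] (x : G) :
    rinv x = 0 ↔ ∀ u : G, orderOf u = 2 → u * x * u⁻¹ ≠ x⁻¹ := by
  unfold rinv
  rw [Nat.card_eq_zero]
  constructor
  · rintro (hE | hI) u hu hux
    · exact hE.false ⟨u, hu, hux⟩
    · exact (not_finite {u : G // orderOf u = 2 ∧ u * x * u⁻¹ = x⁻¹}).elim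
  · intro H
    left
    exact ⟨fun ⟨u, hu, hux⟩ => H u hu hux⟩

theorem conj_pow_of_inverts {g x : G} (hg : g * x * g⁻¹ = x⁻¹) (n : ℕ) :
    g ^ n * x * (g ^ n)⁻¹ = if Even n then x else x⁻¹ := by
  have hg' : g * x⁻¹ * g⁻¹ = x := by
    have e : g * x⁻¹ * g⁻¹ = (g * x * g⁻¹)⁻¹ := by group
    rw [e, hg, inv_inv]
  induction n with
  | zero => simp
  | succ n ih =>
    have e : g ^ (n + 1) * x * (g ^ (n + 1))⁻¹ = g * (g ^ n * x * (g ^ n)⁻¹) * g⁻¹ := by
      rw [pow_succ']; group
    rw [e, ih]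
    by_cases hn : Even n
    · rw [if_pos hn, if_neg (by rw [Nat.even_add_one]; exact not_not.mpr hn), hg]
    · rw [if_neg hn, if_pos (by rw [Nat.even_add_one]; exact hn), hg']

theorem odd_card_centralizer [Finite G] (h : Hyp t s K) (b : Basic t s K) {x : G}
    (hx : IsOuter K x) : Odd (Nat.card (Subgroup.centralizer ({x} : Set G))) := by
  by_contra hodd
  rw [Nat.not_odd_iff_even] at hodd
  haveI : Fact (Nat.Prime 2) := ⟨Nat.prime_two⟩
  obtain ⟨u, hu⟩ := exists_prime_orderOf_dvd_card' 2 hodd.two_dvd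
  have hu' : orderOf (u : G) = 2 := by rw [Subgroup.orderOf_coe, hu]
  have hc := Subgroup.mem_centralizer_singleton_iff.mp u.2
  exact outer_not_commute_invol h b hx hu' (by rw [hc])

theorem centralizer_inv (x : G) :
    Subgroup.centralizer ({x⁻¹} : Set G) = Subgroup.centralizer ({x} : Set G) := by
  ext c
  rw [Subgroup.mem_centralizer_singleton_iff, Subgroup.mem_centralizer_singleton_iff]
  constructor
  · intro H
    have : x * (c * x⁻¹) * x = x * (x⁻¹ * c) * x := by rw [H]
    have e1 : x * (c * x⁻¹) * x = x * c := by group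
    have e2 : x * (x⁻¹ * c) * x = c * x := by group
    rw [e1, e2] at this
    exact this.symm
  · intro H
    have : x⁻¹ * (c * x) * x⁻¹ = x⁻¹ * (x * c) * x⁻¹ := by rw [H]
    have e1 : x⁻¹ * (c * x) * x⁻¹ = x⁻¹ * c := by group
    have e2 : x⁻¹ * (x * c) * x⁻¹ = c * x⁻¹ := by group
    rw [e1, e2] at this
    exact this.symm

/-- If no involution inverts the outer element `x`, then `x` is not conjugate to `x⁻¹`. -/
theorem not_isConj_inv [Finite G] (h : Hyp t s K) (b : Basic t s K) {x : G}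
    (hx : IsOuter K x) (hno : ∀ u : G, orderOf u = 2 → u * x * u⁻¹ ≠ x⁻¹) :
    ¬ IsConj x x⁻¹ := by
  intro hc
  obtain ⟨g, hg⟩ := isConj_iff.mp hc
  have hn : orderOf g ≠ 0 := (orderOf_pos g).ne'
  obtain ⟨a, m, hm, hn2⟩ := Nat.exists_eq_two_pow_mul_odd hn
  set w := g ^ m with hw
  have hwx : w * x * w⁻¹ = x⁻¹ := by
    rw [hw, conj_pow_of_inverts hg, if_neg (Nat.not_even_iff_odd.mpr hm)]
  have hw2a : w ^ (2 ^ a) = 1 := by
    rw [hw, ← pow_mul, mul_comm, ← hn2, pow_orderOf_eq_one]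
  have hw2x : w ^ 2 * x * (w ^ 2)⁻¹ = x := by
    rw [conj_pow_of_inverts hwx, if_pos even_two]
  have hw2mem : w ^ 2 ∈ Subgroup.centralizer ({x} : Set G) := by
    rw [Subgroup.mem_centralizer_singleton_iff]
    have : w ^ 2 * x * (w ^ 2)⁻¹ * w ^ 2 = x * w ^ 2 := by rw [hw2x]
    rw [← this]; group
  have hd1 : orderOf (w ^ 2) ∣ Nat.card (Subgroup.centralizer ({x} : Set G)) :=
    Subgroup.orderOf_dvd_natCard _ hw2mem
  have hd2 : orderOf (w ^ 2) ∣ 2 ^ a := by
    apply orderOf_dvd_of_pow_eq_one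
    rw [← pow_mul, mul_comm, pow_mul, hw2a, one_pow]
  have hcop : Nat.Coprime (2 ^ a) (Nat.card (Subgroup.centralizer ({x} : Set G))) :=
    Nat.Coprime.pow_left a (Nat.coprime_two_left.mpr (odd_card_centralizer h b hx))
  have h1 : orderOf (w ^ 2) = 1 := by
    have := Nat.dvd_gcd hd2 hd1
    rw [hcop] at this
    exact Nat.dvd_one.mp this
  have hw21 : w ^ 2 = 1 := orderOf_eq_one_iff.mp h1
  have hw1 : w ≠ 1 := by
    intro hw1
    rw [hw1] at hwx
    have : x = x⁻¹ := by simpa using hwx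
    apply outer_sq_ne_one h hx
    rw [pow_two]
    nth_rewrite 2 [this]
    exact mul_inv_cancel x
  haveI : Fact (Nat.Prime 2) := ⟨Nat.prime_two⟩
  exact hno w (orderOf_eq_prime hw21 hw1) hwx

/-- Module [F2c], with the output of [F2a] as hypotheses. -/
theorem neg_nonreal_of [Finite G] (h : Hyp t s K) (b : Basic t s K) (hk : 4 ≤ Nat.card K)
    {Χ : G → ℂ} (p : PartI K (-1) Χ)
    (hval : ∀ x : G, IsOuter K x → Χ x = 0 ∨ Χ x = 1)
    (hcnt : Nat.card {x : G // IsOuter K x ∧ Χ x = 0} = (2 * Nat.card K - 1) ^ 2 - 1) :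
    (∀ x : G, IsOuter K x → Χ x = 0 → ∀ y ∈ Subgroup.centralizer ({x} : Set G), y ≠ 1 →
      IsOuter K y ∧ Χ y = 0) ∧
    (∀ x : G, IsOuter K x → Χ x = 0 →
      Nat.card (Subgroup.centralizer ({x} : Set G)) = 2 * Nat.card K - 1) ∧
    (∀ x y : G, IsOuter K x → Χ x = 0 → IsOuter K y → Χ y = 0 →
      IsConj y x ∨ IsConj y x⁻¹) := by
  classical
  haveI : Fintype G := Fintype.ofFinite G
  have hcl : IsClassFunction G Χ := Cfsg.Agent.Lib.Helper78.isClassFunction_irr ⟨Χ, p.hirr⟩
  have hr : ∀ x, IsOuter K x → (rinv x : ℂ) = ((Nat.card K : ℂ) - 1) * Χ x := by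
    intro x hx
    have := p.hout x hx
    rwa [if_neg (by norm_num : ¬ ((-1 : ℤ) = 1))] at this
  -- Lemma A: no inverting involution when Χ x = 0
  have hA : ∀ x, IsOuter K x → Χ x = 0 → ∀ u : G, orderOf u = 2 → u * x * u⁻¹ ≠ x⁻¹ := by
    intro x hx hΧ
    rw [← rinv_eq_zero_iff]
    have : (rinv x : ℂ) = 0 := by rw [hr x hx, hΧ, mul_zero]
    exact_mod_cast this
  -- Lemma B: an inverting involution when Χ x = 1
  have hB : ∀ x, IsOuter K x → Χ x = 1 → ∃ u : G, orderOf u = 2 ∧ u * x * u⁻¹ = x⁻¹ := by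
    intro x hx hΧ
    by_contra hne
    push Not at hne
    have h0 : rinv x = 0 := (rinv_eq_zero_iff x).mpr hne
    have h1 := hr x hx
    rw [h0, hΧ, mul_one] at h1
    have h2 : (Nat.card K : ℂ) = 1 := by
      have : ((0 : ℕ) : ℂ) = 0 := by norm_num
      rw [this] at h1
      linear_combination -h1
    have h3 : Nat.card K = 1 := by exact_mod_cast h2
    omega
  -- Part (1)
  have h1 : ∀ x : G, IsOuter K x → Χ x = 0 → ∀ y ∈ Subgroup.centralizer ({x} : Set G), y ≠ 1 →
      IsOuter K y ∧ Χ y = 0 := by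
    intro x hx hΧ y hy hy1
    have hyo : IsOuter K y := outer_of_mem_centralizer h b hx hy hy1
    refine ⟨hyo, ?_⟩
    rcases hval y hyo with h0 | h1
    · exact h0
    · exfalso
      obtain ⟨u, hu, huy⟩ := hB y hyo h1
      have hxy : x ∈ Subgroup.centralizer ({y} : Set G) := by
        rw [Subgroup.mem_centralizer_singleton_iff]
        exact (Subgroup.mem_centralizer_singleton_iff.mp hy).symm
      exact hA x hx hΧ u hu ((real_outer h b hyo hu huy).1 x hxy)
  -- Lemma C
  have hC : ∀ x, IsOuter K x → Χ x = 0 → Χ x⁻¹ = 0 := by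
    intro x hx hΧ
    rcases hval x⁻¹ (outer_inv hx) with h0 | h1'
    · exact h0
    · exfalso
      obtain ⟨u, hu, hux⟩ := hB x⁻¹ (outer_inv hx) h1'
      rw [inv_inv] at hux
      apply hA x hx hΧ u hu
      have : (u * x⁻¹ * u⁻¹)⁻¹ = x⁻¹ := by rw [hux]
      rw [← this]; group
  set k := Nat.card K with hkdef
  -- arithmetic facts
  have hG : Nat.card G = 2 * k * (2 * k - 1) * (k - 1) := by
    have := p.hcard
    have e1 : ((2 * k - 1 : ℕ) : ℤ) = 2 * (k : ℤ) + -1 := by
      rw [Nat.cast_sub (by omega)]; push_cast; ring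
    have e2 : ((k - 1 : ℕ) : ℤ) = (k : ℤ) + -1 := by
      rw [Nat.cast_sub (by omega)]; push_cast; ring
    have : (Nat.card G : ℤ) = ((2 * k * (2 * k - 1) * (k - 1) : ℕ) : ℤ) := by
      rw [this]; push_cast [e1, e2]; ring
    exact_mod_cast this
  have hdeg : Χ 1 = ((2 * k - 1 : ℕ) : ℂ) := by
    rw [p.hdeg]
    rw [Nat.cast_sub (by omega)]; push_cast; ring
  -- the counting for fixed x
  have hmain : ∀ x : G, IsOuter K x → Χ x = 0 →
      Nat.card (Subgroup.centralizer ({x} : Set G)) = 2 * k - 1 ∧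
      ∀ y : G, IsOuter K y → Χ y = 0 → IsConj x y ∨ IsConj x⁻¹ y := by
    intro x hx hΧ
    set C := Subgroup.centralizer ({x} : Set G) with hCdef
    set c := Nat.card C with hcdef
    -- c divides q
    obtain ⟨m, hm⟩ := Cfsg.Agent.Lib.Helper79.sum_subgroup_irr ⟨Χ, p.hirr⟩ C
    have hsum : ∑ u : C, Χ (u : G) = Χ 1 := by
      rw [Finset.sum_eq_single (1 : C)]
      · rfl
      · intro u _ hu1
        exact (h1 x hx hΧ (u : G) u.2 (fun hh => hu1 (Subtype.ext hh))).2
      · intro hh; exact absurd (Finset.mem_univ _) hh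
    have hq : 2 * k - 1 = c * m := by
      have : ((2 * k - 1 : ℕ) : ℂ) = ((c * m : ℕ) : ℂ) := by
        rw [← hdeg, ← hsum]
        push_cast
        exact hm
      exact_mod_cast this
    have hcle : c ≤ 2 * k - 1 := by
      rcases Nat.eq_zero_or_pos m with hm0 | hmpos
      · rw [hm0, mul_zero] at hq; omega
      · rw [hq]; exact Nat.le_mul_of_pos_right c hmpos
    -- classes
    let cl₁ : Finset G := Finset.univ.filter (fun y => IsConj x y)
    let cl₂ : Finset G := Finset.univ.filter (fun y => IsConj x⁻¹ y)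
    let On : Finset G := Finset.univ.filter (fun y => IsOuter K y ∧ Χ y = 0)
    have hOn : On.card = (2 * k - 1) ^ 2 - 1 := by
      rw [← hcnt, Nat.card_eq_fintype_card, Fintype.card_subtype]
    have hsub1 : cl₁ ⊆ On := by
      intro y hy
      simp only [cl₁, Finset.mem_filter, Finset.mem_univ, true_and] at hy
      obtain ⟨g, hg⟩ := isConj_iff.mp hy
      simp only [On, Finset.mem_filter, Finset.mem_univ, true_and]
      rw [← hg]
      exact ⟨outer_conj hx g, by rw [hcl x g, hΧ]⟩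
    have hsub2 : cl₂ ⊆ On := by
      intro y hy
      simp only [cl₂, Finset.mem_filter, Finset.mem_univ, true_and] at hy
      obtain ⟨g, hg⟩ := isConj_iff.mp hy
      simp only [On, Finset.mem_filter, Finset.mem_univ, true_and]
      rw [← hg]
      exact ⟨outer_conj (outer_inv hx) g, by rw [hcl x⁻¹ g, hC x hx hΧ]⟩
    have hdisj : Disjoint cl₁ cl₂ := by
      rw [Finset.disjoint_left]
      intro y hy1 hy2
      simp only [cl₁, Finset.mem_filter, Finset.mem_univ, true_and] at hy1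
      simp only [cl₂, Finset.mem_filter, Finset.mem_univ, true_and] at hy2
      exact not_isConj_inv h b hx (hA x hx hΧ) (hy1.trans hy2.symm)
    have hc1 : cl₁.card = C.index := by
      have := Cfsg.Agent.Lib.Helper78.card_isConj_eq_index x
      rw [← this]
    have hc2 : cl₂.card = C.index := by
      have := Cfsg.Agent.Lib.Helper78.card_isConj_eq_index x⁻¹
      rw [centralizer_inv] at this
      rw [hCdef, ← this]
    have hunion : (cl₁ ∪ cl₂).card = 2 * C.index := by
      rw [Finset.card_union_of_disjoint hdisj, hc1, hc2]; ring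
    have hle : 2 * C.index ≤ (2 * k - 1) ^ 2 - 1 := by
      rw [← hunion, ← hOn]
      exact Finset.card_le_card (Finset.union_subset hsub1 hsub2)
    have hidx : c * C.index = Nat.card G := C.card_mul_index
    -- arithmetic: q ≤ c
    obtain ⟨j, hj⟩ : ∃ j, k = j + 4 := ⟨k - 4, by omega⟩
    have hE : (2 * k - 1) ^ 2 - 1 = 4 * k * (k - 1) := by
      rw [hj]
      have e1 : 2 * (j + 4) - 1 = 2 * j + 7 := by omega
      have e2 : j + 4 - 1 = j + 3 := by omega
      rw [e1, e2]
      have : (2 * j + 7) ^ 2 = 4 * (j + 4) * (j + 3) + 1 := by ring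
      rw [this]; simp
    have hEpos : 0 < 4 * k * (k - 1) := by
      apply Nat.mul_pos <;> omega
    have h2G : 2 * Nat.card G = 4 * k * (k - 1) * (2 * k - 1) := by
      rw [hG]; ring
    have hqc : 2 * k - 1 ≤ c := by
      have : 4 * k * (k - 1) * (2 * k - 1) ≤ 4 * k * (k - 1) * c := by
        calc 4 * k * (k - 1) * (2 * k - 1) = 2 * Nat.card G := h2G.symm
          _ = (2 * C.index) * c := by rw [← hidx]; ring
          _ ≤ ((2 * k - 1) ^ 2 - 1) * c := Nat.mul_le_mul_right _ hle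
          _ = 4 * k * (k - 1) * c := by rw [hE]
      exact Nat.le_of_mul_le_mul_left this hEpos
    have hceq : c = 2 * k - 1 := le_antisymm hcle hqc
    refine ⟨hceq, ?_⟩
    -- the two classes exhaust On
    have h2idx : 2 * C.index = 4 * k * (k - 1) := by
      have : (2 * C.index) * (2 * k - 1) = 4 * k * (k - 1) * (2 * k - 1) := by
        calc (2 * C.index) * (2 * k - 1) = 2 * (c * C.index) := by rw [hceq]; ring
          _ = 2 * Nat.card G := by rw [hidx]
          _ = _ := h2G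
      exact Nat.eq_of_mul_eq_mul_right (by omega) this
    have heq : cl₁ ∪ cl₂ = On := by
      apply Finset.eq_of_subset_of_card_le (Finset.union_subset hsub1 hsub2)
      rw [hunion, hOn, hE, h2idx]
    intro y hy hΧy
    have hyOn : y ∈ On := by
      simp only [On, Finset.mem_filter, Finset.mem_univ, true_and]
      exact ⟨hy, hΧy⟩
    rw [← heq, Finset.mem_union] at hyOn
    rcases hyOn with hy1 | hy2
    · left; simpa [cl₁] using hy1
    · right; simpa [cl₂] using hy2
  refine ⟨h1, fun x hx hΧ => (hmain x hx hΧ).1, ?_⟩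
  intro x y hx hΧ hy hΧy
  rcases (hmain x hx hΧ).2 y hy hΧy with hc | hc
  · exact Or.inl hc.symm
  · exact Or.inr hc.symm

/-- Module [F2c] of S3282 (statement verbatim from helper30's board post #3810). -/
theorem neg_nonreal [Finite G] (h : Hyp t s K) (b : Basic t s K) (hk : 4 ≤ Nat.card K)
    {Χ : G → ℂ} (p : PartI K (-1) Χ) :
    (∀ x : G, IsOuter K x → Χ x = 0 → ∀ y ∈ Subgroup.centralizer ({x} : Set G), y ≠ 1 →
      IsOuter K y ∧ Χ y = 0) ∧
    (∀ x : G, IsOuter K x → Χ x = 0 →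
      Nat.card (Subgroup.centralizer ({x} : Set G)) = 2 * Nat.card K - 1) ∧
    (∀ x y : G, IsOuter K x → Χ x = 0 → IsOuter K y → Χ y = 0 →
      IsConj y x ∨ IsConj y x⁻¹) := by
  obtain ⟨hv, hc, -⟩ := Cfsg.Agent.Lib.Helper51.BSW.neg_values h b hk p
  exact neg_nonreal_of h b hk p hv hc

end Cfsg.Agent.Lib.Helper26.BSWF2c
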