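import Mathlib
import Cfsg.Agent.Lib.Helper79.BrauerN.Defs2
import Cfsg.Agent.Lib.Helper79.BrauerN.IndLin
import Cfsg.Agent.Lib.Helper79.BrauerN.Ind96
import Cfsg.Agent.Lib.Helper79.BrauerN.Arith
import Cfsg.Agent.Lib.Helper74.DefZero

set_option autoImplicit false
set_option linter.style.haveILetI false
set_option maxHeartbeats 1000000
open Cfsg
open scoped ComplexConjugate
open Cfsg.Agent.Lib.Helper79.BrauerN

/-!
# S0996 module [ODD96] (helper26): `ε = -1`, `q` odd is impossible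

Statement verbatim from helper79's SPINE96.md.
-/

namespace Cfsg.Agent.Lib.Helper26.Brauer96

open Cfsg.Agent.Lib.Helper78

variable {G : Type*} [Group G] [Fintype G] {p : ℕ} [Fact p.Prime] {P : Sylow p G} {q t n c : ℕ}
  {ε : ℤ} {a : IrrCharacter G → ℤ} {X Y : Finset (IrrCharacter G)}

/-- A finset closed under a fixed-point-free involution has even cardinality. -/
theorem even_card_of_involution {α : Type*} [DecidableEq α] (S : Finset α) (g : α → α)
    (hmem : ∀ a ∈ S, g a ∈ S) (hinv : ∀ a ∈ S, g (g a) = a) (hne : ∀ a ∈ S, g a ≠ a) :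
    Even S.card := by
  have h : ∑ x ∈ S, (1 : ZMod 2) = 0 := by
    apply Finset.sum_involution (fun a _ => g a)
    · intro a _
      decide
    · intro a ha _
      exact hne a ha
    · intro a ha
      exact hmem a ha
    · intro a ha
      exact hinv a ha
  rw [Finset.sum_const, nsmul_eq_mul, mul_one] at h
  have h2 : (2 : ℕ) ∣ S.card := (ZMod.natCast_eq_zero_iff _ _).mp h
  exact even_iff_two_dvd.mpr h2

/-- [ODD96] for an arbitrary subgroup `N` of order `p q` in the role of `N_G(P)`. -/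
theorem prerigid_odd_aux (D : PreRigidData p P q t n c ε a X Y) (hε : ε = -1) (hqodd : Odd q)
    (ht : 2 ≤ t)
    (hsumP : ∀ θ ∈ Y, ∑ᶠ x ∈ ((P : Subgroup G) : Set G), (θ : G → ℂ) x = ((c * p : ℕ) : ℂ))
    (hdegXm : ∀ χ ∈ X, a χ = -1 → (χ : G → ℂ) 1 = ((p - 1 : ℕ) : ℂ))
    (N : Subgroup G) (hNcard : Nat.card N = p * q)
    (Λ : Finset (↥N →* ℂˣ))
    (hΛcard : Λ.card = q)
    (hΛone : (1 : ↥N →* ℂˣ) ∈ Λ)
    (hΛinv : ∀ l ∈ Λ, l⁻¹ ∈ Λ)
    (hΛpow : ∀ l ∈ Λ, l ^ q = 1)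
    (hΛsum : ∀ ζ : IrrCharacter G,
      ∑ l ∈ Λ, classInner (indFun N (linFun l)) (ζ : G → ℂ) =
      (p : ℂ)⁻¹ * conj (∑ᶠ x ∈ ((P : Subgroup G) : Set G), (ζ : G → ℂ) x))
    (hI1 : ∀ ζ : IrrCharacter G, ζ ∈ X ∨ ζ ∈ Y → (ζ : G → ℂ) ≠ (fun _ => 1) →
      classInner (indFun N (linFun (1 : ↥N →* ℂˣ))) (ζ : G → ℂ) = 0)
    (hI2 : ∀ l ∈ Λ, l ≠ 1 →
      (∃ χ ∈ X, a χ = 1 ∧ (χ : G → ℂ) ≠ (fun _ => 1) ∧
        indFun N (linFun l) = (χ : G → ℂ)) ∨
      indFun N (linFun l) = fun g => ∑ θ ∈ Y, (θ : G → ℂ) g) :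
    False := by
  classical
  have hp : p.Prime := Fact.out
  have hpqt := D.hpqt
  have hq2 := D.hq
  obtain ⟨hc1, hn1, hdegY⟩ := D.hdegYm hε
  obtain ⟨triv, htrivX, htriv⟩ := D.htriv
  have hpC : (p : ℂ) ≠ 0 := by exact_mod_cast hp.ne_zero
  -- `Y` is nonempty
  obtain ⟨θ₀, hθ₀⟩ : Y.Nonempty := by
    rw [← Finset.card_pos, D.hYcard]; omega
  -- elements of `Y` are not the trivial character
  have hYne : ∀ θ ∈ Y, (θ : G → ℂ) ≠ (fun _ => 1) := by
    intro θ hθ h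
    have : θ = triv := Subtype.ext (by rw [h, htriv])
    rw [this] at hθ
    exact Finset.disjoint_left.mp D.hdisj htrivX hθ
  -- `Θ`
  set Θ : G → ℂ := fun g => ∑ θ ∈ Y, (θ : G → ℂ) g with hΘdef
  have hΘsum : Θ = ∑ θ ∈ Y, (θ : G → ℂ) := by
    funext g
    simp [hΘdef, Finset.sum_apply]
  have hΘθ : ∀ θ ∈ Y, classInner Θ (θ : G → ℂ) = 1 := by
    intro θ hθ
    rw [hΘsum, classInner_sum_left, Finset.sum_eq_single θ]
    · exact classInner_irr_self θ.2
    · intro θ' _ hne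
      exact classInner_irr_ne θ'.2 θ.2 (fun h => hne (Subtype.ext h))
    · intro h; exact absurd hθ h
  have hΘΘ : classInner Θ Θ = (t : ℂ) := by
    conv_lhs => rw [hΘsum]
    rw [classInner_sum_left]
    have : ∀ θ ∈ Y, classInner (θ : G → ℂ) (∑ θ ∈ Y, (θ : G → ℂ)) = 1 := by
      intro θ hθ
      rw [← classInner_conj_symm, ← hΘsum, hΘθ θ hθ, map_one]
    rw [Finset.sum_congr rfl this, Finset.sum_const, D.hYcard, nsmul_eq_mul, mul_one]
  -- the set `S`
  set Φ : (↥N →* ℂˣ) → G → ℂ := fun l => indFun N (linFun l) with hΦdef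
  set S : Finset (↥N →* ℂˣ) := Λ.filter (fun l => l ≠ 1 ∧ Φ l = Θ) with hSdef
  -- (1) `|S| = c`
  have hScard : S.card = c := by
    have h1 := hΛsum θ₀
    rw [hsumP θ₀ hθ₀] at h1
    have h2 : ∀ l ∈ Λ, classInner (indFun N (linFun l)) (θ₀ : G → ℂ) =
        if (l ≠ 1 ∧ Φ l = Θ) then 1 else 0 := by
      intro l hl
      by_cases hl1 : l = 1
      · rw [if_neg (fun h => h.1 hl1), hl1]
        exact hI1 θ₀ (Or.inr hθ₀) (hYne θ₀ hθ₀)
      · by_cases hΦΘ : Φ l = Θ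
        · rw [if_pos ⟨hl1, hΦΘ⟩]
          show classInner (Φ l) (θ₀ : G → ℂ) = 1
          rw [hΦΘ]
          exact hΘθ θ₀ hθ₀
        · rw [if_neg (fun h => hΦΘ h.2)]
          rcases hI2 l hl hl1 with ⟨χ, hχ, _, _, hΦχ⟩ | hΦ
          · rw [hΦχ]
            apply classInner_irr_ne χ.2 θ₀.2
            intro h
            have : χ = θ₀ := Subtype.ext h
            rw [this] at hχ
            exact Finset.disjoint_left.mp D.hdisj hχ hθ₀
          · exact absurd hΦ hΦΘ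
    rw [Finset.sum_congr rfl h2, Finset.sum_boole] at h1
    have h3 : ((Λ.filter (fun l => l ≠ 1 ∧ Φ l = Θ)).card : ℂ) = (c : ℂ) := by
      rw [h1]
      push_cast
      rw [map_mul, Complex.conj_natCast, Complex.conj_natCast]
      field_simp
    exact_mod_cast h3
  -- (2) `S` is closed under inversion, without fixed points
  have hSinv : ∀ l ∈ S, l⁻¹ ∈ S := by
    intro l hl
    rw [hSdef, Finset.mem_filter] at hl
    obtain ⟨hlΛ, hl1, hΦl⟩ := hl
    have hinvΛ : l⁻¹ ∈ Λ := hΛinv l hlΛ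
    have hinv1 : l⁻¹ ≠ 1 := by
      intro h
      apply hl1
      ext y
      have := DFunLike.congr_fun h y
      simpa using this
    have hΦinv : Φ l⁻¹ = fun g => conj (Θ g) := by
      show indFun N (linFun l⁻¹) = _
      rw [indFun_linFun_inv N l]
      funext g
      show conj (Φ l g) = conj (Θ g)
      rw [hΦl]
    rw [hSdef, Finset.mem_filter]
    refine ⟨hinvΛ, hinv1, ?_⟩
    rcases hI2 l⁻¹ hinvΛ hinv1 with ⟨χ, hχ, _, _, hΦχ⟩ | hΦ
    · exfalso
      have h1 : classInner (Φ l⁻¹) (Φ l⁻¹) = 1 := by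
        show classInner (indFun N (linFun l⁻¹)) (indFun N (linFun l⁻¹)) = 1
        rw [hΦχ]
        exact classInner_irr_self χ.2
      rw [hΦinv, classInner_conj_conj, hΘΘ, Complex.conj_natCast] at h1
      have : t = 1 := by exact_mod_cast h1
      omega
    · exact hΦ
  have hSne : ∀ l ∈ S, l⁻¹ ≠ l := by
    intro l hl h
    rw [hSdef, Finset.mem_filter] at hl
    obtain ⟨hlΛ, hl1, _⟩ := hl
    apply hl1
    have h2 : l ^ 2 = 1 := by
      rw [pow_two]
      nth_rewrite 1 [← h]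
      exact inv_mul_cancel l
    have h3 := hΛpow l hlΛ
    have d1 : orderOf l ∣ q := orderOf_dvd_of_pow_eq_one h3
    have d2 : orderOf l ∣ 2 := orderOf_dvd_of_pow_eq_one h2
    have hcop : Nat.Coprime q 2 := (Nat.coprime_two_right.mpr hqodd)
    have d3 : orderOf l ∣ 1 := by
      have := Nat.dvd_gcd d1 d2
      rwa [hcop] at this
    exact orderOf_eq_one_iff.mp (Nat.dvd_one.mp d3)
  have hceven : Even c := by
    rw [← hScard]
    exact even_card_of_involution S (fun l => l⁻¹) hSinv (fun l _ => inv_inv l) hSne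
  -- `S` is nonempty
  obtain ⟨l₁, hl₁⟩ : S.Nonempty := by
    rw [← Finset.card_pos, hScard]; omega
  rw [hSdef, Finset.mem_filter] at hl₁
  obtain ⟨hl₁Λ, hl₁1, hΦl₁⟩ := hl₁
  -- (3) parities
  have hp5 : 5 ≤ p := by
    have : 4 ≤ q * t := by nlinarith
    omega
  have hpodd : Odd p := hp.odd_of_ne_two (by omega)
  have hteven : Even t := by
    have h1 : Even (q * t) := by
      have : q * t = p - 1 := by omega
      rw [this]
      exact Nat.Odd.sub_odd hpodd odd_one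
    rcases Nat.even_mul.mp h1 with h | h
    · exact absurd h (Nat.not_even_iff_odd.mpr hqodd)
    · exact h
  -- `θ1 = c p - q`
  have hcpq : q ≤ c * p := by nlinarith
  obtain ⟨θ1, hθ1⟩ : ∃ θ1 : ℕ, c * p = θ1 + q := ⟨c * p - q, by omega⟩
  have hθ1odd : Odd θ1 := by
    obtain ⟨c', hc'⟩ := hceven
    obtain ⟨q', hq'⟩ := hqodd
    have : c * p = c' * p + c' * p := by rw [hc']; ring
    rw [Nat.odd_iff]
    omega
  have htθ1 : t * θ1 = 1 + n * p := by
    have h1 : t * θ1 + t * q = (n + 1) * p := by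
      rw [hn1]
      calc t * θ1 + t * q = t * (θ1 + q) := by ring
        _ = t * (c * p) := by rw [hθ1]
        _ = t * c * p := by ring
    have h2 : (n + 1) * p = n * p + (q * t + 1) := by
      rw [add_mul, one_mul, ← hpqt]
    have h3 : t * q = q * t := mul_comm t q
    omega
  -- the 2-part of `|G|` divides `t`
  have h2t : 2 ^ (Nat.card G).factorization 2 ∣ t := by
    obtain ⟨f, hf⟩ : ∃ f, f = (Nat.card G).factorization 2 := ⟨_, rfl⟩
    rw [← hf]
    have h1 : 2 ^ f ∣ Nat.card G := by rw [hf]; exact Nat.ordProj_dvd _ _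
    have h2 : Nat.card G = t * (p * q * θ1) := by
      rw [D.hGcard, ← htθ1]; ring
    rw [h2] at h1
    have hodd : Odd (p * q * θ1) := (hpodd.mul hqodd).mul hθ1odd
    have hcop : Nat.Coprime (2 ^ f) (p * q * θ1) :=
      Nat.Coprime.pow_left _ (Nat.coprime_two_left.mpr hodd)
    exact hcop.dvd_of_dvd_mul_right h1
  have ht_dvd1 : t ∣ 1 + n * p := ⟨θ1, htθ1.symm⟩
  have ht_dvd2 : t ∣ p - 1 := ⟨q, by rw [mul_comm]; omega⟩
  -- (4) an involution
  have hGeven : 2 ∣ Nat.card G := by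
    rw [D.hGcard, ← htθ1]
    exact Dvd.dvd.mul_left (Dvd.dvd.mul_right (even_iff_two_dvd.mp hteven) _) _
  haveI : Fact (Nat.Prime 2) := ⟨Nat.prime_two⟩
  obtain ⟨s, hs⟩ := exists_prime_orderOf_dvd_card' 2 hGeven
  have hs2 : (2 : ℕ) ∣ orderOf s := by rw [hs]
  have hsp : ¬ p ∣ orderOf s := by
    rw [hs]
    intro h
    have := Nat.le_of_dvd (by norm_num) h
    omega
  -- characters of `X` other than the trivial one vanish at `s`
  have hXs : ∀ χ ∈ X, (χ : G → ℂ) ≠ (fun _ => 1) → (χ : G → ℂ) s = 0 := by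
    intro χ hχ hne
    apply Cfsg.Agent.Lib.Helper74.irr_eq_zero_of_full_power_dvd χ Nat.prime_two _ hs2
    rcases D.haX χ hχ with ha | ha
    · have h1 := D.hdegXp χ hχ ha hne
      have h2 : charDegree (χ : G → ℂ) = 1 + n * p := by
        unfold charDegree
        rw [h1, Complex.natCast_re, Nat.floor_natCast]
      rw [h2]
      exact h2t.trans ht_dvd1
    · have h1 := hdegXm χ hχ ha
      have h2 : charDegree (χ : G → ℂ) = p - 1 := by
        unfold charDegree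
        rw [h1]
        simp
      rw [h2]
      exact h2t.trans ht_dvd2
  -- `a triv = 1`
  have hatriv : a triv = 1 := by
    have hnt : Nontrivial (P : Subgroup G) := by
      rw [← Finite.one_lt_card_iff_nontrivial, D.hPcard]
      omega
    obtain ⟨x, hx⟩ := exists_ne (1 : (P : Subgroup G))
    have h1 := D.hXval triv htrivX (x : G) x.2 (fun h => hx (Subtype.ext h))
    rw [htriv] at h1
    have h2 : ((a triv : ℤ) : ℂ) = ((1 : ℤ) : ℂ) := by rw [← h1]; simp
    exact_mod_cast h2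
  -- values of `Y` at `s`
  have hYs : ∀ θ ∈ Y, (θ : G → ℂ) s = -1 := by
    intro θ hθ
    have h1 := D.hrel s hsp θ hθ
    rw [Finset.sum_eq_single triv] at h1
    · rw [hatriv, htriv, hε] at h1
      have h2 : -((θ : G → ℂ) s) = 1 := by
        have : ((-1 : ℤ) : ℂ) * (θ : G → ℂ) s = -((θ : G → ℂ) s) := by push_cast; ring
        rw [← this, h1]; simp
      rw [← h2, neg_neg]
    · intro χ hχ hne
      rw [hXs χ hχ (fun h => hne (Subtype.ext (by rw [h, htriv]))), mul_zero]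
    · intro h; exact absurd htrivX h
  have hΘs : Θ s = -(t : ℂ) := by
    show ∑ θ ∈ Y, (θ : G → ℂ) s = -(t : ℂ)
    rw [Finset.sum_congr rfl hYs, Finset.sum_const, D.hYcard, nsmul_eq_mul]
    ring
  -- but `Φ l₁` vanishes at `s`
  have hNodd : Odd (Nat.card N) := by
    rw [hNcard]
    exact hpodd.mul hqodd
  have hΦs : Φ l₁ s = 0 := by
    show indFun N (linFun l₁) s = 0
    rw [indFun_eq_sum_dite]
    have h1 : ∀ x : G, (if h : x⁻¹ * s * x ∈ N then linFun l₁ ⟨x⁻¹ * s * x, h⟩ else 0) = 0 := by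
      intro x
      rw [dif_neg]
      intro hmem
      have h2 : orderOf (x⁻¹ * s * x) = 2 := by
        have hsc : SemiconjBy x⁻¹ s (x⁻¹ * s * x) := by
          unfold SemiconjBy; group
        rw [← hsc.orderOf_eq, hs]
      have h3 : orderOf (x⁻¹ * s * x) ∣ Nat.card N := Subgroup.orderOf_dvd_natCard N hmem
      rw [h2] at h3
      exact (Nat.not_even_iff_odd.mpr hNodd) (even_iff_two_dvd.mpr h3)
    rw [Finset.sum_congr rfl (fun x _ => h1 x), Finset.sum_const_zero, mul_zero]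
  rw [hΦl₁, hΘs] at hΦs
  have : (t : ℂ) = 0 := by
    have := neg_eq_zero.mp hΦs
    exact this
  have : t = 0 := by exact_mod_cast this
  omega

/-! ## [ODD96] -/
theorem prerigid_odd (D : PreRigidData p P q t n c ε a X Y) (hε : ε = -1) (hqodd : Odd q)
    (ht : 2 ≤ t)
    (hsumP : ∀ θ ∈ Y, ∑ᶠ x ∈ ((P : Subgroup G) : Set G), (θ : G → ℂ) x = ((c * p : ℕ) : ℂ))
    (hdegXm : ∀ χ ∈ X, a χ = -1 → (χ : G → ℂ) 1 = ((p - 1 : ℕ) : ℂ))
    (Λ : Finset (↥(Subgroup.normalizer ((P : Subgroup G) : Set G)) →* ℂˣ))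
    (hΛcard : Λ.card = q)
    (hΛone : (1 : ↥(Subgroup.normalizer ((P : Subgroup G) : Set G)) →* ℂˣ) ∈ Λ)
    (hΛinv : ∀ l ∈ Λ, l⁻¹ ∈ Λ)
    (hΛpow : ∀ l ∈ Λ, l ^ q = 1)
    (hΛsum : ∀ ζ : IrrCharacter G,
      ∑ l ∈ Λ, classInner (indFun (Subgroup.normalizer ((P : Subgroup G) : Set G)) (linFun l))
        (ζ : G → ℂ) =
      (p : ℂ)⁻¹ * conj (∑ᶠ x ∈ ((P : Subgroup G) : Set G), (ζ : G → ℂ) x))
    (hI1 : ∀ ζ : IrrCharacter G, ζ ∈ X ∨ ζ ∈ Y → (ζ : G → ℂ) ≠ (fun _ => 1) →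
      classInner (indFun (Subgroup.normalizer ((P : Subgroup G) : Set G))
        (linFun (1 : ↥(Subgroup.normalizer ((P : Subgroup G) : Set G)) →* ℂˣ)))
        (ζ : G → ℂ) = 0)
    (hI2 : ∀ l ∈ Λ, l ≠ 1 →
      (∃ χ ∈ X, a χ = 1 ∧ (χ : G → ℂ) ≠ (fun _ => 1) ∧
        indFun (Subgroup.normalizer ((P : Subgroup G) : Set G)) (linFun l) = (χ : G → ℂ)) ∨
      indFun (Subgroup.normalizer ((P : Subgroup G) : Set G)) (linFun l) =
        fun g => ∑ θ ∈ Y, (θ : G → ℂ) g) :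
    False :=
  prerigid_odd_aux D hε hqodd ht hsumP hdegXm _ D.hNcard Λ hΛcard hΛone hΛinv hΛpow hΛsum hI1 hI2

end Cfsg.Agent.Lib.Helper26.Brauer96
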