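import Mathlib
import Cfsg.Agent.Lib.Helper79.BrauerN.Defs2
import Cfsg.Agent.Lib.Helper79.BrauerN.IndLin
import Cfsg.Agent.Lib.Helper79.BrauerN.Ind96
import Cfsg.Agent.Lib.Helper79.BrauerN.Arith

set_option autoImplicit false
set_option linter.style.haveILetI false
set_option maxHeartbeats 1000000
open Cfsg
open scoped ComplexConjugate
open Cfsg.Agent.Lib.Helper79.BrauerN

/-!
# S0996 module [PLUS96] (helper26): `ε = 1`, `t ≥ 2` forces `n = 1`

Statement verbatim from helper79's SPINE96.md.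
-/

namespace Cfsg.Agent.Lib.Helper26.Brauer96

open Cfsg.Agent.Lib.Helper78

variable {G : Type*} [Group G] [Fintype G] {p : ℕ} [Fact p.Prime] {P : Sylow p G} {q t n c : ℕ}
  {ε : ℤ} {a : IrrCharacter G → ℤ} {X Y : Finset (IrrCharacter G)}

/-- [PLUS96] for an arbitrary subgroup `N ≥ P` of order `p q` in the role of `N_G(P)`. -/
theorem prerigid_plus_aux (D : PreRigidData p P q t n c ε a X Y) (hε : ε = 1) (ht : 2 ≤ t)
    (hnormP : ∀ θ ∈ Y, ∑ᶠ x ∈ ((P : Subgroup G) : Set G),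
      (θ : G → ℂ) x * conj ((θ : G → ℂ) x) = ((p * q : ℕ) : ℂ))
    (N : Subgroup G) (hNcard : Nat.card N = p * q) (hPN : (P : Subgroup G) ≤ N)
    (hvanN : ∀ θ ∈ Y, ∀ y : G, y ∈ N → y ∉ (P : Subgroup G) → (θ : G → ℂ) y = 0)
    (Λ : Finset (↥N →* ℂˣ))
    (hΛcard : Λ.card = q)
    (hΛone : (1 : ↥N →* ℂˣ) ∈ Λ)
    (hΛmem : ∀ l : ↥N →* ℂˣ, l ∈ Λ ↔ ∀ k ∈ (P : Subgroup G).subgroupOf N, l k = 1)
    (hΛsum : ∀ ζ : IrrCharacter G,
      ∑ l ∈ Λ, classInner (indFun N (linFun l)) (ζ : G → ℂ) =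
      (p : ℂ)⁻¹ * conj (∑ᶠ x ∈ ((P : Subgroup G) : Set G), (ζ : G → ℂ) x))
    (hI2 : ∀ l ∈ Λ, l ≠ 1 → ∃ χ ∈ X, a χ = 1 ∧ (χ : G → ℂ) ≠ (fun _ => 1) ∧
      indFun N (linFun l) = (χ : G → ℂ)) :
    n = 1 := by
  classical
  have hp : p.Prime := Fact.out
  have hpqt := D.hpqt
  have hq2 := D.hq
  obtain ⟨triv, htrivX, htriv⟩ := D.htriv
  have hpC : (p : ℂ) ≠ 0 := by exact_mod_cast hp.ne_zero
  have hqC : (q : ℂ) ≠ 0 := by
    have : q ≠ 0 := by omega
    exact_mod_cast this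
  obtain ⟨θ, hθ⟩ : Y.Nonempty := by
    rw [← Finset.card_pos, D.hYcard]; omega
  have hθc : IsCharacter G (θ : G → ℂ) := IsIrrCharacter.isCharacter θ.2
  -- `Ψ = θ θ̄`
  set Ψ : G → ℂ := (θ : G → ℂ) * (fun g => conj ((θ : G → ℂ) g)) with hΨdef
  have hΨapply : ∀ g, Ψ g = (θ : G → ℂ) g * conj ((θ : G → ℂ) g) := fun g => rfl
  have hΨ : IsCharacter G Ψ :=
    Cfsg.Agent.Lib.Helper80.isCharacter_mul hθc (Cfsg.Agent.Lib.Helper80.isCharacter_conj hθc)
  have hΨcf : IsClassFunction G Ψ := IsCharacter.isClassFunction hΨ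
  have hΨ1 : Ψ 1 = ((q ^ 2 : ℕ) : ℂ) := by
    rw [hΨapply, D.hdegYp hε θ hθ, Complex.conj_natCast]
    push_cast; ring
  have hNC : (Nat.card N : ℂ) ≠ 0 := by exact_mod_cast Nat.card_pos.ne'
  -- Step A
  have hA : ∀ l ∈ Λ, classInner (indFun N (linFun l)) Ψ = 1 := by
    intro l hl
    rw [Cfsg.Agent.Lib.Helper75.frobenius_reciprocity N (linFun l) hΨcf]
    show (Nat.card N : ℂ)⁻¹ * ∑ y : ↥N, linFun l y * conj (Ψ y) = 1
    have h1 : ∀ y : ↥N, linFun l y * conj (Ψ y) =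
        if (y : G) ∈ (P : Subgroup G) then
          (fun g : G => (θ : G → ℂ) g * conj ((θ : G → ℂ) g)) y else 0 := by
      intro y
      by_cases hy : (y : G) ∈ (P : Subgroup G)
      · rw [if_pos hy, linFun_apply, (hΛmem l).mp hl y (Subgroup.mem_subgroupOf.mpr hy),
          Units.val_one, one_mul, hΨapply, map_mul, Complex.conj_conj]
        ring
      · rw [if_neg hy, hΨapply, hvanN θ hθ y y.2 hy]
        simp
    rw [Finset.sum_congr rfl (fun y _ => h1 y),
      sum_subtype_ite N (P : Subgroup G) hPN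
        (fun g : G => (θ : G → ℂ) g * conj ((θ : G → ℂ) g)),
      sum_ite_mem_eq_finsum, hnormP θ hθ, hNcard]
    have : ((p * q : ℕ) : ℂ) ≠ 0 := by
      push_cast
      exact mul_ne_zero hpC hqC
    exact inv_mul_cancel₀ this
  -- multiplicities of `Ψ`
  choose m hm using fun ψ : IrrCharacter G => IsCharacter.exists_nat_classInner hΨ ψ
  have hmtriv : m triv = 1 := by
    have h1 : classInner Ψ (triv : G → ℂ) = 1 := by
      rw [htriv]
      have : classInner Ψ (fun _ : G => (1 : ℂ)) =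
          classInner (θ : G → ℂ) (θ : G → ℂ) := by
        unfold classInner
        congr 1
        apply Finset.sum_congr rfl
        intro g _
        rw [hΨapply]
        simp
      rw [this, classInner_irr_self θ.2]
    rw [hm triv] at h1
    exact_mod_cast h1
  -- the set `A'`
  set A' : Finset (IrrCharacter G) :=
    X.filter (fun χ => ∃ l ∈ Λ, l ≠ 1 ∧ indFun N (linFun l) = (χ : G → ℂ)) with hA'def
  have hA'prop : ∀ χ ∈ A', a χ = 1 ∧ (χ : G → ℂ) ≠ (fun _ => 1) ∧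
      ∃ l ∈ Λ, l ≠ 1 ∧ indFun N (linFun l) = (χ : G → ℂ) := by
    intro χ hχ
    rw [hA'def, Finset.mem_filter] at hχ
    obtain ⟨hχX, l, hl, hl1, hΦ⟩ := hχ
    obtain ⟨χ', hχ', ha', hne', hΦ'⟩ := hI2 l hl hl1
    have : χ = χ' := Subtype.ext (by rw [← hΦ, hΦ'])
    rw [this]
    exact ⟨ha', hne', l, hl, hl1, hΦ'⟩
  have htrivA' : triv ∉ A' := by
    intro h
    exact (hA'prop triv h).2.1 htriv
  have hmA' : ∀ χ ∈ A', m χ = 1 := by
    intro χ hχ
    obtain ⟨_, _, l, hl, _, hΦ⟩ := hA'prop χ hχ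
    have h1 : classInner Ψ (χ : G → ℂ) = 1 := by
      rw [← classInner_conj_symm, ← hΦ, hA l hl, map_one]
    rw [hm χ] at h1
    exact_mod_cast h1
  have hdegA' : ∀ χ ∈ A', charDegree (χ : G → ℂ) = 1 + n * p := by
    intro χ hχ
    obtain ⟨ha, hne, _⟩ := hA'prop χ hχ
    have hχX : χ ∈ X := (Finset.mem_filter.mp hχ).1
    unfold charDegree
    rw [D.hdegXp χ hχX ha hne, Complex.natCast_re, Nat.floor_natCast]
  have hdegtriv : charDegree (triv : G → ℂ) = 1 := by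
    unfold charDegree
    rw [htriv]
    simp
  -- Step B: `q² ≥ 1 + |A'| (1 + n p)`
  have hB : 1 + A'.card * (1 + n * p) ≤ q ^ 2 := by
    have h1 : Ψ 1 = ∑ ψ : IrrCharacter G, ((m ψ * charDegree (ψ : G → ℂ) : ℕ) : ℂ) := by
      conv_lhs => rw [IsCharacter.eq_sum_irr hΨ]
      rw [Finset.sum_apply]
      apply Finset.sum_congr rfl
      intro ψ _
      rw [Pi.smul_apply, smul_eq_mul, hm ψ,
        IsCharacter.apply_one_eq_charDegree (IsIrrCharacter.isCharacter ψ.2)]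
      push_cast; ring
    rw [hΨ1, ← Nat.cast_sum] at h1
    have h2 : q ^ 2 = ∑ ψ : IrrCharacter G, m ψ * charDegree (ψ : G → ℂ) := by
      exact_mod_cast h1
    rw [h2]
    calc 1 + A'.card * (1 + n * p)
        = ∑ ψ ∈ insert triv A', m ψ * charDegree (ψ : G → ℂ) := by
          rw [Finset.sum_insert htrivA', hmtriv, hdegtriv]
          have : ∀ χ ∈ A', m χ * charDegree (χ : G → ℂ) = 1 + n * p := by
            intro χ hχ
            rw [hmA' χ hχ, hdegA' χ hχ, one_mul]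
          rw [Finset.sum_congr rfl this, Finset.sum_const, smul_eq_mul]
      _ ≤ ∑ ψ : IrrCharacter G, m ψ * charDegree (ψ : G → ℂ) :=
          Finset.sum_le_sum_of_subset (Finset.subset_univ _)
  -- Step C: `q - 1 ≤ |A'| (n + 1)`
  have hC : q - 1 ≤ A'.card * (n + 1) := by
    have hs : (Λ.erase 1).card = q - 1 := by
      rw [Finset.card_erase_of_mem hΛone, hΛcard]
    -- the map `l ↦ χ_l`
    have hex : ∀ l : ↥N →* ℂˣ, ∃ χ : IrrCharacter G, (l ∈ Λ ∧ l ≠ 1) →
        χ ∈ A' ∧ indFun N (linFun l) = (χ : G → ℂ) := by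
      intro l
      by_cases h : l ∈ Λ ∧ l ≠ 1
      · obtain ⟨χ, hχ, _, _, hΦ⟩ := hI2 l h.1 h.2
        refine ⟨χ, fun _ => ⟨?_, hΦ⟩⟩
        rw [hA'def, Finset.mem_filter]
        exact ⟨hχ, l, h.1, h.2, hΦ⟩
      · exact ⟨triv, fun h' => absurd h' h⟩
    choose gχ hgχ using hex
    have hf : ∀ l ∈ Λ.erase 1, gχ l ∈ A' := by
      intro l hl
      rw [Finset.mem_erase] at hl
      exact (hgχ l ⟨hl.2, hl.1⟩).1
    have hfib : ∀ χ ∈ A', ((Λ.erase 1).filter (fun l => gχ l = χ)).card ≤ n + 1 := by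
      intro χ hχ
      obtain ⟨ha, hne, _⟩ := hA'prop χ hχ
      have hχX : χ ∈ X := (Finset.mem_filter.mp hχ).1
      choose mult hmult using fun l : ↥N →* ℂˣ =>
        IsCharacter.exists_nat_classInner (isCharacter_indFun_linFun N l) χ
      have h1 : ∑ l ∈ Λ, mult l = n + 1 := by
        have h2 := hΛsum χ
        rw [Finset.sum_congr rfl (fun l _ => hmult l), ← sum_ite_mem_eq_finsum,
          sum_ite_mem_of_const (P : Subgroup G) D.hPcard (χ : G → ℂ) 1
            (fun x hx hx1 => by rw [D.hXval χ hχX x hx hx1, ha]; simp),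
          D.hdegXp χ hχX ha hne] at h2
        have h3 : ((∑ l ∈ Λ, mult l : ℕ) : ℂ) = ((n + 1 : ℕ) : ℂ) := by
          rw [Nat.cast_sum, h2]
          have : ((1 + n * p : ℕ) : ℂ) + ((p : ℂ) - 1) * 1 = (p : ℂ) * ((n + 1 : ℕ) : ℂ) := by
            push_cast; ring
          rw [this, map_mul, Complex.conj_natCast, Complex.conj_natCast]
          field_simp
        exact_mod_cast h3
      calc ((Λ.erase 1).filter (fun l => gχ l = χ)).card
          ≤ (Λ.filter (fun l => indFun N (linFun l) = (χ : G → ℂ))).card := by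
            apply Finset.card_le_card
            intro l hl
            rw [Finset.mem_filter, Finset.mem_erase] at hl
            rw [Finset.mem_filter]
            refine ⟨hl.1.2, ?_⟩
            rw [(hgχ l ⟨hl.1.2, hl.1.1⟩).2, hl.2]
        _ = ∑ l ∈ Λ, (if indFun N (linFun l) = (χ : G → ℂ) then 1 else 0) := by
            rw [Finset.card_filter]
        _ ≤ ∑ l ∈ Λ, mult l := by
            apply Finset.sum_le_sum
            intro l _
            by_cases hΦ : indFun N (linFun l) = (χ : G → ℂ)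
            · rw [if_pos hΦ]
              have h4 := hmult l
              rw [hΦ, classInner_irr_self χ.2] at h4
              have : mult l = 1 := by exact_mod_cast h4.symm
              omega
            · rw [if_neg hΦ]; omega
        _ = n + 1 := h1
    have h5 := Finset.card_le_mul_card_image_of_maps_to hf (n + 1) hfib
    rw [hs] at h5
    calc q - 1 ≤ (n + 1) * A'.card := h5
      _ = A'.card * (n + 1) := mul_comm _ _
  exact n_eq_one_of_small (by omega) hp.two_le hq2 ht D.hn hB hC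

/-! ## [PLUS96] -/
theorem prerigid_plus (D : PreRigidData p P q t n c ε a X Y) (hε : ε = 1) (ht : 2 ≤ t)
    (hnormP : ∀ θ ∈ Y, ∑ᶠ x ∈ ((P : Subgroup G) : Set G),
      (θ : G → ℂ) x * conj ((θ : G → ℂ) x) = ((p * q : ℕ) : ℂ))
    (hvanN : ∀ θ ∈ Y, ∀ y : G, y ∈ Subgroup.normalizer ((P : Subgroup G) : Set G) →
      y ∉ (P : Subgroup G) → (θ : G → ℂ) y = 0)
    (Λ : Finset (↥(Subgroup.normalizer ((P : Subgroup G) : Set G)) →* ℂˣ))
    (hΛcard : Λ.card = q)
    (hΛone : (1 : ↥(Subgroup.normalizer ((P : Subgroup G) : Set G)) →* ℂˣ) ∈ Λ)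
    (hΛmem : ∀ l : ↥(Subgroup.normalizer ((P : Subgroup G) : Set G)) →* ℂˣ, l ∈ Λ ↔
      ∀ k ∈ (P : Subgroup G).subgroupOf (Subgroup.normalizer ((P : Subgroup G) : Set G)),
        l k = 1)
    (hΛsum : ∀ ζ : IrrCharacter G,
      ∑ l ∈ Λ, classInner (indFun (Subgroup.normalizer ((P : Subgroup G) : Set G)) (linFun l))
        (ζ : G → ℂ) =
      (p : ℂ)⁻¹ * conj (∑ᶠ x ∈ ((P : Subgroup G) : Set G), (ζ : G → ℂ) x))
    (hI2 : ∀ l ∈ Λ, l ≠ 1 → ∃ χ ∈ X, a χ = 1 ∧ (χ : G → ℂ) ≠ (fun _ => 1) ∧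
      indFun (Subgroup.normalizer ((P : Subgroup G) : Set G)) (linFun l) = (χ : G → ℂ)) :
    n = 1 :=
  prerigid_plus_aux D hε ht hnormP _ D.hNcard Subgroup.le_normalizer hvanN Λ hΛcard hΛone hΛmem
    hΛsum hI2

end Cfsg.Agent.Lib.Helper26.Brauer96
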