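import Mathlib

/-!
# Maximality of a point stabilizer from its suborbits

If the orbit of `s` under `G` is `{s} ∪ O 0 ∪ ⋯ ∪ O (r-1)` with the `O i` pairwise disjoint finite
sets on each of which the stabilizer `H` of `s` acts transitively, and no proper partial sum
`1 + ∑_{i ∈ J} |O i|` divides the total `1 + ∑_i |O i|`, then `H` is a maximal subgroup of `G`.
-/

set_option autoImplicit false

namespace Cfsg.Agent.Lib.Helper26

open MulAction

theorem isCoatom_stabilizer_of_suborbits {G X : Type*} [Group G] [MulAction G X] [DecidableEq X]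
    (s : X) (r : ℕ) (O : ℕ → Finset X)
    (hcover : ∀ g : G, g • s = s ∨ ∃ i < r, g • s ∈ O i)
    (hO : ∀ i < r, ∀ x ∈ O i, x ≠ s ∧ ∃ g : G, g • s = x)
    (hdisj : ∀ i < r, ∀ j < r, i ≠ j → Disjoint (O i) (O j))
    (htrans : ∀ i < r, ∀ x ∈ O i, ∀ y ∈ O i, ∃ h ∈ stabilizer G s, h • x = y)
    (hpos : 0 < ∑ i ∈ Finset.range r, (O i).card)
    (harith : ∀ J ∈ (Finset.range r).powerset,
      (1 + ∑ i ∈ J, (O i).card) ∣ (1 + ∑ i ∈ Finset.range r, (O i).card) →
        (∑ i ∈ J, (O i).card = 0 ∨ ∑ i ∈ J, (O i).card = ∑ i ∈ Finset.range r, (O i).card)) :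
    IsCoatom (stabilizer G s) := by
  classical
  -- description of orbits of intermediate subgroups
  have horb : ∀ K : Subgroup G, stabilizer G s ≤ K →
      ∃ J ∈ (Finset.range r).powerset, (orbit K s) = ↑(insert s (J.biUnion O)) ∧
        (orbit K s).ncard = 1 + ∑ i ∈ J, (O i).card := by
    intro K hK
    set J : Finset ℕ := (Finset.range r).filter (fun i => ∃ x ∈ O i, x ∈ orbit K s) with hJ
    have hJr : J ⊆ Finset.range r := Finset.filter_subset _ _
    have hset : orbit K s = ↑(insert s (J.biUnion O)) := by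
      ext x
      simp only [Finset.coe_insert, Finset.coe_biUnion, Set.mem_insert_iff, Set.mem_iUnion,
        Finset.mem_coe, exists_prop]
      constructor
      · intro hx
        obtain ⟨k, rfl⟩ := mem_orbit_iff.1 hx
        rcases hcover (k : G) with h | ⟨i, hi, hmem⟩
        · left; exact h
        · right
          refine ⟨i, ?_, hmem⟩
          rw [hJ, Finset.mem_filter, Finset.mem_range]
          exact ⟨hi, _, hmem, hx⟩
      · rintro (rfl | ⟨i, hiJ, hxi⟩)
        · exact mem_orbit_self _
        · rw [hJ, Finset.mem_filter, Finset.mem_range] at hiJ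
          obtain ⟨hi, x₀, hx₀, hx₀K⟩ := hiJ
          obtain ⟨h, hh, rfl⟩ := htrans i hi x₀ hx₀ x hxi
          obtain ⟨k, rfl⟩ := mem_orbit_iff.1 hx₀K
          exact mem_orbit_iff.2 ⟨⟨h, hK hh⟩ * k, by rw [mul_smul]; rfl⟩
    refine ⟨J, Finset.mem_powerset.2 hJr, hset, ?_⟩
    rw [hset, Set.ncard_coe_finset, Finset.card_insert_of_notMem, Finset.card_biUnion, add_comm]
    · intro i hi j hj hij
      exact hdisj i (Finset.mem_range.1 (hJr hi)) j (Finset.mem_range.1 (hJr hj)) hij
    · intro hs
      obtain ⟨i, hi, hsi⟩ := Finset.mem_biUnion.1 hs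
      exact (hO i (Finset.mem_range.1 (hJr hi)) s hsi).1 rfl
  -- the full orbit
  have hfull : (orbit G s).ncard = 1 + ∑ i ∈ Finset.range r, (O i).card := by
    have hset : orbit G s = ↑(insert s ((Finset.range r).biUnion O)) := by
      ext x
      simp only [Finset.coe_insert, Finset.coe_biUnion, Set.mem_insert_iff, Set.mem_iUnion,
        Finset.mem_coe, exists_prop, Finset.mem_range]
      constructor
      · intro hx
        obtain ⟨k, rfl⟩ := mem_orbit_iff.1 hx
        rcases hcover k with h | ⟨i, hi, hmem⟩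
        · left; exact h
        · right; exact ⟨i, hi, hmem⟩
      · rintro (rfl | ⟨i, hi, hxi⟩)
        · exact mem_orbit_self _
        · obtain ⟨g, hg⟩ := (hO i hi x hxi).2
          exact mem_orbit_iff.2 ⟨g, hg⟩
    rw [hset, Set.ncard_coe_finset, Finset.card_insert_of_notMem, Finset.card_biUnion, add_comm]
    · intro i hi j hj hij
      exact hdisj i (Finset.mem_range.1 hi) j (Finset.mem_range.1 hj) hij
    · intro hs
      obtain ⟨i, hi, hsi⟩ := Finset.mem_biUnion.1 hs
      exact (hO i (Finset.mem_range.1 hi) s hsi).1 rfl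
  have hindex : (stabilizer G s).index = 1 + ∑ i ∈ Finset.range r, (O i).card := by
    rw [index_stabilizer, hfull]
  constructor
  · intro htop
    rw [← Subgroup.index_eq_one, hindex] at htop
    omega
  · intro K hK
    obtain ⟨J, hJ, hset, hcard⟩ := horb K hK.le
    have hrel : (stabilizer G s).relIndex K = 1 + ∑ i ∈ J, (O i).card := by
      rw [← hcard, ← index_stabilizer]
      rfl
    have hdvd : (1 + ∑ i ∈ J, (O i).card) ∣ (1 + ∑ i ∈ Finset.range r, (O i).card) := by
      rw [← hrel, ← hindex]
      exact Subgroup.relIndex_dvd_index_of_le hK.le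
    rcases harith J hJ hdvd with h0 | hall
    · exfalso
      rw [h0, add_zero, Subgroup.relIndex_eq_one] at hrel
      exact (lt_of_lt_of_le hK hrel).false
    · have hmul := Subgroup.relIndex_mul_index hK.le
      rw [hrel, hindex, hall] at hmul
      have : K.index = 1 := by
        have hpos' : 0 < 1 + ∑ i ∈ Finset.range r, (O i).card := by omega
        exact Nat.eq_of_mul_eq_mul_left hpos' (by rw [hmul, mul_one])
      exact Subgroup.index_eq_one.1 this

end Cfsg.Agent.Lib.Helper26
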