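import Mathlib
import Cfsg.Agent.Lib.Helper7.M24Trans
import Cfsg.Agent.Lib.Helper7.M24OctStab

/-!
# Moving lists of points by elements of `M24`

* `exists_M24_map_list`: two duplicate-free lists of the same length `≤ 5` are conjugate.
* `exists_M24_map_six`: two duplicate-free lists of length `6` are conjugate as soon as both or
  neither lie in an octad.
-/

set_option autoImplicit false

namespace Cfsg.Agent.Lib.Helper26

open Cfsg
open Cfsg.Agent.Lib.Helper7
open scoped Pointwise

theorem exists_M24_map_list (l l' : List GolayPt) (hl : l.Nodup) (hl' : l'.Nodup)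
    (hlen : l.length = l'.length) (h5 : l.length ≤ 5) : ∃ g ∈ M24, l.map g = l' := by
  let x : Fin l.length ↪ GolayPt := ⟨fun i => l.get i, List.nodup_iff_injective_get.1 hl⟩
  let y : Fin l.length ↪ GolayPt :=
    ⟨fun i => l'.get (Fin.cast hlen i), fun i j h => by
      have := List.nodup_iff_injective_get.1 hl' h
      exact Fin.cast_injective _ this⟩
  obtain ⟨g, hg, hgx⟩ := exists_M24_map_emb h5 x y
  refine ⟨g, hg, ?_⟩
  apply List.ext_get
  · rw [List.length_map, hlen]
  · intro n h1 h2
    rw [List.length_map] at h1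
    have := hgx ⟨n, h1⟩
    simp only [x, y, Function.Embedding.coeFn_mk] at this
    simpa using this

/-- The two standard 6-tuples. -/
def std6 (b : Bool) : List GolayPt := [bp 0, bp 1, bp 2, bp 3, bp 4, if b then bp 6 else bp 5]

theorem mem_octO_iff (p : GolayPt) : p ∈ setOf octO ↔ octO.testBit (idx p) = true := mem_setOf

theorem exists_map_std6 (x0 x1 x2 x3 x4 x5 : GolayPt) (hl : [x0, x1, x2, x3, x4, x5].Nodup) :
    ∃ g ∈ M24, ∃ b : Bool, (b = true ↔ ∃ o ∈ octads, ∀ p ∈ [x0, x1, x2, x3, x4, x5], p ∈ o) ∧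
      [x0, x1, x2, x3, x4, x5].map g = std6 b := by
  classical
  have hl5 : [x0, x1, x2, x3, x4].Nodup := by
    have := hl
    simp only [List.nodup_cons, List.mem_cons, not_or, List.not_mem_nil, not_false_eq_true,
      List.nodup_nil, and_true] at this ⊢
    tauto
  obtain ⟨g1, hg1, hmap1⟩ := exists_M24_map_list [x0, x1, x2, x3, x4] [bp 0, bp 1, bp 2, bp 3, bp 4]
    hl5 (by
      simp only [List.nodup_cons, List.mem_cons, not_or, List.not_mem_nil, not_false_eq_true,
        List.nodup_nil, and_true]
      refine ⟨⟨?_, ?_, ?_, ?_⟩, ⟨?_, ?_, ?_⟩, ⟨?_, ?_⟩, ?_⟩ <;>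
        exact (bp_ne (by decide) (by decide)).symm) rfl (le_refl 5)
  simp only [List.map_cons, List.map_nil, List.cons.injEq, and_true] at hmap1
  obtain ⟨h0, h1, h2, h3, h4⟩ := hmap1
  have hfix1 : ∀ j < 5, g1 ([x0, x1, x2, x3, x4].getD j none) = bp j := by
    intro j hj
    interval_cases j <;> simp [h0, h1, h2, h3, h4]
  -- the image of the sixth point avoids the base points
  have hx5 : ∀ j < 5, [x0, x1, x2, x3, x4].getD j none ≠ x5 := by
    intro j hj h
    simp only [List.nodup_cons, List.mem_cons, not_or, List.not_mem_nil, not_false_eq_true,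
      List.nodup_nil, and_true] at hl
    interval_cases j <;> simp at h <;> simp_all
  have hne : ∀ j < 5, baseL.getD j 0 ≠ idx (g1 x5) := by
    intro j hj h
    have h1' : bp j = g1 x5 := by
      show pt (baseL.getD j 0) = g1 x5
      rw [h, pt_idx]
    rw [← hfix1 j hj] at h1'
    exact hx5 j hj (g1.injective h1')
  -- the octad criterion
  have hcrit : (∃ o ∈ octads, ∀ p ∈ [x0, x1, x2, x3, x4, x5], p ∈ o) ↔
      octO.testBit (idx (g1 x5)) = true := by
    rw [← mem_octO_iff]
    have hoct := setOf_mem_octads isOctadMask_octO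
    have hbase : ∀ j < 5, bp j ∈ setOf octO := fun j hj => bp_mem_setOf_octO (by omega) (by omega)
    constructor
    · rintro ⟨o, ho, hmem⟩
      have hgo : g1 • o = setOf octO := by
        apply smul_octad_eq_of_maps hg1 ho hoct (s := ([x0, x1, x2, x3, x4] : List GolayPt).toFinset)
        · intro p hp
          rw [List.mem_toFinset] at hp
          exact hmem p (by simp only [List.mem_cons] at hp ⊢; tauto)
        · rw [List.toFinset_card_of_nodup hl5]; rfl
        · intro p hp
          rw [List.mem_toFinset] at hp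
          simp only [List.mem_cons, List.not_mem_nil, or_false] at hp
          rcases hp with rfl | rfl | rfl | rfl | rfl
          · rw [h0]; exact hbase 0 (by decide)
          · rw [h1]; exact hbase 1 (by decide)
          · rw [h2]; exact hbase 2 (by decide)
          · rw [h3]; exact hbase 3 (by decide)
          · rw [h4]; exact hbase 4 (by decide)
      rw [← hgo, apply_mem_perm_smul_finset]
      exact hmem x5 (by simp)
    · intro h
      refine ⟨g1⁻¹ • setOf octO, smul_mem_octads (M24.inv_mem hg1) hoct, ?_⟩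
      intro p hp
      rw [Finset.mem_inv_smul_finset_iff]
      show g1 p ∈ setOf octO
      simp only [List.mem_cons, List.not_mem_nil, or_false] at hp
      rcases hp with rfl | rfl | rfl | rfl | rfl | rfl
      · rw [h0]; exact hbase 0 (by decide)
      · rw [h1]; exact hbase 1 (by decide)
      · rw [h2]; exact hbase 2 (by decide)
      · rw [h3]; exact hbase 3 (by decide)
      · rw [h4]; exact hbase 4 (by decide)
      · exact h
  by_cases hb : octO.testBit (idx (g1 x5)) = true
  · have hok := orbitOK_6 _ (idx_lt _) hb hne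
    obtain ⟨u, hu, hufix, huq⟩ := exists_chain_elem (i := 6) (by decide) (idx_lt (g1 x5)) hok
    rw [pt_idx] at huq
    refine ⟨u * g1, M24.mul_mem (genH_le_M24 hu) hg1, true, ⟨fun _ => hcrit.2 hb, fun _ => rfl⟩, ?_⟩
    simp only [std6, List.map_cons, List.map_nil, Equiv.Perm.mul_apply, h0, h1, h2, h3, h4, huq,
      hufix 0 (by decide), hufix 1 (by decide), hufix 2 (by decide), hufix 3 (by decide),
      hufix 4 (by decide), if_true]
  · have hb' : octO.testBit (idx (g1 x5)) = false := by simpa using hb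
    have hok := orbitOK_5 _ (idx_lt _) hb'
    obtain ⟨u, hu, hufix, huq⟩ := exists_chain_elem (i := 5) (by decide) (idx_lt (g1 x5)) hok
    rw [pt_idx] at huq
    refine ⟨u * g1, M24.mul_mem (genH_le_M24 hu) hg1, false,
      ⟨fun h => by simp at h, fun h => absurd (hcrit.1 h) hb⟩, ?_⟩
    simp only [std6, List.map_cons, List.map_nil, Equiv.Perm.mul_apply, h0, h1, h2, h3, h4, huq,
      hufix 0 (by decide), hufix 1 (by decide), hufix 2 (by decide), hufix 3 (by decide),
      hufix 4 (by decide)]
    simp

/-- Two duplicate-free 6-tuples are conjugate under `M24` as soon as both or neither lie in an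
octad. -/
theorem exists_M24_map_six (x0 x1 x2 x3 x4 x5 y0 y1 y2 y3 y4 y5 : GolayPt)
    (hl : [x0, x1, x2, x3, x4, x5].Nodup) (hl' : [y0, y1, y2, y3, y4, y5].Nodup)
    (hiff : (∃ o ∈ octads, ∀ p ∈ [x0, x1, x2, x3, x4, x5], p ∈ o) ↔
      (∃ o ∈ octads, ∀ p ∈ [y0, y1, y2, y3, y4, y5], p ∈ o)) :
    ∃ g ∈ M24, [x0, x1, x2, x3, x4, x5].map g = [y0, y1, y2, y3, y4, y5] := by
  classical
  obtain ⟨g, hg, b, hb, hgm⟩ := exists_map_std6 x0 x1 x2 x3 x4 x5 hl
  obtain ⟨g', hg', b', hb', hgm'⟩ := exists_map_std6 y0 y1 y2 y3 y4 y5 hl'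
  have hbb : b = b' := by
    have : b = true ↔ b' = true := by rw [hb, hb', hiff]
    cases b <;> cases b' <;> simp_all
  rw [hbb, ← hgm'] at hgm
  refine ⟨g'⁻¹ * g, M24.mul_mem (M24.inv_mem hg') hg, ?_⟩
  have : ([x0, x1, x2, x3, x4, x5].map g).map (g'⁻¹ : Equiv.Perm GolayPt) =
      ([y0, y1, y2, y3, y4, y5].map g').map (g'⁻¹ : Equiv.Perm GolayPt) := by rw [hgm]
  simpa [List.map_map] using this

end Cfsg.Agent.Lib.Helper26
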