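import Mathlib
import Cfsg.Prelude.Def_SporadicCombinatorics
import Cfsg.Agent.Lib.Helper26.FamCert
import Cfsg.Agent.Lib.Helper26.Coatom

/-!
# Suborbits of the stabilizer of a family (sextet, trio, ...) in `M24` from certificates

`FamSetup Fam w N B j0` packages: `Fam` is an `M24`-invariant set of families of `w` subsets with
`N` elements, all of them listed (sorted) in the packed list `B`, and `M24` is transitive on it
(by a certificate).  `fam_classes` then describes the orbits of the stabilizer of any `S ∈ Fam`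
on `Fam` from certificates for the base family, and `fam_coatom` gives maximality.
-/

set_option autoImplicit false

namespace Cfsg.Agent.Lib.Helper26

open Cfsg
open scoped Pointwise

/-- code of a list of masks -/
def codeL : List ℕ → ℕ
  | [] => 0
  | m :: t => m + 16777216 * codeL t

structure FamSetup (Fam : Set (Finset (Finset GolayPt))) (w N : ℕ) (B : List ℕ) (j0 : ℕ) :
    Prop where
  hinv : ∀ g ∈ M24, ∀ X ∈ Fam, g • X ∈ Fam
  hcard : ∀ X ∈ Fam, X.card = w
  hN : Fam.ncard = N
  hj0 : j0 < N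
  hS0 : famOf (getF w B j0) ∈ Fam
  hsorted : ∀ j < N, (getF w B j).Pairwise (· < ·)
  hcode : ∀ j, j + 1 < N → codeL (getF w B j) < codeL (getF w B (j + 1))
  hM : ∃ (gens : List (Equiv.Perm GolayPt)) (Ts Bs : List ℕ) (n cert : ℕ),
    List.Forall₂ MatchesP gens Ts ∧ List.Forall₂ ByteOK Ts Bs ∧ (∀ g ∈ gens, g ∈ M24) ∧
      runQN w Bs B n cert (1 <<< j0) = 2 ^ N - 1

section

variable {Fam : Set (Finset (Finset GolayPt))} {w N : ℕ} {B : List ℕ} {j0 : ℕ}

theorem FamSetup.exists_M24 (hs : FamSetup Fam w N B j0) {j : ℕ} (hj : j < N) :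
    ∃ h ∈ M24, h • famOf (getF w B j0) = famOf (getF w B j) := by
  obtain ⟨gens, Ts, Bs, n, cert, hm, hB, hg, hrun⟩ := hs.hM
  have hbit : (runQN w Bs B n cert (1 <<< j0)).testBit j = true := by
    rw [hrun, Nat.testBit_two_pow_sub_one, decide_eq_true_eq]
    exact hj
  obtain ⟨h, hh, hsub⟩ := runQN_sound' M24 gens Ts Bs hm hB hg w B j0 n cert j hbit
  refine ⟨h, hh, Finset.eq_of_subset_of_card_le hsub ?_⟩
  rw [Finset.card_smul_finset, hs.hcard _ hs.hS0]
  exact (card_famOf_le _).trans (by rw [length_getF])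

theorem FamSetup.mem (hs : FamSetup Fam w N B j0) {j : ℕ} (hj : j < N) :
    famOf (getF w B j) ∈ Fam := by
  obtain ⟨h, hh, he⟩ := hs.exists_M24 hj
  rw [← he]
  exact hs.hinv h hh _ hs.hS0

theorem FamSetup.code_lt (hs : FamSetup Fam w N B j0) :
    ∀ j, j < N → ∀ i < j, codeL (getF w B i) < codeL (getF w B j) := by
  intro j
  induction j with
  | zero => intro _ i hi; exact absurd hi (Nat.not_lt_zero i)
  | succ j ih =>
    intro hj i hi
    have h1 := hs.hcode j hj
    rcases Nat.lt_succ_iff_lt_or_eq.1 hi with h | h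
    · exact (ih (by omega) i h).trans h1
    · rw [h]; exact h1

theorem FamSetup.inj (hs : FamSetup Fam w N B j0) {i j : ℕ} (hi : i < N) (hj : j < N)
    (h : famOf (getF w B i) = famOf (getF w B j)) : i = j := by
  have hl : getF w B i = getF w B j :=
    eq_of_famOf_eq (hs.hsorted i hi) (hs.hsorted j hj) (getF_lt _ _ _) (getF_lt _ _ _) h
  rcases Nat.lt_trichotomy i j with hij | hij | hij
  · have := hs.code_lt j hj i hij
    rw [hl] at this
    exact absurd this (lt_irrefl _)
  · exact hij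
  · have := hs.code_lt i hi j hij
    rw [hl] at this
    exact absurd this (lt_irrefl _)

theorem FamSetup.complete (hs : FamSetup Fam w N B j0) :
    ∀ X ∈ Fam, ∃ j < N, X = famOf (getF w B j) := by
  classical
  set I : Finset (Finset (Finset GolayPt)) :=
    (Finset.range N).image (fun j => famOf (getF w B j)) with hI
  have hIcard : I.card = N := by
    rw [hI, Finset.card_image_of_injOn, Finset.card_range]
    intro i hi j hj h
    exact hs.inj (Finset.mem_range.1 (Finset.mem_coe.1 hi)) (Finset.mem_range.1 (Finset.mem_coe.1 hj)) h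
  have hsub : (↑I : Set (Finset (Finset GolayPt))) ⊆ Fam := by
    intro X hX
    obtain ⟨j, hj, rfl⟩ := Finset.mem_image.1 (Finset.mem_coe.1 hX)
    exact hs.mem (Finset.mem_range.1 hj)
  have heq : (↑I : Set (Finset (Finset GolayPt))) = Fam :=
    Set.eq_of_subset_of_ncard_le hsub (by rw [Set.ncard_coe_finset, hIcard, hs.hN])
      (Set.toFinite _)
  intro X hX
  rw [← heq] at hX
  obtain ⟨j, hj, rfl⟩ := Finset.mem_image.1 (Finset.mem_coe.1 hX)
  exact ⟨j, Finset.mem_range.1 hj, rfl⟩

theorem FamSetup.trans (hs : FamSetup Fam w N B j0) (X : Finset (Finset GolayPt)) (hX : X ∈ Fam)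
    (Y : Finset (Finset GolayPt)) (hY : Y ∈ Fam) : ∃ g ∈ M24, g • X = Y := by
  obtain ⟨i, hi, rfl⟩ := hs.complete X hX
  obtain ⟨j, hj, rfl⟩ := hs.complete Y hY
  obtain ⟨a, ha, hae⟩ := hs.exists_M24 hi
  obtain ⟨b, hb, hbe⟩ := hs.exists_M24 hj
  refine ⟨b * a⁻¹, M24.mul_mem hb (M24.inv_mem ha), ?_⟩
  rw [mul_smul, ← hae, inv_smul_smul, hbe]

theorem exists_of_forall₂_mem' {α β : Type*} {R : α → β → Prop} {l1 : List α} {l2 : List β}
    (h : List.Forall₂ R l1 l2) {a : α} (ha : a ∈ l1) : ∃ b ∈ l2, R a b := by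
  induction h with
  | nil => exact absurd ha List.not_mem_nil
  | cons hab _ ih =>
    rcases List.mem_cons.1 ha with rfl | ha'
    · exact ⟨_, List.mem_cons_self, hab⟩
    · obtain ⟨b, hb, hR⟩ := ih ha'
      exact ⟨b, List.mem_cons_of_mem _ hb, hR⟩

/-- the packed tables `Ts` agree with the list tables `ts` -/
def tabOK : List (List ℕ) → List ℕ → Bool
  | [], [] => true
  | t :: ts, T :: Ts => ((List.range 24).all fun i => t.getD i 0 == lookP T i) && tabOK ts Ts
  | _, _ => false

theorem forall₂_matchesP {gs : List (Equiv.Perm GolayPt)} {ts : List (List ℕ)}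
    (h : List.Forall₂ Cfsg.Agent.Lib.Helper7.Matches gs ts) :
    ∀ Ts : List ℕ, tabOK ts Ts = true → List.Forall₂ MatchesP gs Ts := by
  induction h with
  | nil =>
    intro Ts hT
    cases Ts with
    | nil => exact List.Forall₂.nil
    | cons _ _ => simp [tabOK] at hT
  | cons hab _ ih =>
    intro Ts hT
    cases Ts with
    | nil => simp [tabOK] at hT
    | cons T Ts =>
      rw [tabOK, Bool.and_eq_true, List.all_eq_true] at hT
      refine List.Forall₂.cons (matchesP_of_matches hab T ?_) (ih Ts hT.2)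
      intro i hi
      have := hT.1 i (List.mem_range.2 hi)
      rwa [beq_iff_eq] at this

/-- **Orbits of the stabilizer of a family on the set of families.** -/
theorem fam_classes (hs : FamSetup Fam w N B j0)
    (gens : List (Equiv.Perm GolayPt)) (Ts Bs : List ℕ) (hm : List.Forall₂ MatchesP gens Ts)
    (hB : List.Forall₂ ByteOK Ts Bs) (hgM : ∀ g ∈ gens, g ∈ M24)
    (hfix : ∀ T ∈ Ts, subF ((getF w B j0).map (applyP T)) (getF w B j0) = true)
    (f : ℕ → ℕ) (r : ℕ) (v n root cn cert : ℕ → ℕ)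
    (hroot : ∀ k < r, root k < N)
    (D : ℕ → ℕ) (hD : ∀ k < r, runQN w Bs B (cn k) (cert k) (1 <<< root k) = D k)
    (hrun : ∀ k < r, ∀ j < N, invM f (getF w B j0) (getF w B j) = v k →
      (D k).testBit j = true)
    (hcover : ∀ j < N, j = j0 ∨ ∃ k < r, invM f (getF w B j0) (getF w B j) = v k)
    (hv0 : ∀ k < r, invM f (getF w B j0) (getF w B j0) ≠ v k)
    (hcount : ∀ k < r, ((Finset.range N).filter
      fun j => invM f (getF w B j0) (getF w B j) = v k).card = n k)
    (hrootcls : ∀ k < r, invM f (getF w B j0) (getF w B (root k)) = v k)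
    (S : Finset (Finset GolayPt)) (hS : S ∈ Fam) :
    ∃ X : ℕ → Finset (Finset GolayPt), (∀ k < r, X k ∈ Fam) ∧
      (∀ k < r, MulAction.orbit (MulAction.stabilizer M24 S) (X k) =
        {Y | Y ∈ Fam ∧ invS f S Y = v k}) ∧
      (∀ k < r, {Y | Y ∈ Fam ∧ invS f S Y = v k}.ncard = n k) ∧
      (∀ Y ∈ Fam, Y = S ∨ ∃ k < r, invS f S Y = v k) ∧
      (∀ k < r, invS f S S ≠ v k) := by
  classical
  set S0 := famOf (getF w B j0) with hS0def
  set H : Subgroup (Equiv.Perm GolayPt) :=
    M24 ⊓ MulAction.stabilizer (Equiv.Perm GolayPt) S0 with hH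
  have hgH : ∀ g ∈ gens, g ∈ H := by
    intro g hg
    obtain ⟨T, hT, hgT⟩ := exists_of_forall₂_mem' hm hg
    refine Subgroup.mem_inf.2 ⟨hgM g hg, ?_⟩
    rw [MulAction.mem_stabilizer_iff]
    apply Finset.eq_of_subset_of_card_le
    · rw [hS0def, smul_famOf hgT]; exact famOf_subset_of_subF (hfix T hT)
    · rw [Finset.card_smul_finset]
  have hinvbase : ∀ j < N, invS f S0 (famOf (getF w B j)) =
      invM f (getF w B j0) (getF w B j) := fun j hj =>
    invS_famOf f (hs.hsorted j0 hs.hj0) (hs.hsorted j hj) (getF_lt _ _ _) (getF_lt _ _ _)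
  have hbase : ∀ k < r, ∀ Y ∈ Fam, invS f S0 Y = v k →
      ∃ h ∈ H, h • famOf (getF w B (root k)) = Y := by
    intro k hk Y hY hinvY
    obtain ⟨j, hj, rfl⟩ := hs.complete Y hY
    rw [hinvbase j hj] at hinvY
    obtain ⟨h, hh, hsub⟩ := runQN_sound' H gens Ts Bs hm hB hgH w B (root k) (cn k) (cert k) j
      (by rw [hD k hk]; exact hrun k hk j hj hinvY)
    refine ⟨h, hh, Finset.eq_of_subset_of_card_le hsub ?_⟩
    rw [Finset.card_smul_finset, hs.hcard _ (hs.mem (hroot k hk))]
    exact (card_famOf_le _).trans (by rw [length_getF])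
  obtain ⟨g, hg, hgS⟩ := hs.trans S0 hs.hS0 S hS
  have hginv : g⁻¹ ∈ M24 := M24.inv_mem hg
  have hS0g : g⁻¹ • S = S0 := by rw [← hgS, inv_smul_smul]
  -- the invariant relative to `S` in terms of the base
  have hinvS : ∀ Y, invS f S Y = invS f S0 (g⁻¹ • Y) := by
    intro Y
    rw [← hS0g, invS_smul]
  refine ⟨fun k => g • famOf (getF w B (root k)), ?_, ?_, ?_, ?_, ?_⟩
  · intro k hk
    exact hs.hinv g hg _ (hs.mem (hroot k hk))
  · intro k hk
    ext Y
    refine ⟨fun hY => ?_, fun hY => ?_⟩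
    · obtain ⟨h, rfl⟩ := MulAction.mem_orbit_iff.1 hY
      have hσM : (h.1.1 : Equiv.Perm GolayPt) ∈ M24 := h.1.2
      have hσS : (h.1.1 : Equiv.Perm GolayPt) • S = S := MulAction.mem_stabilizer_iff.1 h.2
      show (h.1.1 : Equiv.Perm GolayPt) • (g • famOf (getF w B (root k))) ∈ Fam ∧
        invS f S ((h.1.1 : Equiv.Perm GolayPt) • (g • famOf (getF w B (root k)))) = v k
      refine ⟨hs.hinv _ hσM _ (hs.hinv g hg _ (hs.mem (hroot k hk))), ?_⟩
      have h1 : invS f S ((h.1.1 : Equiv.Perm GolayPt) • (g • famOf (getF w B (root k)))) =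
          invS f ((h.1.1 : Equiv.Perm GolayPt) • S)
            ((h.1.1 : Equiv.Perm GolayPt) • (g • famOf (getF w B (root k)))) := by rw [hσS]
      rw [h1, invS_smul, hinvS, inv_smul_smul, hinvbase _ (hroot k hk), hrootcls k hk]
    · obtain ⟨hYF, hYinv⟩ := hY
      rw [hinvS] at hYinv
      obtain ⟨h0, hh0, hh0Y⟩ := hbase k hk (g⁻¹ • Y) (hs.hinv _ hginv Y hYF) hYinv
      have hh0S : h0 • S0 = S0 := MulAction.mem_stabilizer_iff.1 hh0.2
      have hσM : g * h0 * g⁻¹ ∈ M24 := M24.mul_mem (M24.mul_mem hg hh0.1) hginv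
      have hσS : (g * h0 * g⁻¹) • S = S := by
        rw [mul_smul, mul_smul, hS0g, hh0S, hgS]
      have hσX : (g * h0 * g⁻¹) • (g • famOf (getF w B (root k))) = Y := by
        rw [mul_smul, mul_smul, inv_smul_smul, hh0Y, smul_inv_smul]
      exact MulAction.mem_orbit_iff.2
        ⟨⟨⟨g * h0 * g⁻¹, hσM⟩, MulAction.mem_stabilizer_iff.2 hσS⟩, hσX⟩
  · intro k hk
    have hset : {Y | Y ∈ Fam ∧ invS f S Y = v k} =
        (fun j => g • famOf (getF w B j)) ''
          (↑((Finset.range N).filter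
            (fun j => invM f (getF w B j0) (getF w B j) = v k)) : Set ℕ) := by
      ext Y
      refine ⟨fun hY => ?_, fun hY => ?_⟩
      · obtain ⟨hYF, hYinv⟩ := hY
        rw [hinvS] at hYinv
        obtain ⟨j, hj, hje⟩ := hs.complete (g⁻¹ • Y) (hs.hinv _ hginv Y hYF)
        rw [hje, hinvbase j hj] at hYinv
        refine ⟨j, ?_, ?_⟩
        · rw [Finset.mem_coe, Finset.mem_filter, Finset.mem_range]
          exact ⟨hj, hYinv⟩
        · show g • famOf (getF w B j) = Y
          rw [← hje, smul_inv_smul]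
      · obtain ⟨j, hj, rfl⟩ := hY
        rw [Finset.mem_coe, Finset.mem_filter, Finset.mem_range] at hj
        show g • famOf (getF w B j) ∈ Fam ∧ invS f S (g • famOf (getF w B j)) = v k
        refine ⟨hs.hinv g hg _ (hs.mem hj.1), ?_⟩
        rw [hinvS, inv_smul_smul, hinvbase j hj.1]
        exact hj.2
    have hinjOn : Set.InjOn (fun j => g • famOf (getF w B j))
        (↑((Finset.range N).filter
          (fun j => invM f (getF w B j0) (getF w B j) = v k)) : Set ℕ) := by
      intro i hi j hj hij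
      rw [Finset.mem_coe, Finset.mem_filter, Finset.mem_range] at hi hj
      exact hs.inj hi.1 hj.1 (MulAction.injective g hij)
    rw [hset, hinjOn.ncard_image, Set.ncard_coe_finset, hcount k hk]
  · intro Y hYF
    obtain ⟨j, hj, hje⟩ := hs.complete (g⁻¹ • Y) (hs.hinv _ hginv Y hYF)
    rcases hcover j hj with rfl | ⟨k, hk, hv⟩
    · left
      rw [← hgS, hS0def, ← hje, smul_inv_smul]
    · right
      refine ⟨k, hk, ?_⟩
      rw [hinvS, hje, hinvbase j hj]
      exact hv
  · intro k hk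
    rw [hinvS, hS0g, hinvbase j0 hs.hj0]
    exact hv0 k hk

/-- **Maximality of the stabilizer of a family.** -/
theorem fam_coatom (hs : FamSetup Fam w N B j0)
    (gens : List (Equiv.Perm GolayPt)) (Ts Bs : List ℕ) (hm : List.Forall₂ MatchesP gens Ts)
    (hB : List.Forall₂ ByteOK Ts Bs) (hgM : ∀ g ∈ gens, g ∈ M24)
    (hfix : ∀ T ∈ Ts, subF ((getF w B j0).map (applyP T)) (getF w B j0) = true)
    (f : ℕ → ℕ) (r : ℕ) (v n root cn cert : ℕ → ℕ)
    (hroot : ∀ k < r, root k < N)
    (D : ℕ → ℕ) (hD : ∀ k < r, runQN w Bs B (cn k) (cert k) (1 <<< root k) = D k)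
    (hrun : ∀ k < r, ∀ j < N, invM f (getF w B j0) (getF w B j) = v k →
      (D k).testBit j = true)
    (hcover : ∀ j < N, j = j0 ∨ ∃ k < r, invM f (getF w B j0) (getF w B j) = v k)
    (hv0 : ∀ k < r, invM f (getF w B j0) (getF w B j0) ≠ v k)
    (hvinj : ∀ k < r, ∀ k' < r, v k = v k' → k = k')
    (hcount : ∀ k < r, ((Finset.range N).filter
      fun j => invM f (getF w B j0) (getF w B j) = v k).card = n k)
    (hrootcls : ∀ k < r, invM f (getF w B j0) (getF w B (root k)) = v k)
    (hpos : 0 < ∑ i ∈ Finset.range r, n i)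
    (harith : ∀ J ∈ (Finset.range r).powerset,
      (1 + ∑ i ∈ J, n i) ∣ (1 + ∑ i ∈ Finset.range r, n i) →
        (∑ i ∈ J, n i = 0 ∨ ∑ i ∈ J, n i = ∑ i ∈ Finset.range r, n i))
    (S : Finset (Finset GolayPt)) (hS : S ∈ Fam) :
    IsCoatom (MulAction.stabilizer M24 S) := by
  classical
  obtain ⟨X, hXF, horb, hncard, hcov, hSS⟩ := fam_classes hs gens Ts Bs hm hB hgM hfix f r v n root cn
    cert hroot D hD hrun hcover hv0 hcount hrootcls S hS
  set O : ℕ → Finset (Finset (Finset GolayPt)) := fun k =>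
    Finset.univ.filter (fun Y => Y ∈ Fam ∧ invS f S Y = v k) with hOdef
  have hOmem : ∀ k Y, Y ∈ O k ↔ Y ∈ Fam ∧ invS f S Y = v k := by
    intro k Y
    simp [hOdef]
  have hOcard : ∀ k < r, (O k).card = n k := by
    intro k hk
    rw [← hncard k hk, ← Set.ncard_coe_finset]
    congr 1
    ext Y
    rw [Finset.mem_coe, hOmem]
    rfl
  have hsumJ : ∀ J ∈ (Finset.range r).powerset, ∑ i ∈ J, (O i).card = ∑ i ∈ J, n i := by
    intro J hJ
    exact Finset.sum_congr rfl
      (fun i hi => hOcard i (Finset.mem_range.1 (Finset.mem_powerset.1 hJ hi)))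
  have hsumR : ∑ i ∈ Finset.range r, (O i).card = ∑ i ∈ Finset.range r, n i :=
    hsumJ _ (Finset.mem_powerset.2 (Finset.Subset.refl _))
  apply isCoatom_stabilizer_of_suborbits (G := M24) S r O
  · intro g'
    have hmem : g' • S ∈ Fam := hs.hinv g'.1 g'.2 S hS
    rcases hcov _ hmem with h | ⟨k, hk, hv⟩
    · left; exact h
    · right; exact ⟨k, hk, (hOmem k _).2 ⟨hmem, hv⟩⟩
  · intro i hi x hx
    rw [hOmem] at hx
    refine ⟨?_, ?_⟩
    · rintro rfl
      exact hSS i hi hx.2
    · obtain ⟨g', hg', h⟩ := hs.trans S hS x hx.1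
      exact ⟨⟨g', hg'⟩, h⟩
  · intro i hi j hj hij
    rw [Finset.disjoint_left]
    intro x hxi hxj
    rw [hOmem] at hxi hxj
    exact hij (hvinj i hi j hj (hxi.2.symm.trans hxj.2))
  · intro i hi x hx y hy
    rw [hOmem] at hx hy
    have hx' : x ∈ MulAction.orbit (MulAction.stabilizer M24 S) (X i) := by
      rw [horb i hi]; exact hx
    have hy' : y ∈ MulAction.orbit (MulAction.stabilizer M24 S) (X i) := by
      rw [horb i hi]; exact hy
    obtain ⟨a, rfl⟩ := MulAction.mem_orbit_iff.1 hx'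
    obtain ⟨b, rfl⟩ := MulAction.mem_orbit_iff.1 hy'
    refine ⟨((b * a⁻¹ : MulAction.stabilizer M24 S) : M24), (b * a⁻¹).2, ?_⟩
    show ((b * a⁻¹ : MulAction.stabilizer M24 S) : M24) • ((a : M24) • X i) = (b : M24) • X i
    rw [Subgroup.coe_mul, Subgroup.coe_inv, mul_smul, inv_smul_smul]
  · rw [hsumR]; exact hpos
  · intro J hJ hdvd
    rw [hsumJ J hJ, hsumR] at hdvd ⊢
    exact harith J hJ hdvd

/-! ### Boolean checkers (evaluated by the kernel) -/

/-- strictly increasing -/
def sortedB : List ℕ → Bool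
  | [] => true
  | [_] => true
  | a :: b :: t => decide (a < b) && sortedB (b :: t)

theorem pairwise_of_sortedB : ∀ l : List ℕ, sortedB l = true → l.Pairwise (· < ·)
  | [], _ => List.Pairwise.nil
  | [_], _ => List.pairwise_singleton _ _
  | a :: b :: t, h => by
    rw [sortedB, Bool.and_eq_true, decide_eq_true_eq] at h
    have ih := pairwise_of_sortedB (b :: t) h.2
    refine List.Pairwise.cons ?_ ih
    intro x hx
    rcases List.mem_cons.1 hx with rfl | hx'
    · exact h.1
    · exact h.1.trans (List.rel_of_pairwise_cons ih hx')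

theorem forall_lt_of_allRange (p : ℕ → Bool) {N : ℕ} (hN : N ≤ 4096)
    (h : allRange (fun j => decide (N ≤ j) || p j) 12 0 = true) : ∀ j < N, p j = true := by
  intro j hj
  have := (allRange_zero_iff _ 12).1 h j (by norm_num; omega)
  rw [Bool.or_eq_true, decide_eq_true_eq] at this
  rcases this with h1 | h1
  · omega
  · exact h1

/-- the families are sorted, and the list of families is sorted -/
def sortCheck (w N : ℕ) (B : List ℕ) : Bool :=
  allRange (fun j => decide (N ≤ j) || withFam w B j fun l => sortedB l &&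
    (decide (N ≤ j + 1) || withFam w B (j + 1) fun l' => decide (codeL l < codeL l'))) 12 0

theorem sortCheck_sound {w N : ℕ} {B : List ℕ} (hN : N ≤ 4096) (h : sortCheck w N B = true) :
    (∀ j < N, (getF w B j).Pairwise (· < ·)) ∧
      (∀ j, j + 1 < N → codeL (getF w B j) < codeL (getF w B (j + 1))) := by
  have key := forall_lt_of_allRange _ hN h
  simp only [withFam_eq, Bool.and_eq_true, Bool.or_eq_true, decide_eq_true_eq] at key
  refine ⟨fun j hj => pairwise_of_sortedB _ (key j hj).1, fun j hj => ?_⟩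
  rcases (key j (by omega)).2 with h1 | h1
  · omega
  · exact h1

/-- the class of the `j`-th family, with invariant `c`, is as described by `v` and `D` -/
def clsOK (r : ℕ) (v D : ℕ → ℕ) (j0 j c : ℕ) : Bool :=
  (if j = j0 then (List.range r).all fun k => !(c == v k)
    else (List.range r).any fun k => c == v k) &&
  (List.range r).all fun k => (c == v k) == (D k).testBit j

/-- the classes of all families are as described by `v` and `D` -/
def clsCheck (w N : ℕ) (B : List ℕ) (j0 : ℕ) (f : ℕ → ℕ) (r : ℕ) (v D : ℕ → ℕ) : Bool :=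
  withFam w B j0 fun l0 =>
    allRange (fun j => decide (N ≤ j) ||
      withFam w B j fun l => forceNat (invQ f l0 l) fun c => clsOK r v D j0 j c) 12 0

theorem clsCheck_sound {w N : ℕ} {B : List ℕ} {j0 : ℕ} {f : ℕ → ℕ} {r : ℕ} {v D : ℕ → ℕ}
    (hN : N ≤ 4096) (hj0 : j0 < N) (h : clsCheck w N B j0 f r v D = true) :
    (∀ k < r, ∀ j < N, invM f (getF w B j0) (getF w B j) = v k ↔ (D k).testBit j = true) ∧
    (∀ j < N, j = j0 ∨ ∃ k < r, invM f (getF w B j0) (getF w B j) = v k) ∧
    (∀ k < r, invM f (getF w B j0) (getF w B j0) ≠ v k) := by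
  unfold clsCheck at h
  rw [withFam_eq] at h
  have key := forall_lt_of_allRange _ hN h
  simp only [withFam_eq, forceNat_eq, invQ_eq, clsOK, Bool.and_eq_true, List.all_eq_true,
    List.mem_range, beq_iff_eq] at key
  refine ⟨fun k hk j hj => ?_, fun j hj => ?_, fun k hk => ?_⟩
  · have := (key j hj).2 k hk
    constructor
    · intro hc
      rw [← this]
      exact beq_iff_eq.2 hc
    · intro hb
      rw [hb] at this
      exact beq_iff_eq.1 this
  · by_cases hjj : j = j0
    · exact Or.inl hjj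
    · right
      have := (key j hj).1
      rw [if_neg hjj, List.any_eq_true] at this
      obtain ⟨k, hk, hc⟩ := this
      exact ⟨k, List.mem_range.1 hk, beq_iff_eq.1 hc⟩
  · have := (key j0 hj0).1
    rw [if_pos rfl, List.all_eq_true] at this
    have h2 := this k (List.mem_range.2 hk)
    intro hc
    rw [hc] at h2
    simp at h2

theorem card_filter_range_eq_countRange (p : ℕ → Bool) {N : ℕ} (hN : N ≤ 4096) :
    ((Finset.range N).filter (fun j => p j = true)).card =
      countRange (fun j => decide (j < N) && p j) 12 0 := by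
  rw [countRange_eq]
  congr 1
  ext j
  simp only [Finset.mem_filter, Finset.mem_range, Finset.mem_Ico, Bool.and_eq_true,
    decide_eq_true_eq]
  constructor
  · rintro ⟨h1, h2⟩
    exact ⟨⟨Nat.zero_le _, by norm_num; omega⟩, h1, h2⟩
  · rintro ⟨_, h1, h2⟩
    exact ⟨h1, h2⟩

/-- **Main theorem from the checkers.** -/
theorem fam_main (hs : FamSetup Fam w N B j0) (hN : N ≤ 4096)
    (gens : List (Equiv.Perm GolayPt)) (Ts Bs : List ℕ) (hm : List.Forall₂ MatchesP gens Ts)
    (hB : List.Forall₂ ByteOK Ts Bs) (hgM : ∀ g ∈ gens, g ∈ M24)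
    (hfix : ∀ T ∈ Ts, subF ((getF w B j0).map (applyP T)) (getF w B j0) = true)
    (f : ℕ → ℕ) (r : ℕ) (v n root cn cert : ℕ → ℕ)
    (hroot : ∀ k < r, root k < N)
    (D : ℕ → ℕ) (hD : ∀ k < r, runQN w Bs B (cn k) (cert k) (1 <<< root k) = D k)
    (hcls : clsCheck w N B j0 f r v D = true)
    (hvinj : ∀ k < r, ∀ k' < r, v k = v k' → k = k')
    (hcount : ∀ k < r, countRange (fun j => decide (j < N) && (D k).testBit j) 12 0 = n k)
    (hrootD : ∀ k < r, (D k).testBit (root k) = true)
    (hpos : 0 < ∑ i ∈ Finset.range r, n i)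
    (harith : ∀ J ∈ (Finset.range r).powerset,
      (1 + ∑ i ∈ J, n i) ∣ (1 + ∑ i ∈ Finset.range r, n i) →
        (∑ i ∈ J, n i = 0 ∨ ∑ i ∈ J, n i = ∑ i ∈ Finset.range r, n i))
    (S : Finset (Finset GolayPt)) (hS : S ∈ Fam) :
    (∃ X : ℕ → Finset (Finset GolayPt), (∀ k < r, X k ∈ Fam) ∧
      (∀ k < r, MulAction.orbit (MulAction.stabilizer M24 S) (X k) =
        {Y | Y ∈ Fam ∧ invS f S Y = v k}) ∧
      (∀ k < r, {Y | Y ∈ Fam ∧ invS f S Y = v k}.ncard = n k) ∧
      (∀ Y ∈ Fam, Y = S ∨ ∃ k < r, invS f S Y = v k) ∧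
      (∀ k < r, invS f S S ≠ v k)) ∧ IsCoatom (MulAction.stabilizer M24 S) := by
  obtain ⟨hiff, hcover, hv0⟩ := clsCheck_sound hN hs.hj0 hcls
  have hrun : ∀ k < r, ∀ j < N, invM f (getF w B j0) (getF w B j) = v k →
      (D k).testBit j = true := fun k hk j hj => (hiff k hk j hj).1
  have hcount' : ∀ k < r, ((Finset.range N).filter
      fun j => invM f (getF w B j0) (getF w B j) = v k).card = n k := by
    intro k hk
    rw [← hcount k hk, ← card_filter_range_eq_countRange _ hN]
    congr 1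
    apply Finset.filter_congr
    intro j hj
    exact hiff k hk j (Finset.mem_range.1 hj)
  have hrootcls : ∀ k < r, invM f (getF w B j0) (getF w B (root k)) = v k :=
    fun k hk => (hiff k hk _ (hroot k hk)).2 (hrootD k hk)
  exact ⟨fam_classes hs gens Ts Bs hm hB hgM hfix f r v n root cn cert hroot D hD hrun hcover hv0
      hcount' hrootcls S hS,
    fam_coatom hs gens Ts Bs hm hB hgM hfix f r v n root cn cert hroot D hD hrun hcover hv0 hvinj
      hcount' hrootcls hpos harith S hS⟩

end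

end Cfsg.Agent.Lib.Helper26
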