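import Mathlib
import Cfsg.Prelude.Def_SporadicCombinatorics
import Cfsg.Agent.Lib.Helper26.FamMain

/-!
# Orbits of the stabilizer of a family of one kind on the families of another kind

`fam_cross`: given a set `Fam₁` of families on which `M24` is transitive, with a base family given
by a sorted list `l0` of masks, a `FamSetup` for a second kind of families (e.g. sextets or trios),
generators of the stabilizer of the base family, and certificates for its orbits on the families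
of the second kind, the stabilizer in `M24` of any family `S ∈ Fam₁` has the orbits
`{Y | invS f S Y = v k}` on the second kind, of the sizes `n k`.
-/

set_option autoImplicit false

namespace Cfsg.Agent.Lib.Helper26

open Cfsg
open scoped Pointwise

/-- the class of the `j`-th family, with invariant `c`, is as described by `v` and `D` -/
def crossOK (r : ℕ) (v D : ℕ → ℕ) (j c : ℕ) : Bool :=
  ((List.range r).any fun k => c == v k) &&
  (List.range r).all fun k => (c == v k) == (D k).testBit j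

/-- the classes of all families of the second kind are as described by `v` and `D` -/
def crossCheck (l0 : List ℕ) (w₂ N₂ : ℕ) (B₂ : List ℕ) (f : ℕ → ℕ) (r : ℕ)
    (v D : ℕ → ℕ) : Bool :=
  allRange (fun j => decide (N₂ ≤ j) ||
    withFam w₂ B₂ j fun l => forceNat (invQ f l0 l) fun c => crossOK r v D j c) 12 0

theorem crossCheck_sound {l0 : List ℕ} {w₂ N₂ : ℕ} {B₂ : List ℕ} {f : ℕ → ℕ} {r : ℕ}
    {v D : ℕ → ℕ} (hN : N₂ ≤ 4096) (h : crossCheck l0 w₂ N₂ B₂ f r v D = true) :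
    (∀ k < r, ∀ j < N₂, invM f l0 (getF w₂ B₂ j) = v k ↔ (D k).testBit j = true) ∧
    (∀ j < N₂, ∃ k < r, invM f l0 (getF w₂ B₂ j) = v k) := by
  unfold crossCheck at h
  have key := forall_lt_of_allRange _ hN h
  simp only [withFam_eq, forceNat_eq, invQ_eq, crossOK, Bool.and_eq_true, List.all_eq_true,
    List.mem_range, beq_iff_eq] at key
  refine ⟨fun k hk j hj => ?_, fun j hj => ?_⟩
  · have := (key j hj).2 k hk
    constructor
    · intro hc
      rw [← this]
      exact beq_iff_eq.2 hc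
    · intro hb
      rw [hb] at this
      exact beq_iff_eq.1 this
  · have := (key j hj).1
    rw [List.any_eq_true] at this
    obtain ⟨k, hk, hc⟩ := this
    exact ⟨k, List.mem_range.1 hk, beq_iff_eq.1 hc⟩

/-- **Orbits of the stabilizer of a family of the first kind on the families of the second
kind.** -/
theorem fam_cross {Fam₁ Fam₂ : Set (Finset (Finset GolayPt))} {l0 : List ℕ}
    {w₂ N₂ : ℕ} {B₂ : List ℕ} {j2 : ℕ}
    (hl0 : l0.Pairwise (· < ·)) (hl0lt : ∀ m ∈ l0, m < 2 ^ 24)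
    (htrans₁ : ∀ S ∈ Fam₁, ∃ g ∈ M24, g • famOf l0 = S)
    (hs₂ : FamSetup Fam₂ w₂ N₂ B₂ j2) (hN : N₂ ≤ 4096)
    (gens : List (Equiv.Perm GolayPt)) (Ts Bs : List ℕ) (hm : List.Forall₂ MatchesP gens Ts)
    (hB : List.Forall₂ ByteOK Ts Bs) (hgM : ∀ g ∈ gens, g ∈ M24)
    (hfix : ∀ T ∈ Ts, subF (l0.map (applyP T)) l0 = true)
    (f : ℕ → ℕ) (r : ℕ) (v n root cn cert : ℕ → ℕ)
    (hroot : ∀ k < r, root k < N₂)
    (D : ℕ → ℕ) (hD : ∀ k < r, runQN w₂ Bs B₂ (cn k) (cert k) (1 <<< root k) = D k)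
    (hcls : crossCheck l0 w₂ N₂ B₂ f r v D = true)
    (hcount : ∀ k < r, countRange (fun j => decide (j < N₂) && (D k).testBit j) 12 0 = n k)
    (hrootD : ∀ k < r, (D k).testBit (root k) = true)
    (S : Finset (Finset GolayPt)) (hS : S ∈ Fam₁) :
    ∃ X : ℕ → Finset (Finset GolayPt), (∀ k < r, X k ∈ Fam₂) ∧
      (∀ k < r, MulAction.orbit (MulAction.stabilizer M24 S) (X k) =
        {Y | Y ∈ Fam₂ ∧ invS f S Y = v k}) ∧
      (∀ k < r, {Y | Y ∈ Fam₂ ∧ invS f S Y = v k}.ncard = n k) ∧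
      (∀ Y ∈ Fam₂, ∃ k < r, invS f S Y = v k) := by
  classical
  obtain ⟨hiff, hcover⟩ := crossCheck_sound hN hcls
  have hcount' : ∀ k < r, ((Finset.range N₂).filter
      fun j => invM f l0 (getF w₂ B₂ j) = v k).card = n k := by
    intro k hk
    rw [← hcount k hk, ← card_filter_range_eq_countRange _ hN]
    congr 1
    apply Finset.filter_congr
    intro j hj
    exact hiff k hk j (Finset.mem_range.1 hj)
  set S0 := famOf l0 with hS0def
  set H : Subgroup (Equiv.Perm GolayPt) :=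
    M24 ⊓ MulAction.stabilizer (Equiv.Perm GolayPt) S0 with hH
  have hgH : ∀ g ∈ gens, g ∈ H := by
    intro g hg
    obtain ⟨T, hT, hgT⟩ := exists_of_forall₂_mem' hm hg
    refine Subgroup.mem_inf.2 ⟨hgM g hg, ?_⟩
    rw [MulAction.mem_stabilizer_iff]
    apply Finset.eq_of_subset_of_card_le
    · rw [hS0def, smul_famOf hgT]; exact famOf_subset_of_subF (hfix T hT)
    · rw [Finset.card_smul_finset]
  have hinvbase : ∀ j < N₂, invS f S0 (famOf (getF w₂ B₂ j)) =
      invM f l0 (getF w₂ B₂ j) := fun j hj =>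
    invS_famOf f hl0 (hs₂.hsorted j hj) hl0lt (getF_lt _ _ _)
  have hbase : ∀ k < r, ∀ Y ∈ Fam₂, invS f S0 Y = v k →
      ∃ h ∈ H, h • famOf (getF w₂ B₂ (root k)) = Y := by
    intro k hk Y hY hinvY
    obtain ⟨j, hj, rfl⟩ := hs₂.complete Y hY
    rw [hinvbase j hj] at hinvY
    obtain ⟨h, hh, hsub⟩ := runQN_sound' H gens Ts Bs hm hB hgH w₂ B₂ (root k) (cn k) (cert k) j
      (by rw [hD k hk]; exact (hiff k hk j hj).1 hinvY)
    refine ⟨h, hh, Finset.eq_of_subset_of_card_le hsub ?_⟩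
    rw [Finset.card_smul_finset, hs₂.hcard _ (hs₂.mem (hroot k hk))]
    exact (card_famOf_le _).trans (by rw [length_getF])
  obtain ⟨g, hg, hgS⟩ := htrans₁ S hS
  have hginv : g⁻¹ ∈ M24 := M24.inv_mem hg
  have hS0g : g⁻¹ • S = S0 := by rw [← hgS, inv_smul_smul]
  have hinvS : ∀ Y, invS f S Y = invS f S0 (g⁻¹ • Y) := by
    intro Y
    rw [← hS0g, invS_smul]
  refine ⟨fun k => g • famOf (getF w₂ B₂ (root k)), ?_, ?_, ?_, ?_⟩
  · intro k hk
    exact hs₂.hinv g hg _ (hs₂.mem (hroot k hk))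
  · intro k hk
    ext Y
    refine ⟨fun hY => ?_, fun hY => ?_⟩
    · obtain ⟨h, rfl⟩ := MulAction.mem_orbit_iff.1 hY
      have hσM : (h.1.1 : Equiv.Perm GolayPt) ∈ M24 := h.1.2
      have hσS : (h.1.1 : Equiv.Perm GolayPt) • S = S := MulAction.mem_stabilizer_iff.1 h.2
      show (h.1.1 : Equiv.Perm GolayPt) • (g • famOf (getF w₂ B₂ (root k))) ∈ Fam₂ ∧
        invS f S ((h.1.1 : Equiv.Perm GolayPt) • (g • famOf (getF w₂ B₂ (root k)))) = v k
      refine ⟨hs₂.hinv _ hσM _ (hs₂.hinv g hg _ (hs₂.mem (hroot k hk))), ?_⟩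
      have h1 : invS f S ((h.1.1 : Equiv.Perm GolayPt) • (g • famOf (getF w₂ B₂ (root k)))) =
          invS f ((h.1.1 : Equiv.Perm GolayPt) • S)
            ((h.1.1 : Equiv.Perm GolayPt) • (g • famOf (getF w₂ B₂ (root k)))) := by rw [hσS]
      rw [h1, invS_smul, hinvS, inv_smul_smul, hinvbase _ (hroot k hk)]
      exact (hiff k hk _ (hroot k hk)).2 (hrootD k hk)
    · obtain ⟨hYF, hYinv⟩ := hY
      rw [hinvS] at hYinv
      obtain ⟨h0, hh0, hh0Y⟩ := hbase k hk (g⁻¹ • Y) (hs₂.hinv _ hginv Y hYF) hYinv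
      have hh0S : h0 • S0 = S0 := MulAction.mem_stabilizer_iff.1 hh0.2
      have hσM : g * h0 * g⁻¹ ∈ M24 := M24.mul_mem (M24.mul_mem hg hh0.1) hginv
      have hσS : (g * h0 * g⁻¹) • S = S := by
        rw [mul_smul, mul_smul, hS0g, hh0S, hgS]
      have hσX : (g * h0 * g⁻¹) • (g • famOf (getF w₂ B₂ (root k))) = Y := by
        rw [mul_smul, mul_smul, inv_smul_smul, hh0Y, smul_inv_smul]
      exact MulAction.mem_orbit_iff.2
        ⟨⟨⟨g * h0 * g⁻¹, hσM⟩, MulAction.mem_stabilizer_iff.2 hσS⟩, hσX⟩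
  · intro k hk
    have hset : {Y | Y ∈ Fam₂ ∧ invS f S Y = v k} =
        (fun j => g • famOf (getF w₂ B₂ j)) ''
          (↑((Finset.range N₂).filter
            (fun j => invM f l0 (getF w₂ B₂ j) = v k)) : Set ℕ) := by
      ext Y
      refine ⟨fun hY => ?_, fun hY => ?_⟩
      · obtain ⟨hYF, hYinv⟩ := hY
        rw [hinvS] at hYinv
        obtain ⟨j, hj, hje⟩ := hs₂.complete (g⁻¹ • Y) (hs₂.hinv _ hginv Y hYF)
        rw [hje, hinvbase j hj] at hYinv
        refine ⟨j, ?_, ?_⟩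
        · rw [Finset.mem_coe, Finset.mem_filter, Finset.mem_range]
          exact ⟨hj, hYinv⟩
        · show g • famOf (getF w₂ B₂ j) = Y
          rw [← hje, smul_inv_smul]
      · obtain ⟨j, hj, rfl⟩ := hY
        rw [Finset.mem_coe, Finset.mem_filter, Finset.mem_range] at hj
        show g • famOf (getF w₂ B₂ j) ∈ Fam₂ ∧ invS f S (g • famOf (getF w₂ B₂ j)) = v k
        refine ⟨hs₂.hinv g hg _ (hs₂.mem hj.1), ?_⟩
        rw [hinvS, inv_smul_smul, hinvbase j hj.1]
        exact hj.2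
    have hinjOn : Set.InjOn (fun j => g • famOf (getF w₂ B₂ j))
        (↑((Finset.range N₂).filter
          (fun j => invM f l0 (getF w₂ B₂ j) = v k)) : Set ℕ) := by
      intro i hi j hj hij
      rw [Finset.mem_coe, Finset.mem_filter, Finset.mem_range] at hi hj
      exact hs₂.inj hi.1 hj.1 (MulAction.injective g hij)
    rw [hset, hinjOn.ncard_image, Set.ncard_coe_finset, hcount' k hk]
  · intro Y hYF
    obtain ⟨j, hj, hje⟩ := hs₂.complete (g⁻¹ • Y) (hs₂.hinv _ hginv Y hYF)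
    obtain ⟨k, hk, hv⟩ := hcover j hj
    refine ⟨k, hk, ?_⟩
    rw [hinvS, hje, hinvbase j hj]
    exact hv

end Cfsg.Agent.Lib.Helper26
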