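import Mathlib
import Cfsg.Prelude.Def_SporadicCombinatorics
import Cfsg.Agent.Lib.Helper26.OctFamData
import Cfsg.Agent.Lib.Helper26.FamCross
import Cfsg.Agent.Lib.Helper7.M24Trans

/-!
# Octads as one-element families

`octFams` is the set of the families `{o}`, `o` an octad; `octfam_setup` is its `FamSetup`.
Lemmas translating orbits on one-element families into orbits on sets.
-/

set_option autoImplicit false

namespace Cfsg.Agent.Lib.Helper26

open Cfsg Cfsg.Agent.Lib.Helper27
open scoped Pointwise

local notation "setOf₇" => Cfsg.Agent.Lib.Helper7.setOf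

/-- the octads as one-element families -/
def octFams : Set (Finset (Finset GolayPt)) := {F | ∃ o ∈ octads, F = {o}}

theorem singleton_mem_octFams {o : Finset GolayPt} :
    ({o} : Finset (Finset GolayPt)) ∈ octFams ↔ o ∈ octads := by
  constructor
  · rintro ⟨o', ho', h⟩
    rw [Finset.singleton_inj.1 h]; exact ho'
  · intro h; exact ⟨o, h, rfl⟩

theorem famOf_singleton (m : ℕ) : famOf [m] = {setOf₇ m} := by
  simp [famOf]

theorem ncard_octFams : octFams.ncard = 759 := by
  have : octFams = (fun o : Finset GolayPt => ({o} : Finset (Finset GolayPt))) '' octads := by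
    ext F
    constructor
    · rintro ⟨o, ho, rfl⟩; exact ⟨o, ho, rfl⟩
    · rintro ⟨o, ho, rfl⟩; exact ⟨o, ho, rfl⟩
  rw [this, Set.ncard_image_of_injective _ Finset.singleton_injective, ncard_octads]

theorem octfam_setup : FamSetup octFams 1 759 ocB ocJ0 where
  hinv := by
    rintro g hg X ⟨o, ho, rfl⟩
    rw [Finset.smul_finset_singleton]
    exact ⟨g • o, Cfsg.Agent.Lib.Helper7.smul_mem_octads hg ho, rfl⟩
  hcard := by
    rintro X ⟨o, _, rfl⟩
    exact Finset.card_singleton _
  hN := ncard_octFams
  hj0 := by decide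
  hS0 := by
    rw [oc_getF_J0, ocL0, famOf_singleton]
    exact ⟨_, Cfsg.Agent.Lib.Helper7.setOf_mem_octads (by decide +kernel), rfl⟩
  hsorted := (sortCheck_sound (by norm_num) oc_sort).1
  hcode := (sortCheck_sound (by norm_num) oc_sort).2
  hM := ⟨Cfsg.Agent.Lib.Helper7.gensP, m24Ts, m24Bs, 758, ocCertM, m24Ts_match, m24Bs_ok,
    gensP_mem_M24'', oc_runM⟩

/-- `M24` maps the base octad family onto any octad family -/
theorem octFams_trans : ∀ S ∈ octFams, ∃ g ∈ M24, g • famOf ocL0 = S := by
  rintro S ⟨o, ho, rfl⟩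
  obtain ⟨g, hg⟩ := Cfsg.Agent.Lib.Helper7.exists_M24_smul_octad
    (Cfsg.Agent.Lib.Helper7.setOf_mem_octads (m := 0x82402f) (by decide +kernel)) ho
  refine ⟨g.1, g.2, ?_⟩
  rw [ocL0, famOf_singleton, Finset.smul_finset_singleton]
  exact congrArg _ hg

/-- the stabilizer of a one-element family is the stabilizer of its element -/
theorem stabilizer_singleton_fam (o : Finset GolayPt) :
    MulAction.stabilizer M24 ({o} : Finset (Finset GolayPt)) = MulAction.stabilizer M24 o := by
  ext g
  rw [MulAction.mem_stabilizer_iff, MulAction.mem_stabilizer_iff]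
  show (g.1 : Equiv.Perm GolayPt) • ({o} : Finset (Finset GolayPt)) = {o} ↔
    (g.1 : Equiv.Perm GolayPt) • o = o
  rw [Finset.smul_finset_singleton, Finset.singleton_inj]

/-- orbits on one-element families -/
theorem orbit_singleton_fam (S : Finset (Finset GolayPt)) (x : Finset GolayPt) :
    MulAction.orbit (MulAction.stabilizer M24 S) ({x} : Finset (Finset GolayPt)) =
      (fun y : Finset GolayPt => ({y} : Finset (Finset GolayPt))) ''
        MulAction.orbit (MulAction.stabilizer M24 S) x := by
  have key : ∀ h : MulAction.stabilizer M24 S,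
      h • ({x} : Finset (Finset GolayPt)) = {h • x} := by
    intro h
    show (h.1.1 : Equiv.Perm GolayPt) • ({x} : Finset (Finset GolayPt)) =
      {(h.1.1 : Equiv.Perm GolayPt) • x}
    exact Finset.smul_finset_singleton _
  ext Y
  constructor
  · rintro ⟨h, rfl⟩
    exact ⟨h • x, ⟨h, rfl⟩, (key h).symm⟩
  · rintro ⟨y, ⟨h, rfl⟩, rfl⟩
    exact ⟨h, key h⟩

theorem ncard_orbit_singleton_fam (S : Finset (Finset GolayPt)) (x : Finset GolayPt) :
    (MulAction.orbit (MulAction.stabilizer M24 S) ({x} : Finset (Finset GolayPt))).ncard =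
      (MulAction.orbit (MulAction.stabilizer M24 S) x).ncard := by
  rw [orbit_singleton_fam, Set.ncard_image_of_injective _ Finset.singleton_injective]

end Cfsg.Agent.Lib.Helper26
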