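import Mathlib
import Cfsg.Prelude.Def_Sporadic_a
import Cfsg.Agent.Lib.Helper26.GolayBitsWeights
import Cfsg.Agent.Lib.Helper93.GolayAbstract

/-!
# `Cfsg.golayCode` is an abstract Golay code (helper93's `IsGolayLike`), and the octads form
a Steiner system `S(5,8,24)`.
-/

set_option autoImplicit false

namespace Cfsg.Agent.Lib.Helper26

open Cfsg Cfsg.Agent.Lib.Helper93

theorem supp_eq_support₂' (w : GolayPt → ZMod 2) : supp w = support₂ w := rfl

theorem card_golayPt : Fintype.card GolayPt = 24 := by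
  simp [GolayPt, Fintype.card_option, ZMod.card]

/-- The concrete code is an abstract Golay code. -/
theorem golayCode_isGolayLike : IsGolayLike golayCode where
  card_pts := card_golayPt
  finrank_eq := finrank_golayCode
  orth := fun _ hv _ hw => golayCode_self_orthogonal hv hw
  minwt := fun _ hw h0 => golayCode_min_hammingNorm hw h0

theorem mem_octads_iff_exists (o : Finset GolayPt) :
    o ∈ octads ↔ ∃ c ∈ golayCode, supp c = o ∧ o.card = 8 := by
  unfold octads wordsOfWeight supports
  constructor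
  · rintro ⟨⟨c, hc, rfl⟩, h8⟩
    exact ⟨c, hc, rfl, h8⟩
  · rintro ⟨c, hc, rfl, h8⟩
    exact ⟨⟨c, hc, rfl⟩, h8⟩

/-- **The octads form a Steiner system S(5,8,24).** -/
theorem octads_isSteiner : IsSteinerSystem 5 8 octads := by
  refine ⟨fun b hb => hb.2, fun s hs => ?_⟩
  obtain ⟨b, ⟨hb, hsb⟩, huniq⟩ := golayCode_isGolayLike.steiner s hs
  refine ⟨b, ⟨(mem_octads_iff_exists b).2 hb, hsb⟩, ?_⟩
  rintro b' ⟨hb', hsb'⟩
  exact huniq b' ⟨(mem_octads_iff_exists b').1 hb', hsb'⟩

end Cfsg.Agent.Lib.Helper26
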