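import Mathlib
import Cfsg.Prelude.Def_SporadicCombinatorics
import Cfsg.Agent.Lib.Helper26.SextetData
import Cfsg.Agent.Lib.Helper7.M24Chain
import Cfsg.Agent.S1550

/-!
# The sextets as a family: `M24` is transitive on the 1771 sextets, and the orbits of a sextet
stabilizer on sextets are `1 + 90 + 240 + 1440`
-/

set_option autoImplicit false

namespace Cfsg.Agent.Lib.Helper26

open Cfsg Cfsg.Agent.Lib.Helper27
open scoped Pointwise

local notation "setOf₇" => Cfsg.Agent.Lib.Helper7.setOf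

theorem smul_mem_sextets {g : Equiv.Perm GolayPt} (hg : g ∈ M24) {X : Finset (Finset GolayPt)}
    (hX : X ∈ sextets) : g • X ∈ sextets := by
  obtain ⟨h6, h4, hu⟩ := hX
  refine ⟨by rw [Finset.card_smul_finset]; exact h6, ?_, ?_⟩
  · intro t ht
    obtain ⟨t', ht', rfl⟩ := Finset.mem_smul_finset.1 ht
    rw [Finset.card_smul_finset]
    exact h4 t' ht'
  · intro t ht u hu' htu
    obtain ⟨t', ht', rfl⟩ := Finset.mem_smul_finset.1 ht
    obtain ⟨u', hu'', rfl⟩ := Finset.mem_smul_finset.1 hu'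
    have hne : t' ≠ u' := fun h => htu (by rw [h])
    rw [← Finset.smul_finset_union]
    exact Cfsg.Agent.Lib.Helper7.smul_mem_octads hg (hu t' ht' u' hu'' hne)

/-- a sorted list of six tetrad masks with pairwise unions octads gives a sextet -/
theorem famOf_mem_sextets {l : List ℕ} (hl : l.Pairwise (· < ·)) (hlt : ∀ m ∈ l, m < 2 ^ 24)
    (hlen : l.length = 6) (h4 : ∀ a ∈ l, popT a = 4)
    (hoct : ∀ a ∈ l, ∀ b ∈ l, a ≠ b → Cfsg.Agent.Lib.Helper7.isOctadMask (a ||| b) = true) :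
    famOf l ∈ sextets := by
  refine ⟨by rw [card_famOf hl hlt, hlen], ?_, ?_⟩
  · intro t ht
    obtain ⟨m, hm, rfl⟩ := mem_famOf.1 ht
    rw [card_setOf7 (hlt m hm), h4 m hm]
  · intro t ht u hu htu
    obtain ⟨a, ha, rfl⟩ := mem_famOf.1 ht
    obtain ⟨b, hb, rfl⟩ := mem_famOf.1 hu
    have hab : a ≠ b := fun h => htu (by rw [h])
    rw [← Cfsg.Agent.Lib.Helper7.setOf_or]
    exact Cfsg.Agent.Lib.Helper7.setOf_mem_octads (hoct a ha b hb hab)

theorem sx_getF_J0 : getF 6 sxB sxJ0 = [0xf, 0x1490, 0x98100, 0x342000, 0x400a40, 0x824020] := by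
  decide +kernel

theorem gensP_mem_M24 : ∀ g ∈ Cfsg.Agent.Lib.Helper7.gensP, g ∈ M24 := fun g hg =>
  Cfsg.Agent.Lib.Helper7.genH_le_M24 (Cfsg.Agent.Lib.Helper7.gensP_mem_genH g hg)

theorem sextet_setup : FamSetup sextets 6 1771 sxB sxJ0 where
  hinv := fun g hg X hX => smul_mem_sextets hg hX
  hcard := fun X hX => hX.1
  hN := Cfsg.Agent.S1550.result.2
  hj0 := by decide
  hS0 := by
    rw [sx_getF_J0]
    refine famOf_mem_sextets (by decide) (by decide) rfl (by decide +kernel) (by decide +kernel)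
  hsorted := (sortCheck_sound (by norm_num) sx_sort).1
  hcode := (sortCheck_sound (by norm_num) sx_sort).2
  hM := ⟨Cfsg.Agent.Lib.Helper7.gensP, sxTsM, sxBsM, 1770, sxCertM, sxTsM_match, sxBsM_ok,
    gensP_mem_M24, sx_runM⟩

/-- the invariant separating the orbits of a sextet stabilizer on sextets -/
def sextetInv (S X : Finset (Finset GolayPt)) : ℕ := invS sxF S X

/-- **Orbits of a sextet stabilizer on sextets, and maximality.** -/
theorem sextet_main (S : Finset (Finset GolayPt)) (hS : S ∈ sextets) :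
    (∃ X : ℕ → Finset (Finset GolayPt), (∀ k < 3, X k ∈ sextets) ∧
      (∀ k < 3, MulAction.orbit (MulAction.stabilizer M24 S) (X k) =
        {Y | Y ∈ sextets ∧ invS sxF S Y = sxV k}) ∧
      (∀ k < 3, {Y | Y ∈ sextets ∧ invS sxF S Y = sxV k}.ncard = sxSz k) ∧
      (∀ Y ∈ sextets, Y = S ∨ ∃ k < 3, invS sxF S Y = sxV k) ∧
      (∀ k < 3, invS sxF S S ≠ sxV k)) ∧ IsCoatom (MulAction.stabilizer M24 S) :=
  fam_main sextet_setup (by norm_num) (slpP sxProg sxIdxs) sxTs sxBs sxTs_match sxBs_ok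
    (slpP_mem_M24 sxProg sxIdxs) sx_fix sxF 3 sxV sxSz sxRoot sxCn sxCert sx_root sxD sx_D sx_cls
    sx_vinj sx_count sx_rootD sx_pos sx_arith S hS

end Cfsg.Agent.Lib.Helper26
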