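import Mathlib
import Cfsg.Prelude.Def_SporadicCombinatorics
import Cfsg.Agent.Lib.Helper26.TrioData
import Cfsg.Agent.Lib.Helper7.M24Chain
import Cfsg.Agent.S1557

/-!
# The trios as a family: `M24` is transitive on the 3795 trios, and the orbits of a trio
stabilizer on trios are `1 + 42 + 56 + 1008 + 2688`
-/

set_option autoImplicit false

namespace Cfsg.Agent.Lib.Helper26

open Cfsg Cfsg.Agent.Lib.Helper27
open scoped Pointwise

local notation "setOf₇" => Cfsg.Agent.Lib.Helper7.setOf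

theorem smul_mem_trios {g : Equiv.Perm GolayPt} (hg : g ∈ M24) {X : Finset (Finset GolayPt)}
    (hX : X ∈ trios) : g • X ∈ trios := by
  obtain ⟨h3, hoct, hd⟩ := hX
  refine ⟨by rw [Finset.card_smul_finset]; exact h3, ?_, ?_⟩
  · intro t ht
    obtain ⟨t', ht', rfl⟩ := Finset.mem_smul_finset.1 ht
    exact Cfsg.Agent.Lib.Helper7.smul_mem_octads hg (hoct t' ht')
  · intro t ht u hu' htu
    obtain ⟨t', ht', rfl⟩ := Finset.mem_smul_finset.1 ht
    obtain ⟨u', hu'', rfl⟩ := Finset.mem_smul_finset.1 hu'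
    have hne : t' ≠ u' := fun h => htu (by rw [h])
    exact (Finset.disjoint_image (MulAction.injective g)).2 (hd t' ht' u' hu'' hne)

/-- a sorted list of three pairwise disjoint octad masks gives a trio -/
theorem famOf_mem_trios {l : List ℕ} (hl : l.Pairwise (· < ·)) (hlt : ∀ m ∈ l, m < 2 ^ 24)
    (hlen : l.length = 3) (h8 : ∀ a ∈ l, Cfsg.Agent.Lib.Helper7.isOctadMask a = true)
    (hdis : ∀ a ∈ l, ∀ b ∈ l, a ≠ b → a &&& b = 0) :
    famOf l ∈ trios := by
  refine ⟨by rw [card_famOf hl hlt, hlen], ?_, ?_⟩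
  · intro t ht
    obtain ⟨m, hm, rfl⟩ := mem_famOf.1 ht
    exact Cfsg.Agent.Lib.Helper7.setOf_mem_octads (h8 m hm)
  · intro t ht u hu htu
    obtain ⟨a, ha, rfl⟩ := mem_famOf.1 ht
    obtain ⟨b, hb, rfl⟩ := mem_famOf.1 hu
    have hab : a ≠ b := fun h => htu (by rw [h])
    rw [Finset.disjoint_iff_inter_eq_empty, ← Cfsg.Agent.Lib.Helper7.setOf_and, hdis a ha b hb hab,
      Cfsg.Agent.Lib.Helper7.setOf_zero]

theorem tr_getF_J0 : getF 3 trB trJ0 = [0x149f, 0xf6840, 0xf08320] := by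
  decide +kernel

theorem gensP_mem_M24' : ∀ g ∈ Cfsg.Agent.Lib.Helper7.gensP, g ∈ M24 := fun g hg =>
  Cfsg.Agent.Lib.Helper7.genH_le_M24 (Cfsg.Agent.Lib.Helper7.gensP_mem_genH g hg)

theorem trio_setup : FamSetup trios 3 3795 trB trJ0 where
  hinv := fun g hg X hX => smul_mem_trios hg hX
  hcard := fun X hX => hX.1
  hN := Cfsg.Agent.S1557.result.2
  hj0 := by decide
  hS0 := by
    rw [tr_getF_J0]
    refine famOf_mem_trios (by decide) (by decide) rfl (by decide +kernel) (by decide +kernel)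
  hsorted := (sortCheck_sound (by norm_num) tr_sort).1
  hcode := (sortCheck_sound (by norm_num) tr_sort).2
  hM := ⟨Cfsg.Agent.Lib.Helper7.gensP, trTsM, trBsM, 3794, trCertM, trTsM_match, trBsM_ok,
    gensP_mem_M24', tr_runM⟩

/-- **Orbits of a trio stabilizer on trios, and maximality.** -/
theorem trio_main (S : Finset (Finset GolayPt)) (hS : S ∈ trios) :
    (∃ X : ℕ → Finset (Finset GolayPt), (∀ k < 4, X k ∈ trios) ∧
      (∀ k < 4, MulAction.orbit (MulAction.stabilizer M24 S) (X k) =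
        {Y | Y ∈ trios ∧ invS trF S Y = trV k}) ∧
      (∀ k < 4, {Y | Y ∈ trios ∧ invS trF S Y = trV k}.ncard = trSz k) ∧
      (∀ Y ∈ trios, Y = S ∨ ∃ k < 4, invS trF S Y = trV k) ∧
      (∀ k < 4, invS trF S S ≠ trV k)) ∧ IsCoatom (MulAction.stabilizer M24 S) :=
  fam_main trio_setup (by norm_num) (slpP trProg trIdxs) trTs trBs trTs_match trBs_ok
    (slpP_mem_M24 trProg trIdxs) tr_fix trF 4 trV trSz trRoot trCn trCert tr_root trD tr_D tr_cls
    tr_vinj tr_count tr_rootD tr_pos tr_arith S hS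

end Cfsg.Agent.Lib.Helper26
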