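import Mathlib
import Cfsg.Prelude.Def_SporadicCombinatorics
import Cfsg.Agent.Lib.Helper26.Sextets
import Cfsg.Agent.Lib.Helper26.Trios
import Cfsg.Agent.Lib.Helper26.OctFams
import Cfsg.Agent.Lib.Helper26.TriadData
import Cfsg.Agent.Lib.Helper26.DodPairData
import Cfsg.Agent.Lib.Helper26.M24Maps
import Cfsg.Agent.Lib.Helper7.M24Dodecads

/-!
# Stabilizers of sextets, trios, octads, 3-sets and dodecad pairs acting on other families

`StabSetup Fam₁ l0 Ts Bs` packages what `fam_cross` needs about the stabilized kind of family;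
`fam_cross'` is `fam_cross` in this form.  Instances for the five kinds.
-/

set_option autoImplicit false

namespace Cfsg.Agent.Lib.Helper26

open Cfsg Cfsg.Agent.Lib.Helper27
open scoped Pointwise

local notation "setOf₇" => Cfsg.Agent.Lib.Helper7.setOf

/-- data about the kind of family being stabilized -/
structure StabSetup (Fam₁ : Set (Finset (Finset GolayPt))) (l0 : List ℕ) (Ts Bs : List ℕ) :
    Prop where
  hl0 : l0.Pairwise (· < ·)
  hl0lt : ∀ m ∈ l0, m < 2 ^ 24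
  htrans : ∀ S ∈ Fam₁, ∃ g ∈ M24, g • famOf l0 = S
  hgens : ∃ gens : List (Equiv.Perm GolayPt), List.Forall₂ MatchesP gens Ts ∧ ∀ g ∈ gens, g ∈ M24
  hB : List.Forall₂ ByteOK Ts Bs
  hfix : ∀ T ∈ Ts, subF (l0.map (applyP T)) l0 = true

theorem fam_cross' {Fam₁ Fam₂ : Set (Finset (Finset GolayPt))} {l0 Ts Bs : List ℕ}
    {w₂ N₂ : ℕ} {B₂ : List ℕ} {j2 : ℕ}
    (h₁ : StabSetup Fam₁ l0 Ts Bs) (hs₂ : FamSetup Fam₂ w₂ N₂ B₂ j2) (hN : N₂ ≤ 4096)
    (f : ℕ → ℕ) (r : ℕ) (v n root cn cert : ℕ → ℕ)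
    (hroot : ∀ k < r, root k < N₂)
    (D : ℕ → ℕ) (hD : ∀ k < r, runQN w₂ Bs B₂ (cn k) (cert k) (1 <<< root k) = D k)
    (hcls : crossCheck l0 w₂ N₂ B₂ f r v D = true)
    (hcount : ∀ k < r, countRange (fun j => decide (j < N₂) && (D k).testBit j) 12 0 = n k)
    (hrootD : ∀ k < r, (D k).testBit (root k) = true)
    (S : Finset (Finset GolayPt)) (hS : S ∈ Fam₁) :
    ∃ X : ℕ → Finset (Finset GolayPt), (∀ k < r, X k ∈ Fam₂) ∧
      (∀ k < r, MulAction.orbit (MulAction.stabilizer M24 S) (X k) =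
        {Y | Y ∈ Fam₂ ∧ invS f S Y = v k}) ∧
      (∀ k < r, {Y | Y ∈ Fam₂ ∧ invS f S Y = v k}.ncard = n k) ∧
      (∀ Y ∈ Fam₂, ∃ k < r, invS f S Y = v k) := by
  obtain ⟨gens, hm, hgM⟩ := h₁.hgens
  exact fam_cross h₁.hl0 h₁.hl0lt h₁.htrans hs₂ hN gens Ts Bs hm h₁.hB hgM h₁.hfix f r v n root cn
    cert hroot D hD hcls hcount hrootD S hS

/-! ### The five kinds -/

/-- the base sextet -/
def sxL0 : List ℕ := [0xf, 0x1490, 0x98100, 0x342000, 0x400a40, 0x824020]

theorem sextet_stab : StabSetup sextets sxL0 sxTs sxBs where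
  hl0 := by decide
  hl0lt := by decide
  htrans := by
    intro S hS
    have := sextet_setup.trans _ sextet_setup.hS0 S hS
    rwa [sx_getF_J0] at this
  hgens := ⟨slpP sxProg sxIdxs, sxTs_match, slpP_mem_M24 sxProg sxIdxs⟩
  hB := sxBs_ok
  hfix := by
    have := sx_fix
    rwa [sx_getF_J0] at this

/-- the base trio -/
def trL0 : List ℕ := [0x149f, 0xf6840, 0xf08320]

theorem trio_stab : StabSetup trios trL0 trTs trBs where
  hl0 := by decide
  hl0lt := by decide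
  htrans := by
    intro S hS
    have := trio_setup.trans _ trio_setup.hS0 S hS
    rwa [tr_getF_J0] at this
  hgens := ⟨slpP trProg trIdxs, trTs_match, slpP_mem_M24 trProg trIdxs⟩
  hB := trBs_ok
  hfix := by
    have := tr_fix
    rwa [tr_getF_J0] at this

theorem octfam_stab : StabSetup octFams ocL0 ocTs ocBs where
  hl0 := by decide
  hl0lt := by decide
  htrans := octFams_trans
  hgens := ⟨slpP ocProg ocIdxs, ocTs_match, slpP_mem_M24 ocProg ocIdxs⟩
  hB := ocBs_ok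
  hfix := oc_fix

/-- the 3-element sets as one-element families -/
def triadFams : Set (Finset (Finset GolayPt)) := {F | ∃ Y : Finset GolayPt, Y.card = 3 ∧ F = {Y}}

theorem smul_triple' (g : Equiv.Perm GolayPt) (a b c : GolayPt) :
    g • ({a, b, c} : Finset GolayPt) = {g a, g b, g c} := by
  simp [Finset.smul_finset_insert]

theorem setOf7_seven : setOf₇ 7 = {Cfsg.Agent.Lib.Helper7.pt 0, Cfsg.Agent.Lib.Helper7.pt 1,
    Cfsg.Agent.Lib.Helper7.pt 2} := by decide

theorem triad_stab : StabSetup triadFams tdL0 tdTs tdBs where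
  hl0 := by decide
  hl0lt := by decide
  htrans := by
    rintro S ⟨Y, hY, rfl⟩
    obtain ⟨a, b, c, hab, hac, hbc, rfl⟩ := Finset.card_eq_three.1 hY
    obtain ⟨g, hg, hmap⟩ := exists_M24_map_list
      [Cfsg.Agent.Lib.Helper7.pt 0, Cfsg.Agent.Lib.Helper7.pt 1, Cfsg.Agent.Lib.Helper7.pt 2]
      [a, b, c] (by decide) (by simp [hab, hac, hbc]) rfl (by simp)
    simp only [List.map_cons, List.map_nil, List.cons.injEq, and_true] at hmap
    refine ⟨g, hg, ?_⟩
    rw [tdL0, famOf_singleton, Finset.smul_finset_singleton, setOf7_seven, smul_triple', hmap.1,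
      hmap.2.1, hmap.2.2]
  hgens := ⟨slpP tdProg tdIdxs, tdTs_match, slpP_mem_M24 tdProg tdIdxs⟩
  hB := tdBs_ok
  hfix := td_fix

/-- the pairs of complementary dodecads -/
def dodPairs : Set (Finset (Finset GolayPt)) :=
  {F | ∃ d ∈ dodecads, F = {d, Finset.univ \ d}}

theorem setOf7_compl_d0 : setOf₇ 0x7f2c30 = Finset.univ \ setOf₇ 0x80d3cf := by decide

theorem dodpair_stab : StabSetup dodPairs dpL0 dpTs dpBs where
  hl0 := by decide
  hl0lt := by decide
  htrans := by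
    rintro S ⟨d, hd, rfl⟩
    obtain ⟨g, hg⟩ := Cfsg.Agent.Lib.Helper7.exists_M24_smul_dodecad
      Cfsg.Agent.Lib.Helper7.d0_mem_dodecads hd
    have hg' : (g.1 : Equiv.Perm GolayPt) • setOf₇ 0x80d3cf = d := hg
    refine ⟨g.1, g.2, ?_⟩
    have : famOf dpL0 = {Finset.univ \ setOf₇ 0x80d3cf, setOf₇ 0x80d3cf} := by
      rw [dpL0, ← setOf7_compl_d0]
      simp [famOf]
    rw [this, Finset.smul_finset_insert, Finset.smul_finset_singleton, Finset.smul_finset_sdiff,
      Finset.smul_finset_univ, hg', Finset.pair_comm]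
  hgens := ⟨slpP dpProg dpIdxs, dpTs_match, slpP_mem_M24 dpProg dpIdxs⟩
  hB := dpBs_ok
  hfix := dp_fix

/-! ### Orbits on octads from orbits on one-element families -/

theorem octad_orbits3 {S : Finset (Finset GolayPt)} {f : ℕ → ℕ} {v n : ℕ → ℕ}
    (h : ∃ X : ℕ → Finset (Finset GolayPt), (∀ k < 3, X k ∈ octFams) ∧
      (∀ k < 3, MulAction.orbit (MulAction.stabilizer M24 S) (X k) =
        {Y | Y ∈ octFams ∧ invS f S Y = v k}) ∧
      (∀ k < 3, {Y | Y ∈ octFams ∧ invS f S Y = v k}.ncard = n k) ∧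
      (∀ Y ∈ octFams, ∃ k < 3, invS f S Y = v k)) :
    ∃ X₁ ∈ octads, ∃ X₂ ∈ octads, ∃ X₃ ∈ octads,
      (MulAction.orbit (MulAction.stabilizer M24 S) X₁).ncard = n 0 ∧
      (MulAction.orbit (MulAction.stabilizer M24 S) X₂).ncard = n 1 ∧
      (MulAction.orbit (MulAction.stabilizer M24 S) X₃).ncard = n 2 ∧
      octads = MulAction.orbit (MulAction.stabilizer M24 S) X₁ ∪
        MulAction.orbit (MulAction.stabilizer M24 S) X₂ ∪
        MulAction.orbit (MulAction.stabilizer M24 S) X₃ := by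
  obtain ⟨X, hXF, horb, hncard, hcov⟩ := h
  have hx : ∀ k < 3, ∃ x ∈ octads, X k = {x} := fun k hk => by
    obtain ⟨o, ho, h⟩ := hXF k hk
    exact ⟨o, ho, h⟩
  obtain ⟨x0, hx0, e0⟩ := hx 0 (by norm_num)
  obtain ⟨x1, hx1, e1⟩ := hx 1 (by norm_num)
  obtain ⟨x2, hx2, e2⟩ := hx 2 (by norm_num)
  have hn : ∀ k < 3, ∀ x : Finset GolayPt, X k = {x} →
      (MulAction.orbit (MulAction.stabilizer M24 S) x).ncard = n k := by
    intro k hk x hxe
    rw [← ncard_orbit_singleton_fam, ← hxe, horb k hk, hncard k hk]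
  have hmem : ∀ k < 3, ∀ x : Finset GolayPt, X k = {x} → ∀ o : Finset GolayPt,
      (o ∈ MulAction.orbit (MulAction.stabilizer M24 S) x ↔
        (o ∈ octads ∧ invS f S {o} = v k)) := by
    intro k hk x hxe o
    have h1 : ({o} : Finset (Finset GolayPt)) ∈
        MulAction.orbit (MulAction.stabilizer M24 S) (X k) ↔
        o ∈ MulAction.orbit (MulAction.stabilizer M24 S) x := by
      rw [hxe, orbit_singleton_fam]
      constructor
      · rintro ⟨y, hy, hyo⟩
        rw [← Finset.singleton_inj.1 hyo]; exact hy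
      · intro ho; exact ⟨o, ho, rfl⟩
    rw [← h1, horb k hk]
    show (({o} : Finset (Finset GolayPt)) ∈ octFams ∧ _) ↔ _
    rw [singleton_mem_octFams]
  refine ⟨x0, hx0, x1, hx1, x2, hx2, hn 0 (by norm_num) x0 e0, hn 1 (by norm_num) x1 e1,
    hn 2 (by norm_num) x2 e2, ?_⟩
  ext o
  constructor
  · intro ho
    obtain ⟨k, hk, hv⟩ := hcov {o} (singleton_mem_octFams.2 ho)
    have hk' : k = 0 ∨ k = 1 ∨ k = 2 := by omega
    rcases hk' with rfl | rfl | rfl
    · exact Or.inl (Or.inl ((hmem 0 (by norm_num) x0 e0 o).2 ⟨ho, hv⟩))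
    · exact Or.inl (Or.inr ((hmem 1 (by norm_num) x1 e1 o).2 ⟨ho, hv⟩))
    · exact Or.inr ((hmem 2 (by norm_num) x2 e2 o).2 ⟨ho, hv⟩)
  · rintro ((h | h) | h)
    · exact ((hmem 0 (by norm_num) x0 e0 o).1 h).1
    · exact ((hmem 1 (by norm_num) x1 e1 o).1 h).1
    · exact ((hmem 2 (by norm_num) x2 e2 o).1 h).1

/-! ### Assembling the orbit statements -/

theorem fam_orbits3 {Fam : Set (Finset (Finset GolayPt))} {S : Finset (Finset GolayPt)}
    {f : ℕ → ℕ} {v n : ℕ → ℕ}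
    (h : ∃ X : ℕ → Finset (Finset GolayPt), (∀ k < 3, X k ∈ Fam) ∧
      (∀ k < 3, MulAction.orbit (MulAction.stabilizer M24 S) (X k) =
        {Y | Y ∈ Fam ∧ invS f S Y = v k}) ∧
      (∀ k < 3, {Y | Y ∈ Fam ∧ invS f S Y = v k}.ncard = n k) ∧
      (∀ Y ∈ Fam, ∃ k < 3, invS f S Y = v k)) :
    ∃ X₁ ∈ Fam, ∃ X₂ ∈ Fam, ∃ X₃ ∈ Fam,
      (MulAction.orbit (MulAction.stabilizer M24 S) X₁).ncard = n 0 ∧
      (MulAction.orbit (MulAction.stabilizer M24 S) X₂).ncard = n 1 ∧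
      (MulAction.orbit (MulAction.stabilizer M24 S) X₃).ncard = n 2 ∧
      Fam = MulAction.orbit (MulAction.stabilizer M24 S) X₁ ∪
        MulAction.orbit (MulAction.stabilizer M24 S) X₂ ∪
        MulAction.orbit (MulAction.stabilizer M24 S) X₃ := by
  obtain ⟨X, hXF, horb, hncard, hcov⟩ := h
  refine ⟨X 0, hXF 0 (by norm_num), X 1, hXF 1 (by norm_num), X 2, hXF 2 (by norm_num), ?_, ?_, ?_,
    ?_⟩
  · rw [horb 0 (by norm_num), hncard 0 (by norm_num)]
  · rw [horb 1 (by norm_num), hncard 1 (by norm_num)]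
  · rw [horb 2 (by norm_num), hncard 2 (by norm_num)]
  · rw [horb 0 (by norm_num), horb 1 (by norm_num), horb 2 (by norm_num)]
    ext Y
    constructor
    · intro hY
      obtain ⟨k, hk, hv⟩ := hcov Y hY
      have hk' : k = 0 ∨ k = 1 ∨ k = 2 := by omega
      rcases hk' with rfl | rfl | rfl
      · exact Or.inl (Or.inl ⟨hY, hv⟩)
      · exact Or.inl (Or.inr ⟨hY, hv⟩)
      · exact Or.inr ⟨hY, hv⟩
    · rintro ((h | h) | h)
      · exact h.1
      · exact h.1
      · exact h.1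

theorem fam_orbits4 {Fam : Set (Finset (Finset GolayPt))} {S : Finset (Finset GolayPt)}
    {f : ℕ → ℕ} {v n : ℕ → ℕ}
    (h : ∃ X : ℕ → Finset (Finset GolayPt), (∀ k < 4, X k ∈ Fam) ∧
      (∀ k < 4, MulAction.orbit (MulAction.stabilizer M24 S) (X k) =
        {Y | Y ∈ Fam ∧ invS f S Y = v k}) ∧
      (∀ k < 4, {Y | Y ∈ Fam ∧ invS f S Y = v k}.ncard = n k) ∧
      (∀ Y ∈ Fam, ∃ k < 4, invS f S Y = v k)) :
    ∃ X₁ ∈ Fam, ∃ X₂ ∈ Fam, ∃ X₃ ∈ Fam, ∃ X₄ ∈ Fam,
      (MulAction.orbit (MulAction.stabilizer M24 S) X₁).ncard = n 0 ∧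
      (MulAction.orbit (MulAction.stabilizer M24 S) X₂).ncard = n 1 ∧
      (MulAction.orbit (MulAction.stabilizer M24 S) X₃).ncard = n 2 ∧
      (MulAction.orbit (MulAction.stabilizer M24 S) X₄).ncard = n 3 ∧
      Fam = MulAction.orbit (MulAction.stabilizer M24 S) X₁ ∪
        MulAction.orbit (MulAction.stabilizer M24 S) X₂ ∪
        MulAction.orbit (MulAction.stabilizer M24 S) X₃ ∪
        MulAction.orbit (MulAction.stabilizer M24 S) X₄ := by
  obtain ⟨X, hXF, horb, hncard, hcov⟩ := h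
  refine ⟨X 0, hXF 0 (by norm_num), X 1, hXF 1 (by norm_num), X 2, hXF 2 (by norm_num),
    X 3, hXF 3 (by norm_num), ?_, ?_, ?_, ?_, ?_⟩
  · rw [horb 0 (by norm_num), hncard 0 (by norm_num)]
  · rw [horb 1 (by norm_num), hncard 1 (by norm_num)]
  · rw [horb 2 (by norm_num), hncard 2 (by norm_num)]
  · rw [horb 3 (by norm_num), hncard 3 (by norm_num)]
  · rw [horb 0 (by norm_num), horb 1 (by norm_num), horb 2 (by norm_num), horb 3 (by norm_num)]
    ext Y
    constructor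
    · intro hY
      obtain ⟨k, hk, hv⟩ := hcov Y hY
      have hk' : k = 0 ∨ k = 1 ∨ k = 2 ∨ k = 3 := by omega
      rcases hk' with rfl | rfl | rfl | rfl
      · exact Or.inl (Or.inl (Or.inl ⟨hY, hv⟩))
      · exact Or.inl (Or.inl (Or.inr ⟨hY, hv⟩))
      · exact Or.inl (Or.inr ⟨hY, hv⟩)
      · exact Or.inr ⟨hY, hv⟩
    · rintro (((h | h) | h) | h)
      · exact h.1
      · exact h.1
      · exact h.1
      · exact h.1

end Cfsg.Agent.Lib.Helper26
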