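import Mathlib
import Cfsg.Prelude.Def_OddOrder

/-!
# The Odd Order Theorem from the non-existence of minimal simple groups of odd order

A minimal counterexample to "groups of odd order are solvable" is a non-abelian simple group of odd
order all of whose proper subgroups are solvable, i.e. it satisfies `Cfsg.IsMinSimpleOddOrder`.
-/

set_option autoImplicit false

namespace Cfsg.Agent.Lib.Helper26.FTReduction

universe u

theorem isSolvable_of_card (h : ∀ (H : Type u) [Group H] [Finite H], ¬ Cfsg.IsMinSimpleOddOrder H) :
    ∀ n : ℕ, ∀ (G : Type u) [Group G] [Finite G], Nat.card G = n → Odd n → Group.IsSolvable G := by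
  intro n
  induction n using Nat.strong_induction_on with
  | _ n ih =>
    intro G _ _ hcard hodd
    by_cases hsimple : IsSimpleGroup G
    · by_cases hcomm : IsMulCommutative G
      · exact Group.isSolvable_of_comm (fun a b => hcomm.is_comm.comm a b)
      · exfalso
        apply h G
        refine ⟨hcard ▸ hodd, hsimple, hcomm, ?_⟩
        intro H hH
        have hdvd : Nat.card H ∣ n := hcard ▸ Subgroup.card_subgroup_dvd_card H
        have hne : Nat.card H ≠ n := by
          rw [← hcard]
          exact fun hc => hH ((Subgroup.card_eq_iff_eq_top H).1 hc)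
        have hpos : 0 < n := hcard ▸ Nat.card_pos
        have hlt : Nat.card H < n := lt_of_le_of_ne (Nat.le_of_dvd hpos hdvd) hne
        exact ih (Nat.card H) hlt ↥H rfl (Odd.of_dvd_nat hodd hdvd)
    · by_cases htriv : Subsingleton G
      · haveI := htriv
        infer_instance
      · haveI : Nontrivial G := not_subsingleton_iff_nontrivial.1 htriv
        obtain ⟨N, hNn, hNbot, hNtop⟩ : ∃ N : Subgroup G, N.Normal ∧ N ≠ ⊥ ∧ N ≠ ⊤ := by
          by_contra hcon
          apply hsimple
          refine { toNontrivial := inferInstance, eq_bot_or_eq_top_of_normal := ?_ }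
          intro N hN
          by_contra h'
          rw [not_or] at h'
          exact hcon ⟨N, hN, h'.1, h'.2⟩
        haveI := hNn
        have hpos : 0 < n := hcard ▸ Nat.card_pos
        have hmul : Nat.card N * N.index = n := hcard ▸ Subgroup.card_mul_index N
        have hd1 : Nat.card N ∣ n := Dvd.intro _ hmul
        have hd2 : N.index ∣ n := Dvd.intro_left _ hmul
        have hN1 : Nat.card N ≠ n := by
          rw [← hcard]
          exact fun hc => hNtop ((Subgroup.card_eq_iff_eq_top N).1 hc)
        have hN2 : N.index ≠ n := by
          intro hc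
          have h1 : Nat.card N = 1 := by
            have : Nat.card N * n = 1 * n := by rw [one_mul]; rw [hc] at hmul; exact hmul
            exact Nat.eq_of_mul_eq_mul_right hpos this
          exact hNbot (Subgroup.card_eq_one.1 h1)
        have hlt1 : Nat.card N < n := lt_of_le_of_ne (Nat.le_of_dvd hpos hd1) hN1
        have hlt2 : N.index < n := lt_of_le_of_ne (Nat.le_of_dvd hpos hd2) hN2
        haveI h1 : Group.IsSolvable ↥N := ih (Nat.card N) hlt1 ↥N rfl (Odd.of_dvd_nat hodd hd1)
        haveI h2 : Group.IsSolvable (G ⧸ N) :=
          ih N.index hlt2 (G ⧸ N) (Subgroup.index_eq_card N).symm (Odd.of_dvd_nat hodd hd2)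
        exact Group.isSolvable_of_ker_le_range N.subtype (QuotientGroup.mk' N)
          (by rw [QuotientGroup.ker_mk', Subgroup.range_subtype])

/-- **The Odd Order Theorem from the non-existence of a minimal simple group of odd order.** -/
theorem isSolvable_of_odd_of_no_minSimple
    (h : ∀ (H : Type u) [Group H] [Finite H], ¬ Cfsg.IsMinSimpleOddOrder H)
    (G : Type u) [Group G] [Finite G] (hodd : Odd (Nat.card G)) : Group.IsSolvable G :=
  isSolvable_of_card h (Nat.card G) G rfl hodd

end Cfsg.Agent.Lib.Helper26.FTReduction
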