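import Mathlib

/-!
# Xor-homomorphisms of `{0, …, 7}` and `GL (Fin 3) (ZMod 2)`

The nonzero vectors of `F_2^3` are labelled by `1, …, 7` (bits); a map of labels compatible with xor
gives a `3 × 3` matrix over `ZMod 2`, multiplicatively.
-/

set_option autoImplicit false

namespace Cfsg.Agent.Lib.Helper26

theorem tb10 : Nat.testBit 1 0 = true := by decide
theorem tb11 : Nat.testBit 1 1 = false := by decide
theorem tb12 : Nat.testBit 1 2 = false := by decide
theorem tb20 : Nat.testBit 2 0 = false := by decide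
theorem tb21 : Nat.testBit 2 1 = true := by decide
theorem tb22 : Nat.testBit 2 2 = false := by decide
theorem tb40 : Nat.testBit 4 0 = false := by decide
theorem tb41 : Nat.testBit 4 1 = false := by decide
theorem tb42 : Nat.testBit 4 2 = true := by decide

/-- the vector of `F_2^3` with the bits of `a` -/
def vecOf (a : ℕ) : Fin 3 → ZMod 2 := fun i => if a.testBit i.val then 1 else 0

theorem vecOf_xor (a b : ℕ) : vecOf (a ^^^ b) = vecOf a + vecOf b := by
  funext i
  simp only [vecOf, Nat.testBit_xor, Pi.add_apply]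
  cases a.testBit i.val <;> cases b.testBit i.val <;> decide

theorem vecOf_zero : vecOf 0 = 0 := by
  funext i
  simp [vecOf]

theorem vecOf_injOn : ∀ a < 8, ∀ b < 8, vecOf a = vecOf b → a = b := by
  intro a ha b hb h
  apply Nat.eq_of_testBit_eq
  intro i
  by_cases hi : i < 3
  · have := congrFun h ⟨i, hi⟩
    simp only [vecOf] at this
    cases h1 : a.testBit i <;> cases h2 : b.testBit i <;> simp_all
  · have h1 : a.testBit i = false :=
      Nat.testBit_lt_two_pow (lt_of_lt_of_le ha (by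
        calc 8 = 2 ^ 3 := by norm_num
          _ ≤ 2 ^ i := Nat.pow_le_pow_right (by norm_num) (by omega)))
    have h2 : b.testBit i = false :=
      Nat.testBit_lt_two_pow (lt_of_lt_of_le hb (by
        calc 8 = 2 ^ 3 := by norm_num
          _ ≤ 2 ^ i := Nat.pow_le_pow_right (by norm_num) (by omega)))
    rw [h1, h2]

theorem vecOf_two_pow (j : Fin 3) : vecOf (2 ^ j.val) = Pi.single j 1 := by
  funext i
  fin_cases j <;> fin_cases i <;>
    simp [vecOf, tb11, tb12, tb21, tb22, tb41, tb42]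

/-- the label of a vector -/
def labOf (v : Fin 3 → ZMod 2) : ℕ := (v 0).val + 2 * (v 1).val + 4 * (v 2).val

theorem labOf_lt (v : Fin 3 → ZMod 2) : labOf v < 8 := by
  unfold labOf
  have h0 := ZMod.val_lt (v 0)
  have h1 := ZMod.val_lt (v 1)
  have h2 := ZMod.val_lt (v 2)
  omega

theorem vecOf_labOf (v : Fin 3 → ZMod 2) : vecOf (labOf v) = v := by
  have key : ∀ x y z : ZMod 2, ∀ i : Fin 3,
      vecOf (x.val + 2 * y.val + 4 * z.val) i = ![x, y, z] i := by decide
  funext i
  have := key (v 0) (v 1) (v 2) i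
  unfold labOf
  rw [this]
  fin_cases i <;> rfl

/-- `f` is compatible with xor on `{0, …, 7}` -/
structure XorHom (f : ℕ → ℕ) : Prop where
  zero : f 0 = 0
  lt : ∀ a < 8, f a < 8
  xor : ∀ a < 8, ∀ b < 8, f (a ^^^ b) = f a ^^^ f b

/-- the matrix with columns `f 1`, `f 2`, `f 4` -/
def matOf (f : ℕ → ℕ) : Matrix (Fin 3) (Fin 3) (ZMod 2) :=
  Matrix.of fun i j => vecOf (f (2 ^ j.val)) i

theorem matOf_congr {f g : ℕ → ℕ} (h : ∀ a < 8, f a = g a) : matOf f = matOf g := by
  ext i j
  simp only [matOf, Matrix.of_apply]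
  rw [h]
  fin_cases j <;> norm_num

theorem matOf_mulVec_two_pow (f : ℕ → ℕ) (j : Fin 3) :
    (matOf f).mulVec (vecOf (2 ^ j.val)) = vecOf (f (2 ^ j.val)) := by
  rw [vecOf_two_pow, Matrix.mulVec_single_one]
  funext i
  simp [matOf]

theorem XorHom.mulVec {f : ℕ → ℕ} (hf : XorHom f) :
    ∀ a < 8, (matOf f).mulVec (vecOf a) = vecOf (f a) := by
  have step : ∀ a < 8, ∀ b < 8, (matOf f).mulVec (vecOf a) = vecOf (f a) →
      (matOf f).mulVec (vecOf b) = vecOf (f b) →
      (matOf f).mulVec (vecOf (a ^^^ b)) = vecOf (f (a ^^^ b)) := by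
    intro a ha b hb h1 h2
    rw [vecOf_xor, Matrix.mulVec_add, h1, h2, hf.xor a ha b hb, vecOf_xor]
  have h1 := matOf_mulVec_two_pow f 0
  have h2 := matOf_mulVec_two_pow f 1
  have h4 := matOf_mulVec_two_pow f 2
  norm_num at h1 h2 h4
  have h0 : (matOf f).mulVec (vecOf 0) = vecOf (f 0) := by
    rw [hf.zero, vecOf_zero, Matrix.mulVec_zero]
  have h3 := step 1 (by norm_num) 2 (by norm_num) h1 h2
  have h5 := step 1 (by norm_num) 4 (by norm_num) h1 h4
  have h6 := step 2 (by norm_num) 4 (by norm_num) h2 h4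
  have h7 := step 3 (by norm_num) 4 (by norm_num) h3 h4
  intro a ha
  interval_cases a
  · exact h0
  · exact h1
  · exact h2
  · exact h3
  · exact h4
  · exact h5
  · exact h6
  · exact h7

theorem XorHom.comp {f g : ℕ → ℕ} (hf : XorHom f) (hg : XorHom g) : XorHom (f ∘ g) where
  zero := by simp [hg.zero, hf.zero]
  lt := fun a ha => hf.lt _ (hg.lt a ha)
  xor := fun a ha b hb => by
    simp only [Function.comp]
    rw [hg.xor a ha b hb, hf.xor _ (hg.lt a ha) _ (hg.lt b hb)]

theorem XorHom.id : XorHom id where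
  zero := rfl
  lt := fun _ ha => ha
  xor := fun _ _ _ _ => rfl

theorem matOf_mul {f g : ℕ → ℕ} (hf : XorHom f) (hg : XorHom g) :
    matOf f * matOf g = matOf (f ∘ g) := by
  ext i k
  have h1 : (matOf f * matOf g) i k = (matOf f).mulVec (vecOf (g (2 ^ k.val))) i := by
    simp only [Matrix.mul_apply, Matrix.mulVec, dotProduct, matOf, Matrix.of_apply]
  have hk : 2 ^ k.val < 8 := by fin_cases k <;> norm_num
  rw [h1, hf.mulVec _ (hg.lt _ hk)]
  simp [matOf]

theorem matOf_id : matOf id = 1 := by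
  ext i j
  fin_cases i <;> fin_cases j <;>
    simp [matOf, vecOf, tb11, tb12, tb21, tb22, tb41, tb42]

theorem XorHom.eq_of_matOf_eq_one {f : ℕ → ℕ} (hf : XorHom f) (h : matOf f = 1) :
    ∀ a < 8, f a = a := by
  intro a ha
  apply vecOf_injOn _ (hf.lt a ha) _ ha
  rw [← hf.mulVec a ha, h, Matrix.one_mulVec]

/-- the xor-homomorphism with values `a`, `b`, `c` at `1`, `2`, `4` -/
def linOf (a b c : ℕ) (x : ℕ) : ℕ :=
  (if x.testBit 0 then a else 0) ^^^ (if x.testBit 1 then b else 0) ^^^
    (if x.testBit 2 then c else 0)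

theorem matOf_of_cols (A : Matrix (Fin 3) (Fin 3) (ZMod 2)) (f : ℕ → ℕ)
    (h : ∀ j : Fin 3, f (2 ^ j.val) = labOf fun i => A i j) : matOf f = A := by
  ext i j
  simp only [matOf, Matrix.of_apply]
  rw [h j, vecOf_labOf]

/-- the columns of an invertible matrix form a basis -/
theorem exists_cols (A : GL (Fin 3) (ZMod 2)) : ∃ a b c : ℕ,
    (1 ≤ a ∧ a < 8) ∧ (1 ≤ b ∧ b < 8 ∧ b ≠ a) ∧
      (1 ≤ c ∧ c < 8 ∧ c ≠ a ∧ c ≠ b ∧ c ≠ a ^^^ b) ∧
      ∀ f : ℕ → ℕ, f 1 = a → f 2 = b → f 4 = c →
        matOf f = (A : Matrix (Fin 3) (Fin 3) (ZMod 2)) := by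
  set M : Matrix (Fin 3) (Fin 3) (ZMod 2) := (A : Matrix (Fin 3) (Fin 3) (ZMod 2)) with hM
  set a := labOf fun i => M i 0 with ha
  set b := labOf fun i => M i 1 with hb
  set c := labOf fun i => M i 2 with hc
  have hlt : a < 8 ∧ b < 8 ∧ c < 8 := ⟨labOf_lt _, labOf_lt _, labOf_lt _⟩
  have hmat : ∀ f : ℕ → ℕ, f 1 = a → f 2 = b → f 4 = c → matOf f = M := by
    intro f h1 h2 h4
    apply matOf_of_cols
    intro j
    fin_cases j
    · simpa using h1
    · simpa using h2
    · simpa using h4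
  have hlin : XorHom (linOf a b c) := by
    have : ∀ a < 8, ∀ b < 8, ∀ c < 8, XorHom (linOf a b c) := by
      intro a ha b hb c hc
      refine ⟨by simp [linOf], ?_, ?_⟩
      · revert a b c
        decide
      · revert a b c
        decide
    exact this a hlt.1 b hlt.2.1 c hlt.2.2
  have hlinM : matOf (linOf a b c) = M :=
    hmat _ (by simp [linOf, tb11, tb12]) (by simp [linOf, tb21, tb22])
      (by simp [linOf, tb41, tb42])
  -- injectivity
  have hinj : ∀ x < 8, linOf a b c x = 0 → x = 0 := by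
    intro x hx h0
    have h1 := hlin.mulVec x hx
    rw [h0, vecOf_zero, hlinM] at h1
    have h2 : vecOf x = 0 := by
      have : ((A⁻¹ : GL (Fin 3) (ZMod 2)) : Matrix (Fin 3) (Fin 3) (ZMod 2)) * M = 1 := by
        rw [hM, ← Units.val_mul, inv_mul_cancel, Units.val_one]
      calc vecOf x = (1 : Matrix (Fin 3) (Fin 3) (ZMod 2)).mulVec (vecOf x) := by
            rw [Matrix.one_mulVec]
        _ = 0 := by rw [← this, ← Matrix.mulVec_mulVec, h1, Matrix.mulVec_zero]
    exact vecOf_injOn x hx 0 (by norm_num) (by rw [h2, vecOf_zero])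
  have l1 : linOf a b c 1 = a := by simp [linOf, tb11, tb12]
  have l2 : linOf a b c 2 = b := by simp [linOf, tb21, tb22]
  have l3 : linOf a b c 3 = a ^^^ b := by
    simp [linOf, (by decide : Nat.testBit 3 1 = true), (by decide : Nat.testBit 3 2 = false)]
  have l4 : linOf a b c 4 = c := by simp [linOf, tb41, tb42]
  have l5 : linOf a b c 5 = a ^^^ c := by
    simp [linOf, (by decide : Nat.testBit 5 1 = false), (by decide : Nat.testBit 5 2 = true)]
  have l6 : linOf a b c 6 = b ^^^ c := by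
    simp [linOf, (by decide : Nat.testBit 6 1 = true), (by decide : Nat.testBit 6 2 = true)]
  have l7 : linOf a b c 7 = a ^^^ b ^^^ c := by
    simp [linOf, (by decide : Nat.testBit 7 1 = true), (by decide : Nat.testBit 7 2 = true)]
  have ka : 1 ≤ a := by
    by_contra h
    have h0 : a = 0 := by omega
    have := hinj 1 (by norm_num) (by rw [l1, h0])
    omega
  have kb : 1 ≤ b := by
    by_contra h
    have h0 : b = 0 := by omega
    have := hinj 2 (by norm_num) (by rw [l2, h0])
    omega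
  have kba : b ≠ a := by
    intro h
    have := hinj 3 (by norm_num) (by rw [l3, h]; exact Nat.xor_self a)
    omega
  have kc : 1 ≤ c := by
    by_contra h
    have h0 : c = 0 := by omega
    have := hinj 4 (by norm_num) (by rw [l4, h0])
    omega
  have kca : c ≠ a := by
    intro h
    have := hinj 5 (by norm_num) (by rw [l5, h]; exact Nat.xor_self a)
    omega
  have kcb : c ≠ b := by
    intro h
    have := hinj 6 (by norm_num) (by rw [l6, h]; exact Nat.xor_self b)
    omega
  have kcab : c ≠ a ^^^ b := by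
    intro h
    have := hinj 7 (by norm_num) (by rw [l7, h]; exact Nat.xor_self _)
    omega
  exact ⟨a, b, c, ⟨ka, hlt.1⟩, ⟨kb, hlt.2.1, kba⟩, ⟨kc, hlt.2.2, kca, kcb, kcab⟩, hmat⟩

end Cfsg.Agent.Lib.Helper26
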