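import Cfsg.Agent.Lib.Helper88.LSDefs

/-!
Project LS (statement S5286, Leary--Stancu), module LS-[DESC]:
the descent step for finite subgroups of `M = FreeGroup Y ⋊ K`.
The free-group word facts needed are proved locally (names prefixed `desc_`).
-/

set_option autoImplicit false

namespace Cfsg.Agent.Lib.Helper26.LS

open Cfsg.Agent.Lib.Helper88.LS SemidirectProduct

universe u

section FG

set_option linter.unusedSectionVars false

variable {α : Type u} [DecidableEq α]

theorem desc_isReduced_invRev {L : List (α × Bool)} (h : FreeGroup.IsReduced L) :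
    FreeGroup.IsReduced (FreeGroup.invRev L) := by
  rw [FreeGroup.isReduced_iff_reduce_eq] at h ⊢
  rw [FreeGroup.reduce_invRev, h]

theorem desc_isReduced_map {β : Type u} [DecidableEq β] (f : α → β) (hf : Function.Injective f)
    {L : List (α × Bool)} (h : FreeGroup.IsReduced L) :
    FreeGroup.IsReduced (L.map (fun p => (f p.1, p.2))) := by
  unfold FreeGroup.IsReduced at h ⊢
  rw [List.isChain_map]
  exact h.imp (fun a b hab h1 => hab (hf h1))

theorem desc_head?_invRev (L : List (α × Bool)) :
    (FreeGroup.invRev L).head? = L.getLast?.map (fun g => (g.1, !g.2)) := by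
  simp [FreeGroup.invRev, List.head?_reverse, List.getLast?_map]

theorem desc_getLast?_invRev (L : List (α × Bool)) :
    (FreeGroup.invRev L).getLast? = L.head?.map (fun g => (g.1, !g.2)) := by
  simp [FreeGroup.invRev, List.getLast?_reverse, List.head?_map]

theorem desc_norm_inv_mul_of_head_ne (u v : FreeGroup α) (a b : α × Bool)
    (hu : u.toWord.head? = some a) (hv : v.toWord.head? = some b) (hab : a ≠ b) :
    FreeGroup.norm (u⁻¹ * v) = FreeGroup.norm u + FreeGroup.norm v := by
  unfold FreeGroup.norm
  rw [FreeGroup.toWord_mul, FreeGroup.toWord_inv]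
  have hred : FreeGroup.IsReduced (FreeGroup.invRev u.toWord ++ v.toWord) := by
    refine List.IsChain.append (desc_isReduced_invRev FreeGroup.isReduced_toWord)
      FreeGroup.isReduced_toWord ?_
    intro x hx y hy
    rw [desc_getLast?_invRev, hu] at hx
    rw [hv] at hy
    simp only [Option.map_some, Option.mem_def, Option.some.injEq] at hx hy
    rw [← hx, ← hy]
    obtain ⟨a1, a2⟩ := a
    obtain ⟨b1, b2⟩ := b
    intro h1
    simp only at h1
    subst h1
    have h2 : a2 ≠ b2 := fun h => hab (by rw [h])
    show (!a2) = b2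
    cases a2 <;> cases b2 <;> simp_all
  rw [hred.reduce_eq, List.length_append, FreeGroup.invRev_length]

theorem desc_norm_mul_mk_singleton_of_getLast (u : FreeGroup α) (b : α × Bool)
    (hu : u.toWord.getLast? = some (b.1, !b.2)) :
    FreeGroup.norm (u * FreeGroup.mk [b]) + 1 = FreeGroup.norm u := by
  obtain ⟨L, hL⟩ : ∃ L, u.toWord = L ++ [(b.1, !b.2)] := by
    rw [List.getLast?_eq_some_iff] at hu
    exact hu
  have hLred : FreeGroup.IsReduced L := by
    have := FreeGroup.isReduced_toWord (x := u)
    rw [hL] at this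
    exact this.infix ⟨[], [(b.1, !b.2)], by simp⟩
  have h1 : u * FreeGroup.mk [b] = FreeGroup.mk L := by
    conv_lhs => rw [← FreeGroup.mk_toWord (x := u), hL]
    rw [FreeGroup.mul_mk]
    apply Quot.sound
    obtain ⟨b1, b2⟩ := b
    have := @FreeGroup.Red.Step.not α L [] b1 (!b2)
    simpa using this
  unfold FreeGroup.norm
  rw [h1, FreeGroup.toWord_mk, hLred.reduce_eq, hL]
  simp

end FG

variable {S₀ K I : Type u} [Group S₀] [Group K]
variable (lam : S₀ →* K) {A : I → Subgroup S₀} (e : ∀ i, A i →* S₀) (tau : I → K)

theorem desc_act_mk (k : K) (L : List (Y lam e × Bool)) :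
    act lam e k (FreeGroup.mk L) = FreeGroup.mk (L.map (fun p => (k • p.1, p.2))) := by
  show FreeGroup.freeGroupCongr (MulAction.toPerm k) (FreeGroup.mk L) = _
  rfl

theorem desc_toWord_act [DecidableEq (Y lam e)] (k : K) (w : FreeGroup (Y lam e)) :
    (act lam e k w).toWord = w.toWord.map (fun p => (k • p.1, p.2)) := by
  conv_lhs => rw [← FreeGroup.mk_toWord (x := w)]
  rw [desc_act_mk, FreeGroup.toWord_mk]
  exact (desc_isReduced_map (fun y : Y lam e => k • y) (MulAction.injective k)
    FreeGroup.isReduced_toWord).reduce_eq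

theorem desc_norm_act [DecidableEq (Y lam e)] (k : K) (w : FreeGroup (Y lam e)) :
    FreeGroup.norm (act lam e k w) = FreeGroup.norm w := by
  unfold FreeGroup.norm
  rw [desc_toWord_act, List.length_map]

theorem descent [DecidableEq (Y lam e)] (H : Subgroup (M lam e)) [Finite H]
    (hne : ∃ h ∈ H, h.left ≠ 1) :
    ∃ h₁ ∈ H, ∃ a : Y lam e × Bool, h₁.left.toWord.head? = some a ∧
      ∀ h ∈ H, FreeGroup.norm ((FreeGroup.mk [a])⁻¹ * h.left *
        act lam e h.right (FreeGroup.mk [a])) < FreeGroup.norm h₁.left := by
  classical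
  -- choose `h₁` with maximal displacement
  obtain ⟨h₁', hmax'⟩ := Finite.exists_max (fun h : H => FreeGroup.norm (h : M lam e).left)
  obtain ⟨h₁, hh₁H⟩ := h₁'
  have hmax : ∀ h ∈ H, FreeGroup.norm h.left ≤ FreeGroup.norm h₁.left :=
    fun h hh => hmax' ⟨h, hh⟩
  obtain ⟨h₀, hh₀, hh₀ne⟩ := hne
  have hpos : 0 < FreeGroup.norm h₁.left := by
    have : 0 < FreeGroup.norm h₀.left := by
      rw [Nat.pos_iff_ne_zero]
      intro h
      exact hh₀ne (FreeGroup.norm_eq_zero.mp h)
    exact lt_of_lt_of_le this (hmax h₀ hh₀)
  -- the head letter `a`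
  obtain ⟨a, ha⟩ : ∃ a, h₁.left.toWord.head? = some a := by
    cases hL : h₁.left.toWord with
    | nil =>
      unfold FreeGroup.norm at hpos
      rw [hL] at hpos
      simp at hpos
    | cons x xs => exact ⟨x, rfl⟩
  refine ⟨h₁, hh₁H, a, ha, ?_⟩
  -- (1) every nontrivial displacement has head `a`
  have h1 : ∀ k ∈ H, k.left ≠ 1 → k.left.toWord.head? = some a := by
    intro k hk hkne
    obtain ⟨b, hb⟩ : ∃ b, k.left.toWord.head? = some b := by
      cases hL : k.left.toWord with
      | nil => exact absurd (FreeGroup.toWord_eq_nil_iff.mp hL) hkne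
      | cons x xs => exact ⟨x, rfl⟩
    by_contra hne'
    have hab : a ≠ b := by
      intro h
      apply hne'
      rw [hb, h]
    have h2 : FreeGroup.norm (h₁⁻¹ * k).left =
        FreeGroup.norm h₁.left + FreeGroup.norm k.left := by
      rw [SemidirectProduct.mul_left, SemidirectProduct.inv_left, SemidirectProduct.inv_right,
        ← map_mul, desc_norm_act]
      exact desc_norm_inv_mul_of_head_ne _ _ a b ha hb hab
    have h3 := hmax (h₁⁻¹ * k) (H.mul_mem (H.inv_mem hh₁H) hk)
    have h4 : 0 < FreeGroup.norm k.left := by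
      rw [Nat.pos_iff_ne_zero]
      intro h
      exact hkne (FreeGroup.norm_eq_zero.mp h)
    omega
  -- (2) trivial displacement: the right part fixes `a`
  have h2 : ∀ h ∈ H, h.left = 1 → h.right • a.1 = a.1 := by
    intro h hh hl
    have h3 : (h * h₁).left = act lam e h.right h₁.left := by
      rw [SemidirectProduct.mul_left, hl, one_mul]
    have h4 : (h * h₁).left.toWord.head? = some (h.right • a.1, a.2) := by
      rw [h3, desc_toWord_act, List.head?_map, ha]
      rfl
    have h5 : (h * h₁).left ≠ 1 := by
      intro h6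
      rw [← FreeGroup.toWord_eq_nil_iff] at h6
      rw [h6] at h4
      simp at h4
    have h6 := h1 (h * h₁) (H.mul_mem hh hh₁H) h5
    rw [h4] at h6
    have := Option.some.inj h6
    exact congrArg Prod.fst this
  -- (3) nontrivial displacement: the last letter
  have h3 : ∀ h ∈ H, h.left ≠ 1 →
      h.left.toWord.getLast? = some (h.right • a.1, !a.2) := by
    intro h hh hl
    have h4 : (h⁻¹).left = act lam e h.right⁻¹ h.left⁻¹ := SemidirectProduct.inv_left h
    have h5 : (h⁻¹).left ≠ 1 := by
      rw [h4]
      intro h6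
      have := desc_norm_act lam e h.right⁻¹ h.left⁻¹
      rw [h6, FreeGroup.norm_one, FreeGroup.norm_inv_eq] at this
      exact hl (FreeGroup.norm_eq_zero.mp this.symm)
    have h6 := h1 h⁻¹ (H.inv_mem hh) h5
    rw [h4, desc_toWord_act, FreeGroup.toWord_inv, List.head?_map, desc_head?_invRev] at h6
    cases hL : h.left.toWord.getLast? with
    | none =>
      rw [hL] at h6
      simp at h6
    | some c =>
      rw [hL] at h6
      simp only [Option.map_some, Option.some.injEq] at h6
      obtain ⟨c1, c2⟩ := c
      rw [← h6]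
      simp
  intro h hh
  by_cases hl : h.left = 1
  · have h4 := h2 h hh hl
    have h5 : act lam e h.right (FreeGroup.mk [a]) = FreeGroup.mk [a] := by
      rw [desc_act_mk]
      simp only [List.map_cons, List.map_nil]
      rw [h4]
    rw [hl, mul_one, h5, inv_mul_cancel, FreeGroup.norm_one]
    exact hpos
  · have h4 := h1 h hh hl
    have h5 := h3 h hh hl
    obtain ⟨L', hL'⟩ : ∃ L', h.left.toWord = a :: L' := by
      cases hL : h.left.toWord with
      | nil =>
        rw [hL] at h4
        simp at h4
      | cons x xs =>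
        rw [hL] at h4
        simp only [List.head?_cons, Option.some.injEq] at h4
        exact ⟨xs, by rw [h4]⟩
    have hL'last : L'.getLast? = some (h.right • a.1, !a.2) := by
      rw [hL'] at h5
      cases hL'' : L' with
      | nil =>
        rw [hL''] at h5
        simp only [List.getLast?_singleton, Option.some.injEq] at h5
        have h6 := congrArg Prod.snd h5
        simp at h6
      | cons x xs =>
        rw [hL''] at h5
        rwa [List.getLast?_cons_cons] at h5
    have hL'red : FreeGroup.IsReduced L' := by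
      have := FreeGroup.isReduced_toWord (x := h.left)
      rw [hL'] at this
      exact this.infix ⟨[a], [], by simp⟩
    have hu1 : (FreeGroup.mk [a])⁻¹ * h.left = FreeGroup.mk L' := by
      conv_lhs => rw [← FreeGroup.mk_toWord (x := h.left), hL']
      rw [inv_mul_eq_iff_eq_mul, FreeGroup.mul_mk]
      rfl
    have hu2 : (FreeGroup.mk L').toWord = L' := by
      rw [FreeGroup.toWord_mk, hL'red.reduce_eq]
    have h6 : act lam e h.right (FreeGroup.mk [a]) = FreeGroup.mk [(h.right • a.1, a.2)] := by
      rw [desc_act_mk]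
      rfl
    have h7 := desc_norm_mul_mk_singleton_of_getLast (FreeGroup.mk L') (h.right • a.1, a.2)
      (by rw [hu2]; exact hL'last)
    rw [hu1, h6]
    have h8 : FreeGroup.norm (FreeGroup.mk L') + 1 = FreeGroup.norm h.left := by
      unfold FreeGroup.norm
      rw [hu2, hL']
      simp
    have h9 := hmax h hh
    omega

end Cfsg.Agent.Lib.Helper26.LS
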