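import Cfsg.Agent.Lib.Helper88.LSDefs

/-!
Project LS (statement S5286, Leary--Stancu), module LS-[NS]:
the Leary--Stancu group has a free normal subgroup of index dividing `|K|`, and `iota` is injective.
-/

set_option autoImplicit false

namespace Cfsg.Agent.Lib.Helper26.LS

open Cfsg.Agent.Lib.Helper88.LS SemidirectProduct

universe u

variable {S₀ K I : Type u} [Group S₀] [Group K]
variable (lam : S₀ →* K) {A : I → Subgroup S₀} (e : ∀ i, A i →* S₀) (tau : I → K)

/-- The restriction of `rightHom` to the Leary--Stancu group. -/
noncomputable def rightG : Gsub lam e tau →* K :=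
  (SemidirectProduct.rightHom : M lam e →* K).comp (Gsub lam e tau).subtype

theorem rightG_apply (g : Gsub lam e tau) : rightG lam e tau g = (g : M lam e).right := rfl

/-- The `left` projection, restricted to the kernel of `rightG`, is a homomorphism. -/
noncomputable def leftN : (rightG lam e tau).ker →* FreeGroup (Y lam e) where
  toFun n := ((n : Gsub lam e tau) : M lam e).left
  map_one' := rfl
  map_mul' a b := by
    have ha : ((a : Gsub lam e tau) : M lam e).right = 1 := a.2
    show (((a : Gsub lam e tau) : M lam e) * ((b : Gsub lam e tau) : M lam e)).left = _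
    rw [SemidirectProduct.mul_left, ha, map_one]
    rfl

theorem leftN_injective : Function.Injective (leftN lam e tau) := by
  intro a b hab
  have ha : ((a : Gsub lam e tau) : M lam e).right = 1 := a.2
  have hb : ((b : Gsub lam e tau) : M lam e).right = 1 := b.2
  apply Subtype.ext
  apply Subtype.ext
  apply SemidirectProduct.ext
  · exact hab
  · rw [ha, hb]

theorem free_normal [Finite K] :
    ∃ N : Subgroup (Gsub lam e tau), N.Normal ∧ IsFreeGroup N ∧ N.index ∣ Nat.card K := by
  refine ⟨(rightG lam e tau).ker, inferInstance, ?_, ?_⟩
  · have h : IsFreeGroup (leftN lam e tau).range := subgroupIsFreeOfIsFree _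
    exact IsFreeGroup.ofMulEquiv (MonoidHom.ofInjective (leftN_injective lam e tau)).symm
  · rw [Subgroup.index_ker]
    exact Subgroup.card_subgroup_dvd_card _

theorem iota_injective (hlam : Function.Injective lam) : Function.Injective (iota lam e tau) := by
  intro s t hst
  apply hlam
  have h1 : ((iota lam e tau s : Gsub lam e tau) : M lam e) = ((iota lam e tau t : Gsub lam e tau) : M lam e) := by
    rw [hst]
  exact SemidirectProduct.inr_injective h1

end Cfsg.Agent.Lib.Helper26.LS
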