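import Mathlib

/-!
Project LS (statement S5286, Leary--Stancu), module LS-[TAU]:
for a finite group `S₀`, a subgroup `A` and an injective homomorphism `e : A →* S₀` there is a permutation
`τ` of `S₀` with `τ (a * x) = e a * τ x`.
-/

set_option autoImplicit false

namespace Cfsg.Agent.Lib.Helper26.LS

universe u

/-- Right-multiplication version: a bijection `t` of `S₀` with `t (x * a) = t x * e a`. -/
theorem exists_tau_right {S₀ : Type u} [Group S₀] [Finite S₀] (A : Subgroup S₀) (e : A →* S₀)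
    (he : Function.Injective e) :
    ∃ t : Equiv.Perm S₀, ∀ (x : S₀) (a : A), t (x * a) = t x * e a := by
  classical
  -- the coset spaces have the same cardinality
  have hcardAB : Nat.card A = Nat.card e.range :=
    Nat.card_congr (MonoidHom.ofInjective he).toEquiv
  have h1 : Nat.card S₀ = Nat.card (S₀ ⧸ A) * Nat.card A :=
    Subgroup.card_eq_card_quotient_mul_card_subgroup A
  have h2 : Nat.card S₀ = Nat.card (S₀ ⧸ e.range) * Nat.card e.range :=
    Subgroup.card_eq_card_quotient_mul_card_subgroup e.range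
  have hpos : 0 < Nat.card A := Nat.card_pos
  have hq : Nat.card (S₀ ⧸ A) = Nat.card (S₀ ⧸ e.range) := by
    rw [← hcardAB] at h2
    rw [h1] at h2
    exact Nat.eq_of_mul_eq_mul_right hpos h2
  obtain ⟨σ⟩ : Nonempty ((S₀ ⧸ A) ≃ (S₀ ⧸ e.range)) := (Finite.card_eq).mp hq
  -- representative and A-part of an element
  let o : S₀ → S₀ := fun x => Quotient.out (x : S₀ ⧸ A)
  have hmem : ∀ x : S₀, (o x)⁻¹ * x ∈ A := by
    intro x
    have := QuotientGroup.out_eq' (x : S₀ ⧸ A)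
    exact QuotientGroup.eq.mp this
  let r : S₀ → A := fun x => ⟨(o x)⁻¹ * x, hmem x⟩
  have ho : ∀ x y : S₀, (x : S₀ ⧸ A) = (y : S₀ ⧸ A) → o x = o y := by
    intro x y h
    show Quotient.out (x : S₀ ⧸ A) = Quotient.out (y : S₀ ⧸ A)
    rw [h]
  have hr : ∀ x : S₀, ((r x : A) : S₀) = (o x)⁻¹ * x := fun x => rfl
  let o' : S₀ → S₀ := fun x => Quotient.out (σ (x : S₀ ⧸ A))
  have ho' : ∀ x y : S₀, (x : S₀ ⧸ A) = (y : S₀ ⧸ A) → o' x = o' y := by
    intro x y h
    show Quotient.out (σ (x : S₀ ⧸ A)) = Quotient.out (σ (y : S₀ ⧸ A))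
    rw [h]
  have ho'c : ∀ x : S₀, ((o' x : S₀) : S₀ ⧸ e.range) = σ (x : S₀ ⧸ A) := fun x =>
    QuotientGroup.out_eq' _
  let t : S₀ → S₀ := fun x => o' x * e (r x)
  have ht : ∀ x, t x = o' x * e (r x) := fun x => rfl
  have hcoset : ∀ x : S₀, ((t x : S₀) : S₀ ⧸ e.range) = σ (x : S₀ ⧸ A) := by
    intro x
    rw [← ho'c x]
    apply QuotientGroup.eq.mpr
    rw [ht]
    have : (o' x * e (r x))⁻¹ * o' x = (e (r x))⁻¹ := by group
    rw [this]
    exact e.range.inv_mem ⟨_, rfl⟩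
  have htinj : Function.Injective t := by
    intro x y hxy
    have hc : (x : S₀ ⧸ A) = (y : S₀ ⧸ A) := by
      apply σ.injective
      rw [← hcoset x, ← hcoset y, hxy]
    rw [ht, ht, ho' x y hc] at hxy
    have h4 := he (mul_left_cancel hxy)
    have h5 : (o x)⁻¹ * x = (o y)⁻¹ * y := by
      rw [← hr x, ← hr y, h4]
    rw [ho x y hc] at h5
    exact mul_left_cancel h5
  have htbij : Function.Bijective t := Finite.injective_iff_bijective.mp htinj
  refine ⟨Equiv.ofBijective t htbij, ?_⟩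
  intro x a
  show t (x * a) = t x * e a
  have hc : ((x * (a : S₀) : S₀) : S₀ ⧸ A) = (x : S₀ ⧸ A) := by
    apply QuotientGroup.eq.mpr
    have : (x * (a : S₀))⁻¹ * x = (a : S₀)⁻¹ := by group
    rw [this]
    exact A.inv_mem a.2
  have h6 : r (x * a) = r x * a := by
    apply Subtype.ext
    rw [Subgroup.coe_mul, hr, hr, ho _ _ hc, mul_assoc]
  rw [ht, ht, h6, map_mul, ho' _ _ hc, mul_assoc]

theorem exists_tau {S₀ : Type u} [Group S₀] [Finite S₀] (A : Subgroup S₀) (e : A →* S₀)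
    (he : Function.Injective e) :
    ∃ τ : Equiv.Perm S₀, ∀ a : A, τ * MulAction.toPermHom S₀ S₀ (a : S₀) =
      MulAction.toPermHom S₀ S₀ (e a) * τ := by
  obtain ⟨t, ht⟩ := exists_tau_right A e he
  refine ⟨(Equiv.inv S₀).trans (t.trans (Equiv.inv S₀)), ?_⟩
  intro a
  ext x
  show (t ((a : S₀) * x)⁻¹)⁻¹ = e a * (t x⁻¹)⁻¹
  have h1 : ((a : S₀) * x)⁻¹ = x⁻¹ * ((a⁻¹ : A) : S₀) := by
    rw [mul_inv_rev]; rfl
  rw [h1, ht, map_inv e a, mul_inv_rev, inv_inv]

end Cfsg.Agent.Lib.Helper26.LS
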