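import Mathlib
import Cfsg.Agent.Lib.Helper92.PermCount

/-!
# Blocks from small suborbits

For a transitive subgroup `J` of a finite symmetric group in which every orbit of a point stabilizer
has size at most `t` or exactly `big`, where `big` divides no product `a * b` with `a, b ≤ t`, the
relation "`w` lies in an orbit of size at most `t` of the stabilizer of `z`" is a `J`-invariant
equivalence relation.
-/

set_option autoImplicit false
set_option linter.unusedSectionVars false

namespace Cfsg.Agent.Lib.Helper26.Blocks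

open Equiv Cfsg.Agent.Lib.Helper92.PermCount

variable {α : Type*} [Fintype α] [DecidableEq α]

theorem inv_app (g : Perm α) (x : α) : g⁻¹ (g x) = x := g.symm_apply_apply x

theorem app_inv (g : Perm α) (x : α) : g (g⁻¹ x) = x := g.apply_symm_apply x

/-- the stabilizer of a point inside `J` -/
abbrev stb (J : Subgroup (Perm α)) (z : α) : Subgroup (Perm α) :=
  J ⊓ MulAction.stabilizer (Perm α) z

theorem mem_stb {J : Subgroup (Perm α)} {z : α} {g : Perm α} :
    g ∈ stb J z ↔ g ∈ J ∧ g z = z := by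
  rw [Subgroup.mem_inf, MulAction.mem_stabilizer_iff, Perm.smul_def]

theorem orb_mono {J K : Subgroup (Perm α)} (h : J ≤ K) (x : α) : orb J x ⊆ orb K x := by
  intro q hq
  obtain ⟨j, hj, rfl⟩ := mem_orb.mp hq
  exact mem_orb.mpr ⟨j, h hj, rfl⟩

theorem orb_stb_self (J : Subgroup (Perm α)) (z : α) : orb (stb J z) z = {z} := by
  ext q
  rw [mem_orb, Finset.mem_singleton]
  constructor
  · rintro ⟨j, hj, rfl⟩
    exact (mem_stb.1 hj).2
  · rintro rfl
    exact ⟨1, Subgroup.one_mem _, rfl⟩

/-- conjugating a stabilizer orbit -/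
theorem orb_stb_conj {J : Subgroup (Perm α)} {g : Perm α} (hg : g ∈ J) (z w : α) :
    orb (stb J (g z)) (g w) = (orb (stb J z) w).image g := by
  ext q
  rw [mem_orb, Finset.mem_image]
  constructor
  · rintro ⟨j, hj, rfl⟩
    obtain ⟨hjJ, hjz⟩ := mem_stb.1 hj
    refine ⟨(g⁻¹ * j * g) w, mem_orb.mpr ⟨g⁻¹ * j * g, mem_stb.2 ⟨?_, ?_⟩, rfl⟩, ?_⟩
    · exact J.mul_mem (J.mul_mem (J.inv_mem hg) hjJ) hg
    · rw [Perm.mul_apply, Perm.mul_apply, hjz, inv_app]
    · rw [Perm.mul_apply, Perm.mul_apply, app_inv]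
  · rintro ⟨q', hq', rfl⟩
    obtain ⟨j, hj, rfl⟩ := mem_orb.mp hq'
    obtain ⟨hjJ, hjz⟩ := mem_stb.1 hj
    refine ⟨g * j * g⁻¹, mem_stb.2 ⟨J.mul_mem (J.mul_mem hg hjJ) (J.inv_mem hg), ?_⟩, ?_⟩
    · rw [Perm.mul_apply, Perm.mul_apply, inv_app, hjz]
    · rw [Perm.mul_apply, Perm.mul_apply, inv_app]

theorem card_orb_stb_conj {J : Subgroup (Perm α)} {g : Perm α} (hg : g ∈ J) (z w : α) :
    (orb (stb J (g z)) (g w)).card = (orb (stb J z) w).card := by
  rw [orb_stb_conj hg, Finset.card_image_of_injective _ g.injective]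

theorem card_stb_pos (J : Subgroup (Perm α)) : 0 < Nat.card J := Nat.card_pos

/-- symmetry of suborbit sizes when the two point stabilizers have the same order -/
theorem card_orb_symm {J : Subgroup (Perm α)} {z w : α}
    (h : Nat.card (stb J z) = Nat.card (stb J w)) :
    (orb (stb J z) w).card = (orb (stb J w) z).card := by
  have h1 := card_eq_orb_mul (stb J z) w
  have h2 := card_eq_orb_mul (stb J w) z
  have e : stb J z ⊓ MulAction.stabilizer (Perm α) w = stb J w ⊓ MulAction.stabilizer (Perm α) z :=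
    inf_right_comm _ _ _
  rw [e] at h1
  rw [h] at h1
  rw [h2] at h1
  exact (Nat.eq_of_mul_eq_mul_right Nat.card_pos h1).symm

/-- the size of the orbit of `v` under the stabilizer of `z` divides the product of the size of the
orbit of `w` and the size of the orbit of `v` under the stabilizer of `z` and `w` -/
theorem card_orb_dvd (J : Subgroup (Perm α)) (z w v : α) :
    (orb (stb J z) v).card ∣
      (orb (stb J z) w).card * (orb (stb J z ⊓ MulAction.stabilizer (Perm α) w) v).card := by
  have h1 := card_eq_orb_mul (stb J z) w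
  have h2 := card_eq_orb_mul (stb J z ⊓ MulAction.stabilizer (Perm α) w) v
  have h3 := card_eq_orb_mul (stb J z) v
  have hle : stb J z ⊓ MulAction.stabilizer (Perm α) w ⊓ MulAction.stabilizer (Perm α) v ≤
      stb J z ⊓ MulAction.stabilizer (Perm α) v := by
    intro g hg
    exact ⟨hg.1.1, hg.2⟩
  obtain ⟨d, hd⟩ := Subgroup.card_dvd_of_le hle
  rw [h2] at h1
  rw [h1, hd] at h3
  have hpos : 0 < Nat.card ↥(stb J z ⊓ MulAction.stabilizer (Perm α) w ⊓
      MulAction.stabilizer (Perm α) v) := Nat.card_pos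
  refine ⟨d, ?_⟩
  apply Nat.eq_of_mul_eq_mul_right hpos
  rw [mul_assoc, h3]
  ring

/-- the hypotheses: `J` is transitive and every suborbit has size at most `t` or exactly `big` -/
structure SmallOrb (J : Subgroup (Perm α)) (t big : ℕ) : Prop where
  trans : ∀ z w : α, ∃ g ∈ J, g z = w
  sizes : ∀ z w : α, (orb (stb J z) w).card ≤ t ∨ (orb (stb J z) w).card = big
  arith : ∀ a b : ℕ, 1 ≤ a → a ≤ t → 1 ≤ b → b ≤ t → ¬ big ∣ a * b
  one_le : 1 ≤ t
  lt_big : t < big

/-- it suffices to know the suborbit sizes at one point -/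
theorem SmallOrb.of_base {J : Subgroup (Perm α)} {t big : ℕ} (x0 : α)
    (trans : ∀ w : α, ∃ g ∈ J, g x0 = w)
    (sizes : ∀ w : α, (orb (stb J x0) w).card ≤ t ∨ (orb (stb J x0) w).card = big)
    (arith : ∀ a b : ℕ, 1 ≤ a → a ≤ t → 1 ≤ b → b ≤ t → ¬ big ∣ a * b)
    (one_le : 1 ≤ t) (lt_big : t < big) : SmallOrb J t big where
  trans z w := by
    obtain ⟨g, hg, rfl⟩ := trans z
    obtain ⟨h, hh, rfl⟩ := trans w
    exact ⟨h * g⁻¹, J.mul_mem hh (J.inv_mem hg), by rw [Perm.mul_apply, inv_app]⟩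
  sizes z w := by
    obtain ⟨g, hg, rfl⟩ := trans z
    have := card_orb_stb_conj hg x0 (g⁻¹ w)
    rw [app_inv] at this
    rw [this]
    exact sizes _
  arith := arith
  one_le := one_le
  lt_big := lt_big

namespace SmallOrb

variable {J : Subgroup (Perm α)} {t big : ℕ} (h : SmallOrb J t big)
include h

theorem card_stb_eq (z w : α) : Nat.card (stb J z) = Nat.card (stb J w) := by
  obtain ⟨g, hg, rfl⟩ := h.trans z w
  -- conjugation by `g` is a bijection between the stabilizers
  let e : stb J z ≃ stb J (g z) :=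
    { toFun := fun j => ⟨g * j * g⁻¹, mem_stb.2 ⟨J.mul_mem (J.mul_mem hg (mem_stb.1 j.2).1)
        (J.inv_mem hg), by
          rw [Perm.mul_apply, Perm.mul_apply, inv_app, (mem_stb.1 j.2).2]⟩⟩
      invFun := fun j => ⟨g⁻¹ * j * g, mem_stb.2 ⟨J.mul_mem (J.mul_mem (J.inv_mem hg)
        (mem_stb.1 j.2).1) hg, by
          rw [Perm.mul_apply, Perm.mul_apply, (mem_stb.1 j.2).2, inv_app]⟩⟩
      left_inv := fun j => Subtype.ext (by simp only; group)
      right_inv := fun j => Subtype.ext (by simp only; group) }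
  exact Nat.card_congr e

/-- the relation -/
def Rel (_ : SmallOrb J t big) (z w : α) : Prop := (orb (stb J z) w).card ≤ t

theorem rel_refl (z : α) : h.Rel z z := by
  unfold Rel
  rw [orb_stb_self, Finset.card_singleton]
  exact h.one_le

theorem rel_symm {z w : α} (hzw : h.Rel z w) : h.Rel w z := by
  unfold Rel at *
  rw [← card_orb_symm (h.card_stb_eq z w)]
  exact hzw

theorem rel_trans {z w v : α} (hzw : h.Rel z w) (hwv : h.Rel w v) : h.Rel z v := by
  unfold Rel at *
  rcases h.sizes z v with h1 | h1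
  · exact h1
  · exfalso
    have hd := card_orb_dvd J z w v
    rw [h1] at hd
    have hb : (orb (stb J z ⊓ MulAction.stabilizer (Perm α) w) v).card ≤ t := by
      refine le_trans (Finset.card_le_card (orb_mono ?_ v)) hwv
      intro g hg
      exact ⟨hg.1.1, hg.2⟩
    have ha1 : 1 ≤ (orb (stb J z) w).card := Finset.card_pos.mpr ⟨w, self_mem_orb _ w⟩
    have hb1 : 1 ≤ (orb (stb J z ⊓ MulAction.stabilizer (Perm α) w) v).card :=
      Finset.card_pos.mpr ⟨v, self_mem_orb _ v⟩
    exact h.arith _ _ ha1 hzw hb1 hb hd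

theorem rel_smul {g : Perm α} (hg : g ∈ J) {z w : α} : h.Rel (g z) (g w) ↔ h.Rel z w := by
  unfold Rel
  rw [card_orb_stb_conj hg]

/-- the block of a point -/
noncomputable def blk (_ : SmallOrb J t big) (z : α) : Finset α :=
  haveI := Classical.decPred fun w => (orb (stb J z) w).card ≤ t
  Finset.univ.filter fun w => (orb (stb J z) w).card ≤ t

theorem mem_blk {z w : α} : w ∈ h.blk z ↔ h.Rel z w := by
  unfold blk Rel
  simp

theorem self_mem_blk (z : α) : z ∈ h.blk z := h.mem_blk.2 (h.rel_refl z)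

theorem blk_eq_of_mem {z w : α} (hw : w ∈ h.blk z) : h.blk w = h.blk z := by
  ext v
  rw [h.mem_blk, h.mem_blk]
  rw [h.mem_blk] at hw
  exact ⟨fun hv => h.rel_trans hw hv, fun hv => h.rel_trans (h.rel_symm hw) hv⟩

theorem blk_smul {g : Perm α} (hg : g ∈ J) (z : α) : h.blk (g z) = (h.blk z).image g := by
  ext v
  rw [h.mem_blk, Finset.mem_image]
  constructor
  · intro hv
    refine ⟨g⁻¹ v, h.mem_blk.2 ?_, app_inv g v⟩
    rw [← h.rel_smul hg, app_inv]
    exact hv
  · rintro ⟨v', hv', rfl⟩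
    exact (h.rel_smul hg).2 (h.mem_blk.1 hv')

theorem card_blk (z w : α) : (h.blk z).card = (h.blk w).card := by
  obtain ⟨g, hg, rfl⟩ := h.trans z w
  rw [h.blk_smul hg, Finset.card_image_of_injective _ g.injective]

/-- two blocks are equal or disjoint -/
theorem blk_eq_or_disjoint (z w : α) : h.blk z = h.blk w ∨ Disjoint (h.blk z) (h.blk w) := by
  by_cases hd : Disjoint (h.blk z) (h.blk w)
  · exact Or.inr hd
  · left
    rw [Finset.not_disjoint_iff] at hd
    obtain ⟨v, hvz, hvw⟩ := hd
    rw [← h.blk_eq_of_mem hvz, h.blk_eq_of_mem hvw]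

/-- the complement of the block of `z` is the big orbit of the stabilizer of `z` -/
theorem not_mem_blk {z w : α} : w ∉ h.blk z ↔ (orb (stb J z) w).card = big := by
  rw [h.mem_blk]
  unfold Rel
  constructor
  · intro hn
    rcases h.sizes z w with h1 | h1
    · exact absurd h1 hn
    · exact h1
  · intro h1
    rw [h1]
    exact not_le.2 h.lt_big

end SmallOrb

end Cfsg.Agent.Lib.Helper26.Blocks
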