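import Mathlib
import Cfsg.Agent.Lib.Helper26.ForceNat
import Cfsg.Agent.Lib.Helper26.Syl2Data

/-!
# The commutation matrix of a Sylow 2-subgroup of `M24` modulo its centre: kernel-checked facts
-/

set_option autoImplicit false
set_option exponentiation.threshold 1000

namespace Cfsg.Agent.Lib.Helper26

/-- row `i` of the commutation matrix -/
def s2Row (i : ℕ) : ℕ := (s2ComC.getD (i / 64) 0 >>> (512 * (i % 64))) % 2 ^ 512

/-- entry of the commutation matrix -/
def s2cm (i j : ℕ) : Bool := (s2Row i).testBit j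

/-- number of set bits among the first 512 -/
def pc9 (m : ℕ) : ℕ := countRangeF (fun j => m.testBit j) 9 0

/-- the set of indices `< 512` in the mask -/
def maskFin (m : ℕ) : Finset ℕ := (Finset.range (2 ^ 9)).filter fun c => m.testBit c = true

theorem card_maskFin (m : ℕ) : (maskFin m).card = pc9 m := (countRangeF_zero_eq _ 9).symm

theorem mem_maskFin {m c : ℕ} : c ∈ maskFin m ↔ c < 512 ∧ m.testBit c = true := by
  simp [maskFin]

/-- commuting partners of `i` inside `s2TM` -/
def s2Dm (i : ℕ) : ℕ := s2Row i &&& s2TM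

/-- the indices of the mask commute pairwise -/
def cliqueB (m : ℕ) : Bool :=
  allRangeF (fun x => !m.testBit x || forceNat (s2Row x) fun r => r &&& m == m) 9 0

theorem s2Row_lt (i : ℕ) : s2Row i < 2 ^ 512 := Nat.mod_lt _ (by positivity)

theorem s2Dm_lt (i : ℕ) : s2Dm i < 2 ^ 512 := lt_of_le_of_lt Nat.and_le_left (s2Row_lt i)

theorem testBit_false_of_lt {m y : ℕ} (hm : m < 2 ^ 512) (hy : 512 ≤ y) : m.testBit y = false :=
  Nat.testBit_lt_two_pow (lt_of_lt_of_le hm (Nat.pow_le_pow_right (by norm_num) hy))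

/-! ### Facts about the literal matrix -/

theorem s2_raw12 :
    allRangeF (fun i => forceNat (s2Row i) fun r => forceNat (pc9 r) fun c =>
      (decide (256 ≤ c) == s2TP.testBit i) && (decide (64 ≤ c) == s2TM.testBit i)) 9 0 = true := by
  decide +kernel

theorem s2_raw34 :
    allRangeF (fun i => if s2TM.testBit i then
        forceNat (s2Dm i) fun d => forceNat (pc9 d) fun c =>
          (s2T2.testBit i == decide (64 < c)) && (!(c == 64) || !cliqueB d || d == s2AM)
      else !s2T2.testBit i) 9 0 = true := by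
  decide +kernel

theorem s2_raw5 :
    allRangeF (fun j => forceNat (s2Row j) fun r =>
      (r &&& s2AM == s2AM) == s2AM.testBit j) 9 0 = true := by
  decide +kernel

theorem s2_fact4b : pc9 s2T2 = 64 ∧ s2T2.testBit 2 = true ∧ s2T2.testBit 15 = true ∧
    s2cm 2 15 = false := by
  decide +kernel

theorem s2_fact6 : pc9 s2AM = 64 ∧ s2AM &&& s2Sq = s2AM ∧ s2AM < 2 ^ 512 ∧ pc9 s2TP = 12 := by
  decide +kernel

/-! ### Clean forms -/

theorem s2_TP {i : ℕ} (hi : i < 512) : s2TP.testBit i = decide (256 ≤ pc9 (s2Row i)) := by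
  have h := (allRangeF_zero_iff _ 9).1 s2_raw12 i hi
  simp only [forceNat_eq, Bool.and_eq_true, beq_iff_eq] at h
  exact h.1.symm

theorem s2_TM {i : ℕ} (hi : i < 512) : s2TM.testBit i = decide (64 ≤ pc9 (s2Row i)) := by
  have h := (allRangeF_zero_iff _ 9).1 s2_raw12 i hi
  simp only [forceNat_eq, Bool.and_eq_true, beq_iff_eq] at h
  exact h.2.symm

theorem s2_T2 {i : ℕ} (hi : i < 512) :
    s2T2.testBit i = (s2TM.testBit i && decide (64 < pc9 (s2Dm i))) := by
  have h := (allRangeF_zero_iff _ 9).1 s2_raw34 i hi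
  by_cases hT : s2TM.testBit i = true
  · simp only [hT, if_true, forceNat_eq, Bool.and_eq_true, beq_iff_eq] at h
    rw [hT, Bool.true_and]; exact h.1
  · rw [Bool.not_eq_true] at hT
    simp only [hT, Bool.false_eq_true, if_false, Bool.not_eq_true'] at h
    rw [hT, Bool.false_and]; exact h

theorem cliqueB_iff (m : ℕ) :
    cliqueB m = true ↔ ∀ x < 512, m.testBit x = true → s2Row x &&& m = m := by
  unfold cliqueB
  rw [allRangeF_zero_iff]
  constructor
  · intro h x hx hb
    have := h x hx
    simpa [forceNat_eq, hb] using this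
  · intro h x hx
    by_cases hb : m.testBit x = true
    · simp [forceNat_eq, hb, h x hx hb]
    · rw [Bool.not_eq_true] at hb
      simp [hb]

theorem s2_clique {i : ℕ} (hi : i < 512) (hT : s2TM.testBit i = true) (hc : pc9 (s2Dm i) = 64)
    (hq : cliqueB (s2Dm i) = true) : s2Dm i = s2AM := by
  have h := (allRangeF_zero_iff _ 9).1 s2_raw34 i hi
  simp only [hT, if_true, forceNat_eq, Bool.and_eq_true, beq_iff_eq, hc, hq] at h
  simpa using h.2

theorem s2_cent {j : ℕ} (hj : j < 512) :
    (s2Row j &&& s2AM = s2AM) ↔ s2AM.testBit j = true := by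
  have h := (allRangeF_zero_iff _ 9).1 s2_raw5 j hj
  simp only [forceNat_eq, beq_iff_eq] at h
  rw [← h, beq_iff_eq]

end Cfsg.Agent.Lib.Helper26
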