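import Mathlib
import Cfsg.Prelude.Def_Transfer
import Cfsg.Agent.Lib.Helper26.Syl2Facts
import Cfsg.Agent.Lib.Helper1.PGroupMax

/-!
# The quotient of a Sylow 2-subgroup of `M24` by its centre: abstract part

A group `Q` with an enumeration `e : ℕ → Q` of its 512 elements whose commutation relation is given by
the literal matrix `s2ComC` (and whose squares are given by `s2Sq`) satisfies:

* the centre of every maximal subgroup has order at most 8;
* there is an elementary abelian subgroup of order 64;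
* there is only one abelian subgroup of order 64.

A group `P` with centre `{1, z}` enumerated compatibly (`PModel`) yields such an enumeration of
`P ⧸ center P`.
-/

set_option autoImplicit false

namespace Cfsg.Agent.Lib.Helper26

open Cfsg

/-! ### The combinatorial core of uniqueness -/

theorem and_eq_iff {r m : ℕ} (hm : m < 2 ^ 512) :
    r &&& m = m ↔ ∀ i < 512, m.testBit i = true → r.testBit i = true := by
  constructor
  · intro h i _ hi
    have := congrArg (fun n => n.testBit i) h
    simp only [Nat.testBit_and, hi, Bool.and_true] at this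
    exact this
  · intro h
    apply Nat.eq_of_testBit_eq
    intro y
    rw [Nat.testBit_and]
    by_cases hy : m.testBit y = true
    · have hy512 : y < 512 := by
        by_contra hge
        rw [testBit_false_of_lt hm (not_lt.1 hge)] at hy
        exact Bool.false_ne_true hy
      rw [hy, h y hy512 hy]; rfl
    · rw [Bool.not_eq_true] at hy
      rw [hy, Bool.and_false]

theorem clique_eq (I : Finset ℕ) (hI : ∀ i ∈ I, i < 512) (hc : I.card = 64)
    (hcl : ∀ i ∈ I, ∀ j ∈ I, s2cm i j = true) : I = maskFin s2AM := by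
  have h1 : ∀ i ∈ I, I ⊆ maskFin (s2Row i) := fun i hi j hj =>
    mem_maskFin.2 ⟨hI j hj, hcl i hi j hj⟩
  have hT : ∀ i ∈ I, s2TM.testBit i = true := by
    intro i hi
    rw [s2_TM (hI i hi), decide_eq_true_eq, ← card_maskFin, ← hc]
    exact Finset.card_le_card (h1 i hi)
  have h3 : ∀ i ∈ I, I ⊆ maskFin (s2Dm i) := by
    intro i hi j hj
    rw [mem_maskFin, s2Dm, Nat.testBit_and, Bool.and_eq_true]
    exact ⟨hI j hj, (mem_maskFin.1 (h1 i hi hj)).2, hT j hj⟩
  by_cases h : ∃ i ∈ I, pc9 (s2Dm i) = 64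
  · obtain ⟨i, hi, hp⟩ := h
    have heq : I = maskFin (s2Dm i) :=
      Finset.eq_of_subset_of_card_le (h3 i hi) (by rw [card_maskFin, hp, hc])
    have hclq : cliqueB (s2Dm i) = true := by
      rw [cliqueB_iff]
      intro x hx hb
      have hxI : x ∈ I := by rw [heq]; exact mem_maskFin.2 ⟨hx, hb⟩
      rw [and_eq_iff (s2Dm_lt i)]
      intro y hy hyb
      have hyI : y ∈ I := by rw [heq]; exact mem_maskFin.2 ⟨hy, hyb⟩
      exact hcl x hxI y hyI
    rw [heq, s2_clique (hI i hi) (hT i hi) hp hclq]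
  · push Not at h
    exfalso
    have h4 : I ⊆ maskFin s2T2 := by
      intro i hi
      rw [mem_maskFin, s2_T2 (hI i hi), hT i hi]
      have hge : 64 ≤ pc9 (s2Dm i) := by
        rw [← card_maskFin, ← hc]; exact Finset.card_le_card (h3 i hi)
      have hne := h i hi
      refine ⟨hI i hi, ?_⟩
      rw [Bool.true_and, decide_eq_true_eq]
      omega
    have heq : I = maskFin s2T2 :=
      Finset.eq_of_subset_of_card_le h4 (by rw [card_maskFin, s2_fact4b.1, hc])
    have h2 : 2 ∈ I := by rw [heq]; exact mem_maskFin.2 ⟨by norm_num, s2_fact4b.2.1⟩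
    have h15 : 15 ∈ I := by rw [heq]; exact mem_maskFin.2 ⟨by norm_num, s2_fact4b.2.2.1⟩
    have := hcl 2 h2 15 h15
    rw [s2_fact4b.2.2.2] at this
    exact Bool.false_ne_true this

/-! ### Groups enumerated compatibly with the matrix -/

/-- the three properties of the statement -/
def S2Good (Q : Type*) [Group Q] : Prop :=
  (∀ M : Subgroup Q, IsCoatom M → Nat.card ↥(Subgroup.center ↥M) ≤ 8) ∧
    (∃ A : Subgroup Q, Cfsg.IsElementaryAbelian 2 A ∧ Nat.card ↥A = 64) ∧
      ∀ A B : Subgroup Q, IsMulCommutative ↥A → Nat.card ↥A = 64 → IsMulCommutative ↥B →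
        Nat.card ↥B = 64 → A = B

/-- an enumeration of a group of order 512 with the commutation matrix `s2ComC` -/
structure QModel (Q : Type*) [Group Q] where
  e : ℕ → Q
  surj : ∀ x : Q, ∃ i < 512, e i = x
  inj : ∀ i < 512, ∀ j < 512, e i = e j → i = j
  com : ∀ i < 512, ∀ j < 512, e i * e j = e j * e i ↔ s2cm i j = true
  sq : ∀ i < 512, e i * e i = 1 ↔ s2Sq.testBit i = true

namespace QModel

variable {Q : Type*} [Group Q] (m : QModel Q)
include m

/-- an index of `x` -/
noncomputable def ix (x : Q) : ℕ := (m.surj x).choose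

theorem ix_lt (x : Q) : m.ix x < 512 := (m.surj x).choose_spec.1

theorem e_ix (x : Q) : m.e (m.ix x) = x := (m.surj x).choose_spec.2

open Classical in
/-- the indices of the elements of `X` -/
noncomputable def idxSet (X : Set Q) : Finset ℕ := (Finset.range 512).filter fun i => m.e i ∈ X

theorem mem_idxSet {X : Set Q} {i : ℕ} : i ∈ m.idxSet X ↔ i < 512 ∧ m.e i ∈ X := by
  simp [idxSet]

theorem card_idxSet (X : Set Q) : (m.idxSet X).card = Nat.card X := by
  have himg : X = m.e '' (m.idxSet X : Set ℕ) := by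
    ext x
    constructor
    · intro hx
      refine ⟨m.ix x, ?_, m.e_ix x⟩
      rw [Finset.mem_coe, mem_idxSet, m.e_ix x]
      exact ⟨m.ix_lt x, hx⟩
    · rintro ⟨i, hi, rfl⟩
      exact (m.mem_idxSet.1 hi).2
  have hinj : Set.InjOn m.e (m.idxSet X : Set ℕ) := by
    intro i hi j hj h
    exact m.inj i (m.mem_idxSet.1 hi).1 j (m.mem_idxSet.1 hj).1 h
  rw [Nat.card_coe_set_eq]
  conv_rhs => rw [himg]
  rw [Set.InjOn.ncard_image hinj, Set.ncard_coe_finset]

theorem finite : Finite Q :=
  Finite.of_surjective (fun i : Fin 512 => m.e i) fun x => by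
    obtain ⟨i, hi, h⟩ := m.surj x
    exact ⟨⟨i, hi⟩, h⟩

theorem card_eq : Nat.card Q = 2 ^ 9 := by
  have h := m.card_idxSet Set.univ
  have h2 : m.idxSet Set.univ = Finset.range 512 := by
    ext i; simp [mem_idxSet]
  rw [h2, Finset.card_range, Nat.card_coe_set_eq, Set.ncard_univ] at h
  rw [← h]; norm_num

theorem part_a (M : Subgroup Q) (hM : IsCoatom M) : Nat.card ↥(Subgroup.center ↥M) ≤ 8 := by
  have : Finite Q := m.finite
  have hcard : Nat.card Q = 2 ^ 9 := m.card_eq
  have : Fact (Nat.Prime 2) := ⟨Nat.prime_two⟩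
  have hp : IsPGroup 2 Q := IsPGroup.of_card hcard
  have hidx : M.index = 2 := Cfsg.Agent.Lib.Helper1.coatom_index_of_isPGroup hp hM
  have hMc : Nat.card M = 256 := by
    have := M.card_mul_index
    rw [hidx, hcard] at this
    omega
  -- the image of the centre
  let X : Set Q := (fun c : M => (c : Q)) '' (Subgroup.center ↥M : Set ↥M)
  have hX : Nat.card ↥(Subgroup.center ↥M) = Nat.card X := by
    rw [Nat.card_coe_set_eq X, Set.ncard_image_of_injective _ Subtype.val_injective,
      ← Nat.card_coe_set_eq]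
    rfl
  -- indices of the centre lie in the 12 indices with big centralizer
  have hIM : (m.idxSet (M : Set Q)).card = 256 := by
    rw [m.card_idxSet]; exact hMc
  have hsub : m.idxSet X ⊆ maskFin s2TP := by
    intro i hi
    obtain ⟨hi1, c, hc, hci⟩ := m.mem_idxSet.1 hi
    rw [mem_maskFin, s2_TP hi1, decide_eq_true_eq]
    refine ⟨hi1, ?_⟩
    rw [← card_maskFin, ← hIM]
    apply Finset.card_le_card
    intro j hj
    obtain ⟨hj1, hj2⟩ := m.mem_idxSet.1 hj
    rw [mem_maskFin]
    refine ⟨hj1, ?_⟩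
    apply (m.com i hi1 j hj1).1
    have hcomm := (Subgroup.mem_center_iff.1 hc) ⟨m.e j, hj2⟩
    have hcomm' := congrArg Subtype.val hcomm
    simp only [Subgroup.coe_mul] at hcomm'
    rw [← hci]
    exact hcomm'.symm
  have hle : Nat.card ↥(Subgroup.center ↥M) ≤ 12 := by
    rw [hX, ← m.card_idxSet, ← s2_fact6.2.2.2, ← card_maskFin]
    exact Finset.card_le_card hsub
  have hdvd : Nat.card ↥(Subgroup.center ↥M) ∣ 2 ^ 8 := by
    have := Subgroup.card_subgroup_dvd_card (Subgroup.center ↥M)
    rw [hMc] at this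
    exact this
  obtain ⟨k, hk, hkeq⟩ := (Nat.dvd_prime_pow Nat.prime_two).1 hdvd
  rw [hkeq] at hle ⊢
  interval_cases k <;> omega

theorem part_b : ∃ A : Subgroup Q, Cfsg.IsElementaryAbelian 2 A ∧ Nat.card ↥A = 64 := by
  let S : Set Q := m.e '' (maskFin s2AM : Set ℕ)
  have hmem : ∀ j < 512, (m.e j ∈ Subgroup.centralizer S ↔ s2AM.testBit j = true) := by
    intro j hj
    rw [Subgroup.mem_centralizer_iff, ← s2_cent hj, and_eq_iff s2_fact6.2.2.1]
    constructor
    · intro h i hi hb
      have hiS : m.e i ∈ S := ⟨i, mem_maskFin.2 ⟨hi, hb⟩, rfl⟩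
      exact (m.com j hj i hi).1 (h _ hiS).symm
    · rintro h _ ⟨i, hi, rfl⟩
      obtain ⟨hi1, hi2⟩ := mem_maskFin.1 hi
      exact ((m.com j hj i hi1).2 (h i hi1 hi2)).symm
  refine ⟨Subgroup.centralizer S, ⟨⟨⟨fun a b => ?_⟩⟩, fun a ha => ?_⟩, ?_⟩
  · -- commutative
    apply Subtype.ext
    have ha := (hmem _ (m.ix_lt a.1)).1 (by rw [m.e_ix]; exact a.2)
    have haS : (a : Q) ∈ S := ⟨m.ix a.1, mem_maskFin.2 ⟨m.ix_lt _, ha⟩, m.e_ix _⟩
    exact (Subgroup.mem_centralizer_iff.1 b.2) _ haS
  · -- exponent 2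
    have hb := (hmem _ (m.ix_lt a)).1 (by rw [m.e_ix]; exact ha)
    have hsq : s2Sq.testBit (m.ix a) = true := by
      have h6 := s2_fact6.2.1
      have := congrArg (fun n => n.testBit (m.ix a)) h6
      simp only [Nat.testBit_and, hb, Bool.true_and] at this
      exact this
    have := (m.sq _ (m.ix_lt a)).2 hsq
    rw [m.e_ix] at this
    rw [pow_two, this]
  · -- order 64
    have h := m.card_idxSet ((Subgroup.centralizer S : Subgroup Q) : Set Q)
    have h2 : m.idxSet ((Subgroup.centralizer S : Subgroup Q) : Set Q) = maskFin s2AM := by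
      ext j
      rw [mem_idxSet, mem_maskFin]
      constructor
      · rintro ⟨hj, h⟩; exact ⟨hj, (hmem j hj).1 h⟩
      · rintro ⟨hj, h⟩; exact ⟨hj, (hmem j hj).2 h⟩
    rw [h2, card_maskFin, s2_fact6.1] at h
    exact h.symm

theorem idx_abelian (A : Subgroup Q) (hA : IsMulCommutative ↥A) (hAc : Nat.card ↥A = 64) :
    m.idxSet (A : Set Q) = maskFin s2AM := by
  apply clique_eq
  · intro i hi; exact (m.mem_idxSet.1 hi).1
  · rw [m.card_idxSet]; exact hAc
  · intro i hi j hj
    obtain ⟨hi1, hi2⟩ := m.mem_idxSet.1 hi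
    obtain ⟨hj1, hj2⟩ := m.mem_idxSet.1 hj
    apply (m.com i hi1 j hj1).1
    have := hA.is_comm.comm ⟨m.e i, hi2⟩ ⟨m.e j, hj2⟩
    exact congrArg Subtype.val this

theorem part_c (A B : Subgroup Q) (hA : IsMulCommutative ↥A) (hAc : Nat.card ↥A = 64)
    (hB : IsMulCommutative ↥B) (hBc : Nat.card ↥B = 64) : A = B := by
  have hAB : m.idxSet (A : Set Q) = m.idxSet (B : Set Q) := by
    rw [m.idx_abelian A hA hAc, m.idx_abelian B hB hBc]
  ext x
  have hx := m.e_ix x
  constructor
  · intro h
    have : m.ix x ∈ m.idxSet (A : Set Q) := m.mem_idxSet.2 ⟨m.ix_lt x, by rw [hx]; exact h⟩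
    rw [hAB] at this
    have := (m.mem_idxSet.1 this).2
    rwa [hx] at this
  · intro h
    have : m.ix x ∈ m.idxSet (B : Set Q) := m.mem_idxSet.2 ⟨m.ix_lt x, by rw [hx]; exact h⟩
    rw [← hAB] at this
    have := (m.mem_idxSet.1 this).2
    rwa [hx] at this

theorem good : S2Good Q := ⟨m.part_a, m.part_b, m.part_c⟩

end QModel

/-- an enumeration of a group of order 1024 with centre `{1, z}` whose quotient by the centre has the
commutation matrix `s2ComC` -/
structure PModel (P : Type*) [Group P] where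
  p : ℕ → P
  z : P
  surj : ∀ x : P, ∃ i < 512, x = p i ∨ x = p i * z
  hzc : ∀ x : P, x * z = z * x
  cen : ∀ x : P, (∀ y : P, y * x = x * y) → x = 1 ∨ x = z
  inj : ∀ i < 512, ∀ j < 512, (p j = p i ∨ p j = p i * z) → i = j
  com : ∀ i < 512, ∀ j < 512,
    (p i * p j = p j * p i ∨ p i * p j = p j * p i * z) ↔ s2cm i j = true
  sq : ∀ i < 512, (p i * p i = 1 ∨ p i * p i = z) ↔ s2Sq.testBit i = true

namespace PModel

variable {P : Type*} [Group P] (m : PModel P)
include m

theorem mem_center {x : P} : x ∈ Subgroup.center P ↔ x = 1 ∨ x = m.z := by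
  constructor
  · intro h
    exact m.cen x (fun y => Subgroup.mem_center_iff.1 h y)
  · rintro (rfl | rfl)
    · exact Subgroup.one_mem _
    · exact Subgroup.mem_center_iff.2 fun g => m.hzc g

theorem mk_eq {x y : P} :
    (x : P ⧸ Subgroup.center P) = (y : P ⧸ Subgroup.center P) ↔ y = x ∨ y = x * m.z := by
  rw [QuotientGroup.eq, m.mem_center, inv_mul_eq_one, inv_mul_eq_iff_eq_mul]
  constructor
  · rintro (h | h)
    · exact Or.inl h.symm
    · exact Or.inr h
  · rintro (h | h)
    · exact Or.inl h.symm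
    · exact Or.inr h

/-- the enumeration of the quotient by the centre -/
def toQModel : QModel (P ⧸ Subgroup.center P) where
  e i := (m.p i : P ⧸ Subgroup.center P)
  surj x := by
    induction x using QuotientGroup.induction_on with
    | H y =>
      obtain ⟨i, hi, h | h⟩ := m.surj y
      · exact ⟨i, hi, by rw [h]⟩
      · exact ⟨i, hi, m.mk_eq.2 (Or.inr h)⟩
  inj i hi j hj h := m.inj i hi j hj (m.mk_eq.1 h)
  com i hi j hj := by
    rw [← m.com i hi j hj, ← QuotientGroup.mk_mul, ← QuotientGroup.mk_mul, eq_comm, m.mk_eq]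
  sq i hi := by
    rw [← m.sq i hi, ← QuotientGroup.mk_mul, ← QuotientGroup.mk_one, eq_comm, m.mk_eq, one_mul]

theorem good : S2Good (P ⧸ Subgroup.center P) := m.toQModel.good

/-- transport along an isomorphism -/
def map {P' : Type*} [Group P'] (φ : P ≃* P') : PModel P' where
  p i := φ (m.p i)
  z := φ m.z
  surj x := by
    obtain ⟨i, hi, h | h⟩ := m.surj (φ.symm x)
    · exact ⟨i, hi, Or.inl (by rw [← h, φ.apply_symm_apply])⟩
    · exact ⟨i, hi, Or.inr (by rw [← map_mul, ← h, φ.apply_symm_apply])⟩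
  hzc x := by
    have := congrArg φ (m.hzc (φ.symm x))
    simpa using this
  cen x hx := by
    have : φ.symm x = 1 ∨ φ.symm x = m.z := by
      apply m.cen
      intro y
      have := congrArg φ.symm (hx (φ y))
      simpa using this
    rcases this with h | h
    · left; rw [← φ.apply_symm_apply x, h, map_one]
    · right; rw [← φ.apply_symm_apply x, h]
  inj i hi j hj h := by
    apply m.inj i hi j hj
    rcases h with h | h
    · exact Or.inl (φ.injective h)
    · exact Or.inr (φ.injective (by rw [h, map_mul]))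
  com i hi j hj := by
    rw [← m.com i hi j hj, ← map_mul, ← map_mul, ← map_mul, φ.injective.eq_iff,
      φ.injective.eq_iff]
  sq i hi := by
    rw [← m.sq i hi, ← map_mul, φ.map_eq_one_iff, φ.injective.eq_iff]

end PModel

end Cfsg.Agent.Lib.Helper26
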