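import Mathlib
import Cfsg.Agent.Lib.Helper27.M24Cfg
import Cfsg.Agent.Lib.Helper26.AllBelow
import Cfsg.Agent.Lib.Helper26.Syl2Data

/-!
# An explicit Sylow 2-subgroup of `M24`: elements and tables

The 1024 elements `s2p i` are produced by a straight-line program from six generators and matched with
packed tables `s2Q i` (8 bits per point, holding 8 times the index of the image); right multiplication
by the generators permutes them; they are distinct and determined by the images of the points
`0, 4, 8`.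
-/

set_option autoImplicit false
set_option exponentiation.threshold 1000

namespace Cfsg.Agent.Lib.Helper26

open Cfsg Cfsg.Agent.Lib.Helper7 Cfsg.Agent.Lib.Helper27

/-! ### Packed programs -/

/-- first operand of step `t` -/
def progA (P t : ℕ) : ℕ := Nat.mod (Nat.shiftRight P (Nat.mul 22 t)) 2048

/-- second operand of step `t` -/
def progB (P t : ℕ) : ℕ := Nat.mod (Nat.shiftRight P (Nat.add (Nat.mul 22 t) 11)) 2048

/-- the program as a list -/
def unpackProg (P len : ℕ) : List (ℕ × ℕ) := (List.range len).map fun t => (progA P t, progB P t)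

theorem unpackProg_length (P len : ℕ) : (unpackProg P len).length = len := by simp [unpackProg]

theorem unpackProg_getElem (P len t : ℕ) (h : t < (unpackProg P len).length) :
    (unpackProg P len)[t] = (progA P t, progB P t) := by
  simp [unpackProg]

/-! ### Packed tables -/

/-- lookup in a packed table: `x` is 8 times the index of the point, the result is 8 times the index
of the image -/
def lookQ (T x : ℕ) : ℕ := Nat.mod (Nat.shiftRight T x) 256

/-- `T` is the packed table of `σ` -/
def MatchesQ (σ : Equiv.Perm GolayPt) (T : ℕ) : Prop :=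
  ∀ p : GolayPt, 8 * Helper7.idx (σ p) = lookQ T (8 * Helper7.idx p)

theorem matchesQ_of_matches {σ : Equiv.Perm GolayPt} {t : List ℕ} (h : Matches σ t) (T : ℕ)
    (hT : ∀ k < 24, 8 * t.getD k 0 = lookQ T (8 * k)) : MatchesQ σ T := by
  intro p
  rw [h p, hT _ (Helper7.idx_lt p)]

theorem MatchesQ.unique {σ : Equiv.Perm GolayPt} {T T' : ℕ} (h : MatchesQ σ T) (h' : T = T') :
    MatchesQ σ T' := h' ▸ h

/-- `T1 ∘ T2 = T3` on all points -/
def eqCompQ (T1 T2 T3 : ℕ) : Bool :=
  allBelow 24 fun k => Nat.beq (lookQ T1 (lookQ T2 (Nat.mul 8 k))) (lookQ T3 (Nat.mul 8 k))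

theorem matchesQ_mul {σ τ : Equiv.Perm GolayPt} {T1 T2 T3 : ℕ} (h1 : MatchesQ σ T1)
    (h2 : MatchesQ τ T2) (h : eqCompQ T1 T2 T3 = true) : MatchesQ (σ * τ) T3 := by
  intro p
  rw [Equiv.Perm.mul_apply, h1, h2]
  exact Nat.eq_of_beq_eq_true ((allBelow_iff _ _).1 h (Helper7.idx p) (Helper7.idx_lt p))

/-- check the steps of a packed program against the tables `tab`; the initial state has `n0` entries -/
def chkProg (tab : ℕ → ℕ) (P n0 len : ℕ) : Bool :=
  allBelow len fun t => forceNat (progA P t) fun a => forceNat (progB P t) fun b =>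
    forceNat (Nat.add n0 t) fun n => (Nat.blt a n).and ((Nat.blt b n).and
      (forceNat (tab a) fun T1 => forceNat (tab b) fun T2 => forceNat (tab n) fun T3 =>
        eqCompQ T1 T2 T3))

theorem runP_length (prog : List (ℕ × ℕ)) (st : List (Equiv.Perm GolayPt)) :
    (runP prog st).length = st.length + prog.length := by
  induction prog generalizing st with
  | nil => simp [runP]
  | cons ab prog ih =>
    obtain ⟨a, b⟩ := ab
    simp only [runP, ih, List.length_append, List.length_cons, List.length_nil]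
    omega

theorem runP_getD_lt (prog : List (ℕ × ℕ)) (st : List (Equiv.Perm GolayPt)) (i : ℕ)
    (hi : i < st.length) : (runP prog st).getD i 1 = st.getD i 1 := by
  induction prog generalizing st with
  | nil => rfl
  | cons ab prog ih =>
    obtain ⟨a, b⟩ := ab
    simp only [runP]
    rw [ih _ (by rw [List.length_append]; omega), List.getD_append _ _ _ _ hi]

theorem runP_matches (tab : ℕ → ℕ) : ∀ (prog : List (ℕ × ℕ)) (st : List (Equiv.Perm GolayPt)),
    (∀ t (ht : t < prog.length), prog[t].1 < st.length + t ∧ prog[t].2 < st.length + t ∧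
      eqCompQ (tab prog[t].1) (tab prog[t].2) (tab (st.length + t)) = true) →
    (∀ i < st.length, MatchesQ (st.getD i 1) (tab i)) →
    ∀ i < (runP prog st).length, MatchesQ ((runP prog st).getD i 1) (tab i) := by
  intro prog
  induction prog with
  | nil => intro st _ hst i hi; exact hst i hi
  | cons ab prog ih =>
    obtain ⟨a, b⟩ := ab
    intro st h hst
    simp only [runP]
    have h0 := h 0 (by simp)
    simp only [List.getElem_cons_zero, Nat.add_zero] at h0
    obtain ⟨ha, hb, hc⟩ := h0
    apply ih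
    · intro t ht
      have := h (t + 1) (by simpa using ht)
      simp only [List.getElem_cons_succ] at this
      rw [List.length_append, List.length_singleton]
      have e : st.length + (t + 1) = st.length + 1 + t := by omega
      rw [e] at this
      exact this
    · intro i hi
      rw [List.length_append, List.length_singleton] at hi
      rcases Nat.lt_succ_iff_lt_or_eq.1 hi with hlt | rfl
      · rw [List.getD_append _ _ _ _ hlt]; exact hst i hlt
      · rw [List.getD_append_right _ _ _ _ (le_refl _), Nat.sub_self]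
        exact matchesQ_mul (hst a ha) (hst b hb) hc

theorem chkProg_sound (tab : ℕ → ℕ) (P len : ℕ) (st : List (Equiv.Perm GolayPt))
    (h : chkProg tab P st.length len = true)
    (hst : ∀ i < st.length, MatchesQ (st.getD i 1) (tab i)) :
    ∀ i < st.length + len, MatchesQ ((runP (unpackProg P len) st).getD i 1) (tab i) := by
  intro i hi
  apply runP_matches tab (unpackProg P len) st _ hst i
    (by rw [runP_length, unpackProg_length]; exact hi)
  intro t ht
  rw [unpackProg_getElem]
  have ht' : t < len := by rwa [unpackProg_length] at ht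
  have := (allBelow_iff _ _).1 h t ht'
  simp only [forceNat_eq, Bool.and_eq_true, Nat.blt_eq] at this
  exact this

/-! ### The generators -/

/-- the program producing the generators -/
def s2Prog1 : List (ℕ × ℕ) := unpackProg s2Prog1N 167

/-- the six generators -/
@[irreducible] noncomputable def s2Gens : List (Equiv.Perm GolayPt) := slpP s2Prog1 s2Idx1

theorem s2Gens_length : s2Gens.length = 6 := by
  unfold s2Gens; simp [slpP, s2Idx1]

theorem s2Gens_mem_M24 : ∀ g ∈ s2Gens, g ∈ M24 := by
  unfold s2Gens; exact slpP_mem_M24 _ _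

/-- the packed table of the `i`-th entry of the state of the first program -/
def s2GQ (i : ℕ) : ℕ := Nat.mod (Nat.shiftRight s2GQN (Nat.mul 192 i)) (Nat.pow 2 192)

/-- the packed table of the `i`-th element -/
def s2Q (i : ℕ) : ℕ :=
  Nat.mod (Nat.shiftRight (s2QC.getD (Nat.div i 64) 0) (Nat.mul 192 (Nat.mod i 64))) (Nat.pow 2 192)

/-- the three generators of `M24` have the first three tables; the first program is correct; the six
generators have the tables `s2Q 1, …, s2Q 6`, and `s2Q 0` is the identity table -/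
theorem s2_chkGens :
    (allBelow 3 fun i => forceNat (s2GQ i) fun T => allBelow 24 fun k =>
      Nat.beq (Nat.mul 8 ((gensT.getD i idT).getD k 0)) (lookQ T (Nat.mul 8 k))) = true ∧
    chkProg s2GQ s2Prog1N 3 167 = true ∧
    (allBelow 6 fun k => Nat.beq (s2GQ (s2Idx1.getD k 0)) (s2Q (Nat.add k 1))) = true ∧
    (allBelow 24 fun k => Nat.beq (lookQ (s2Q 0) (Nat.mul 8 k)) (Nat.mul 8 k)) = true := by
  decide +kernel

theorem gensP_length : gensP.length = 3 := rfl

theorem s2Gens_matchQ {k : ℕ} (hk : k < 6) : MatchesQ (s2Gens.getD k 1) (s2Q (k + 1)) := by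
  obtain ⟨h1, h2, h3, _⟩ := s2_chkGens
  have h0 : ∀ i < gensP.length, MatchesQ (gensP.getD i 1) (s2GQ i) := by
    intro i hi
    have hm : Matches (gensP.getD i 1) (gensT.getD i idT) := forall₂_getD gens_match matches_one i
    apply matchesQ_of_matches hm
    intro j hj
    have := (allBelow_iff _ _).1 h1 i hi
    rw [forceNat_eq] at this
    exact Nat.eq_of_beq_eq_true ((allBelow_iff _ _).1 this j hj)
  have hall := chkProg_sound s2GQ s2Prog1N 167 gensP h2 h0
  have hidx : s2Idx1.getD k 0 < gensP.length + 167 := by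
    rw [gensP_length]; unfold s2Idx1; interval_cases k <;> simp
  have := hall _ hidx
  have heq : s2Gens.getD k 1 = (runP s2Prog1 gensP).getD (s2Idx1.getD k 0) 1 := by
    unfold s2Gens slpP
    have hk' : k < s2Idx1.length := by unfold s2Idx1; simpa using hk
    rw [List.getD_eq_getElem _ _ (by rw [List.length_map]; exact hk'), List.getElem_map,
      List.getD_eq_getElem _ _ hk']
  rw [heq]
  exact this.unique (Nat.eq_of_beq_eq_true ((allBelow_iff _ _).1 h3 k hk))

theorem matchesQ_one : MatchesQ 1 (s2Q 0) := by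
  intro p
  have := Nat.eq_of_beq_eq_true ((allBelow_iff _ _).1 s2_chkGens.2.2.2 (Helper7.idx p) (Helper7.idx_lt p))
  rw [Equiv.Perm.one_apply]
  exact this.symm

/-! ### All elements -/

/-- the program producing all elements from `1 :: s2Gens` -/
def s2Prog2 : List (ℕ × ℕ) := unpackProg s2Prog2N 1017

/-- all 1024 elements -/
@[irreducible] noncomputable def s2St : List (Equiv.Perm GolayPt) := runP s2Prog2 (1 :: s2Gens)

/-- the `i`-th element -/
noncomputable def s2p (i : ℕ) : Equiv.Perm GolayPt := s2St.getD i 1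

theorem s2_chkProg : chkProg s2Q s2Prog2N 7 1017 = true := by decide +kernel

theorem s2p_match {i : ℕ} (hi : i < 1024) : MatchesQ (s2p i) (s2Q i) := by
  have hlen : (1 :: s2Gens).length = 7 := by rw [List.length_cons, s2Gens_length]
  have h0 : ∀ i < (1 :: s2Gens).length, MatchesQ ((1 :: s2Gens).getD i 1) (s2Q i) := by
    intro i hi
    rw [hlen] at hi
    cases i with
    | zero => exact matchesQ_one
    | succ k => rw [List.getD_cons_succ]; exact s2Gens_matchQ (by omega)
  have := chkProg_sound s2Q s2Prog2N 1017 (1 :: s2Gens) (by rw [hlen]; exact s2_chkProg) h0 i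
    (by rw [hlen]; exact hi)
  unfold s2p s2St s2Prog2
  exact this

theorem lookQ_s2Q {i : ℕ} (hi : i < 1024) {b : ℕ} (hb : b < 24) :
    lookQ (s2Q i) (8 * b) = 8 * Helper7.idx (s2p i (Helper7.pt b)) := by
  rw [s2p_match hi (Helper7.pt b), Helper7.idx_pt hb]

/-! ### The elements lie in `M24` -/

theorem s2p_zero : s2p 0 = 1 := by
  unfold s2p s2St
  rw [runP_getD_lt _ _ 0 (by simp)]
  rfl

theorem s2p_gen {k : ℕ} (hk : k < 6) : s2p (k + 1) = s2Gens.getD k 1 := by
  unfold s2p s2St
  rw [runP_getD_lt _ _ (k + 1) (by rw [List.length_cons, s2Gens_length]; omega),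
    List.getD_cons_succ]

theorem s2p_mem_of {H : Subgroup (Equiv.Perm GolayPt)} (h : ∀ g ∈ s2Gens, g ∈ H) (i : ℕ) :
    s2p i ∈ H := by
  unfold s2p s2St
  apply getD_mem_of_forall
  apply runP_mem
  intro g hg
  rw [List.mem_cons] at hg
  rcases hg with rfl | hg
  · exact H.one_mem
  · exact h g hg

theorem s2p_mem_M24 (i : ℕ) : s2p i ∈ M24 := s2p_mem_of s2Gens_mem_M24 i

/-! ### Products, checked on the seven base points of `M24` -/

/-- `T1 ∘ T2 = T3` at the point with 8 times index `x` -/
def eqAt (T1 T2 T3 x : ℕ) : Bool := Nat.beq (lookQ T1 (lookQ T2 x)) (lookQ T3 x)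

/-- `T1 ∘ T2 = T3` on the base points `23, 0, 1, 2, 3, 4, 5` -/
def eqComp7 (T1 T2 T3 : ℕ) : Bool :=
  (eqAt T1 T2 T3 184).and ((eqAt T1 T2 T3 0).and ((eqAt T1 T2 T3 8).and ((eqAt T1 T2 T3 16).and
    ((eqAt T1 T2 T3 24).and ((eqAt T1 T2 T3 32).and (eqAt T1 T2 T3 40))))))

theorem eqComp7_at {T1 T2 T3 : ℕ} (h : eqComp7 T1 T2 T3 = true) :
    ∀ j < 7, lookQ T1 (lookQ T2 (8 * baseL.getD j 0)) = lookQ T3 (8 * baseL.getD j 0) := by
  simp only [eqComp7, eqAt, Bool.and_eq_true] at h
  obtain ⟨h0, h1, h2, h3, h4, h5, h6⟩ := h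
  intro j hj
  interval_cases j
  · exact Nat.eq_of_beq_eq_true h0
  · exact Nat.eq_of_beq_eq_true h1
  · exact Nat.eq_of_beq_eq_true h2
  · exact Nat.eq_of_beq_eq_true h3
  · exact Nat.eq_of_beq_eq_true h4
  · exact Nat.eq_of_beq_eq_true h5
  · exact Nat.eq_of_beq_eq_true h6

theorem mul_eq_of_eqComp7 {σ τ ρ : Equiv.Perm GolayPt} {T1 T2 T3 : ℕ} (hσ : σ ∈ M24)
    (hτ : τ ∈ M24) (hρ : ρ ∈ M24) (h1 : MatchesQ σ T1) (h2 : MatchesQ τ T2) (h3 : MatchesQ ρ T3)
    (h : eqComp7 T1 T2 T3 = true) : σ * τ = ρ := by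
  have hfix : ∀ j < 7, (ρ⁻¹ * (σ * τ)) (bp j) = bp j := by
    intro j hj
    have hb : Helper7.idx (bp j) = baseL.getD j 0 := by
      unfold bp; exact Helper7.idx_pt (baseL_lt j)
    have := eqComp7_at h j hj
    have heq : (σ * τ) (bp j) = ρ (bp j) := by
      apply Helper7.idx_injective
      apply Nat.eq_of_mul_eq_mul_left (by norm_num : 0 < 8)
      rw [Equiv.Perm.mul_apply, h1, h2, h3, hb]
      exact this
    rw [Equiv.Perm.mul_apply, heq]
    exact ρ.symm_apply_apply _
  have := eq_one_of_fixes_base (M24.mul_mem (M24.inv_mem hρ) (M24.mul_mem hσ hτ)) hfix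
  exact (inv_mul_eq_one.1 this).symm

/-- the successor indices of generator `k`, packed -/
def s2NxtN (k : ℕ) : ℕ :=
  match k with
  | 0 => s2Nxt0 | 1 => s2Nxt1 | 2 => s2Nxt2 | 3 => s2Nxt3 | 4 => s2Nxt4 | _ => s2Nxt5

/-- the index of `s2p i * s2p (k + 1)` -/
def s2Nxt (N i : ℕ) : ℕ := Nat.mod (Nat.shiftRight N (Nat.mul 10 i)) 1024

/-- check `s2p i * g = s2p (s2Nxt N i)` for all `i` -/
def chkNxt (N g : ℕ) : Bool :=
  allBelow 1024 fun i => forceNat (s2Nxt N i) fun n => forceNat (s2Q i) fun T1 =>
    forceNat (s2Q n) fun T3 => eqComp7 T1 g T3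

theorem s2_chkNxt : allBelow 6 (fun k => forceNat (s2NxtN k) fun N =>
    forceNat (s2Q (k + 1)) fun g => chkNxt N g) = true := by
  decide +kernel

theorem s2p_mul_gen {i : ℕ} (hi : i < 1024) {k : ℕ} (hk : k < 6) :
    ∃ j < 1024, s2p i * s2p (k + 1) = s2p j := by
  have h := (allBelow_iff _ _).1 s2_chkNxt k hk
  rw [forceNat_eq, forceNat_eq] at h
  have hc := (allBelow_iff _ _).1 h i hi
  rw [forceNat_eq, forceNat_eq, forceNat_eq] at hc
  have hj : s2Nxt (s2NxtN k) i < 1024 := Nat.mod_lt _ (by norm_num)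
  exact ⟨_, hj, mul_eq_of_eqComp7 (s2p_mem_M24 _) (s2p_mem_M24 _) (s2p_mem_M24 _) (s2p_match hi)
    (s2p_match (by omega)) (s2p_match hj) hc⟩

/-! ### The elements are distinct, and determined by the images of three points -/

/-- the images of the base points `0, 4, 8` (15 bits) -/
def s2Key (i : ℕ) : ℕ :=
  forceNat (s2Q i) fun T => Nat.add (Nat.div (lookQ T 0) 8)
    (Nat.add (Nat.mul 32 (Nat.div (lookQ T 32) 8)) (Nat.mul 1024 (Nat.div (lookQ T 64) 8)))

/-- the keys of the indices below `n` are distinct and not in the bit set `acc` -/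
def s2Distinct (n : ℕ) : ℕ → Bool :=
  Nat.rec (motive := fun _ => ℕ → Bool) (fun _ => true)
    (fun k ih acc => forceNat (s2Key k) fun v =>
      (!(Nat.testBit acc v)).and (forceNat (Nat.lor acc (Nat.shiftLeft 1 v)) ih)) n

theorem s2Distinct_succ (n acc : ℕ) : s2Distinct (n + 1) acc =
    ((!(Nat.testBit acc (s2Key n))).and (s2Distinct n (Nat.lor acc (Nat.shiftLeft 1 (s2Key n))))) := by
  change (forceNat (s2Key n) fun v =>
      (!(Nat.testBit acc v)).and (forceNat (Nat.lor acc (Nat.shiftLeft 1 v)) (s2Distinct n))) = _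
  rw [forceNat_eq, forceNat_eq]

theorem s2Distinct_sound : ∀ (n acc : ℕ), s2Distinct n acc = true →
    (∀ k < n, acc.testBit (s2Key k) = false) ∧
      ∀ i < n, ∀ j < n, s2Key i = s2Key j → i = j := by
  intro n
  induction n with
  | zero => intro acc _; exact ⟨fun k hk => absurd hk (Nat.not_lt_zero k), fun i hi => absurd hi (Nat.not_lt_zero i)⟩
  | succ n ih =>
    intro acc h
    rw [s2Distinct_succ, Bool.and_eq_true, Bool.not_eq_true'] at h
    obtain ⟨h1, h2⟩ := h
    obtain ⟨ih1, ih2⟩ := ih _ h2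
    have hbit : ∀ k < n, acc.testBit (s2Key k) = false ∧ s2Key k ≠ s2Key n := by
      intro k hk
      have := ih1 k hk
      change (acc ||| 1 <<< s2Key n).testBit (s2Key k) = false at this
      rw [Nat.testBit_or, Bool.or_eq_false_iff, Nat.one_shiftLeft, Nat.testBit_two_pow] at this
      exact ⟨this.1, fun he => by simp [he] at this⟩
    refine ⟨fun k hk => ?_, fun i hi j hj hij => ?_⟩
    · rcases Nat.lt_succ_iff_lt_or_eq.1 hk with hlt | rfl
      · exact (hbit k hlt).1
      · exact h1
    · rcases Nat.lt_succ_iff_lt_or_eq.1 hi with hi' | rfl <;>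
        rcases Nat.lt_succ_iff_lt_or_eq.1 hj with hj' | rfl
      · exact ih2 i hi' j hj' hij
      · exact absurd hij (hbit i hi').2
      · exact absurd hij.symm (hbit j hj').2
      · rfl

theorem s2Keys_distinct : s2Distinct 1024 0 = true := by decide +kernel

theorem s2Key_inj {i j : ℕ} (hi : i < 1024) (hj : j < 1024) (h : s2Key i = s2Key j) : i = j :=
  (s2Distinct_sound 1024 0 s2Keys_distinct).2 i hi j hj h

theorem s2p_base_inj {i j : ℕ} (hi : i < 1024) (hj : j < 1024)
    (h0 : s2p i (Helper7.pt 0) = s2p j (Helper7.pt 0))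
    (h4 : s2p i (Helper7.pt 4) = s2p j (Helper7.pt 4))
    (h8 : s2p i (Helper7.pt 8) = s2p j (Helper7.pt 8)) : i = j := by
  apply s2Key_inj hi hj
  unfold s2Key
  have e0 : (0 : ℕ) = 8 * 0 := rfl
  have e4 : (32 : ℕ) = 8 * 4 := rfl
  have e8 : (64 : ℕ) = 8 * 8 := rfl
  rw [forceNat_eq, forceNat_eq]
  conv_lhs => rw [e0, e4, e8, lookQ_s2Q hi (by norm_num : 0 < 24), lookQ_s2Q hi (by norm_num : 4 < 24),
    lookQ_s2Q hi (by norm_num : 8 < 24)]
  conv_rhs => rw [e0, e4, e8, lookQ_s2Q hj (by norm_num : 0 < 24), lookQ_s2Q hj (by norm_num : 4 < 24),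
    lookQ_s2Q hj (by norm_num : 8 < 24)]
  rw [h0, h4, h8]

theorem s2p_inj {i j : ℕ} (hi : i < 1024) (hj : j < 1024) (h : s2p i = s2p j) : i = j :=
  s2p_base_inj hi hj (by rw [h]) (by rw [h]) (by rw [h])

end Cfsg.Agent.Lib.Helper26
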