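import Mathlib
import Cfsg.Agent.Lib.Helper26.Syl2Tabs
import Cfsg.Agent.Lib.Helper26.Syl2Abstract

/-!
# An explicit Sylow 2-subgroup of `M24`

`s2Grp` is generated by six explicit elements of `M24`; its 1024 elements are the `s2p i`.  The centre
is `{1, z}` with `z = s2p 512`, and `s2p (512 + i) = s2p i * z`.  Commutation modulo the centre is
checked against the literal matrix `s2ComC`, giving `s2Model : PModel ↥s2Grp`.
-/

set_option autoImplicit false
set_option exponentiation.threshold 1000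

namespace Cfsg.Agent.Lib.Helper26

open Cfsg Cfsg.Agent.Lib.Helper7 Cfsg.Agent.Lib.Helper27

/-! ### The group -/

/-- the subgroup generated by the six generators -/
noncomputable def s2Grp : Subgroup (Equiv.Perm GolayPt) := Subgroup.closure {g | g ∈ s2Gens}

theorem mem_s2Gens_iff {g : Equiv.Perm GolayPt} : g ∈ s2Gens ↔ ∃ k < 6, g = s2p (k + 1) := by
  constructor
  · intro h
    obtain ⟨k, hk, rfl⟩ := List.getElem_of_mem h
    have hk' : k < 6 := by rwa [s2Gens_length] at hk
    refine ⟨k, hk', ?_⟩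
    rw [s2p_gen hk', List.getD_eq_getElem _ _ hk]
  · rintro ⟨k, hk, rfl⟩
    have hk' : k < s2Gens.length := by rwa [s2Gens_length]
    rw [s2p_gen hk, List.getD_eq_getElem _ _ hk']
    exact List.getElem_mem _

theorem s2p_mem (i : ℕ) : s2p i ∈ s2Grp :=
  s2p_mem_of (fun _ hg => Subgroup.subset_closure hg) i

theorem s2Grp_le : s2Grp ≤ M24 := by
  unfold s2Grp
  rw [Subgroup.closure_le]
  intro g hg
  exact s2Gens_mem_M24 g hg

theorem exists_of_mem {x : Equiv.Perm GolayPt} (hx : x ∈ s2Grp) : ∃ j < 1024, x = s2p j := by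
  have key : ∀ i < 1024, ∃ j < 1024, s2p i * x = s2p j := by
    unfold s2Grp at hx
    induction hx using Subgroup.closure_induction with
    | mem g hg =>
      have hg' : g ∈ s2Gens := hg
      obtain ⟨k, hk, rfl⟩ := mem_s2Gens_iff.1 hg'
      intro i hi
      exact s2p_mul_gen hi hk
    | one => intro i hi; exact ⟨i, hi, mul_one _⟩
    | mul x y _ _ hx hy =>
      intro i hi
      obtain ⟨j, hj, h1⟩ := hx i hi
      obtain ⟨j', hj', h2⟩ := hy j hj
      exact ⟨j', hj', by rw [← mul_assoc, h1, h2]⟩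
    | inv x _ hx =>
      choose f hf using hx
      let F : Fin 1024 → Fin 1024 := fun i => ⟨f i i.2, (hf i i.2).1⟩
      have hFinj : Function.Injective F := by
        intro a b hab
        have h1 := (hf a a.2).2
        have h2 := (hf b b.2).2
        have hab' : f a a.2 = f b b.2 := congrArg Fin.val hab
        rw [hab'] at h1
        have : s2p a = s2p b := mul_right_cancel (h1.trans h2.symm)
        exact Fin.ext (s2p_inj a.2 b.2 this)
      have hFsurj := Finite.surjective_of_injective hFinj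
      intro i hi
      obtain ⟨a, ha⟩ := hFsurj ⟨i, hi⟩
      refine ⟨a, a.2, ?_⟩
      have h1 := (hf a a.2).2
      have : f a a.2 = i := congrArg Fin.val ha
      rw [this] at h1
      rw [← h1, mul_inv_cancel_right]
  obtain ⟨j, hj, h⟩ := key 0 (by norm_num)
  rw [s2p_zero, one_mul] at h
  exact ⟨j, hj, h⟩

theorem card_s2Grp : Nat.card s2Grp = 1024 := by
  have himg : (s2Grp : Set (Equiv.Perm GolayPt)) = s2p '' (Finset.range 1024 : Set ℕ) := by
    ext x
    constructor
    · intro hx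
      obtain ⟨j, hj, rfl⟩ := exists_of_mem hx
      exact ⟨j, by simpa using hj, rfl⟩
    · rintro ⟨j, _, rfl⟩
      exact s2p_mem j
  have hinj : Set.InjOn s2p (Finset.range 1024 : Set ℕ) := by
    intro i hi j hj h
    exact s2p_inj (by simpa using hi) (by simpa using hj) h
  have : Nat.card s2Grp = (s2Grp : Set (Equiv.Perm GolayPt)).ncard := rfl
  rw [this, himg, Set.InjOn.ncard_image hinj, Set.ncard_coe_finset, Finset.card_range]

/-- two elements of the group agreeing on the points `0, 4, 8` are equal -/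
theorem eq_of_base {x y : Equiv.Perm GolayPt} (hx : x ∈ s2Grp) (hy : y ∈ s2Grp)
    (h0 : x (Helper7.pt 0) = y (Helper7.pt 0)) (h4 : x (Helper7.pt 4) = y (Helper7.pt 4))
    (h8 : x (Helper7.pt 8) = y (Helper7.pt 8)) : x = y := by
  obtain ⟨i, hi, rfl⟩ := exists_of_mem hx
  obtain ⟨j, hj, rfl⟩ := exists_of_mem hy
  rw [s2p_base_inj hi hj h0 h4 h8]

/-! ### Evaluation of products through tables -/

theorem eval1 {σ : Equiv.Perm GolayPt} {T : ℕ} (h : MatchesQ σ T) {b : ℕ} (hb : b < 24) :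
    8 * Helper7.idx (σ (Helper7.pt b)) = lookQ T (8 * b) := by
  rw [h (Helper7.pt b), Helper7.idx_pt hb]

theorem eval2 {σ τ : Equiv.Perm GolayPt} {T1 T2 : ℕ} (h1 : MatchesQ σ T1) (h2 : MatchesQ τ T2)
    {b : ℕ} (hb : b < 24) :
    8 * Helper7.idx ((σ * τ) (Helper7.pt b)) = lookQ T1 (lookQ T2 (8 * b)) := by
  rw [Equiv.Perm.mul_apply, h1, eval1 h2 hb]

theorem eval3 {σ τ ρ : Equiv.Perm GolayPt} {T1 T2 T3 : ℕ} (h1 : MatchesQ σ T1)
    (h2 : MatchesQ τ T2) (h3 : MatchesQ ρ T3) {b : ℕ} (hb : b < 24) :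
    8 * Helper7.idx ((σ * τ * ρ) (Helper7.pt b)) = lookQ T1 (lookQ T2 (lookQ T3 (8 * b))) := by
  rw [mul_assoc, Equiv.Perm.mul_apply, h1, eval2 h2 h3 hb]

theorem apply_eq_of_eval {x y : Equiv.Perm GolayPt} {p : GolayPt}
    (h : 8 * Helper7.idx (x p) = 8 * Helper7.idx (y p)) : x p = y p :=
  Helper7.idx_injective (Nat.eq_of_mul_eq_mul_left (by norm_num) h)

/-! ### The centre and the cosets -/

/-- the central involution -/
noncomputable def s2z : Equiv.Perm GolayPt := s2p 512

/-- `T` and `g` commute on the seven base points of `M24` -/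
def comm7 (T g : ℕ) : Bool :=
  let c := fun x => Nat.beq (lookQ T (lookQ g x)) (lookQ g (lookQ T x))
  (c 184).and ((c 0).and ((c 8).and ((c 16).and ((c 24).and ((c 32).and (c 40))))))

theorem comm7_of_comm {σ τ : Equiv.Perm GolayPt} {T g : ℕ} (h1 : MatchesQ σ T)
    (h2 : MatchesQ τ g) (h : σ * τ = τ * σ) : comm7 T g = true := by
  have key : ∀ b < 24, Nat.beq (lookQ T (lookQ g (8 * b))) (lookQ g (lookQ T (8 * b))) = true := by
    intro b hb
    rw [← eval2 h1 h2 hb, ← eval2 h2 h1 hb, h]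
    exact Nat.beq_refl _
  simp only [comm7, Bool.and_eq_true]
  exact ⟨key 23 (by norm_num), key 0 (by norm_num), key 1 (by norm_num), key 2 (by norm_num),
    key 3 (by norm_num), key 4 (by norm_num), key 5 (by norm_num)⟩

theorem eq_of_base7 {x y : Equiv.Perm GolayPt} (hx : x ∈ M24) (hy : y ∈ M24)
    (h : ∀ j < 7, x (bp j) = y (bp j)) : x = y := by
  have hfix : ∀ j < 7, (y⁻¹ * x) (bp j) = bp j := by
    intro j hj
    rw [Equiv.Perm.mul_apply, h j hj]
    exact y.symm_apply_apply _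
  exact (inv_mul_eq_one.1 (eq_one_of_fixes_base (M24.mul_mem (M24.inv_mem hy) hx) hfix)).symm

theorem comm_of_comm7 {σ τ : Equiv.Perm GolayPt} {T g : ℕ} (hσ : σ ∈ M24) (hτ : τ ∈ M24)
    (h1 : MatchesQ σ T) (h2 : MatchesQ τ g) (h : comm7 T g = true) : σ * τ = τ * σ := by
  simp only [comm7, Bool.and_eq_true] at h
  obtain ⟨c0, c1, c2, c3, c4, c5, c6⟩ := h
  apply eq_of_base7 (M24.mul_mem hσ hτ) (M24.mul_mem hτ hσ)
  intro j hj
  have hb : bp j = Helper7.pt (baseL.getD j 0) := rfl
  rw [hb]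
  apply apply_eq_of_eval
  rw [eval2 h1 h2 (baseL_lt j), eval2 h2 h1 (baseL_lt j)]
  interval_cases j
  · exact Nat.eq_of_beq_eq_true c0
  · exact Nat.eq_of_beq_eq_true c1
  · exact Nat.eq_of_beq_eq_true c2
  · exact Nat.eq_of_beq_eq_true c3
  · exact Nat.eq_of_beq_eq_true c4
  · exact Nat.eq_of_beq_eq_true c5
  · exact Nat.eq_of_beq_eq_true c6

/-- `z` commutes with the generators; every other nontrivial element fails to commute with some
generator; `s2p (512 + i) = s2p i * z` -/
theorem s2_chkCenter :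
    (forceNat (s2Q 512) fun Tz => forceNat (s2Q 1) fun g1 => forceNat (s2Q 2) fun g2 =>
      forceNat (s2Q 3) fun g3 => forceNat (s2Q 4) fun g4 => forceNat (s2Q 5) fun g5 =>
      forceNat (s2Q 6) fun g6 =>
      ((comm7 Tz g1).and ((comm7 Tz g2).and ((comm7 Tz g3).and ((comm7 Tz g4).and
        ((comm7 Tz g5).and (comm7 Tz g6)))))).and
      ((allBelow 1024 fun i => (Nat.beq i 0).or ((Nat.beq i 512).or (forceNat (s2Q i) fun T =>
        (!(comm7 T g1)).or ((!(comm7 T g2)).or ((!(comm7 T g3)).or ((!(comm7 T g4)).or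
          ((!(comm7 T g5)).or (!(comm7 T g6))))))))).and
      (allBelow 512 fun i => forceNat (s2Q i) fun T1 => forceNat (s2Q (Nat.add 512 i)) fun T3 =>
        eqComp7 T1 Tz T3))) = true := by
  decide +kernel

theorem s2z_comm_gen {k : ℕ} (hk : k < 6) : s2z * s2p (k + 1) = s2p (k + 1) * s2z := by
  have h := s2_chkCenter
  simp only [forceNat_eq, Bool.and_eq_true] at h
  obtain ⟨⟨c1, c2, c3, c4, c5, c6⟩, _, _⟩ := h
  have hm : ∀ k < 6, comm7 (s2Q 512) (s2Q (k + 1)) = true := by
    intro k hk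
    interval_cases k
    · exact c1
    · exact c2
    · exact c3
    · exact c4
    · exact c5
    · exact c6
  exact comm_of_comm7 (s2p_mem_M24 _) (s2p_mem_M24 _) (s2p_match (by norm_num))
    (s2p_match (by omega)) (hm k hk)

theorem s2z_central {x : Equiv.Perm GolayPt} (hx : x ∈ s2Grp) : x * s2z = s2z * x := by
  have hle : s2Grp ≤ Subgroup.centralizer {s2z} := by
    unfold s2Grp
    rw [Subgroup.closure_le]
    intro g hg
    have hg' : g ∈ s2Gens := hg
    obtain ⟨k, hk, rfl⟩ := mem_s2Gens_iff.1 hg'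
    rw [SetLike.mem_coe, Subgroup.mem_centralizer_iff]
    intro y hy
    rw [Set.mem_singleton_iff] at hy
    rw [hy]
    exact s2z_comm_gen hk
  have := Subgroup.mem_centralizer_iff.1 (hle hx) s2z rfl
  exact this.symm

theorem s2_noncentral {i : ℕ} (hi : i < 1024) (h0 : i ≠ 0) (h512 : i ≠ 512) :
    ∃ k < 6, s2p i * s2p (k + 1) ≠ s2p (k + 1) * s2p i := by
  have h := s2_chkCenter
  simp only [forceNat_eq, Bool.and_eq_true] at h
  obtain ⟨_, hnc, _⟩ := h
  have := (allBelow_iff _ _).1 hnc i hi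
  simp only [Bool.or_eq_true, Bool.not_eq_true'] at this
  rcases this with h | h | h
  · exact absurd (Nat.eq_of_beq_eq_true h) h0
  · exact absurd (Nat.eq_of_beq_eq_true h) h512
  · have hk : ∃ k < 6, comm7 (s2Q i) (s2Q (k + 1)) = false := by
      rcases h with h | h | h | h | h | h
      · exact ⟨0, by norm_num, h⟩
      · exact ⟨1, by norm_num, h⟩
      · exact ⟨2, by norm_num, h⟩
      · exact ⟨3, by norm_num, h⟩
      · exact ⟨4, by norm_num, h⟩
      · exact ⟨5, by norm_num, h⟩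
    obtain ⟨k, hk, hf⟩ := hk
    refine ⟨k, hk, fun hc => ?_⟩
    rw [comm7_of_comm (s2p_match hi) (s2p_match (by omega)) hc] at hf
    exact Bool.noConfusion hf

theorem s2p_coset {i : ℕ} (hi : i < 512) : s2p i * s2z = s2p (512 + i) := by
  have h := s2_chkCenter
  simp only [forceNat_eq, Bool.and_eq_true] at h
  obtain ⟨_, _, hc⟩ := h
  have := (allBelow_iff _ _).1 hc i hi
  have e : Nat.add 512 i = 512 + i := rfl
  rw [e] at this
  exact mul_eq_of_eqComp7 (s2p_mem_M24 _) (s2p_mem_M24 _) (s2p_mem_M24 _) (s2p_match (by omega))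
    (s2p_match (by norm_num)) (s2p_match (by omega)) this

/-! ### Commutation and squares modulo the centre -/

/-- equality of booleans -/
def beqB : Bool → Bool → Bool
  | true, b => b
  | false, b => !b

theorem beqB_iff {a b : Bool} : beqB a b = true ↔ (a = true ↔ b = true) := by
  cases a <;> cases b <;> simp [beqB]

/-- bit `k` of `r` -/
def bitAt (r k : ℕ) : Bool := Nat.beq (Nat.mod (Nat.shiftRight r k) 2) 1

theorem bitAt_eq (r k : ℕ) : bitAt r k = r.testBit k := by
  unfold bitAt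
  rw [Nat.testBit_eq_decide_div_mod_eq]
  change Nat.beq ((r >>> k) % 2) 1 = _
  rw [Nat.shiftRight_eq_div_pow]
  by_cases h : r / 2 ^ k % 2 = 1
  · rw [h]; rfl
  · have h0 : r / 2 ^ k % 2 = 0 := by omega
    rw [h0]; rfl

/-- `Ti` and `Tj` commute, or commute up to `z`, on the points `0, 4, 8`; here `a` are the images of
these points under `Ti` and `e` the images under `Ti ∘ Tz` -/
def comQ (Ti Tj a0 a4 a8 e0 e4 e8 : ℕ) : Bool :=
  forceNat (lookQ Ti (lookQ Tj 0)) fun u0 =>
    ((Nat.beq u0 (lookQ Tj a0)).and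
      ((Nat.beq (lookQ Ti (lookQ Tj 32)) (lookQ Tj a4)).and
        (Nat.beq (lookQ Ti (lookQ Tj 64)) (lookQ Tj a8)))).or
    ((Nat.beq u0 (lookQ Tj e0)).and
      ((Nat.beq (lookQ Ti (lookQ Tj 32)) (lookQ Tj e4)).and
        (Nat.beq (lookQ Ti (lookQ Tj 64)) (lookQ Tj e8))))

/-- row `i` of the commutation matrix, with raw operations -/
def s2RowR (i : ℕ) : ℕ :=
  Nat.mod (Nat.shiftRight (s2ComC.getD (Nat.div i 64) 0) (Nat.mul 512 (Nat.mod i 64))) (Nat.pow 2 512)

theorem s2RowR_eq (i : ℕ) : s2RowR i = s2Row i := rfl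

/-- the commutation matrix is correct -/
theorem s2_chkCom :
    (forceNat (s2Q 512) fun Tz => forceNat (Nat.pow 2 192) fun M =>
      allBelow 512 fun i => forceNat (s2Q i) fun Ti => forceNat (s2RowR i) fun r =>
        forceNat (lookQ Ti 0) fun a0 => forceNat (lookQ Ti 32) fun a4 =>
        forceNat (lookQ Ti 64) fun a8 => forceNat (lookQ Ti (lookQ Tz 0)) fun e0 =>
        forceNat (lookQ Ti (lookQ Tz 32)) fun e4 => forceNat (lookQ Ti (lookQ Tz 64)) fun e8 =>
        allBelow 8 fun c => forceNat (s2QC.getD c 0) fun Cq =>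
          forceNat (Nat.mod (Nat.shiftRight r (Nat.mul 64 c)) 18446744073709551616) fun rc =>
          allBelow 64 fun t =>
            forceNat (Nat.mod (Nat.shiftRight Cq (Nat.mul 192 t)) M) fun Tj =>
              beqB (comQ Ti Tj a0 a4 a8 e0 e4 e8) (bitAt rc t)) = true := by
  decide +kernel

/-- `Ti` squares to the identity or to `Tz` on the points `0, 4, 8` -/
def sqQ (Ti Tz : ℕ) : Bool :=
  ((Nat.beq (lookQ Ti (lookQ Ti 0)) 0).and
    ((Nat.beq (lookQ Ti (lookQ Ti 32)) 32).and (Nat.beq (lookQ Ti (lookQ Ti 64)) 64))).or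
  ((Nat.beq (lookQ Ti (lookQ Ti 0)) (lookQ Tz 0)).and
    ((Nat.beq (lookQ Ti (lookQ Ti 32)) (lookQ Tz 32)).and
      (Nat.beq (lookQ Ti (lookQ Ti 64)) (lookQ Tz 64))))

/-- the mask of squares is correct -/
theorem s2_chkSq :
    (forceNat (s2Q 512) fun Tz => allBelow 512 fun i => forceNat (s2Q i) fun Ti =>
      beqB (sqQ Ti Tz) (bitAt s2Sq i)) = true := by
  decide +kernel

theorem s2_comQ {i j : ℕ} (hi : i < 512) (hj : j < 512) :
    comQ (s2Q i) (s2Q j) (lookQ (s2Q i) 0) (lookQ (s2Q i) 32) (lookQ (s2Q i) 64)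
      (lookQ (s2Q i) (lookQ (s2Q 512) 0)) (lookQ (s2Q i) (lookQ (s2Q 512) 32))
      (lookQ (s2Q i) (lookQ (s2Q 512) 64)) = s2cm i j := by
  have h := s2_chkCom
  rw [forceNat_eq, forceNat_eq] at h
  have h1 := (allBelow_iff _ _).1 h i hi
  simp only [forceNat_eq] at h1
  have hc : j / 64 < 8 := by omega
  have h2 := (allBelow_iff _ _).1 h1 (j / 64) hc
  have ht : j % 64 < 64 := Nat.mod_lt _ (by norm_num)
  have h3 := (allBelow_iff _ _).1 h2 (j % 64) ht
  rw [beqB_iff] at h3
  have e1 : Nat.mod (Nat.shiftRight (s2QC.getD (j / 64) 0) (Nat.mul 192 (j % 64))) (Nat.pow 2 192)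
      = s2Q j := rfl
  rw [e1] at h3
  have e2 : bitAt (Nat.mod (Nat.shiftRight (s2RowR i) (Nat.mul 64 (j / 64))) 18446744073709551616)
      (j % 64) = s2cm i j := by
    rw [bitAt_eq, s2RowR_eq]
    unfold s2cm
    change ((s2Row i >>> (64 * (j / 64))) % 2 ^ 64).testBit (j % 64) = _
    rw [Nat.testBit_mod_two_pow, Nat.testBit_shiftRight]
    have : 64 * (j / 64) + j % 64 = j := Nat.div_add_mod j 64
    rw [this]
    simp [ht]
  rw [e2] at h3
  exact Bool.eq_iff_iff.2 h3

theorem s2_sqQ {i : ℕ} (hi : i < 512) : sqQ (s2Q i) (s2Q 512) = s2Sq.testBit i := by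
  have h := s2_chkSq
  rw [forceNat_eq] at h
  have h1 := (allBelow_iff _ _).1 h i hi
  rw [forceNat_eq, beqB_iff, bitAt_eq] at h1
  exact Bool.eq_iff_iff.2 h1

end Cfsg.Agent.Lib.Helper26
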