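import Mathlib
import Cfsg.Agent.Lib.Helper26.Syl2Group
import Cfsg.Agent.Lib.Helper7.M24Pres

/-!
# Orbits of the explicit Sylow 2-subgroup of `M24` on the 24 points

`s2Grp` fixes the octad `s2Oct = {0, 1, 2, 3, 5, 14, 17, ∞}` and is transitive on it and on its
complement; the stabilizer of the point `0` in `s2Grp` is transitive on the complement of the octad and
on `{5, 14, 17, ∞}`, and joins `1` and `3`.
-/

set_option autoImplicit false

namespace Cfsg.Agent.Lib.Helper26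

open Cfsg Cfsg.Agent.Lib.Helper7 Cfsg.Agent.Lib.Helper27

theorem nbeq_iff0 {a b : ℕ} : Nat.beq a b = true ↔ a = b :=
  ⟨Nat.eq_of_beq_eq_true, fun h => h ▸ Nat.beq_refl a⟩

/-- the image of a point under the `i`-th element, read off the table -/
theorem s2p_apply {i : ℕ} (hi : i < 1024) {a b : ℕ} (ha : a < 24)
    (h : lookQ (s2Q i) (8 * a) = 8 * b) : s2p i (Helper7.pt a) = Helper7.pt b := by
  have h1 := lookQ_s2Q hi ha
  rw [h] at h1
  have h2 : b = Helper7.idx (s2p i (Helper7.pt a)) := by omega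
  rw [h2, Helper7.pt_idx]

/-- the mask of the octad fixed by `s2Grp` -/
def s2OctM : ℕ := 0x82402f

/-- the octad fixed by `s2Grp` -/
def s2Oct : Finset GolayPt := setOf s2OctM

theorem s2Oct_mem : s2Oct ∈ octads := setOf_mem_octads (by decide +kernel)

theorem mem_s2Oct {q : GolayPt} : q ∈ s2Oct ↔ s2OctM.testBit (Helper7.idx q) = true := mem_setOf

/-- witnesses: an element mapping `0` to `q`, for `q` in the octad -/
def s2W1 : List ℕ := [0, 15, 1, 26, 0, 5, 0, 0, 0, 0, 0, 0, 0, 0, 6, 0, 0, 2, 0, 0, 0, 0, 0, 25]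

/-- witnesses: an element fixing `0` and mapping `4` to `q`, for `q` outside the octad -/
def s2W3 : List ℕ :=
  [0, 0, 0, 0, 0, 0, 3, 38, 99, 46, 342, 208, 131, 89, 0, 10, 68, 0, 48, 132, 22, 401, 7, 0]

/-- witnesses: an element fixing `0` and mapping `5` to `q`, for `q ∈ {5, 14, 17, ∞}` -/
def s2W5 : List ℕ := [0, 0, 0, 0, 0, 0, 0, 0, 0, 0, 0, 0, 0, 0, 62, 0, 0, 45, 0, 0, 0, 0, 0, 56]

/-- the mask of `{5, 14, 17, ∞}` -/
def s2C4M : ℕ := 0x824020

theorem s2_chkOrbits :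
    (allBelow 24 fun q => (!(Nat.testBit s2OctM q)).or
      (forceNat (s2Q (s2W1.getD q 0)) fun T => Nat.beq (lookQ T 0) (Nat.mul 8 q))) = true ∧
    (allBelow 24 fun q => (Nat.testBit s2OctM q).or
      (forceNat (s2Q (s2W3.getD q 0)) fun T =>
        (Nat.beq (lookQ T 0) 0).and (Nat.beq (lookQ T 32) (Nat.mul 8 q)))) = true ∧
    (allBelow 24 fun q => (!(Nat.testBit s2C4M q)).or
      (forceNat (s2Q (s2W5.getD q 0)) fun T =>
        (Nat.beq (lookQ T 0) 0).and (Nat.beq (lookQ T 40) (Nat.mul 8 q)))) = true ∧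
    (forceNat (s2Q 3) fun T => (Nat.beq (lookQ T 0) 0).and (Nat.beq (lookQ T 8) 24)) = true ∧
    (allBelow 6 fun k => forceNat (s2Q (Nat.add k 1)) fun T => allBelow 24 fun q =>
      (!(Nat.testBit s2OctM q)).or
        (Nat.testBit s2OctM (Nat.div (lookQ T (Nat.mul 8 q)) 8))) = true ∧
    (allBelow 24 fun q => Nat.blt (s2W1.getD q 0) 1024 && Nat.blt (s2W3.getD q 0) 1024 &&
      Nat.blt (s2W5.getD q 0) 1024) = true := by
  decide +kernel

/-- `s2Grp` is transitive on the octad -/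
theorem s2_trans_oct {q : GolayPt} (hq : q ∈ s2Oct) :
    ∃ p ∈ s2Grp, p (Helper7.pt 0) = q := by
  have hb := (allBelow_iff _ _).1 s2_chkOrbits.1 (Helper7.idx q) (Helper7.idx_lt q)
  have hw := (allBelow_iff _ _).1 s2_chkOrbits.2.2.2.2.2 (Helper7.idx q) (Helper7.idx_lt q)
  rw [mem_s2Oct] at hq
  rw [hq, forceNat_eq] at hb
  simp only [Bool.not_true, Bool.false_or, nbeq_iff0] at hb
  simp only [Bool.and_eq_true, Nat.blt_eq] at hw
  refine ⟨s2p (s2W1.getD (Helper7.idx q) 0), s2p_mem _, ?_⟩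
  have := s2p_apply hw.1.1 (a := 0) (b := Helper7.idx q) (by norm_num) hb
  rw [this, Helper7.pt_idx]

/-- the stabilizer of `0` in `s2Grp` is transitive on the complement of the octad -/
theorem s2_trans_compl {q : GolayPt} (hq : q ∉ s2Oct) :
    ∃ p ∈ s2Grp, p (Helper7.pt 0) = Helper7.pt 0 ∧ p (Helper7.pt 4) = q := by
  have hb := (allBelow_iff _ _).1 s2_chkOrbits.2.1 (Helper7.idx q) (Helper7.idx_lt q)
  have hw := (allBelow_iff _ _).1 s2_chkOrbits.2.2.2.2.2 (Helper7.idx q) (Helper7.idx_lt q)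
  rw [mem_s2Oct, Bool.not_eq_true] at hq
  rw [hq, forceNat_eq] at hb
  simp only [Bool.false_or, Bool.and_eq_true, nbeq_iff0] at hb
  simp only [Bool.and_eq_true, Nat.blt_eq] at hw
  refine ⟨s2p (s2W3.getD (Helper7.idx q) 0), s2p_mem _, ?_, ?_⟩
  · exact s2p_apply hw.1.2 (a := 0) (b := 0) (by norm_num) hb.1
  · have := s2p_apply hw.1.2 (a := 4) (b := Helper7.idx q) (by norm_num) hb.2
    rw [this, Helper7.pt_idx]

/-- the stabilizer of `0` in `s2Grp` is transitive on `{5, 14, 17, ∞}` -/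
theorem s2_trans_c4 {q : GolayPt} (hq : s2C4M.testBit (Helper7.idx q) = true) :
    ∃ p ∈ s2Grp, p (Helper7.pt 0) = Helper7.pt 0 ∧ p (Helper7.pt 5) = q := by
  have hb := (allBelow_iff _ _).1 s2_chkOrbits.2.2.1 (Helper7.idx q) (Helper7.idx_lt q)
  have hw := (allBelow_iff _ _).1 s2_chkOrbits.2.2.2.2.2 (Helper7.idx q) (Helper7.idx_lt q)
  rw [hq, forceNat_eq] at hb
  simp only [Bool.not_true, Bool.false_or, Bool.and_eq_true, nbeq_iff0] at hb
  simp only [Bool.and_eq_true, Nat.blt_eq] at hw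
  refine ⟨s2p (s2W5.getD (Helper7.idx q) 0), s2p_mem _, ?_, ?_⟩
  · exact s2p_apply hw.2 (a := 0) (b := 0) (by norm_num) hb.1
  · have := s2p_apply hw.2 (a := 5) (b := Helper7.idx q) (by norm_num) hb.2
    rw [this, Helper7.pt_idx]

/-- an element of `s2Grp` fixing `0` and mapping `1` to `3` -/
theorem s2_join13 : ∃ p ∈ s2Grp, p (Helper7.pt 0) = Helper7.pt 0 ∧
    p (Helper7.pt 1) = Helper7.pt 3 := by
  have hb := s2_chkOrbits.2.2.2.1
  rw [forceNat_eq] at hb
  simp only [Bool.and_eq_true, nbeq_iff0] at hb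
  exact ⟨s2p 3, s2p_mem _, s2p_apply (by norm_num) (a := 0) (b := 0) (by norm_num) hb.1,
    s2p_apply (by norm_num) (a := 1) (b := 3) (by norm_num) hb.2⟩

open scoped Pointwise in
/-- `s2Grp` fixes the octad -/
theorem s2Grp_le_stabilizer : s2Grp ≤ MulAction.stabilizer (Equiv.Perm GolayPt) s2Oct := by
  unfold s2Grp
  rw [Subgroup.closure_le]
  intro g hg
  have hg' : g ∈ s2Gens := hg
  obtain ⟨k, hk, rfl⟩ := mem_s2Gens_iff.1 hg'
  rw [SetLike.mem_coe, MulAction.mem_stabilizer_iff]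
  apply Finset.eq_of_subset_of_card_le
  · intro r hr
    obtain ⟨q, hq, rfl⟩ := Finset.mem_smul_finset.1 hr
    rw [Equiv.Perm.smul_def, mem_s2Oct]
    rw [mem_s2Oct] at hq
    have hb := (allBelow_iff _ _).1 s2_chkOrbits.2.2.2.2.1 k hk
    rw [forceNat_eq] at hb
    have hb2 := (allBelow_iff _ _).1 hb (Helper7.idx q) (Helper7.idx_lt q)
    rw [hq] at hb2
    simp only [Bool.not_true, Bool.false_or] at hb2
    have hm := s2p_match (i := k + 1) (by omega) q
    have e : Helper7.idx (s2p (k + 1) q) =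
        Nat.div (lookQ (s2Q (Nat.add k 1)) (Nat.mul 8 (Helper7.idx q))) 8 := by
      change _ = lookQ (s2Q (k + 1)) (8 * Helper7.idx q) / 8
      omega
    rw [e]
    exact hb2
  · rw [Finset.card_smul_finset]

open scoped Pointwise in
theorem s2_fix_oct {p : Equiv.Perm GolayPt} (hp : p ∈ s2Grp) {q : GolayPt} (hq : q ∈ s2Oct) :
    p q ∈ s2Oct := by
  have h := MulAction.mem_stabilizer_iff.1 (s2Grp_le_stabilizer hp)
  rw [← h]
  exact Finset.mem_smul_finset.2 ⟨q, hq, rfl⟩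

end Cfsg.Agent.Lib.Helper26
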