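import Mathlib
import Cfsg.Agent.Lib.Helper26.Syl2Orbits
import Cfsg.Agent.Lib.Helper26.PermBlocks
import Cfsg.Agent.Lib.Helper92.M24Index
import Cfsg.Agent.Lib.Helper92.M24Fix

/-!
# Subgroups of `M24` containing the explicit Sylow 2-subgroup

Such a subgroup `J` either fixes the octad `s2Oct` or is transitive on the 24 points.  In the
transitive case the orbit `A` of the point `4` under the stabilizer `L` of the point `0` contains the
complement of the octad, and its size decides the structure: `16` and `21` are impossible when `5`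
divides the order of `L`, `18` is impossible, and `20` forces `J` to fix a sextet.
-/

set_option autoImplicit false
set_option linter.unusedSectionVars false

namespace Cfsg.Agent.Lib.Helper26.Over

open Cfsg Cfsg.Agent.Lib.Helper7 Cfsg.Agent.Lib.Helper92.PermCount Cfsg.Agent.Lib.Helper92.M24Index
  Cfsg.Agent.Lib.Helper92.M24Fix Cfsg.Agent.Lib.Helper26 Cfsg.Agent.Lib.Helper26.Blocks
open scoped Pointwise

/-- the base point `0` -/
abbrev x0 : GolayPt := Helper7.pt 0

/-- the point `4` outside the octad -/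
abbrev w0 : GolayPt := Helper7.pt 4

theorem x0_mem : x0 ∈ s2Oct := by rw [mem_s2Oct]; decide

theorem w0_not_mem : w0 ∉ s2Oct := by rw [mem_s2Oct]; decide

theorem card_s2Oct : s2Oct.card = 8 := s2Oct_mem.2

theorem card_univ_pt : (Finset.univ : Finset GolayPt).card = 24 := by decide

theorem smul_eq_of_maps {g : Equiv.Perm GolayPt} {s : Finset GolayPt}
    (h : ∀ q ∈ s, g q ∈ s) : g • s = s := by
  apply Finset.eq_of_subset_of_card_le
  · intro r hr
    obtain ⟨q, hq, rfl⟩ := Finset.mem_smul_finset.1 hr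
    exact h q hq
  · rw [Finset.card_smul_finset]

theorem apply_mem_of_smul_eq {g : Equiv.Perm GolayPt} {s : Finset GolayPt} (h : g • s = s)
    {q : GolayPt} (hq : q ∈ s) : g q ∈ s := by
  rw [← h]
  exact Finset.mem_smul_finset.2 ⟨q, hq, rfl⟩

section

variable {J : Subgroup (Equiv.Perm GolayPt)} (hP : s2Grp ≤ J)
include hP

/-- `J` fixes the octad or is transitive -/
theorem fixes_or_transitive :
    (∀ g ∈ J, g • s2Oct = s2Oct) ∨ ∀ z : GolayPt, ∃ g ∈ J, g x0 = z := by
  by_cases h : ∀ g ∈ J, ∀ q ∈ s2Oct, g q ∈ s2Oct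
  · left
    intro g hg
    exact smul_eq_of_maps (h g hg)
  · right
    push Not at h
    obtain ⟨g, hg, q, hq, hgq⟩ := h
    obtain ⟨p, hp, rfl⟩ := s2_trans_oct hq
    intro z
    by_cases hz : z ∈ s2Oct
    · obtain ⟨p', hp', rfl⟩ := s2_trans_oct hz
      exact ⟨p', hP hp', rfl⟩
    · obtain ⟨p1, hp1, _, h1⟩ := s2_trans_compl hz
      obtain ⟨p2, hp2, _, h2⟩ := s2_trans_compl hgq
      refine ⟨p1 * p2⁻¹ * (g * p), J.mul_mem (J.mul_mem (hP hp1) (J.inv_mem (hP hp2)))
        (J.mul_mem hg (hP hp)), ?_⟩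
      rw [Equiv.Perm.mul_apply, Equiv.Perm.mul_apply, Equiv.Perm.mul_apply, ← h2, inv_app, h1]

/-- the complement of the octad lies in the orbit of `4` under the stabilizer of `0` -/
theorem compl_subset_orb : s2Octᶜ ⊆ orb (stb J x0) w0 := by
  intro q hq
  rw [Finset.mem_compl] at hq
  obtain ⟨p, hp, h0, h4⟩ := s2_trans_compl hq
  exact mem_orb.mpr ⟨p, mem_stb.2 ⟨hP hp, h0⟩, h4⟩

omit hP in
theorem x0_not_mem_orb (w : GolayPt) (hw : w ≠ x0) : x0 ∉ orb (stb J x0) w := by
  intro h
  obtain ⟨j, hj, hjw⟩ := mem_orb.mp h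
  have h2 : j w = j x0 := hjw.trans (mem_stb.1 hj).2.symm
  exact hw (j.injective h2)

theorem card_orb_ge : 16 ≤ (orb (stb J x0) w0).card := by
  have h := Finset.card_le_card (compl_subset_orb hP)
  rw [Finset.card_compl, card_s2Oct] at h
  exact h

omit hP in
theorem card_orb_le : (orb (stb J x0) w0).card ≤ 23 := by
  have h : orb (stb J x0) w0 ⊆ Finset.univ.erase x0 := by
    intro q hq
    rw [Finset.mem_erase]
    refine ⟨?_, Finset.mem_univ _⟩
    rintro rfl
    exact x0_not_mem_orb w0 (by decide) hq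
  have := Finset.card_le_card h
  rw [Finset.card_erase_of_mem (Finset.mem_univ _), card_univ_pt] at this
  exact this

end

/-- in the transitive case the order of `J` is `24` times the order of the point stabilizer -/
theorem card_eq_of_transitive {J : Subgroup (Equiv.Perm GolayPt)}
    (ht : ∀ z : GolayPt, ∃ g ∈ J, g x0 = z) : Nat.card J = 24 * Nat.card (stb J x0) := by
  have h := card_eq_orb_mul J x0
  have : orb J x0 = Finset.univ := by
    ext z
    simp only [Finset.mem_univ, iff_true]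
    obtain ⟨g, hg, rfl⟩ := ht z
    exact mem_orb.mpr ⟨g, hg, rfl⟩
  rw [this, card_univ_pt] at h
  exact h

theorem card_orb_dvd_card (J : Subgroup (Equiv.Perm GolayPt)) :
    (orb (stb J x0) w0).card ∣ Nat.card (stb J x0) :=
  Dvd.intro _ (card_eq_orb_mul (stb J x0) w0).symm

theorem orb_eq_of_mem {K : Subgroup (Equiv.Perm GolayPt)} {w v : GolayPt} (h : w ∈ orb K v) :
    orb K w = orb K v := by
  ext q
  exact ⟨fun hq => mem_orb_trans hq h, fun hq => mem_orb_trans hq (mem_orb_symm h)⟩

/-! ### The block system determined by the size of the big suborbit -/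

section

variable {J : Subgroup (Equiv.Perm GolayPt)} (hP : s2Grp ≤ J)
  (ht : ∀ z : GolayPt, ∃ g ∈ J, g x0 = z) {t big : ℕ}
  (hA : (orb (stb J x0) w0).card = big) (htb : t + big = 23) (one_le : 1 ≤ t)
include hP ht hA htb one_le

theorem card_orb_le_of_not_mem {w : GolayPt} (hw : w ∉ orb (stb J x0) w0) :
    (orb (stb J x0) w).card ≤ t := by
  by_cases hx : w = x0
  · rw [hx, orb_stb_self, Finset.card_singleton]
    exact one_le
  · have hd : Disjoint (orb (stb J x0) w) (orb (stb J x0) w0) := orb_disjoint hw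
    have h0 : x0 ∉ orb (stb J x0) w ∪ orb (stb J x0) w0 := by
      rw [Finset.mem_union]
      rintro (h | h)
      · exact x0_not_mem_orb w hx h
      · exact x0_not_mem_orb w0 (by decide) h
    have h1 : (insert x0 (orb (stb J x0) w ∪ orb (stb J x0) w0)).card ≤ 24 := by
      rw [← card_univ_pt]; exact Finset.card_le_univ _
    rw [Finset.card_insert_of_notMem h0, Finset.card_union_of_disjoint hd, hA] at h1
    omega

/-- the hypotheses of the block lemma -/
theorem smallOrb (arith : ∀ a b : ℕ, 1 ≤ a → a ≤ t → 1 ≤ b → b ≤ t → ¬ big ∣ a * b)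
    (lt_big : t < big) : SmallOrb J t big := by
  apply SmallOrb.of_base x0 ht _ arith one_le lt_big
  intro w
  by_cases hw : w ∈ orb (stb J x0) w0
  · right
    rw [orb_eq_of_mem hw, hA]
  · left
    exact card_orb_le_of_not_mem hP ht hA htb one_le hw

/-- the block of `0` is the complement of the big suborbit -/
theorem blk_x0 (h : SmallOrb J t big) : h.blk x0 = (orb (stb J x0) w0)ᶜ := by
  ext w
  rw [Finset.mem_compl]
  constructor
  · intro hw hwA
    have := h.mem_blk.1 hw
    unfold SmallOrb.Rel at this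
    rw [orb_eq_of_mem hwA, hA] at this
    exact absurd this (not_le.2 h.lt_big)
  · intro hw
    rw [h.mem_blk]
    exact card_orb_le_of_not_mem hP ht hA htb one_le hw

/-- the block of `0` lies in the octad -/
theorem blk_x0_subset (h : SmallOrb J t big) : h.blk x0 ⊆ s2Oct := by
  rw [blk_x0 hP ht hA htb one_le h]
  intro w hw
  by_contra hn
  rw [Finset.mem_compl] at hw
  exact hw (compl_subset_orb hP (Finset.mem_compl.2 hn))

theorem card_blk_x0 (h : SmallOrb J t big) : (h.blk x0).card = t + 1 := by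
  rw [blk_x0 hP ht hA htb one_le h, Finset.card_compl, hA]
  have : Fintype.card GolayPt = 24 := by decide
  omega

theorem card_blk (h : SmallOrb J t big) (z : GolayPt) : (h.blk z).card = t + 1 := by
  rw [h.card_blk z x0, card_blk_x0 hP ht hA htb one_le h]

end

/-! ### An element of order five fixes small invariant sets pointwise -/

theorem fixes_of_card_le {f : Equiv.Perm GolayPt} (hf : f ^ 5 = 1) {B : Finset GolayPt}
    (hB : ∀ q, f q ∈ B ↔ q ∈ B) (hc : B.card ≤ 4) {w : GolayPt} (hw : w ∈ B) : f w = w := by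
  have : Fact (Nat.Prime 5) := ⟨by norm_num⟩
  have h := card_fixIn_modEq (p := 5) f hf B hB
  have hle : (fixIn f B).card ≤ B.card := Finset.card_le_card (Finset.filter_subset _ _)
  have heq : (fixIn f B).card = B.card := by
    unfold Nat.ModEq at h
    omega
  have : fixIn f B = B := Finset.eq_of_subset_of_card_le (Finset.filter_subset _ _) (le_of_eq heq.symm)
  rw [← this] at hw
  exact (mem_fixIn.1 hw).2

/-! ### The case of a suborbit of size 18 -/

theorem no_eighteen {J : Subgroup (Equiv.Perm GolayPt)} (hP : s2Grp ≤ J)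
    (ht : ∀ z : GolayPt, ∃ g ∈ J, g x0 = z) (hA : (orb (stb J x0) w0).card = 18) : False := by
  have h : SmallOrb J 5 18 := smallOrb hP ht hA (by norm_num) (by norm_num)
    (by
      intro a b ha1 ha hb1 hb
      interval_cases a <;> interval_cases b <;> omega) (by norm_num)
  have hsub := blk_x0_subset hP ht hA (by norm_num) (by norm_num) h
  have hcard := card_blk hP ht hA (t := 5) (by norm_num) (by norm_num) h
  obtain ⟨c, hcO, hcQ⟩ : ∃ c ∈ s2Oct, c ∉ h.blk x0 := by
    apply Finset.exists_mem_notMem_of_card_lt_card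
    rw [hcard x0, card_s2Oct]
    norm_num
  obtain ⟨p, hp, rfl⟩ := s2_trans_oct hcO
  have hsub2 : h.blk (p x0) ⊆ s2Oct := by
    rw [h.blk_smul (hP hp)]
    intro w hw
    obtain ⟨w', hw', rfl⟩ := Finset.mem_image.1 hw
    exact s2_fix_oct hp (hsub hw')
  have hd : Disjoint (h.blk (p x0)) (h.blk x0) := by
    rcases h.blk_eq_or_disjoint (p x0) x0 with he | hd
    · exact absurd (he ▸ h.self_mem_blk (p x0)) hcQ
    · exact hd
  have hle := Finset.card_le_card (Finset.union_subset hsub2 hsub)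
  rw [Finset.card_union_of_disjoint hd, hcard, hcard, card_s2Oct] at hle
  omega

/-! ### The case of a suborbit of size 21 -/

theorem no_twentyone {J : Subgroup (Equiv.Perm GolayPt)} (hJ : J ≤ M24) (hP : s2Grp ≤ J)
    (ht : ∀ z : GolayPt, ∃ g ∈ J, g x0 = z) (hA : (orb (stb J x0) w0).card = 21)
    (h5 : 5 ∣ Nat.card (stb J x0)) : False := by
  have : Fact (Nat.Prime 5) := ⟨by norm_num⟩
  have h : SmallOrb J 2 21 := smallOrb hP ht hA (by norm_num) (by norm_num)
    (by
      intro a b ha1 ha hb1 hb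
      interval_cases a <;> interval_cases b <;> omega) (by norm_num)
  have hcard := card_blk hP ht hA (t := 2) (by norm_num) (by norm_num) h
  obtain ⟨f, hfL, hf⟩ := exists_orderOf_eq_prime (stb J x0) 5 h5
  have hfJ : f ∈ J := (mem_stb.1 hfL).1
  have hf5 : f ^ 5 = 1 := by rw [← hf]; exact pow_orderOf_eq_one f
  have hfix4 := card_fixPts_5 (hJ hfJ) hf
  have key : ∀ z : GolayPt, f z = z → h.blk z ⊆ fixPts f := by
    intro z hz w hw
    rw [mem_fixPts]
    have hfz : f ∈ stb J z := mem_stb.2 ⟨hfJ, hz⟩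
    have hw' := h.mem_blk.1 hw
    unfold SmallOrb.Rel at hw'
    exact fixes_of_card_le hf5 (fun q => apply_mem_orb_iff hfz q) (by omega) (self_mem_orb _ w)
  have h0 := key x0 (mem_stb.1 hfL).2
  obtain ⟨z', hz'F, hz'Q⟩ : ∃ z' ∈ fixPts f, z' ∉ h.blk x0 := by
    apply Finset.exists_mem_notMem_of_card_lt_card
    rw [hcard x0, hfix4]
    norm_num
  have h1 := key z' (mem_fixPts.1 hz'F)
  have hd : Disjoint (h.blk z') (h.blk x0) := by
    rcases h.blk_eq_or_disjoint z' x0 with he | hd
    · exact absurd (he ▸ h.self_mem_blk z') hz'Q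
    · exact hd
  have hle := Finset.card_le_card (Finset.union_subset h1 h0)
  rw [Finset.card_union_of_disjoint hd, hcard, hcard, hfix4] at hle
  omega

/-! ### The case of a suborbit of size 16 -/

theorem no_sixteen {J : Subgroup (Equiv.Perm GolayPt)} (hJ : J ≤ M24) (hP : s2Grp ≤ J)
    (ht : ∀ z : GolayPt, ∃ g ∈ J, g x0 = z) (hA : (orb (stb J x0) w0).card = 16)
    (h5 : 5 ∣ Nat.card (stb J x0)) : False := by
  have : Fact (Nat.Prime 5) := ⟨by norm_num⟩
  have hAeq : orb (stb J x0) w0 = s2Octᶜ := by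
    symm
    apply Finset.eq_of_subset_of_card_le (compl_subset_orb hP)
    rw [hA, Finset.card_compl, card_s2Oct]
    decide
  -- the stabilizer of `0` fixes the octad
  have hL : ∀ l ∈ stb J x0, l • s2Oct = s2Oct := by
    intro l hl
    apply perm_smul_eq_of_mem_iff
    intro q
    have := apply_mem_orb_iff (x := w0) hl q
    rw [hAeq, Finset.mem_compl, Finset.mem_compl] at this
    exact not_iff_not.1 this
  -- elements of `J` mapping `0` into the octad fix the octad
  have claim1 : ∀ g ∈ J, g x0 ∈ s2Oct → g • s2Oct = s2Oct := by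
    intro g hg hgx
    obtain ⟨p, hp, hpx⟩ := s2_trans_oct hgx
    have hl : p⁻¹ * g ∈ stb J x0 := by
      refine mem_stb.2 ⟨J.mul_mem (J.inv_mem (hP hp)) hg, ?_⟩
      rw [Equiv.Perm.mul_apply, ← hpx, inv_app]
    have h1 := hL _ hl
    have h2 : p • s2Oct = s2Oct := MulAction.mem_stabilizer_iff.1 (s2Grp_le_stabilizer hp)
    rw [mul_smul] at h1
    have h3 := congrArg (fun s => p • s) h1
    simp only [smul_inv_smul] at h3
    rw [h3, h2]
  obtain ⟨f, hfL, hf⟩ := exists_orderOf_eq_prime (stb J x0) 5 h5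
  have hfJ : f ∈ J := (mem_stb.1 hfL).1
  have hf5 : f ^ 5 = 1 := by rw [← hf]; exact pow_orderOf_eq_one f
  have hfix4 := card_fixPts_5 (hJ hfJ) hf
  have hfO := hL f hfL
  have hinvO : ∀ q, f q ∈ s2Oct ↔ q ∈ s2Oct := mem_iff_of_perm_smul_eq hfO
  have hmodO := card_fixIn_modEq (p := 5) f hf5 s2Oct hinvO
  rw [card_s2Oct] at hmodO
  have hsubO : fixIn f s2Oct ⊆ fixPts f := fun q hq => mem_fixPts.2 (mem_fixIn.1 hq).2
  have hleO := Finset.card_le_card hsubO
  rw [hfix4] at hleO
  have hO3 : (fixIn f s2Oct).card = 3 := by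
    unfold Nat.ModEq at hmodO
    omega
  obtain ⟨z', hz'F, hz'O⟩ : ∃ z' ∈ fixPts f, z' ∉ fixIn f s2Oct := by
    apply Finset.exists_mem_notMem_of_card_lt_card
    rw [hO3, hfix4]
    norm_num
  have hz'f : f z' = z' := mem_fixPts.1 hz'F
  have hz'nO : z' ∉ s2Oct := fun hm => hz'O (mem_fixIn.2 ⟨hm, hz'f⟩)
  obtain ⟨g, hg, hgx⟩ := ht z'
  -- the block `g • s2Oct`
  have hfB : f • (g • s2Oct) = g • s2Oct := by
    have hl : g⁻¹ * f * g ∈ stb J x0 := by
      refine mem_stb.2 ⟨J.mul_mem (J.mul_mem (J.inv_mem hg) hfJ) hg, ?_⟩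
      rw [Equiv.Perm.mul_apply, Equiv.Perm.mul_apply, hgx, hz'f, ← hgx, inv_app]
    have h1 := hL _ hl
    rw [mul_smul, mul_smul] at h1
    have h2 := congrArg (fun s => g • s) h1
    simp only [smul_inv_smul] at h2
    exact h2
  have hdisj : Disjoint (g • s2Oct) s2Oct := by
    rw [Finset.disjoint_left]
    intro q hqB hqO
    obtain ⟨q', hq'O, rfl⟩ := Finset.mem_smul_finset.1 hqB
    obtain ⟨p, hp, rfl⟩ := s2_trans_oct hq'O
    have h1 := claim1 (g * p) (J.mul_mem hg (hP hp)) hqO
    have h2 : p • s2Oct = s2Oct := MulAction.mem_stabilizer_iff.1 (s2Grp_le_stabilizer hp)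
    rw [mul_smul, h2] at h1
    apply hz'nO
    rw [← h1, ← hgx]
    exact Finset.mem_smul_finset.2 ⟨x0, x0_mem, rfl⟩
  have hinvB : ∀ q, f q ∈ g • s2Oct ↔ q ∈ g • s2Oct := mem_iff_of_perm_smul_eq hfB
  have hmodB := card_fixIn_modEq (p := 5) f hf5 (g • s2Oct) hinvB
  rw [Finset.card_smul_finset, card_s2Oct] at hmodB
  have hsubB : fixIn f (g • s2Oct) ⊆ fixPts f := fun q hq => mem_fixPts.2 (mem_fixIn.1 hq).2
  have hd2 : Disjoint (fixIn f (g • s2Oct)) (fixIn f s2Oct) :=
    Finset.disjoint_of_subset_left (Finset.filter_subset _ _)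
      (Finset.disjoint_of_subset_right (Finset.filter_subset _ _) hdisj)
  have hle := Finset.card_le_card (Finset.union_subset hsubB hsubO)
  rw [Finset.card_union_of_disjoint hd2, hO3, hfix4] at hle
  unfold Nat.ModEq at hmodB
  omega

/-! ### The case of a suborbit of size 20: a sextet -/

theorem smul_eq_image (g : Equiv.Perm GolayPt) (B : Finset GolayPt) : g • B = B.image g := rfl

theorem sextet_of_twenty {J : Subgroup (Equiv.Perm GolayPt)} (hJ : J ≤ M24) (hP : s2Grp ≤ J)
    (ht : ∀ z : GolayPt, ∃ g ∈ J, g x0 = z) (hA : (orb (stb J x0) w0).card = 20) :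
    ∃ S ∈ sextets, ∀ g ∈ J, g • S = S := by
  have h : SmallOrb J 3 20 := smallOrb hP ht hA (by norm_num) (by norm_num)
    (by
      intro a b ha1 ha hb1 hb
      interval_cases a <;> interval_cases b <;> omega) (by norm_num)
  have hsub := blk_x0_subset hP ht hA (by norm_num) (by norm_num) h
  have hcard := card_blk hP ht hA (t := 3) (by norm_num) (by norm_num) h
  have hblk0 := blk_x0 hP ht hA (by norm_num) (by norm_num) h
  -- a second block inside the octad
  obtain ⟨c, hcO, hcQ⟩ : ∃ c ∈ s2Oct, c ∉ h.blk x0 := by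
    apply Finset.exists_mem_notMem_of_card_lt_card
    rw [hcard x0, card_s2Oct]
    norm_num
  have hcA : c ∈ orb (stb J x0) w0 := by
    rw [hblk0, Finset.mem_compl, not_not] at hcQ
    exact hcQ
  obtain ⟨p, hp, hpc⟩ := s2_trans_oct hcO
  have hsub2 : h.blk c ⊆ s2Oct := by
    rw [← hpc, h.blk_smul (hP hp)]
    intro w hw
    obtain ⟨w', hw', rfl⟩ := Finset.mem_image.1 hw
    exact s2_fix_oct hp (hsub hw')
  have hd : Disjoint (h.blk x0) (h.blk c) := by
    rcases h.blk_eq_or_disjoint x0 c with he | hd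
    · exact absurd (he ▸ h.self_mem_blk c) hcQ
    · exact hd
  have hO : h.blk x0 ∪ h.blk c = s2Oct := by
    apply Finset.eq_of_subset_of_card_le (Finset.union_subset hsub hsub2)
    rw [Finset.card_union_of_disjoint hd, hcard, hcard, card_s2Oct]
  classical
  refine ⟨Finset.univ.image h.blk, ⟨?_, ?_, ?_⟩, ?_⟩
  · -- six blocks
    have hbU : (Finset.univ.image h.blk).biUnion id = Finset.univ := by
      ext z
      simp only [Finset.mem_biUnion, Finset.mem_image, Finset.mem_univ, true_and, id, iff_true]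
      exact ⟨h.blk z, ⟨z, rfl⟩, h.self_mem_blk z⟩
    have hpd : ∀ B1 ∈ Finset.univ.image h.blk, ∀ B2 ∈ Finset.univ.image h.blk, B1 ≠ B2 →
        Disjoint (id B1) (id B2) := by
      intro B1 hB1 B2 hB2 hne
      obtain ⟨z1, _, rfl⟩ := Finset.mem_image.1 hB1
      obtain ⟨z2, _, rfl⟩ := Finset.mem_image.1 hB2
      rcases h.blk_eq_or_disjoint z1 z2 with he | hd
      · exact absurd he hne
      · exact hd
    have h1 := Finset.card_biUnion hpd
    rw [hbU, card_univ_pt] at h1
    have h2 : ∑ u ∈ Finset.univ.image h.blk, (id u : Finset GolayPt).card =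
        ∑ _u ∈ Finset.univ.image h.blk, 4 := by
      apply Finset.sum_congr rfl
      intro B hB
      obtain ⟨z, _, rfl⟩ := Finset.mem_image.1 hB
      exact hcard z
    rw [h2, Finset.sum_const, smul_eq_mul] at h1
    omega
  · intro B hB
    obtain ⟨z, _, rfl⟩ := Finset.mem_image.1 hB
    exact hcard z
  · intro B1 hB1 B2 hB2 hne
    obtain ⟨z1, _, rfl⟩ := Finset.mem_image.1 hB1
    obtain ⟨z2, _, rfl⟩ := Finset.mem_image.1 hB2
    obtain ⟨g, hg, rfl⟩ := ht z1
    have hz2 : z2 = g (g⁻¹ z2) := (app_inv g z2).symm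
    rw [hz2, h.blk_smul hg, h.blk_smul hg] at hne ⊢
    have hne' : h.blk (g⁻¹ z2) ≠ h.blk x0 := fun he => hne (by rw [he])
    have hz2A : g⁻¹ z2 ∈ orb (stb J x0) w0 := by
      by_contra hn
      apply hne'
      apply h.blk_eq_of_mem
      rw [hblk0, Finset.mem_compl]
      exact hn
    obtain ⟨l, hl, hlc⟩ := mem_orb.mp (mem_orb_trans hz2A (mem_orb_symm hcA))
    have hlJ : l ∈ J := (mem_stb.1 hl).1
    have hlx : l x0 = x0 := (mem_stb.1 hl).2
    have e1 : h.blk (g⁻¹ z2) = (h.blk c).image l := by rw [← hlc, h.blk_smul hlJ]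
    have e0 : h.blk x0 = (h.blk x0).image l := by
      conv_lhs => rw [← hlx]
      rw [h.blk_smul hlJ]
    have hU : Finset.image (⇑g) (h.blk x0) ∪ Finset.image (⇑g) (h.blk (g⁻¹ z2)) =
        (g * l) • s2Oct := by
      rw [e1, ← Finset.image_union]
      have e2 : h.blk x0 ∪ Finset.image (⇑l) (h.blk c) = Finset.image (⇑l) s2Oct := by
        rw [← hO, Finset.image_union, ← e0]
      rw [e2, Finset.image_image]
      rfl
    rw [hU]
    exact smul_mem_octads (hJ (J.mul_mem hg hlJ)) s2Oct_mem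
  · intro g hg
    apply Finset.eq_of_subset_of_card_le
    · intro B hB
      obtain ⟨B', hB', rfl⟩ := Finset.mem_smul_finset.1 hB
      obtain ⟨z, _, rfl⟩ := Finset.mem_image.1 hB'
      rw [smul_eq_image, ← h.blk_smul hg]
      exact Finset.mem_image.2 ⟨g z, Finset.mem_univ _, rfl⟩
    · rw [Finset.card_smul_finset]

end Cfsg.Agent.Lib.Helper26.Over
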