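import Mathlib
import Cfsg.Agent.Lib.Helper26.M24Over

/-!
# Subgroups of `M24` of order 887040 fix a pair of points
-/

set_option autoImplicit false

namespace Cfsg.Agent.Lib.Helper26.Over

open Cfsg Cfsg.Agent.Lib.Helper7 Cfsg.Agent.Lib.Helper92.PermCount Cfsg.Agent.Lib.Helper92.M24Index
  Cfsg.Agent.Lib.Helper92.M24Fix Cfsg.Agent.Lib.Helper26 Cfsg.Agent.Lib.Helper26.Blocks
open scoped Pointwise

/-- a subgroup of a point stabilizer of order `36960` fixes a second point -/
theorem exists_fixed_of_card_36960 {J : Subgroup (Equiv.Perm GolayPt)} (hJ : J ≤ M24)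
    {x : GolayPt} (hx : FixesAll J {x}) (hcard : Nat.card J = 36960) :
    ∃ y, y ≠ x ∧ ∀ g ∈ J, g y = y := by
  have : Fact (Nat.Prime 11) := ⟨by norm_num⟩
  have : Fact (Nat.Prime 7) := ⟨by norm_num⟩
  obtain ⟨t, htJ, ht⟩ := exists_orderOf_eq_prime J 11 (by rw [hcard]; norm_num)
  obtain ⟨u, huJ, hu⟩ := exists_orderOf_eq_prime J 7 (by rw [hcard]; norm_num)
  obtain ⟨y, hyx, hfixt⟩ := exists_fixPts_eq_insert (hx.subset_fixPts htJ)
    (by rw [card_fixPts_11 (hJ htJ) ht]; rfl)
  have hmod := card_orb_mod_of_insert hx htJ ht hyx hfixt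
  have hle := hx.card_orb_le hyx
  have hmul := card_eq_orb_mul J y
  rw [hcard] at hmul
  have hpos := card_orb_pos J y
  rw [Finset.card_singleton] at hle
  have hcases : (orb J y).card = 1 ∨ (orb J y).card = 12 := by
    have h23 : (orb J y).card ≠ 23 := by
      intro h; rw [h] at hmul; omega
    omega
  rcases hcases with h1 | h12
  · exact ⟨y, by simpa using hyx, fixes_of_card_orb_eq_one h1⟩
  · exfalso
    have hxB : x ∉ orb J y := fun h => hx.not_mem_orb hyx h (Finset.mem_singleton_self x)
    set B' : Finset GolayPt := (insert x (orb J y))ᶜ with hB'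
    have hB'card : B'.card = 11 := by
      rw [hB', Finset.card_compl, Finset.card_insert_of_notMem hxB, h12]
      decide
    have hux : u x = x := hx u huJ x (Finset.mem_singleton_self x)
    have hinv : ∀ q, u q ∈ B' ↔ q ∈ B' := by
      intro q
      rw [hB', Finset.mem_compl, Finset.mem_compl, Finset.mem_insert, Finset.mem_insert,
        apply_mem_orb_iff huJ]
      have : u q = x ↔ q = x := by
        constructor
        · intro h; exact u.injective (h.trans hux.symm)
        · intro h; rw [h, hux]
      rw [this]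
    have hu7 : u ^ 7 = 1 := by rw [← hu]; exact pow_orderOf_eq_one u
    have hmod7 := card_fixIn_modEq (p := 7) u hu7 B' hinv
    rw [hB'card] at hmod7
    have hsub : fixIn u B' ⊆ (fixPts u).erase x := by
      intro q hq
      rw [mem_fixIn] at hq
      rw [Finset.mem_erase]
      refine ⟨?_, mem_fixPts.mpr hq.2⟩
      rintro rfl
      have := hq.1
      rw [hB', Finset.mem_compl] at this
      exact this (Finset.mem_insert_self _ _)
    have hcard2 : ((fixPts u).erase x).card = 2 := by
      rw [Finset.card_erase_of_mem (mem_fixPts.mpr hux), card_fixPts_7 (hJ huJ) hu]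
    have hle2 := Finset.card_le_card hsub
    rw [hcard2] at hle2
    unfold Nat.ModEq at hmod7
    omega

theorem fixesAll_stb (J : Subgroup (Equiv.Perm GolayPt)) (z : GolayPt) : FixesAll (stb J z) {z} := by
  intro g hg q hq
  rw [Finset.mem_singleton] at hq
  rw [hq]
  exact (mem_stb.1 hg).2

/-- a subgroup of `M24` of order `887040` fixes a pair of points -/
theorem duad_of_card_887040 {J : Subgroup (Equiv.Perm GolayPt)} (hJ : J ≤ M24)
    (hc : Nat.card J = 887040) : ∃ s : Finset GolayPt, s.card = 2 ∧ ∀ g ∈ J, g • s = s := by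
  have : Fact (Nat.Prime 11) := ⟨by norm_num⟩
  have : Fact (Nat.Prime 7) := ⟨by norm_num⟩
  obtain ⟨t, htJ, ht⟩ := exists_orderOf_eq_prime J 11 (by rw [hc]; norm_num)
  obtain ⟨u, huJ, hu⟩ := exists_orderOf_eq_prime J 7 (by rw [hc]; norm_num)
  have hft := card_fixPts_11 (hJ htJ) ht
  have hfu := card_fixPts_7 (hJ huJ) hu
  obtain ⟨x, hx⟩ : (fixPts t).Nonempty := by rw [← Finset.card_pos, hft]; norm_num
  have hmod11 := card_orb_mod htJ ht x
  have hmod7 := card_orb_mod huJ hu x
  have h11le : (fixIn t (orb J x)).card ≤ 2 := by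
    rw [← hft]
    exact Finset.card_le_card fun q hq => mem_fixPts.2 (mem_fixIn.1 hq).2
  have h11ge : 1 ≤ (fixIn t (orb J x)).card :=
    Finset.card_pos.2 ⟨x, mem_fixIn.2 ⟨self_mem_orb J x, mem_fixPts.1 hx⟩⟩
  have h7le : (fixIn u (orb J x)).card ≤ 3 := by
    rw [← hfu]
    exact Finset.card_le_card fun q hq => mem_fixPts.2 (mem_fixIn.1 hq).2
  have hmul := card_eq_orb_mul J x
  rw [hc] at hmul
  have hdvd : (orb J x).card ∣ 887040 := Dvd.intro _ hmul.symm
  have hle24 : (orb J x).card ≤ 24 := by
    rw [← card_univ_pt]; exact Finset.card_le_univ _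
  have hpos := card_orb_pos J x
  have hk : (orb J x).card = 1 ∨ (orb J x).card = 2 ∨ (orb J x).card = 24 := by
    generalize (orb J x).card = k at *
    generalize (fixIn t (orb J x)).card = a at *
    generalize (fixIn u (orb J x)).card = b at *
    interval_cases k <;> omega
  rcases hk with hk | hk | hk
  · -- `J` fixes a point: impossible
    exfalso
    have hfix : FixesAll J {x} := by
      intro g hg q hq
      rw [Finset.mem_singleton] at hq
      rw [hq]
      exact fixes_of_card_orb_eq_one hk g hg
    have := card_dvd_of_fixesAll_one hJ hfix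
    rw [hc] at this
    omega
  · refine ⟨orb J x, hk, fun g hg => ?_⟩
    exact perm_smul_eq_of_mem_iff fun q => apply_mem_orb_iff hg q
  · -- transitive: impossible
    exfalso
    have huniv : orb J x = Finset.univ := by
      apply Finset.eq_univ_of_card
      rw [hk]; decide
    have hcz : ∀ z : GolayPt, Nat.card (stb J z) = 36960 := by
      intro z
      have hz : z ∈ orb J x := by rw [huniv]; exact Finset.mem_univ z
      have h1 := card_eq_orb_mul J z
      rw [orb_eq_of_mem hz, hk, hc] at h1
      change Nat.card ↥(J ⊓ MulAction.stabilizer (Equiv.Perm GolayPt) z) = 36960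
      omega
    have hzM : ∀ z : GolayPt, stb J z ≤ M24 := fun z => inf_le_left.trans hJ
    -- every point stabilizer fixes a second point
    have hpart : ∀ z : GolayPt, ∃ z', z' ≠ z ∧ ∀ g ∈ stb J z, g z' = z' := fun z =>
      exists_fixed_of_card_36960 (hzM z) (fixesAll_stb J z) (hcz z)
    -- but not two more
    have hthree : ∀ a b c : GolayPt, b ≠ a → c ≠ a → b ≠ c → (∀ g ∈ stb J a, g b = b) →
        (∀ g ∈ stb J a, g c = c) → False := by
      intro a b c hba hca hbc hb hc'
      obtain ⟨t', ht'J, ht'⟩ := exists_orderOf_eq_prime (stb J a) 11 (by rw [hcz a]; norm_num)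
      have h2 := card_fixPts_11 (hzM a ht'J) ht'
      have hsub : ({a, b, c} : Finset GolayPt) ⊆ fixPts t' := by
        intro q hq
        rw [Finset.mem_insert, Finset.mem_insert, Finset.mem_singleton] at hq
        rw [mem_fixPts]
        rcases hq with rfl | rfl | rfl
        · exact (mem_stb.1 ht'J).2
        · exact hb t' ht'J
        · exact hc' t' ht'J
      have h3 : ({a, b, c} : Finset GolayPt).card = 3 := by
        rw [Finset.card_insert_of_notMem, Finset.card_insert_of_notMem, Finset.card_singleton]
        · simpa using hbc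
        · simp only [Finset.mem_insert, Finset.mem_singleton, not_or]
          exact ⟨fun h => hba h.symm, fun h => hca h.symm⟩
      have := Finset.card_le_card hsub
      omega
    -- the relation is symmetric
    have hsymm : ∀ a b : GolayPt, (∀ g ∈ stb J a, g b = b) → ∀ g ∈ stb J b, g a = a := by
      intro a b hb
      have hle : stb J a ≤ stb J b := fun g hg => mem_stb.2 ⟨(mem_stb.1 hg).1, hb g hg⟩
      have heq : stb J a = stb J b :=
        Subgroup.eq_of_le_of_card_ge hle (by rw [hcz a, hcz b])
      intro g hg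
      rw [← heq] at hg
      exact (mem_stb.1 hg).2
    obtain ⟨q1, hq1⟩ : (fixPts u).Nonempty := by rw [← Finset.card_pos, hfu]; norm_num
    have huq : ∀ q ∈ fixPts u, u ∈ stb J q := fun q hq => mem_stb.2 ⟨huJ, mem_fixPts.1 hq⟩
    obtain ⟨q1', hne1, hp1⟩ := hpart q1
    have hq1' : q1' ∈ fixPts u := mem_fixPts.2 (hp1 u (huq q1 hq1))
    obtain ⟨q3, hq3, hq3n⟩ : ∃ q3 ∈ fixPts u, q3 ∉ ({q1, q1'} : Finset GolayPt) := by
      apply Finset.exists_mem_notMem_of_card_lt_card
      rw [hfu]
      exact lt_of_le_of_lt (Finset.card_le_two) (by norm_num)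
    rw [Finset.mem_insert, Finset.mem_singleton, not_or] at hq3n
    obtain ⟨q3', hne3, hp3⟩ := hpart q3
    have hq3' : q3' ∈ fixPts u := mem_fixPts.2 (hp3 u (huq q3 hq3))
    have hF : fixPts u = {q1, q1', q3} := by
      symm
      apply Finset.eq_of_subset_of_card_le
      · intro q hq
        rw [Finset.mem_insert, Finset.mem_insert, Finset.mem_singleton] at hq
        rcases hq with rfl | rfl | rfl
        · exact hq1
        · exact hq1'
        · exact hq3
      · rw [hfu, Finset.card_insert_of_notMem, Finset.card_insert_of_notMem, Finset.card_singleton]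
        · simpa using fun h => hq3n.2 h.symm
        · simp only [Finset.mem_insert, Finset.mem_singleton, not_or]
          exact ⟨fun h => hne1 h.symm, fun h => hq3n.1 h.symm⟩
    rw [hF, Finset.mem_insert, Finset.mem_insert, Finset.mem_singleton] at hq3'
    rcases hq3' with h | h | h
    · -- the partner of `q3` is `q1`
      rw [h] at hp3
      exact hthree q1 q1' q3 hne1 hq3n.1 (fun h' => hq3n.2 h'.symm) hp1 (hsymm q3 q1 hp3)
    · rw [h] at hp3
      exact hthree q1' q1 q3 (fun h' => hne1 h'.symm) hq3n.2 (fun h' => hq3n.1 h'.symm)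
        (hsymm q1 q1' hp1) (hsymm q3 q1' hp3)
    · exact hne3 h

end Cfsg.Agent.Lib.Helper26.Over
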