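import Mathlib
import Cfsg.Agent.Lib.Helper26.M24Over
import Cfsg.Agent.Lib.Helper7.M24Chain

/-!
# Subgroups of `M24` of odd index contain a conjugate of the explicit Sylow 2-subgroup
-/

set_option autoImplicit false

namespace Cfsg.Agent.Lib.Helper26.Over

open Cfsg Cfsg.Agent.Lib.Helper7 Cfsg.Agent.Lib.Helper26
open scoped Pointwise

/-- a subgroup of `↥M24` as a subgroup of the symmetric group -/
def toPerm (H : Subgroup ↥M24) : Subgroup (Equiv.Perm GolayPt) := H.map M24.subtype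

theorem mem_toPerm {H : Subgroup ↥M24} {g : Equiv.Perm GolayPt} :
    g ∈ toPerm H ↔ ∃ h : g ∈ M24, (⟨g, h⟩ : ↥M24) ∈ H := by
  unfold toPerm
  rw [Subgroup.mem_map]
  constructor
  · rintro ⟨x, hx, rfl⟩
    exact ⟨x.2, hx⟩
  · rintro ⟨h, hx⟩
    exact ⟨⟨g, h⟩, hx, rfl⟩

theorem coe_mem_toPerm {H : Subgroup ↥M24} {h : ↥M24} (hh : h ∈ H) :
    (h : Equiv.Perm GolayPt) ∈ toPerm H := mem_toPerm.2 ⟨h.2, hh⟩

theorem toPerm_le (H : Subgroup ↥M24) : toPerm H ≤ M24 := by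
  intro g hg
  exact (mem_toPerm.1 hg).1

theorem card_toPerm (H : Subgroup ↥M24) : Nat.card (toPerm H) = Nat.card H :=
  Subgroup.card_map_of_injective M24.subtype_injective

instance : Finite ↥M24 := Nat.finite_of_card_ne_zero (by rw [card_M24]; norm_num)

theorem card_of_index {H : Subgroup ↥M24} {n : ℕ} (h : H.index = n) :
    Nat.card (toPerm H) * n = 244823040 := by
  rw [card_toPerm, ← h, Subgroup.card_mul_index, card_M24]

/-- a subgroup fixing `o` whose order is at least that of the stabilizer of `o` is the stabilizer -/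
theorem eq_stabilizer_of_fixes {X : Type*} [MulAction (Equiv.Perm GolayPt) X] (H : Subgroup ↥M24)
    (o : X) (hfix : ∀ g ∈ toPerm H, g • o = o)
    (hcard : Nat.card (MulAction.stabilizer ↥M24 o) ≤ Nat.card H) :
    H = MulAction.stabilizer ↥M24 o := by
  apply Subgroup.eq_of_le_of_card_ge
  · intro h hh
    rw [MulAction.mem_stabilizer_iff]
    exact hfix _ (coe_mem_toPerm hh)
  · exact hcard

/-- conjugate of a subgroup of the symmetric group -/
def conjBy (γ : Equiv.Perm GolayPt) (J : Subgroup (Equiv.Perm GolayPt)) :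
    Subgroup (Equiv.Perm GolayPt) := J.map (MulAut.conj γ).toMonoidHom

theorem mem_conjBy {γ : Equiv.Perm GolayPt} {J : Subgroup (Equiv.Perm GolayPt)}
    {g : Equiv.Perm GolayPt} : g ∈ conjBy γ J ↔ γ⁻¹ * g * γ ∈ J := by
  unfold conjBy
  rw [Subgroup.mem_map]
  constructor
  · rintro ⟨x, hx, rfl⟩
    simp only [MulEquiv.coe_toMonoidHom, MulAut.conj_apply]
    have : γ⁻¹ * (γ * x * γ⁻¹) * γ = x := by group
    rw [this]
    exact hx
  · intro h
    refine ⟨γ⁻¹ * g * γ, h, ?_⟩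
    simp only [MulEquiv.coe_toMonoidHom, MulAut.conj_apply]
    group

theorem card_conjBy (γ : Equiv.Perm GolayPt) (J : Subgroup (Equiv.Perm GolayPt)) :
    Nat.card (conjBy γ J) = Nat.card J :=
  Subgroup.card_map_of_injective (MulAut.conj γ).injective

theorem conjBy_le {γ : Equiv.Perm GolayPt} (hγ : γ ∈ M24) {J : Subgroup (Equiv.Perm GolayPt)}
    (hJ : J ≤ M24) : conjBy γ J ≤ M24 := by
  intro g hg
  have := hJ (mem_conjBy.1 hg)
  have e : g = γ * (γ⁻¹ * g * γ) * γ⁻¹ := by group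
  rw [e]
  exact M24.mul_mem (M24.mul_mem hγ this) (M24.inv_mem hγ)

/-- a subgroup of odd index contains a conjugate of the explicit Sylow 2-subgroup -/
theorem exists_conj_sylow (H : Subgroup ↥M24) (hodd : ¬ 2 ∣ H.index) :
    ∃ γ ∈ M24, s2Grp ≤ conjBy γ (toPerm H) := by
  have : Fact (Nat.Prime 2) := ⟨Nat.prime_two⟩
  let P1 : Subgroup ↥M24 := s2Grp.subgroupOf M24
  have hP1 : IsPGroup 2 ↥P1 := by
    apply IsPGroup.of_card (n := 10)
    rw [Nat.card_congr (Subgroup.subgroupOfEquivOfLe s2Grp_le).toEquiv, card_s2Grp]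
    norm_num
  have hfix := hP1.nonempty_fixed_point_of_prime_not_dvd_card (↥M24 ⧸ H) (by
    rw [← Subgroup.index_eq_card]; exact hodd)
  obtain ⟨c, hc⟩ := hfix
  induction c using QuotientGroup.induction_on with
  | H g =>
    refine ⟨(g : Equiv.Perm GolayPt), g.2, ?_⟩
    intro p hp
    rw [mem_conjBy, mem_toPerm]
    have hpM : p ∈ M24 := s2Grp_le hp
    refine ⟨M24.mul_mem (M24.mul_mem (M24.inv_mem g.2) hpM) g.2, ?_⟩
    have hmem : (⟨p, hpM⟩ : ↥M24) ∈ P1 := Subgroup.mem_subgroupOf.2 hp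
    have h1 := hc ⟨⟨p, hpM⟩, hmem⟩
    have h2 : ((⟨p, hpM⟩ : ↥M24) * g : ↥M24 ⧸ H) = (g : ↥M24 ⧸ H) := h1
    rw [QuotientGroup.eq] at h2
    have h3 := H.inv_mem h2
    have e : ((⟨p, hpM⟩ : ↥M24) * g)⁻¹ * g = g⁻¹ * (⟨p, hpM⟩ : ↥M24)⁻¹ * g := by group
    rw [e] at h3
    have e2 : (g⁻¹ * (⟨p, hpM⟩ : ↥M24)⁻¹ * g)⁻¹ = g⁻¹ * ⟨p, hpM⟩ * g := by group
    rw [e2] at h3
    exact h3

end Cfsg.Agent.Lib.Helper26.Over
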