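import Mathlib
import Cfsg.Agent.Lib.Helper26.M24Sub
import Cfsg.Agent.Lib.Helper92.OctadStab

/-!
# Subgroups of `M24` of orders 322560, 967680 and 138240 containing the explicit Sylow 2-subgroup
-/

set_option autoImplicit false

namespace Cfsg.Agent.Lib.Helper26.Over

open Cfsg Cfsg.Agent.Lib.Helper7 Cfsg.Agent.Lib.Helper92.PermCount Cfsg.Agent.Lib.Helper92.M24Index
  Cfsg.Agent.Lib.Helper92.M24Fix Cfsg.Agent.Lib.Helper26 Cfsg.Agent.Lib.Helper26.Blocks
open scoped Pointwise

/-- the size of the big suborbit modulo 7 -/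
theorem card_orb_mod_seven {J : Subgroup (Equiv.Perm GolayPt)} (hJ : J ≤ M24)
    (h7 : 7 ∣ Nat.card (stb J x0)) : (orb (stb J x0) w0).card % 7 ≤ 2 := by
  have : Fact (Nat.Prime 7) := ⟨by norm_num⟩
  obtain ⟨u, huL, hu⟩ := exists_orderOf_eq_prime (stb J x0) 7 h7
  have huJ : u ∈ J := (mem_stb.1 huL).1
  have hux : u x0 = x0 := (mem_stb.1 huL).2
  have h1 := card_orb_mod huL hu w0
  have h3 := card_fixPts_7 (hJ huJ) hu
  have hsub : fixIn u (orb (stb J x0) w0) ⊆ (fixPts u).erase x0 := by
    intro q hq
    rw [mem_fixIn] at hq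
    rw [Finset.mem_erase]
    refine ⟨?_, mem_fixPts.2 hq.2⟩
    rintro rfl
    exact x0_not_mem_orb w0 (by decide) hq.1
  have hle := Finset.card_le_card hsub
  rw [Finset.card_erase_of_mem (mem_fixPts.2 hux), h3] at hle
  omega

theorem le_stabM24 {J : Subgroup (Equiv.Perm GolayPt)} (hJ : J ≤ M24)
    (hfix : ∀ g ∈ J, g • s2Oct = s2Oct) : J ≤ stabM24 s2Oct := by
  intro g hg
  exact mem_stabM24.2 ⟨hJ hg, hfix g hg⟩

/-- order `322560`: the subgroup fixes the octad -/
theorem over_322560 {J : Subgroup (Equiv.Perm GolayPt)} (hJ : J ≤ M24) (hP : s2Grp ≤ J)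
    (hc : Nat.card J = 322560) : ∀ g ∈ J, g • s2Oct = s2Oct := by
  rcases fixes_or_transitive hP with hfix | ht
  · exact hfix
  · exfalso
    have hcL := card_eq_of_transitive ht
    rw [hc] at hcL
    have hL : Nat.card (stb J x0) = 13440 := by omega
    have hdvd := card_orb_dvd_card J
    rw [hL] at hdvd
    have hge := card_orb_ge hP
    have hle := card_orb_le (J := J)
    have hmod := card_orb_mod_seven hJ (by rw [hL]; norm_num)
    have hk : (orb (stb J x0) w0).card = 16 ∨ (orb (stb J x0) w0).card = 21 := by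
      generalize (orb (stb J x0) w0).card = k at *
      interval_cases k <;> omega
    rcases hk with hk | hk
    · exact no_sixteen hJ hP ht hk (by rw [hL]; norm_num)
    · exact no_twentyone hJ hP ht hk (by rw [hL]; norm_num)

/-- order `967680`: impossible -/
theorem over_967680 {J : Subgroup (Equiv.Perm GolayPt)} (hJ : J ≤ M24) (hP : s2Grp ≤ J)
    (hc : Nat.card J = 967680) : False := by
  rcases fixes_or_transitive hP with hfix | ht
  · have h := Subgroup.card_dvd_of_le (le_stabM24 hJ hfix)
    rw [hc, Cfsg.Agent.Lib.Helper92.card_stabM24_octad s2Oct_mem] at h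
    omega
  · have hcL := card_eq_of_transitive ht
    rw [hc] at hcL
    have hL : Nat.card (stb J x0) = 40320 := by omega
    have hdvd := card_orb_dvd_card J
    rw [hL] at hdvd
    have hge := card_orb_ge hP
    have hle := card_orb_le (J := J)
    have hmod := card_orb_mod_seven hJ (by rw [hL]; norm_num)
    have hk : (orb (stb J x0) w0).card = 16 ∨ (orb (stb J x0) w0).card = 21 := by
      generalize (orb (stb J x0) w0).card = k at *
      interval_cases k <;> omega
    rcases hk with hk | hk
    · exact no_sixteen hJ hP ht hk (by rw [hL]; norm_num)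
    · exact no_twentyone hJ hP ht hk (by rw [hL]; norm_num)

/-- order `138240`: the subgroup fixes a sextet -/
theorem over_138240 {J : Subgroup (Equiv.Perm GolayPt)} (hJ : J ≤ M24) (hP : s2Grp ≤ J)
    (hc : Nat.card J = 138240) : ∃ S ∈ sextets, ∀ g ∈ J, g • S = S := by
  rcases fixes_or_transitive hP with hfix | ht
  · exfalso
    have h := Subgroup.card_dvd_of_le (le_stabM24 hJ hfix)
    rw [hc, Cfsg.Agent.Lib.Helper92.card_stabM24_octad s2Oct_mem] at h
    omega
  · have hcL := card_eq_of_transitive ht
    rw [hc] at hcL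
    have hL : Nat.card (stb J x0) = 5760 := by omega
    have hdvd := card_orb_dvd_card J
    rw [hL] at hdvd
    have hge := card_orb_ge hP
    have hle := card_orb_le (J := J)
    have hk : (orb (stb J x0) w0).card = 16 ∨ (orb (stb J x0) w0).card = 18 ∨
        (orb (stb J x0) w0).card = 20 := by
      generalize (orb (stb J x0) w0).card = k at *
      interval_cases k <;> omega
    rcases hk with hk | hk | hk
    · exact (no_sixteen hJ hP ht hk (by rw [hL]; norm_num)).elim
    · exact (no_eighteen hP ht hk).elim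
    · exact sextet_of_twenty hJ hP ht hk

end Cfsg.Agent.Lib.Helper26.Over
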