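import Mathlib
import Cfsg.Agent.Lib.Helper26.M24OddIndex
import Cfsg.Agent.Lib.Helper26.M24Duad
import Cfsg.Agent.Lib.Helper26.Sextets
import Cfsg.Agent.Lib.Helper7.M24Trans

/-!
# Subgroups of `M24` of index 759, 276, 1771, 253
-/

set_option autoImplicit false

namespace Cfsg.Agent.Lib.Helper26.Over

open Cfsg Cfsg.Agent.Lib.Helper7 Cfsg.Agent.Lib.Helper92.PermCount Cfsg.Agent.Lib.Helper92.M24Index
  Cfsg.Agent.Lib.Helper92.M24Fix Cfsg.Agent.Lib.Helper26 Cfsg.Agent.Lib.Helper26.Blocks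
open scoped Pointwise

theorem toPerm_stabilizer {X : Type*} [MulAction (Equiv.Perm GolayPt) X] (o : X) :
    toPerm (MulAction.stabilizer ↥M24 o) = M24 ⊓ MulAction.stabilizer (Equiv.Perm GolayPt) o := by
  ext g
  rw [mem_toPerm, Subgroup.mem_inf]
  constructor
  · rintro ⟨h, hg⟩
    exact ⟨h, MulAction.mem_stabilizer_iff.2 (MulAction.mem_stabilizer_iff.1 hg)⟩
  · rintro ⟨h, hg⟩
    exact ⟨h, MulAction.mem_stabilizer_iff.2 (MulAction.mem_stabilizer_iff.1 hg)⟩

theorem card_stabilizer_octad' {o : Finset GolayPt} (ho : o ∈ octads) :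
    Nat.card (MulAction.stabilizer ↥M24 o) = 322560 := by
  rw [← card_toPerm, toPerm_stabilizer]
  exact Cfsg.Agent.Lib.Helper92.card_stabM24_octad ho

theorem orbit_M24_sextet' {S : Finset (Finset GolayPt)} (hS : S ∈ sextets) :
    MulAction.orbit ↥M24 S = sextets := by
  ext Y
  constructor
  · rintro ⟨g, rfl⟩
    exact smul_mem_sextets g.2 hS
  · intro hY
    obtain ⟨g, hg, hgS⟩ := sextet_setup.trans S hS Y hY
    exact ⟨⟨g, hg⟩, hgS⟩

theorem card_stabilizer_sextet' {S : Finset (Finset GolayPt)} (hS : S ∈ sextets) :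
    Nat.card (MulAction.stabilizer ↥M24 S) = 138240 := by
  have h1 := Subgroup.card_mul_index (MulAction.stabilizer ↥M24 S)
  rw [MulAction.index_stabilizer, orbit_M24_sextet' hS, sextet_setup.hN, card_M24] at h1
  omega

theorem card_stabilizer_duad_le {s : Finset GolayPt} (hs : s.card = 2) :
    Nat.card (MulAction.stabilizer ↥M24 s) ≤ 887040 := by
  obtain ⟨p, q, hpq, rfl⟩ := Finset.card_eq_two.1 hs
  rw [← card_toPerm, toPerm_stabilizer]
  set K : Subgroup (Equiv.Perm GolayPt) :=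
    M24 ⊓ MulAction.stabilizer (Equiv.Perm GolayPt) ({p, q} : Finset GolayPt) with hK
  have h1 := card_eq_orb_mul K p
  have horb : (orb K p).card ≤ 2 := by
    rw [← hs]
    apply Finset.card_le_card
    apply orb_subset (by simp)
    intro g hg r hr
    have := MulAction.mem_stabilizer_iff.1 hg.2
    exact apply_mem_of_smul_eq this hr
  have hle : K ⊓ MulAction.stabilizer (Equiv.Perm GolayPt) p ≤
      toPerm (MulAction.stabilizer ↥M24 p ⊓ MulAction.stabilizer ↥M24 q) := by
    intro g hg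
    obtain ⟨⟨hgM, hgs⟩, hgp⟩ := hg
    have hgp' : g p = p := MulAction.mem_stabilizer_iff.1 hgp
    have hgs' : g • ({p, q} : Finset GolayPt) = {p, q} := MulAction.mem_stabilizer_iff.1 hgs
    have hgq : g q = q := by
      have : g q ∈ ({p, q} : Finset GolayPt) := apply_mem_of_smul_eq hgs' (by simp)
      rw [Finset.mem_insert, Finset.mem_singleton] at this
      rcases this with h | h
      · exact absurd (g.injective (h.trans hgp'.symm)) (Ne.symm hpq)
      · exact h
    rw [mem_toPerm]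
    refine ⟨hgM, ?_, ?_⟩
    · exact MulAction.mem_stabilizer_iff.2 hgp'
    · exact MulAction.mem_stabilizer_iff.2 hgq
  have h2 := Nat.le_of_dvd Nat.card_pos (Subgroup.card_dvd_of_le hle)
  rw [card_toPerm, card_stabilizer_pair_M24 hpq] at h2
  calc Nat.card K = (orb K p).card * Nat.card ↥(K ⊓ MulAction.stabilizer (Equiv.Perm GolayPt) p) := h1
    _ ≤ 2 * 443520 := Nat.mul_le_mul horb h2
    _ = 887040 := by norm_num

/-- transport of a fixed object along conjugation -/
theorem fixes_of_conjBy {X : Type*} [MulAction (Equiv.Perm GolayPt) X] {γ : Equiv.Perm GolayPt}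
    {J : Subgroup (Equiv.Perm GolayPt)} {o : X} (h : ∀ g ∈ conjBy γ J, g • o = o) :
    ∀ g ∈ J, g • (γ⁻¹ • o) = γ⁻¹ • o := by
  intro g hg
  have hmem : γ * g * γ⁻¹ ∈ conjBy γ J := by
    rw [mem_conjBy]
    have : γ⁻¹ * (γ * g * γ⁻¹) * γ = g := by group
    rw [this]
    exact hg
  have h1 := h _ hmem
  rw [mul_smul, mul_smul] at h1
  have h2 := congrArg (fun s => γ⁻¹ • s) h1
  simp only [inv_smul_smul] at h2
  exact h2

theorem index_759 (H : Subgroup ↥M24) (h : H.index = 759) :
    ∃ o ∈ octads, H = MulAction.stabilizer ↥M24 o := by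
  have hodd : ¬ 2 ∣ H.index := by rw [h]; norm_num
  obtain ⟨γ, hγ, hP⟩ := exists_conj_sylow H hodd
  have hc : Nat.card (toPerm H) = 322560 := by have := card_of_index h; omega
  have hfix := over_322560 (conjBy_le hγ (toPerm_le H)) hP (by rw [card_conjBy, hc])
  have ho : γ⁻¹ • s2Oct ∈ octads := smul_mem_octads (M24.inv_mem hγ) s2Oct_mem
  refine ⟨γ⁻¹ • s2Oct, ho, ?_⟩
  apply eq_stabilizer_of_fixes H _ (fixes_of_conjBy hfix)
  rw [card_stabilizer_octad' ho, ← card_toPerm, hc]

theorem index_1771 (H : Subgroup ↥M24) (h : H.index = 1771) :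
    ∃ S ∈ sextets, H = MulAction.stabilizer ↥M24 S := by
  have hodd : ¬ 2 ∣ H.index := by rw [h]; norm_num
  obtain ⟨γ, hγ, hP⟩ := exists_conj_sylow H hodd
  have hc : Nat.card (toPerm H) = 138240 := by have := card_of_index h; omega
  obtain ⟨S, hS, hfix⟩ := over_138240 (conjBy_le hγ (toPerm_le H)) hP (by rw [card_conjBy, hc])
  have hS' : γ⁻¹ • S ∈ sextets := smul_mem_sextets (M24.inv_mem hγ) hS
  refine ⟨γ⁻¹ • S, hS', ?_⟩
  apply eq_stabilizer_of_fixes H _ (fixes_of_conjBy hfix)
  rw [card_stabilizer_sextet' hS', ← card_toPerm, hc]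

theorem index_253 (H : Subgroup ↥M24) : H.index ≠ 253 := by
  intro h
  have hodd : ¬ 2 ∣ H.index := by rw [h]; norm_num
  obtain ⟨γ, hγ, hP⟩ := exists_conj_sylow H hodd
  have hc : Nat.card (toPerm H) = 967680 := by have := card_of_index h; omega
  exact over_967680 (conjBy_le hγ (toPerm_le H)) hP (by rw [card_conjBy, hc])

theorem index_276 (H : Subgroup ↥M24) (h : H.index = 276) :
    ∃ s : Finset GolayPt, s.card = 2 ∧ H = MulAction.stabilizer ↥M24 s := by
  have hc : Nat.card (toPerm H) = 887040 := by have := card_of_index h; omega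
  obtain ⟨s, hs, hfix⟩ := duad_of_card_887040 (toPerm_le H) hc
  refine ⟨s, hs, ?_⟩
  apply eq_stabilizer_of_fixes H _ hfix
  rw [← card_toPerm H, hc]
  exact card_stabilizer_duad_le hs

end Cfsg.Agent.Lib.Helper26.Over
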