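import Mathlib
import Cfsg.Agent.Lib.Helper4.PFInterface
import Cfsg.Agent.Lib.Helper4.PFTypes
import Cfsg.Agent.Lib.Helper4.PFNineA
import Cfsg.Agent.Lib.Helper23.TypeP
import Cfsg.Agent.Lib.Helper24.BGBookFinalC
import Cfsg.Agent.Lib.Helper26.PFBookC
import Cfsg.Agent.Lib.Helper26.PFFrozen
import Cfsg.Agent.Lib.Helper59.PFNineN12
import Cfsg.Agent.Lib.Helper62.PFNineN3
import Cfsg.Agent.Lib.Helper64.PFElevenE6

/-!
# S1543 from the book-form results of Peterfalvi sections 10-12 (helper26, for helper4's PF cell)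

`stmt1543_of_book`: the frozen statement S1543 for a pair `(S, T)` (`PairHyp`), from

* (a) `hnoV`  : no maximal subgroup of Type V (Peterfalvi (10.10)),
* (b) `hnoIV` : `S` is not of Type IV (Peterfalvi (11.?)),
* (c) `hlt`   : `S` of Type III ⟹ `|W₂| < |W₁|`,
* (d) `hea3`  : `S` of Type III ⟹ `S_F` elementary abelian of order `|W₂| ^ |W₁|`,
* (e) `h127`  : Peterfalvi (12.7) in book form.

The Type II half (`S_F` elementary abelian of order `p ^ q`) is proved here from
Peterfalvi (9.3)-(9.5) (`Helper59.PFNine`, `Helper62.PF9`, `Helper4.PF9`).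
-/

set_option autoImplicit false

namespace Cfsg.Agent.Lib.Helper26.PF13Book

open Cfsg Cfsg.Agent.Lib.Helper4.PF
open scoped commutatorElement

universe u

variable {G : Type u} [Group G] [Finite G]

/-- two complements of `M'` in `M` have the same order -/
theorem card_eq_of_isComplIn_left {A B B' M : Subgroup G} (h : IsComplIn A B M)
    (h' : IsComplIn A B' M) : Nat.card B = Nat.card B' := by
  have h1 := Cfsg.Agent.Lib.Helper23.card_of_isComplIn h
  have h2 := Cfsg.Agent.Lib.Helper23.card_of_isComplIn h'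
  rw [h1] at h2
  exact Nat.eq_of_mul_eq_mul_left Nat.card_pos h2

/-- A maximal subgroup of Type II, III or IV with type-P data `(W₁, U, W₂)`: `|W₁|` is a prime
(whatever data is used). -/
theorem card_W₁_prime_of_type {M W₁ U W₂ : Subgroup G} (hP : IsTypePWith M W₁ U W₂)
    (h : IsOfTypeII M ∨ IsOfTypeIII M ∨ IsOfTypeIV M) : (Nat.card W₁).Prime := by
  rcases h with h | h | h
  · obtain ⟨A₁, B, A₂, hP', -, hpr, -⟩ := h
    rw [card_eq_of_isComplIn_left hP.W₁_compl hP'.W₁_compl]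
    exact hpr
  · obtain ⟨A₁, B, A₂, hP', -, hpr, -⟩ := h
    rw [card_eq_of_isComplIn_left hP.W₁_compl hP'.W₁_compl]
    exact hpr
  · obtain ⟨A₁, B, A₂, hP', -, hpr, -⟩ := h
    rw [card_eq_of_isComplIn_left hP.W₁_compl hP'.W₁_compl]
    exact hpr

/-- **Type II half**: for `S` of Type II with type-P data `(W₁, U, W₂)` and `|W₂|` prime, `S_F` is
elementary abelian of order `|W₂| ^ |W₁|` (Peterfalvi (9.3)-(9.5)). -/
theorem typeII_fittingHall {S W₁ U W₂ : Subgroup G} (hP : IsTypePWith S W₁ U W₂)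
    (hII : IsOfTypeII S) (hp : (Nat.card W₂).Prime) :
    IsElementaryAbelian (Nat.card W₂) (fittingHallOf S) ∧
      Nat.card (fittingHallOf S) = Nat.card W₂ ^ Nat.card W₁ := by
  obtain ⟨W₁', U', W₂', hP', hU', -, -, -, -, hF, hHF⟩ := hII
  -- `U ≠ 1`
  have hcardU : Nat.card U = Nat.card U' := card_eq_of_isComplIn_left hP.U_compl hP'.U_compl
  have hU : U ≠ ⊥ := by
    intro hbot
    apply hU'
    rw [← Subgroup.card_eq_one, ← hcardU, hbot]
    exact Subgroup.card_bot
  have hC := Cfsg.Agent.Lib.Helper59.PFNine.typeII_centralizer_U_eq_bot hP hU hF hHF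
  have hcard := Cfsg.Agent.Lib.Helper4.PF9.card_H_of_centralizer_U_eq_bot hP hU hC
  obtain ⟨H₀, h1, h2, h3, h4⟩ := Cfsg.Agent.Lib.Helper59.PFNine.exists_Fcore_kernel hP hU
  obtain ⟨p', hp', hidx, hW₂, hcomm, hpow, -⟩ :=
    Cfsg.Agent.Lib.Helper62.PF9.Fcore_factor_facts hP hU H₀ h1 h2 h3 h4
  -- `p' = |W₂|`
  have hpp : p' = Nat.card W₂ := by
    have hdvd : p' ∣ Nat.card W₂ := by
      rw [← hW₂]
      exact Subgroup.relIndex_dvd_card _ _
    exact (Nat.prime_dvd_prime_iff_eq hp' hp).mp hdvd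
  -- `H₀ = 1`
  have hH₀ : H₀ = ⊥ := by
    have e1 := Subgroup.index_mul_card (H₀.subgroupOf (fittingHallOf S))
    have e2 : Nat.card ↥(H₀.subgroupOf (fittingHallOf S)) = Nat.card ↥H₀ :=
      Nat.card_congr (Subgroup.subgroupOfEquivOfLe h1.le).toEquiv
    have e3 : (H₀.subgroupOf (fittingHallOf S)).index = Nat.card W₂ ^ Nat.card W₁ := by
      rw [← hpp]
      exact hidx
    rw [e2, e3, hcard] at e1
    have hpos : 0 < Nat.card W₂ ^ Nat.card W₁ := pow_pos hp.pos _
    have e4 : Nat.card ↥H₀ = 1 := by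
      have : Nat.card W₂ ^ Nat.card W₁ * Nat.card ↥H₀ = Nat.card W₂ ^ Nat.card W₁ * 1 := by
        rw [mul_one]; exact e1
      exact Nat.eq_of_mul_eq_mul_left hpos this
    exact Subgroup.card_eq_one.mp e4
  refine ⟨⟨⟨⟨fun a b => ?_⟩⟩, ?_⟩, hcard⟩
  · apply Subtype.ext
    have hmem : ⁅(a : G), (b : G)⁆ ∈ ⁅fittingHallOf S, fittingHallOf S⁆ :=
      Subgroup.commutator_mem_commutator a.2 b.2
    have h5 := hcomm hmem
    rw [hH₀, Subgroup.mem_bot, commutatorElement_eq_one_iff_mul_comm] at h5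
    exact h5
  · intro a ha
    have h5 := hpow a ha
    rw [hH₀, Subgroup.mem_bot, hpp] at h5
    exact h5

/-- **S1543 for one pair, from the book-form results of sections 10-12.** -/
theorem stmt1543_of_book (hG : IsMinSimpleOddOrder G) {S T W₁ W₂ U V : Subgroup G}
    (ph : PairHyp S T W₁ W₂ U V)
    (hnoV : ∀ L : Subgroup G, IsCoatom L → ¬ IsOfTypeV L)
    (hnoIV : ¬ IsOfTypeIV S)
    (hlt : IsOfTypeIII S → Nat.card W₂ < Nat.card W₁)
    (hea3 : IsOfTypeIII S → IsElementaryAbelian (Nat.card W₂) (fittingHallOf S) ∧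
      Nat.card (fittingHallOf S) = Nat.card W₂ ^ Nat.card W₁)
    (h127 : ∀ L : Subgroup G, IsCoatom L → LitTypeI L → IsFrobWithFittingHall L) :
    (IsOfTypeII S ∨ IsOfTypeIII S) ∧ (Nat.card W₁ < Nat.card W₂ → IsOfTypeII S) ∧
      IsElementaryAbelian (Nat.card W₂) (fittingHallOf S) ∧
      Nat.card (fittingHallOf S) = Nat.card W₂ ^ Nat.card W₁ ∧
      IsTISubset (typeA0 S) ∧ Subgroup.normalizer (typeA0 S) = S := by
  have bg := Cfsg.Agent.Lib.Helper24.BGBook.bookBGData hG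
  have pf8 := Cfsg.Agent.Lib.Helper26.PFBook.bookPF8Data_of hG bg
  have hA0 : typeA0 S = litA0 S :=
    Cfsg.Agent.Lib.Helper26.PFBook.typeA0_eq_litA0_of_typeP ⟨W₁, U, W₂, ph.hSP⟩
  -- `S` is of Type II or III
  have h23 : IsOfTypeII S ∨ IsOfTypeIII S := by
    rcases ph.hS25 with h | h | h | h
    · exact Or.inl h
    · exact Or.inr h
    · exact absurd h hnoIV
    · exact absurd h (hnoV S ph.hS)
  have hqp : Nat.card W₁ < Nat.card W₂ → IsOfTypeII S := by
    intro hlt'
    rcases h23 with h | h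
    · exact h
    · exact absurd (hlt h) (by omega)
  refine ⟨h23, hqp, ?_⟩
  rcases h23 with hII | hIII
  · -- Type II
    have hT234 : IsOfTypeII T ∨ IsOfTypeIII T ∨ IsOfTypeIV T := by
      rcases ph.hT25 with h | h | h | h
      · exact Or.inl h
      · exact Or.inr (Or.inl h)
      · exact Or.inr (Or.inr h)
      · exact absurd h (hnoV T ph.hT)
    have hp : (Nat.card W₂).Prime := card_W₁_prime_of_type ph.hTP hT234
    obtain ⟨hea, hcard⟩ := typeII_fittingHall ph.hSP hII hp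
    have hti := (pf8.tiII S ph.hS hII).1
    rw [hA0]
    exact ⟨hea, hcard, hti.1, hti.2⟩
  · -- Type III
    obtain ⟨hea, hcard⟩ := hea3 hIII
    have hti := (Cfsg.Agent.Lib.Helper64.PF11.typeP_centralizer_le_and_ti bg pf8 h127 ph.hS ph.hSP).2
    rw [hA0]
    exact ⟨hea, hcard, hti.1, hti.2⟩

/-- **The frozen statement S1543** from the book-form results of sections 10-12, all inputs
quantified over the pairs. -/
theorem stmt1543_of_book_all (hG : IsMinSimpleOddOrder G)
    (hnoV : ∀ L : Subgroup G, IsCoatom L → ¬ IsOfTypeV L)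
    (hnoIV : ∀ {S T W₁ W₂ U V : Subgroup G}, PairHyp S T W₁ W₂ U V → ¬ IsOfTypeIV S)
    (hlt : ∀ {S T W₁ W₂ U V : Subgroup G}, PairHyp S T W₁ W₂ U V → IsOfTypeIII S →
      Nat.card W₂ < Nat.card W₁)
    (hea3 : ∀ {S T W₁ W₂ U V : Subgroup G}, PairHyp S T W₁ W₂ U V → IsOfTypeIII S →
      IsElementaryAbelian (Nat.card W₂) (fittingHallOf S) ∧
        Nat.card (fittingHallOf S) = Nat.card W₂ ^ Nat.card W₁)
    (h127 : ∀ L : Subgroup G, IsCoatom L → LitTypeI L → IsFrobWithFittingHall L) :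
    Stmt1543 G := by
  intro S T W₁ W₂ U V hS hT hSP hTP hST hII hS25 hT25
  have ph : PairHyp S T W₁ W₂ U V := ⟨hS, hT, hSP, hTP, hST, hII, hS25, hT25⟩
  exact stmt1543_of_book hG ph hnoV (hnoIV ph) (hlt ph) (hea3 ph) h127

end Cfsg.Agent.Lib.Helper26.PF13Book
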