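import Mathlib
import Cfsg.Agent.Lib.Helper4.PFInterface
import Cfsg.Agent.Lib.Helper26.PF13Book1543
import Cfsg.Agent.Lib.Helper16.PFNineDI
import Cfsg.Agent.Lib.Helper23.PFTenFrobT
import Cfsg.Agent.Lib.Helper25.PF13AX
import Cfsg.Agent.Lib.Helper33.PFThirteenD
import Cfsg.Agent.Lib.Helper41.PF13NumC
import Cfsg.Agent.Lib.Helper54.PF13PSide
import Cfsg.Agent.Lib.Helper54.PF14Field
import Cfsg.Agent.Lib.Helper59.PFNineBR
import Cfsg.Agent.Lib.Helper74.PFElevenDich

/-!
# Peterfalvi sections 13/14: the structure of `U` and the assembly of `Stmt1544Core` (helper26)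

* `ctx_bot_of_card` : the sec. 9 context `Ctx` of `↥M` with `H₀ = ⊥` when `|M_F| = p ^ q`, and the
  chief property of `M_F`;
* `u_struct` (module PF13-[USTRUCT]): `S` of Type II, `S_F` of order `p ^ q`, `A₀(S)` a TI-subset with
  normalizer `S`, `C_U(S_F) = 1` and `|U| (p - 1) = p ^ q - 1`  ⟹  `U` is cyclic and acts
  semiregularly on `S_F \ 1`;
* `card_U_modEq_one` : `|U| ≡ 1 (mod |W₁|)`;
* `coprime_of_modEq` : `gcd ((p ^ q - 1) / (p - 1), p - 1) = 1`;
* `stmt1544Core_of` (module PF14-[CORE-ASM]): `Helper54.PF14Field.Stmt1544Core G` from `Stmt1543 G`,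
  the numerical output of section 13 and clause (b) of section 14.
-/

set_option autoImplicit false
set_option linter.unusedVariables false
set_option linter.unusedSectionVars false
set_option linter.style.haveILetI false

namespace Cfsg.Agent.Lib.Helper26.PF14Core

open Cfsg Cfsg.Agent.Lib.Helper4.PF Cfsg.Agent.Lib.Helper58.PF9
open scoped commutatorElement

universe u

variable {G : Type u} [Group G] [Finite G]

/-! ### The sec. 9 context with `H₀ = ⊥` -/

/-- For type-P data `(W₁, U, W₂)` of `M` with `U ≠ 1`, `q = |W₁|` and `p = |W₂|` primes and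
`|M_F| = p ^ q`: the context `Ctx` of Peterfalvi (9.2)-(9.6) in `↥M` holds with `H₀ = ⊥`, and `M_F` is
a minimal normal subgroup of `M`. -/
theorem ctx_bot_of_card {M W₁ U W₂ : Subgroup G} (hP : IsTypePWith M W₁ U W₂) (hU : U ≠ ⊥)
    (hq : (Nat.card W₁).Prime) (hp : (Nat.card W₂).Prime) (hodd : Odd (Nat.card G))
    (hHcard : Nat.card (fittingHallOf M) = Nat.card W₂ ^ Nat.card W₁) :
    Ctx ((⁅M, M⁆).subgroupOf M) ((fittingHallOf M).subgroupOf M) (U.subgroupOf M)
        (W₁.subgroupOf M) (W₂.subgroupOf M) ⊥ (Nat.card W₂) (Nat.card W₁) ∧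
    (∀ N : Subgroup ↥M, N.Normal → N ≤ (fittingHallOf M).subgroupOf M →
      N = ⊥ ∨ N = (fittingHallOf M).subgroupOf M) := by
  classical
  have hHM : fittingHallOf M ≤ M := Cfsg.Agent.Lib.Helper4.PF9.fittingHallOf_le M
  obtain ⟨H₀, p', h1, h2, h3, h4, c⟩ :=
    Cfsg.Agent.Lib.Helper59.PF9.exists_ctx_of_typeP hP hU hq hodd
  have hrel : H₀.relIndex (fittingHallOf M) = p' ^ Nat.card W₁ := by
    have := c.relIndex_H₀
    rwa [Subgroup.relIndex_subgroupOf hHM] at this
  have hmul : Nat.card H₀ * H₀.relIndex (fittingHallOf M) = Nat.card (fittingHallOf M) := by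
    have := Subgroup.relIndex_mul_relIndex ⊥ H₀ (fittingHallOf M) bot_le h1.le
    rwa [Subgroup.relIndex_bot_left, Subgroup.relIndex_bot_left] at this
  rw [hrel, hHcard] at hmul
  have hp'p : p' = Nat.card W₂ := by
    have hdvd : p' ∣ Nat.card W₂ ^ Nat.card W₁ := by
      rw [← hmul]
      exact Dvd.dvd.mul_left (dvd_pow_self p' hq.ne_zero) _
    exact (Nat.prime_dvd_prime_iff_eq c.p_prime hp).mp (c.p_prime.dvd_of_dvd_pow hdvd)
  subst hp'p
  have hcard0 : Nat.card H₀ = 1 := by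
    have hpos : 0 < Nat.card W₂ ^ Nat.card W₁ := pow_pos hp.pos _
    exact Nat.eq_of_mul_eq_mul_right hpos (by rw [hmul, one_mul])
  have hH₀ : H₀ = ⊥ := (Subgroup.card_eq_one).mp hcard0
  subst hH₀
  have hbot : (⊥ : Subgroup G).subgroupOf M = ⊥ := Subgroup.bot_subgroupOf M
  rw [hbot] at c
  refine ⟨c, ?_⟩
  intro N hN hNH
  have hN'H : N.map M.subtype ≤ fittingHallOf M := by
    rintro _ ⟨x, hx, rfl⟩
    exact Subgroup.mem_subgroupOf.mp (hNH hx)
  have hnorm : M ≤ Subgroup.normalizer ((N.map M.subtype : Subgroup G) : Set G) := by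
    have h5 := Subgroup.le_normalizer_map (H := N) M.subtype
    rw [Subgroup.normalizer_eq_top_iff.mpr hN, ← MonoidHom.range_eq_map,
      Subgroup.range_subtype] at h5
    exact h5
  have hback : (N.map M.subtype).subgroupOf M = N := by
    ext x
    rw [Subgroup.mem_subgroupOf]
    constructor
    · rintro ⟨y, hy, hyx⟩
      have : y = x := Subtype.ext hyx
      rwa [← this]
    · intro hx
      exact ⟨x, hx, rfl⟩
  rcases h4 (N.map M.subtype) bot_le hN'H hnorm with h | h
  · left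
    rw [← hback, h, Subgroup.bot_subgroupOf]
  · right
    rw [← hback, h]

/-! ### Module PF13-[USTRUCT] -/

/-- numerical part of the axis case -/
theorem axis_numeric {p q n : ℕ} (hp : 3 ≤ p) (hq : 3 ≤ q) (hn : n * (p - 1) = p ^ q - 1)
    (hle : n ≤ ((p - 1) / 2) * ((p - 1) / 2)) : False := by
  obtain ⟨a, rfl⟩ : ∃ a, p = a + 1 := ⟨p - 1, by omega⟩
  have ha : 2 ≤ a := by omega
  have h1 : (a + 1) ^ 3 ≤ (a + 1) ^ q := Nat.pow_le_pow_right (by omega) hq
  have h2 : a + 1 - 1 = a := by omega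
  rw [h2] at hn hle
  have h3 : a / 2 ≤ a := Nat.div_le_self a 2
  have h4 : a / 2 * (a / 2) ≤ a * a := Nat.mul_le_mul h3 h3
  have h5 : 1 ≤ (a + 1) ^ q := Nat.one_le_pow _ _ (by omega)
  have h6 : n * a + 1 = (a + 1) ^ q := by omega
  have h7 : (a + 1) ^ 3 = a * (a * a + 3 * a + 3) + 1 := by ring
  have h8 : a * (a * a + 3 * a + 3) ≤ n * a := by omega
  have h9 : a * a + 3 * a + 3 ≤ n := by
    have h10 : a * (a * a + 3 * a + 3) ≤ a * n := by rw [mul_comm a n]; exact h8
    exact Nat.le_of_mul_le_mul_left h10 (by omega)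
  omega

/-- **Module PF13-[USTRUCT].**  Let `S` be of Type II with type-P data `(W₁, U, W₂)`, `p = |W₂|`
prime, `|S_F| = p ^ q`, `A₀(S)` a TI-subset with normalizer `S`, `C_U(S_F) = 1` and
`|U| (p - 1) = p ^ q - 1`.  Then `U` is cyclic and every non-identity element of `U` acts
fixed-point-freely on `S_F`. -/
theorem u_struct (hodd : Odd (Nat.card G)) {S W₁ U W₂ : Subgroup G} (hSsolv : Group.IsSolvable S)
    (hP : IsTypePWith S W₁ U W₂) (hII : IsOfTypeII S) (hp : (Nat.card W₂).Prime)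
    (hHcard : Nat.card (fittingHallOf S) = Nat.card W₂ ^ Nat.card W₁)
    (hTI : IsTISubset (typeA0 S)) (hN : Subgroup.normalizer (typeA0 S) = S)
    (hC : U ⊓ Subgroup.centralizer ((fittingHallOf S : Subgroup G) : Set G) = ⊥)
    (hcard : Nat.card U * (Nat.card W₂ - 1) = Nat.card W₂ ^ Nat.card W₁ - 1) :
    IsCyclic U ∧ ∀ u ∈ U, u ≠ 1 → ∀ x ∈ fittingHallOf S, u * x = x * u → x = 1 := by
  classical
  obtain ⟨hU, hq, hNU⟩ := Cfsg.Agent.Lib.Helper33.PF13.typeII_data hSsolv hP hII
  have hsolv' : Group.IsSolvable ↥⁅S, S⁆ :=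
    Group.isSolvable_of_isSolvable_injective
      (Subgroup.inclusion_injective (Cfsg.Agent.Lib.Helper4.PF9.der_le hP))
  have hUcomm : ∀ x ∈ U, ∀ y ∈ U, x * y = y * x :=
    (Cfsg.Agent.Lib.Helper54.PF13PSide.typeII_III_data hsolv' hP (Or.inl hII)).2.2
  have hUS : U ≤ S := Cfsg.Agent.Lib.Helper4.PF9.U_le hP
  have hUK : U ≤ ⁅S, S⁆ := Cfsg.Agent.Lib.Helper4.PF9.U_le_der hP
  have hHS : fittingHallOf S ≤ S := Cfsg.Agent.Lib.Helper4.PF9.fittingHallOf_le S
  obtain ⟨c, hchief⟩ := ctx_bot_of_card hP hU hq hp hodd hHcard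
  haveI hHn : ((fittingHallOf S).subgroupOf S).Normal := c.H_normal
  haveI hBn : (⊥ : Subgroup ↥S).Normal := c.H₀_normal
  -- parities
  have hp3 : 3 ≤ Nat.card W₂ := by
    have h2 := hp.two_le
    have hoddp : Odd (Nat.card W₂) := Odd.of_dvd_nat hodd (Subgroup.card_subgroup_dvd_card W₂)
    rcases hoddp with ⟨k, hk⟩
    omega
  have hq3 : 3 ≤ Nat.card W₁ := by
    have h2 := hq.two_le
    have hoddq : Odd (Nat.card W₁) := Odd.of_dvd_nat hodd (Subgroup.card_subgroup_dvd_card W₁)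
    rcases hoddq with ⟨k, hk⟩
    omega
  rcases Cfsg.Agent.Lib.Helper16.PFNineDI.galois_or_axis c
      (fun N hN _ hNH => hchief N hN hNH) with hGal | ⟨H₁, hax⟩
  · -- Galois case
    have hsemi : ∀ u ∈ U, u ≠ 1 → ∀ x ∈ fittingHallOf S, u * x = x * u → x = 1 := by
      intro u hu hu1 x hx hux
      have hmem : (⟨x, hHS hx⟩ : ↥S) ∈ (⊥ : Subgroup ↥S) := by
        apply hGal ⟨u, hUS hu⟩ (by rw [Subgroup.mem_subgroupOf]; exact hu) _ ⟨x, hHS hx⟩
          (by rw [Subgroup.mem_subgroupOf]; exact hx)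
        · rw [Subgroup.mem_bot]
          apply Subtype.ext
          show u * x * u⁻¹ * x⁻¹ = 1
          rw [hux]
          group
        · intro hcore
          rw [mem_coreC_of_normal] at hcore
          apply hu1
          have hmemC : u ∈ U ⊓ Subgroup.centralizer ((fittingHallOf S : Subgroup G) : Set G) := by
            rw [Subgroup.mem_inf, Subgroup.mem_centralizer_iff]
            refine ⟨hu, ?_⟩
            intro y hy
            have h1 := hcore.2 ⟨y, hHS hy⟩ (by rw [Subgroup.mem_subgroupOf]; exact hy)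
            rw [Subgroup.mem_bot] at h1
            have h2 : u * y * u⁻¹ * y⁻¹ = 1 := congrArg Subtype.val h1
            have h3 : u * y = y * u := by
              have := congrArg (fun t => t * y * u) h2
              simpa [mul_assoc] using this
            exact h3.symm
          rw [hC, Subgroup.mem_bot] at hmemC
          exact hmemC
      rw [Subgroup.mem_bot] at hmem
      exact congrArg Subtype.val hmem
    refine ⟨?_, hsemi⟩
    have hHne : (⊥ : Subgroup G) < fittingHallOf S := by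
      rw [bot_lt_iff_ne_bot]
      intro h0
      apply hP.H_not_cyclic
      rw [h0]
      exact isCyclic_of_subsingleton
    have hcop : (Nat.card U).Coprime (Nat.card (fittingHallOf S)) := by
      have h1 := c.coprime_HU
      rw [Cfsg.Agent.Lib.Helper59.PF9.card_subgroupOf_of_le hHS,
        Cfsg.Agent.Lib.Helper59.PF9.card_subgroupOf_of_le hUS] at h1
      exact h1.symm
    apply Cfsg.Agent.Lib.Helper23.PFTenFrobT.isCyclic_of_semiregular_section
      (fittingHallOf S) U ⊥ hUcomm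
    · exact hUS.trans (Cfsg.Agent.Lib.Helper33.PF13.le_normalizer_fittingHallOf S)
    · intro u _
      rw [Subgroup.mem_normalizer_iff]
      intro y
      simp only [Subgroup.mem_bot]
      constructor
      · rintro rfl; group
      · intro h
        have := congrArg (fun t => u⁻¹ * t * u) h
        simpa [mul_assoc] using this
    · exact hHne
    · intro u _
      rw [Subgroup.mem_normalizer_iff]
      intro y
      simp only [Subgroup.mem_bot]
      constructor
      · rintro rfl; group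
      · intro h
        have := congrArg (fun t => u⁻¹ * t * u) h
        simpa [mul_assoc] using this
    · exact hcop
    · intro u hu hu1 h hh hcomm
      rw [Subgroup.mem_bot] at hcomm ⊢
      apply hsemi u hu hu1 h hh
      have := congrArg (fun t => t * h * u) hcomm
      simpa [mul_assoc] using this
  · -- axis case: impossible
    exfalso
    set P₁ : Subgroup G := H₁.map S.subtype with hP₁
    have hP₁card : Nat.card P₁ = Nat.card W₂ := by
      rw [hP₁, Subgroup.card_map_of_injective S.subtype_injective]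
      have := hax.relIndex
      rwa [Subgroup.relIndex_bot_left] at this
    have hP₁H : P₁ ≤ fittingHallOf S := by
      rintro _ ⟨y, hy, rfl⟩
      exact Subgroup.mem_subgroupOf.mp (hax.le_H hy)
    have hUN : U ≤ Subgroup.normalizer (P₁ : Set G) := by
      have h1 : (U.subgroupOf S).map S.subtype ≤
          (Subgroup.normalizer ((H₁ : Subgroup ↥S) : Set ↥S)).map S.subtype :=
        Subgroup.map_mono hax.U_norm
      have h2 := Subgroup.le_normalizer_map (H := H₁) S.subtype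
      rw [Subgroup.map_subgroupOf_eq_of_le hUS] at h1
      exact h1.trans h2
    obtain ⟨g, hgN, hgS⟩ := SetLike.not_le_iff_exists.mp hNU
    have hconj : ∀ z ∈ U, g * z * g⁻¹ ∈ U := fun z hz =>
      ((Subgroup.mem_normalizer_iff.mp hgN) z).mp hz
    have hti := Cfsg.Agent.Lib.Helper54.PF13PSide.litA0_ti hP hTI hN
    have hfpf : ∀ z ∈ U, z ≠ 1 → (∀ x ∈ P₁, z * x = x * z) →
        ∀ x ∈ P₁, (g * z * g⁻¹) * x = x * (g * z * g⁻¹) → x = 1 := by
      intro z hz hz1 hzc x hx hgx
      by_contra hx1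
      have hzA : z ∈ litA S :=
        Cfsg.Agent.Lib.Helper54.PF13PSide.litA_mem hP z (hUK hz) hz1
          ⟨x, hP₁H hx, hx1, hzc x hx⟩
      have hgz1 : g * z * g⁻¹ ≠ 1 := by
        intro h
        apply hz1
        have := congrArg (fun t => g⁻¹ * t * g) h
        simpa [mul_assoc] using this
      have hgzA : g * z * g⁻¹ ∈ litA S :=
        Cfsg.Agent.Lib.Helper54.PF13PSide.litA_mem hP _ (hUK (hconj z hz)) hgz1
          ⟨x, hP₁H hx, hx1, hgx⟩
      exact hgS (hti g z (Cfsg.Agent.Lib.Helper26.PFBook.litA_subset_litA0 S hzA) hz1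
        (Cfsg.Agent.Lib.Helper26.PFBook.litA_subset_litA0 S hgzA))
    have hoddU : Odd (Nat.card U) := Odd.of_dvd_nat hodd (Subgroup.card_subgroup_dvd_card U)
    have hle := Cfsg.Agent.Lib.Helper25.PF13AX.axis_bound_odd U P₁ hUN hp (by omega) hP₁card hoddU
      g hgN hfpf
    exact axis_numeric hp3 hq3 hcard hle

/-! ### `|U| ≡ 1 (mod q)` and the coprimality clause -/

/-- `W₁` acts fixed-point-freely on `U`, so `|U| ≡ 1 (mod |W₁|)`. -/
theorem card_U_modEq_one {S W₁ U W₂ : Subgroup G} (hP : IsTypePWith S W₁ U W₂)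
    (hq : (Nat.card W₁).Prime) : Nat.card U ≡ 1 [MOD Nat.card W₁] := by
  classical
  have hUK : U ≤ ⁅S, S⁆ := hP.U_compl.2.1
  have hPU : fittingHallOf S ⊓ U = ⊥ := hP.U_compl.2.2.1
  have hW₂P : W₂ ≤ fittingHallOf S := le_trans hP.W₂_le inf_le_left
  have hnorm : ∀ w ∈ W₁, ∀ c ∈ U, w * c * w⁻¹ ∈ U := by
    intro w hw c hc
    have := hP.U_normal hw
    rw [Subgroup.mem_normalizer_iff] at this
    exact (this c).mp hc
  let _inst : MulAction ↥W₁ ↥U := Cfsg.Agent.Lib.Helper41.PF13.conjAct hnorm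
  have _hf : Fact (Nat.card W₁).Prime := ⟨hq⟩
  have hpg : IsPGroup (Nat.card W₁) ↥W₁ := IsPGroup.of_card (n := 1) (by simp)
  have hmod := hpg.card_modEq_card_fixedPoints (α := ↥U)
  have hfix : MulAction.fixedPoints ↥W₁ ↥U = {1} := by
    ext c
    simp only [MulAction.mem_fixedPoints, Set.mem_singleton_iff]
    constructor
    · intro hc
      obtain ⟨x, hx, hx1⟩ : ∃ x ∈ W₁, x ≠ 1 := by
        by_contra hcon
        push Not at hcon
        apply hP.W₁_ne
        rw [Subgroup.eq_bot_iff_forall]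
        exact hcon
      have hcx := hc ⟨x, hx⟩
      have hcx' : x * (c : G) * x⁻¹ = c := congrArg Subtype.val hcx
      have hcW₂ : (c : G) ∈ W₂ := by
        rw [← hP.W₂_centralizer x hx hx1, Subgroup.mem_inf]
        refine ⟨hUK c.2, ?_⟩
        rw [Subgroup.mem_centralizer_iff]
        intro y hy
        rw [Set.mem_singleton_iff] at hy
        subst hy
        calc y * (c : G) = (y * (c : G) * y⁻¹) * y := by group
          _ = (c : G) * y := by rw [hcx']
      have : (c : G) ∈ fittingHallOf S ⊓ U := Subgroup.mem_inf.mpr ⟨hW₂P hcW₂, c.2⟩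
      rw [hPU, Subgroup.mem_bot] at this
      exact Subtype.ext this
    · rintro rfl w
      apply Subtype.ext
      show (w : G) * ((1 : U) : G) * (w : G)⁻¹ = ((1 : U) : G)
      simp
  rw [hfix] at hmod
  simpa using hmod

/-- `(p ^ q - 1) / (p - 1) ≡ q (mod p - 1)`, in the form `n (p - 1) = p ^ q - 1 ⟹ n ≡ q`. -/
theorem modEq_of_geom {p q n : ℕ} (hp : 2 ≤ p) (hn : n * (p - 1) = p ^ q - 1) :
    n ≡ q [MOD p - 1] := by
  have hpos : 0 < p - 1 := by omega
  have h1 : n = (p ^ q - 1) / (p - 1) := by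
    rw [← hn]
    exact (Nat.mul_div_cancel n hpos).symm
  rw [h1, ← Nat.geomSum_eq hp q]
  have h2 : ∀ i ∈ Finset.range q, p ^ i ≡ 1 [MOD p - 1] := by
    intro i _
    have hp1 : p ≡ 1 [MOD p - 1] := by
      have : (p - 1) ∣ p - 1 := dvd_refl _
      exact ((Nat.modEq_iff_dvd' (by omega)).mpr this).symm
    simpa using hp1.pow i
  have h3 : ∑ i ∈ Finset.range q, p ^ i ≡ ∑ i ∈ Finset.range q, 1 [MOD p - 1] := by
    unfold Nat.ModEq
    rw [Finset.sum_nat_mod, Finset.sum_nat_mod (f := fun _ => 1)]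
    congr 1
    apply Finset.sum_congr rfl
    intro i hi
    exact h2 i hi
  simpa using h3

/-- `n (p - 1) = p ^ q - 1`, `q` prime and `n ≡ 1 (mod q)` give
`gcd ((p ^ q - 1) / (p - 1), p - 1) = 1`. -/
theorem coprime_of_modEq {p q n : ℕ} (hp : 2 ≤ p) (hq : q.Prime) (hn : n * (p - 1) = p ^ q - 1)
    (h1 : n ≡ 1 [MOD q]) : Nat.Coprime ((p ^ q - 1) / (p - 1)) (p - 1) := by
  have hpos : 0 < p - 1 := by omega
  have hdiv : (p ^ q - 1) / (p - 1) = n := by
    rw [← hn]
    exact Nat.mul_div_cancel n hpos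
  rw [hdiv]
  have hnq := modEq_of_geom hp hn
  apply Nat.Coprime.symm
  apply Nat.coprime_of_dvd
  intro r hr hr1 hr2
  -- `r ∣ p - 1` and `r ∣ n` give `r ∣ q`
  have h2 : n ≡ q [MOD r] := hnq.of_dvd hr1
  have h3 : r ∣ q := by
    have h4 : q ≡ 0 [MOD r] := h2.symm.trans ((Nat.modEq_zero_iff_dvd).mpr hr2)
    exact (Nat.modEq_zero_iff_dvd).mp h4
  have h5 : r = q := (Nat.prime_dvd_prime_iff_eq hr hq).mp h3
  subst h5
  have h6 : (1 : ℕ) ≡ 0 [MOD r] := h1.symm.trans ((Nat.modEq_zero_iff_dvd).mpr hr2)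
  have h7 : r ∣ 1 := (Nat.modEq_zero_iff_dvd).mp h6
  exact hr.one_lt.ne' (Nat.dvd_one.mp h7)

/-- `n (p - 1) = p ^ q - 1`, `q` prime and `n ≡ 1 (mod q)` give `gcd (n, p - 1) = 1`. -/
theorem coprime_card_of_modEq {p q n : ℕ} (hp : 2 ≤ p) (hq : q.Prime)
    (hn : n * (p - 1) = p ^ q - 1) (h1 : n ≡ 1 [MOD q]) : Nat.Coprime n (p - 1) := by
  have hpos : 0 < p - 1 := by omega
  have hdiv : (p ^ q - 1) / (p - 1) = n := by
    rw [← hn]
    exact Nat.mul_div_cancel n hpos
  have := coprime_of_modEq hp hq hn h1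
  rwa [hdiv] at this

/-! ### The structure of `U` for Type II and Type III alike -/

/-- In the axis case every `u ∈ U` satisfies `u ^ (p - 1) = 1` (when `C_U(M_F) = 1`). -/
theorem pow_pred_eq_one_of_axis {M W₁ U W₂ : Subgroup G} {H₁ : Subgroup ↥M}
    (c : Ctx ((⁅M, M⁆).subgroupOf M) ((fittingHallOf M).subgroupOf M) (U.subgroupOf M)
        (W₁.subgroupOf M) (W₂.subgroupOf M) ⊥ (Nat.card W₂) (Nat.card W₁))
    (hax : IsAxis ((fittingHallOf M).subgroupOf M) (U.subgroupOf M) (W₁.subgroupOf M) ⊥ H₁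
      (Nat.card W₂))
    (hUM : U ≤ M)
    (hC : U ⊓ Subgroup.centralizer ((fittingHallOf M : Subgroup G) : Set G) = ⊥) :
    ∀ u ∈ U, u ^ (Nat.card W₂ - 1) = 1 := by
  intro u hu
  have hp : (Nat.card W₂).Prime := c.p_prime
  have hH₁card : Nat.card H₁ = Nat.card W₂ := by
    have := hax.relIndex
    rwa [Subgroup.relIndex_bot_left] at this
  set ut : ↥M := ⟨u, hUM hu⟩ with hut
  have hutU : ut ∈ U.subgroupOf M := by
    rw [Subgroup.mem_subgroupOf]; exact hu
  set x : ↥M := ut ^ (Nat.card W₂ - 1) with hx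
  have hcent : (fittingHallOf M).subgroupOf M ≤ Subgroup.centralizer ({x} : Set ↥M) := by
    rw [← hax.iSup_eq]
    apply iSup_le
    intro w
    rintro _ ⟨h, hh, rfl⟩
    rw [Subgroup.mem_centralizer_iff]
    intro y hy
    rw [Set.mem_singleton_iff] at hy
    subst hy
    have hwN : (w : ↥M)⁻¹ ∈ Subgroup.normalizer ((U.subgroupOf M : Subgroup ↥M) : Set ↥M) :=
      Subgroup.inv_mem _ (c.W₁_norm_U w.2)
    have hvU : (w : ↥M)⁻¹ * ut * (w : ↥M)⁻¹⁻¹ ∈ U.subgroupOf M :=
      ((Subgroup.mem_set_normalizer_iff.1 hwN) ut).1 hutU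
    have hvN := hax.U_norm hvU
    have key := Cfsg.Agent.Lib.Helper74.PF11.pow_pred_comm_of_card_prime hp hH₁card hvN h hh
    rw [conj_pow] at key
    show x * ((w : ↥M) * h * (w : ↥M)⁻¹) = (w : ↥M) * h * (w : ↥M)⁻¹ * x
    have e1 : (w : ↥M) * h * (w : ↥M)⁻¹ * x =
        (w : ↥M) * (h * ((w : ↥M)⁻¹ * x * (w : ↥M)⁻¹⁻¹)) * (w : ↥M)⁻¹ := by group
    have e2 : x * ((w : ↥M) * h * (w : ↥M)⁻¹) =
        (w : ↥M) * (((w : ↥M)⁻¹ * x * (w : ↥M)⁻¹⁻¹) * h) * (w : ↥M)⁻¹ := by group
    rw [e2, e1, key]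
  have hmem : u ^ (Nat.card W₂ - 1) ∈
      U ⊓ Subgroup.centralizer ((fittingHallOf M : Subgroup G) : Set G) := by
    rw [Subgroup.mem_inf, Subgroup.mem_centralizer_iff]
    refine ⟨Subgroup.pow_mem _ hu _, ?_⟩
    intro y hy
    have hyM : y ∈ M := Cfsg.Agent.Lib.Helper4.PF9.fittingHallOf_le M hy
    have h1 := Subgroup.mem_centralizer_iff.1
      (hcent (show (⟨y, hyM⟩ : ↥M) ∈ (fittingHallOf M).subgroupOf M by
        rw [Subgroup.mem_subgroupOf]; exact hy)) x (Set.mem_singleton x)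
    -- h1 : x * ⟨y, _⟩ = ⟨y, _⟩ * x
    have h2 := congrArg Subtype.val h1
    simp only [hx, hut, Subgroup.coe_mul, Subgroup.coe_pow] at h2
    exact h2.symm
  rw [hC, Subgroup.mem_bot] at hmem
  exact hmem

/-- **The structure of `U`, general form** (Types II and III alike).  Type-P data `(W₁, U, W₂)` of
`S` with `U ≠ 1` abelian, `q = |W₁|`, `p = |W₂|` primes, `|S_F| = p ^ q`, `C_U(S_F) = 1` and
`|U| (p - 1) = p ^ q - 1`: then `U` is cyclic and acts semiregularly on `S_F \ 1`.
(In the axis case `U` has exponent dividing `p - 1`, which is prime to `|U|`.) -/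
theorem u_struct_gen (hodd : Odd (Nat.card G)) {S W₁ U W₂ : Subgroup G}
    (hP : IsTypePWith S W₁ U W₂) (hU : U ≠ ⊥) (hUcomm : ∀ x ∈ U, ∀ y ∈ U, x * y = y * x)
    (hq : (Nat.card W₁).Prime) (hp : (Nat.card W₂).Prime)
    (hHcard : Nat.card (fittingHallOf S) = Nat.card W₂ ^ Nat.card W₁)
    (hC : U ⊓ Subgroup.centralizer ((fittingHallOf S : Subgroup G) : Set G) = ⊥)
    (hcard : Nat.card U * (Nat.card W₂ - 1) = Nat.card W₂ ^ Nat.card W₁ - 1) :
    IsCyclic U ∧ ∀ u ∈ U, u ≠ 1 → ∀ x ∈ fittingHallOf S, u * x = x * u → x = 1 := by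
  classical
  have hUS : U ≤ S := Cfsg.Agent.Lib.Helper4.PF9.U_le hP
  have hHS : fittingHallOf S ≤ S := Cfsg.Agent.Lib.Helper4.PF9.fittingHallOf_le S
  obtain ⟨c, hchief⟩ := ctx_bot_of_card hP hU hq hp hodd hHcard
  haveI hHn : ((fittingHallOf S).subgroupOf S).Normal := c.H_normal
  haveI hBn : (⊥ : Subgroup ↥S).Normal := c.H₀_normal
  rcases Cfsg.Agent.Lib.Helper16.PFNineDI.galois_or_axis c
      (fun N hN _ hNH => hchief N hN hNH) with hGal | ⟨H₁, hax⟩
  · -- Galois case
    have hsemi : ∀ u ∈ U, u ≠ 1 → ∀ x ∈ fittingHallOf S, u * x = x * u → x = 1 := by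
      intro u hu hu1 x hx hux
      have hmem : (⟨x, hHS hx⟩ : ↥S) ∈ (⊥ : Subgroup ↥S) := by
        apply hGal ⟨u, hUS hu⟩ (by rw [Subgroup.mem_subgroupOf]; exact hu) _ ⟨x, hHS hx⟩
          (by rw [Subgroup.mem_subgroupOf]; exact hx)
        · rw [Subgroup.mem_bot]
          apply Subtype.ext
          show u * x * u⁻¹ * x⁻¹ = 1
          rw [hux]
          group
        · intro hcore
          rw [mem_coreC_of_normal] at hcore
          apply hu1
          have hmemC : u ∈ U ⊓ Subgroup.centralizer ((fittingHallOf S : Subgroup G) : Set G) := by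
            rw [Subgroup.mem_inf, Subgroup.mem_centralizer_iff]
            refine ⟨hu, ?_⟩
            intro y hy
            have h1 := hcore.2 ⟨y, hHS hy⟩ (by rw [Subgroup.mem_subgroupOf]; exact hy)
            rw [Subgroup.mem_bot] at h1
            have h2 : u * y * u⁻¹ * y⁻¹ = 1 := congrArg Subtype.val h1
            have h3 : u * y = y * u := by
              have := congrArg (fun t => t * y * u) h2
              simpa [mul_assoc] using this
            exact h3.symm
          rw [hC, Subgroup.mem_bot] at hmemC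
          exact hmemC
      rw [Subgroup.mem_bot] at hmem
      exact congrArg Subtype.val hmem
    refine ⟨?_, hsemi⟩
    have hHne : (⊥ : Subgroup G) < fittingHallOf S := by
      rw [bot_lt_iff_ne_bot]
      intro h0
      apply hP.H_not_cyclic
      rw [h0]
      exact isCyclic_of_subsingleton
    have hcop : (Nat.card U).Coprime (Nat.card (fittingHallOf S)) := by
      have h1 := c.coprime_HU
      rw [Cfsg.Agent.Lib.Helper59.PF9.card_subgroupOf_of_le hHS,
        Cfsg.Agent.Lib.Helper59.PF9.card_subgroupOf_of_le hUS] at h1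
      exact h1.symm
    have hbotN : ∀ X : Subgroup G, X ≤ Subgroup.normalizer (((⊥ : Subgroup G) : Subgroup G) : Set G) := by
      intro X u _
      rw [Subgroup.mem_normalizer_iff]
      intro y
      simp only [Subgroup.mem_bot]
      constructor
      · rintro rfl; group
      · intro h
        have := congrArg (fun t => u⁻¹ * t * u) h
        simpa [mul_assoc] using this
    apply Cfsg.Agent.Lib.Helper23.PFTenFrobT.isCyclic_of_semiregular_section
      (fittingHallOf S) U ⊥ hUcomm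
    · exact hUS.trans (Cfsg.Agent.Lib.Helper33.PF13.le_normalizer_fittingHallOf S)
    · exact hbotN U
    · exact hHne
    · exact hbotN _
    · exact hcop
    · intro u hu hu1 h hh hcomm
      rw [Subgroup.mem_bot] at hcomm ⊢
      apply hsemi u hu hu1 h hh
      have := congrArg (fun t => t * h * u) hcomm
      simpa [mul_assoc] using this
  · -- axis case: `U` has exponent dividing `p - 1`, prime to `|U|`
    exfalso
    apply hU
    have hexp := pow_pred_eq_one_of_axis c hax hUS hC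
    have hcop : Nat.Coprime (Nat.card U) (Nat.card W₂ - 1) :=
      coprime_card_of_modEq hp.two_le hq hcard (card_U_modEq_one hP hq)
    rw [Subgroup.eq_bot_iff_forall]
    intro u hu
    have h1 : u ^ (Nat.card W₂ - 1) = 1 := hexp u hu
    have h2 : u ^ Nat.card U = 1 := by
      have := pow_card_eq_one' (G := ↥U) (x := ⟨u, hu⟩)
      exact congrArg Subtype.val this
    have h3 : u ^ Nat.gcd (Nat.card U) (Nat.card W₂ - 1) = 1 := pow_gcd_eq_one.mpr ⟨h2, h1⟩
    rw [hcop, pow_one] at h3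
    exact h3

/-! ### Module PF14-[CORE-ASM] -/

/-- **Module PF14-[CORE-ASM]**: the group-theoretic core of the frozen S1544 from `Stmt1543 G`
(Peterfalvi sections 10-12), the numerical output of section 13 (`C_U(S_F) = 1`, i.e. S1547, and
`|U| (p - 1) = p ^ q - 1`) and clause (b) of section 14. -/
theorem stmt1544Core_of (hG : IsMinSimpleOddOrder G) (h1543 : Stmt1543 G)
    (hnum : ∀ {S T W₁ W₂ U V : Subgroup G}, PairHyp S T W₁ W₂ U V → Nat.card W₁ < Nat.card W₂ →
      U ⊓ Subgroup.centralizer ((fittingHallOf S : Subgroup G) : Set G) = ⊥ ∧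
        Nat.card U * (Nat.card W₂ - 1) = Nat.card W₂ ^ Nat.card W₁ - 1)
    (hb : ∀ {S T W₁ W₂ U V : Subgroup G}, PairHyp S T W₁ W₂ U V → Nat.card W₁ < Nat.card W₂ →
      ∃ y ∈ fittingHallOf T,
        W₂.map (MulAut.conj y).toMonoidHom ≤ Subgroup.normalizer (U : Set G)) :
    Cfsg.Agent.Lib.Helper54.PF14Field.Stmt1544Core G := by
  intro S T W₁ W₂ U V hS hT hSP hTP hST hII hS25 hT25 hqp
  have ph : PairHyp S T W₁ W₂ U V := ⟨hS, hT, hSP, hTP, hST, hII, hS25, hT25⟩
  have hodd : Odd (Nat.card G) := hG.1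
  have hsolv : ∀ M : Subgroup G, IsCoatom M → Group.IsSolvable M := fun M hM => hG.2.2.2 M hM.1
  have hST' : T ⊓ S = W₂ ⊔ W₁ := by rw [inf_comm, hST, sup_comm]
  obtain ⟨hS23, hSII, hPea, hPcard, hTI, hN⟩ :=
    h1543 S T W₁ W₂ U V hS hT hSP hTP hST hII hS25 hT25
  obtain ⟨hT23, -, hQea, hQcard, -, -⟩ :=
    h1543 T S W₂ W₁ V U hT hS hTP hSP hST' hII.symm hT25 hS25
  have hq : (Nat.card W₁).Prime :=
    Cfsg.Agent.Lib.Helper26.PF13Book.card_W₁_prime_of_type hSP
      (hS23.elim Or.inl (fun h => Or.inr (Or.inl h)))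
  have hp : (Nat.card W₂).Prime :=
    Cfsg.Agent.Lib.Helper26.PF13Book.card_W₁_prime_of_type hTP
      (hT23.elim Or.inl (fun h => Or.inr (Or.inl h)))
  have hSII' : IsOfTypeII S := hSII hqp
  obtain ⟨hC, hcard⟩ := hnum ph hqp
  obtain ⟨hcyc, hsemi⟩ := u_struct hodd (hsolv S hS) hSP hSII' hp hPcard hTI hN hC hcard
  have hcop := coprime_of_modEq hp.two_le hq hcard (card_U_modEq_one hSP hq)
  have hUS : U ≤ S := Cfsg.Agent.Lib.Helper4.PF9.U_le hSP
  have hW₂T : W₂ ≤ T := hTP.W₁_compl.2.1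
  refine ⟨hq, hp, hPea, hPcard, hcyc, hcard, hsemi, hcop,
    hUS.trans (Cfsg.Agent.Lib.Helper33.PF13.le_normalizer_fittingHallOf S), ?_, hQea,
    hW₂T.trans (Cfsg.Agent.Lib.Helper33.PF13.le_normalizer_fittingHallOf T), hb ph hqp⟩
  rw [hQcard]
  apply Nat.Coprime.pow_left
  rw [Nat.coprime_primes hq hp]
  omega

/-- the frozen statement S1544 (with the field model, `Helper54.PF14Field.stmt1544_of_core`) from
the same inputs -/
theorem stmt1544_of (hG : IsMinSimpleOddOrder G) (h1543 : Stmt1543 G)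
    (hnum : ∀ {S T W₁ W₂ U V : Subgroup G}, PairHyp S T W₁ W₂ U V → Nat.card W₁ < Nat.card W₂ →
      U ⊓ Subgroup.centralizer ((fittingHallOf S : Subgroup G) : Set G) = ⊥ ∧
        Nat.card U * (Nat.card W₂ - 1) = Nat.card W₂ ^ Nat.card W₁ - 1)
    (hb : ∀ {S T W₁ W₂ U V : Subgroup G}, PairHyp S T W₁ W₂ U V → Nat.card W₁ < Nat.card W₂ →
      ∃ y ∈ fittingHallOf T,
        W₂.map (MulAut.conj y).toMonoidHom ≤ Subgroup.normalizer (U : Set G)) :
    Stmt1544 G :=
  Cfsg.Agent.Lib.Helper54.PF14Field.stmt1544_of_core (stmt1544Core_of hG h1543 hnum hb)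

/-- **The Odd Order Theorem** from its last open inputs, for every minimal simple group `H` of odd
order: (12.7)/FHT "not all maximal subgroups are of Type I", `Stmt1543 H`, the numerical output of
section 13 and clause (b) of section 14. -/
theorem odd_order_of_inputs.{v}
    (h : ∀ (H : Type v) [Group H] [Finite H], IsMinSimpleOddOrder H →
      (¬ ∀ M : Subgroup H, IsCoatom M → LitTypeI M) ∧ Stmt1543 H ∧
      (∀ {S T W₁ W₂ U V : Subgroup H}, PairHyp S T W₁ W₂ U V → Nat.card W₁ < Nat.card W₂ →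
        U ⊓ Subgroup.centralizer ((fittingHallOf S : Subgroup H) : Set H) = ⊥ ∧
          Nat.card U * (Nat.card W₂ - 1) = Nat.card W₂ ^ Nat.card W₁ - 1) ∧
      (∀ {S T W₁ W₂ U V : Subgroup H}, PairHyp S T W₁ W₂ U V → Nat.card W₁ < Nat.card W₂ →
        ∃ y ∈ fittingHallOf T,
          W₂.map (MulAut.conj y).toMonoidHom ≤ Subgroup.normalizer (U : Set H)))
    (K : Type v) [Group K] [Finite K] (hK : Odd (Nat.card K)) : Group.IsSolvable K :=
  Cfsg.Agent.Lib.Helper54.PF14Field.odd_order_of_core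
    (fun H _ _ hH => ⟨(h H hH).1,
      stmt1544Core_of hH (h H hH).2.1 (h H hH).2.2.1 (h H hH).2.2.2⟩) K hK

end Cfsg.Agent.Lib.Helper26.PF14Core
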