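import Mathlib
import Cfsg.Agent.Lib.Helper26.PF14Core
import Cfsg.Agent.Lib.Helper34.PF14EndTypeIII

/-!
# Peterfalvi section 14: `Stmt1544Core` from the named outputs of sections 10-14 (helper26)

`stmt1544Core_of_sec14` combines `PF14Core.stmt1544Core_of` / `u_struct_gen` (both sides of the
pair) with helper34's `PF14End.exists_y_of_b'` and helper33's `stmt1549_of`.  Remaining inputs:

* `Stmt1543 G` (sections 10-12), `Stmt1547 G` (section 13), `h127` (Peterfalvi (12.7), book form);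
* `hcard` : the numerical output of section 13, `|U| (p - 1) = p ^ q - 1` and
  `|V| (q - 1) = q ^ p - 1` for a pair with `q < p`;
* `hna`   : alternative (a) of S1549 is excluded (section 14 (a));
* `hchar` : the values `(x, y)` of `(η₀ⱼ, ηᵢ₀)` on `L_F \ 1` and the two parity bounds
  (section 14: [MOM] + [THETA-S] + [THETA-T]), only when `T` is of Type II.
-/

set_option autoImplicit false
set_option linter.unusedVariables false
set_option linter.unusedSectionVars false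

namespace Cfsg.Agent.Lib.Helper26.PF14Core

open Cfsg Cfsg.Agent.Lib.Helper4.PF

universe u

variable {G : Type u} [Group G] [Finite G]

/-- the structure of `U` for one side `S` of a pair (`S` of Type II or III), from `Stmt1543`-type
data, `C_U(S_F) = 1` and the numerical identity -/
theorem u_struct_side (hG : IsMinSimpleOddOrder G) {S W₁ U W₂ : Subgroup G} (hS : IsCoatom S)
    (hP : IsTypePWith S W₁ U W₂) (h23 : IsOfTypeII S ∨ IsOfTypeIII S)
    (hp : (Nat.card W₂).Prime)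
    (hHcard : Nat.card (fittingHallOf S) = Nat.card W₂ ^ Nat.card W₁)
    (hC : U ⊓ Subgroup.centralizer ((fittingHallOf S : Subgroup G) : Set G) = ⊥)
    (hcard : Nat.card U * (Nat.card W₂ - 1) = Nat.card W₂ ^ Nat.card W₁ - 1) :
    IsCyclic U ∧ (∀ u ∈ U, u ≠ 1 → ∀ x ∈ fittingHallOf S, u * x = x * u → x = 1) ∧
      Nat.card U ≡ 1 [MOD Nat.card W₁] := by
  have hSsolv : Group.IsSolvable S := hG.2.2.2 S hS.1
  have hsolv' : Group.IsSolvable ↥⁅S, S⁆ :=
    Group.isSolvable_of_isSolvable_injective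
      (Subgroup.inclusion_injective (Cfsg.Agent.Lib.Helper4.PF9.der_le hP))
  obtain ⟨hU, hq, hUcomm⟩ := Cfsg.Agent.Lib.Helper54.PF13PSide.typeII_III_data hsolv' hP h23
  obtain ⟨h1, h2⟩ := u_struct_gen hG.1 hP hU hUcomm hq hp hHcard hC hcard
  exact ⟨h1, h2, card_U_modEq_one hP hq⟩

/-- **`Stmt1544Core G` from the named outputs of Peterfalvi sections 10-14.** -/
theorem stmt1544Core_of_sec14 (hG : IsMinSimpleOddOrder G) (h1543 : Stmt1543 G)
    (h1547 : Stmt1547 G)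
    (h127 : ∀ L : Subgroup G, IsCoatom L → LitTypeI L → IsFrobWithFittingHall L)
    (hcard : ∀ {S T W₁ W₂ U V : Subgroup G}, PairHyp S T W₁ W₂ U V → Nat.card W₁ < Nat.card W₂ →
      Nat.card U * (Nat.card W₂ - 1) = Nat.card W₂ ^ Nat.card W₁ - 1 ∧
        Nat.card V * (Nat.card W₁ - 1) = Nat.card W₁ ^ Nat.card W₂ - 1)
    (hna : ∀ {S T W₁ W₂ U V : Subgroup G}, PairHyp S T W₁ W₂ U V → Nat.card W₁ < Nat.card W₂ →
      ∀ L : Subgroup G, IsCoatom L → Subgroup.normalizer (U : Set G) ≤ L →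
        ¬ (fittingHallOf L ⊓ W₁ = ⊥ ∧ fittingHallOf L ⊔ W₁ = L))
    (hchar : ∀ {S T W₁ W₂ U V : Subgroup G}, PairHyp S T W₁ W₂ U V → Nat.card W₁ < Nat.card W₂ →
      IsOfTypeII T → ∀ L : Subgroup G, IsCoatom L → Subgroup.normalizer (U : Set G) ≤ L →
        ∃ x y : ℤ, ((x = 1 ∧ y = 0) ∨ (x = 0 ∧ y = 1) ∨ (x = 0 ∧ y = 0)) ∧
          (Even x → Nat.card (fittingHallOf L) - 1 ≤ Nat.card W₂ * (Nat.card U - 1)) ∧
          (Even y → Nat.card (fittingHallOf L) - 1 ≤ Nat.card W₁ * (Nat.card V - 1))) :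
    Cfsg.Agent.Lib.Helper54.PF14Field.Stmt1544Core G := by
  have bg := Cfsg.Agent.Lib.Helper24.BGBook.bookBGData hG
  have h1549 : Stmt1549 G := Cfsg.Agent.Lib.Helper33.PF13.stmt1549_of hG bg h1543 h1547 h127
  apply stmt1544Core_of hG h1543
  · intro S T W₁ W₂ U V ph hqp
    exact ⟨h1547 S T W₁ W₂ U V ph.hS ph.hT ph.hSP ph.hTP ph.hST ph.hII ph.hS25 ph.hT25,
      (hcard ph hqp).1⟩
  · intro S T W₁ W₂ U V ph hqp
    obtain ⟨hS, hT, hSP, hTP, hST, hII, hS25, hT25⟩ := id ph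
    have hST' : T ⊓ S = W₂ ⊔ W₁ := by rw [inf_comm, hST, sup_comm]
    obtain ⟨hS23, -, -, hPcard, -, -⟩ := h1543 S T W₁ W₂ U V hS hT hSP hTP hST hII hS25 hT25
    obtain ⟨hT23, -, -, hQcard, -, -⟩ :=
      h1543 T S W₂ W₁ V U hT hS hTP hSP hST' hII.symm hT25 hS25
    have hq : (Nat.card W₁).Prime :=
      Cfsg.Agent.Lib.Helper26.PF13Book.card_W₁_prime_of_type hSP
        (hS23.elim Or.inl (fun h => Or.inr (Or.inl h)))
    have hp : (Nat.card W₂).Prime :=
      Cfsg.Agent.Lib.Helper26.PF13Book.card_W₁_prime_of_type hTP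
        (hT23.elim Or.inl (fun h => Or.inr (Or.inl h)))
    have hCU := h1547 S T W₁ W₂ U V hS hT hSP hTP hST hII hS25 hT25
    have hCV := h1547 T S W₂ W₁ V U hT hS hTP hSP hST' hII.symm hT25 hS25
    obtain ⟨hUn, hVn⟩ := hcard ph hqp
    obtain ⟨hUc, hUreg, hUq⟩ := u_struct_side hG hS hSP hS23 hp hPcard hCU hUn
    obtain ⟨hVc, hVreg, -⟩ := u_struct_side hG hT hTP hT23 hq hQcard hCV hVn
    exact Cfsg.Agent.Lib.Helper34.PF14End.exists_y_of_b' hG bg h1543 h1549 h127 ph hqp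
      hUc hUn hUreg hUq hVc hVn hVreg (hna ph hqp) (hchar ph hqp)

/-- **The Odd Order Theorem** from the named outputs of Peterfalvi sections 10-14 for every minimal
simple group of odd order. -/
theorem odd_order_of_sec14.{v}
    (h : ∀ (H : Type v) [Group H] [Finite H], IsMinSimpleOddOrder H →
      (¬ ∀ M : Subgroup H, IsCoatom M → LitTypeI M) ∧ Stmt1543 H ∧ Stmt1547 H ∧
      (∀ L : Subgroup H, IsCoatom L → LitTypeI L → IsFrobWithFittingHall L) ∧
      (∀ {S T W₁ W₂ U V : Subgroup H}, PairHyp S T W₁ W₂ U V → Nat.card W₁ < Nat.card W₂ →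
        Nat.card U * (Nat.card W₂ - 1) = Nat.card W₂ ^ Nat.card W₁ - 1 ∧
          Nat.card V * (Nat.card W₁ - 1) = Nat.card W₁ ^ Nat.card W₂ - 1) ∧
      (∀ {S T W₁ W₂ U V : Subgroup H}, PairHyp S T W₁ W₂ U V → Nat.card W₁ < Nat.card W₂ →
        ∀ L : Subgroup H, IsCoatom L → Subgroup.normalizer (U : Set H) ≤ L →
          ¬ (fittingHallOf L ⊓ W₁ = ⊥ ∧ fittingHallOf L ⊔ W₁ = L)) ∧
      (∀ {S T W₁ W₂ U V : Subgroup H}, PairHyp S T W₁ W₂ U V → Nat.card W₁ < Nat.card W₂ →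
        IsOfTypeII T → ∀ L : Subgroup H, IsCoatom L → Subgroup.normalizer (U : Set H) ≤ L →
          ∃ x y : ℤ, ((x = 1 ∧ y = 0) ∨ (x = 0 ∧ y = 1) ∨ (x = 0 ∧ y = 0)) ∧
            (Even x → Nat.card (fittingHallOf L) - 1 ≤ Nat.card W₂ * (Nat.card U - 1)) ∧
            (Even y → Nat.card (fittingHallOf L) - 1 ≤ Nat.card W₁ * (Nat.card V - 1))))
    (K : Type v) [Group K] [Finite K] (hK : Odd (Nat.card K)) : Group.IsSolvable K :=
  Cfsg.Agent.Lib.Helper54.PF14Field.odd_order_of_core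
    (fun H _ _ hH => ⟨(h H hH).1,
      stmt1544Core_of_sec14 hH (h H hH).2.1 (h H hH).2.2.1 (h H hH).2.2.2.1
        (h H hH).2.2.2.2.1 (h H hH).2.2.2.2.2.1 (h H hH).2.2.2.2.2.2⟩) K hK

end Cfsg.Agent.Lib.Helper26.PF14Core
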