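import Mathlib
import Cfsg.Agent.Lib.Helper26.PF14CoreB
import Cfsg.Agent.Lib.Helper34.PF14EndFinal

/-!
# Peterfalvi section 14: `Stmt1544Core`, final form of the assembly (helper26)

Same as `stmt1544Core_of_sec14` (`PF14CoreB.lean`) but built on helper34's `exists_y_of_b_final`:
the two section-14 inputs `hna`, `hchar` are handed everything that is known at that point:

* `Sec13Out S T W₁ W₂ U V` : the output of section 13 for both sides of the pair (`U`, `V` cyclic of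
  orders `(p^q-1)/(p-1)`, `(q^p-1)/(q-1)`, semiregular on `S_F`, `T_F`, `S` of Type II, `p`, `q` primes,
  `3 ≤ q < p`);
* `hchar` moreover receives the Frobenius class `FrobClass L L_F`, `U ≤ L_F` and `|L : L_F| = p q`.
-/

set_option autoImplicit false
set_option linter.unusedVariables false
set_option linter.unusedSectionVars false

namespace Cfsg.Agent.Lib.Helper26.PF14Core

open Cfsg Cfsg.Agent.Lib.Helper4.PF Cfsg.Agent.Lib.Helper34.PF14End

universe u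

variable {G : Type u} [Group G] [Finite G]

/-- The output of Peterfalvi section 13 for a pair `(S, T)` with `q = |W₁| < p = |W₂|`. -/
structure Sec13Out (S T W₁ W₂ U V : Subgroup G) : Prop where
  pair : PairHyp S T W₁ W₂ U V
  hqp : Nat.card W₁ < Nat.card W₂
  hq : (Nat.card W₁).Prime
  hp : (Nat.card W₂).Prime
  hSII : IsOfTypeII S
  hT23 : IsOfTypeII T ∨ IsOfTypeIII T
  hPcard : Nat.card (fittingHallOf S) = Nat.card W₂ ^ Nat.card W₁
  hQcard : Nat.card (fittingHallOf T) = Nat.card W₁ ^ Nat.card W₂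
  hCU : U ⊓ Subgroup.centralizer ((fittingHallOf S : Subgroup G) : Set G) = ⊥
  hCV : V ⊓ Subgroup.centralizer ((fittingHallOf T : Subgroup G) : Set G) = ⊥
  hUc : IsCyclic U
  hUn : Nat.card U * (Nat.card W₂ - 1) = Nat.card W₂ ^ Nat.card W₁ - 1
  hUreg : ∀ u ∈ U, u ≠ 1 → ∀ x ∈ fittingHallOf S, u * x = x * u → x = 1
  hUq : Nat.card U ≡ 1 [MOD Nat.card W₁]
  hVc : IsCyclic V
  hVn : Nat.card V * (Nat.card W₁ - 1) = Nat.card W₁ ^ Nat.card W₂ - 1
  hVreg : ∀ v ∈ V, v ≠ 1 → ∀ x ∈ fittingHallOf T, v * x = x * v → x = 1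
  hVp : Nat.card V ≡ 1 [MOD Nat.card W₂]

/-- `Sec13Out` from `Stmt1543`, `Stmt1547` and the numerical identities. -/
theorem sec13Out_of (hG : IsMinSimpleOddOrder G) (h1543 : Stmt1543 G) (h1547 : Stmt1547 G)
    {S T W₁ W₂ U V : Subgroup G} (ph : PairHyp S T W₁ W₂ U V)
    (hqp : Nat.card W₁ < Nat.card W₂)
    (hUn : Nat.card U * (Nat.card W₂ - 1) = Nat.card W₂ ^ Nat.card W₁ - 1)
    (hVn : Nat.card V * (Nat.card W₁ - 1) = Nat.card W₁ ^ Nat.card W₂ - 1) :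
    Sec13Out S T W₁ W₂ U V := by
  obtain ⟨hS, hT, hSP, hTP, hST, hII, hS25, hT25⟩ := id ph
  have hST' : T ⊓ S = W₂ ⊔ W₁ := by rw [inf_comm, hST, sup_comm]
  obtain ⟨hS23, hSII', -, hPcard, -, -⟩ := h1543 S T W₁ W₂ U V hS hT hSP hTP hST hII hS25 hT25
  obtain ⟨hT23, -, -, hQcard, -, -⟩ :=
    h1543 T S W₂ W₁ V U hT hS hTP hSP hST' hII.symm hT25 hS25
  have hq : (Nat.card W₁).Prime :=
    Cfsg.Agent.Lib.Helper26.PF13Book.card_W₁_prime_of_type hSP
      (hS23.elim Or.inl (fun h => Or.inr (Or.inl h)))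
  have hp : (Nat.card W₂).Prime :=
    Cfsg.Agent.Lib.Helper26.PF13Book.card_W₁_prime_of_type hTP
      (hT23.elim Or.inl (fun h => Or.inr (Or.inl h)))
  have hCU := h1547 S T W₁ W₂ U V hS hT hSP hTP hST hII hS25 hT25
  have hCV := h1547 T S W₂ W₁ V U hT hS hTP hSP hST' hII.symm hT25 hS25
  obtain ⟨hUc, hUreg, hUq⟩ := u_struct_side hG hS hSP hS23 hp hPcard hCU hUn
  obtain ⟨hVc, hVreg, hVp⟩ := u_struct_side hG hT hTP hT23 hq hQcard hCV hVn
  exact ⟨ph, hqp, hq, hp, hSII' hqp, hT23, hPcard, hQcard, hCU, hCV, hUc, hUn, hUreg, hUq,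
    hVc, hVn, hVreg, hVp⟩

/-- **`Stmt1544Core G` from the named outputs of Peterfalvi sections 10-14, final form.** -/
theorem stmt1544Core_of_sec14_final (hG : IsMinSimpleOddOrder G) (h1543 : Stmt1543 G)
    (h1547 : Stmt1547 G)
    (h127 : ∀ L : Subgroup G, IsCoatom L → LitTypeI L → IsFrobWithFittingHall L)
    (hcard : ∀ {S T W₁ W₂ U V : Subgroup G}, PairHyp S T W₁ W₂ U V → Nat.card W₁ < Nat.card W₂ →
      Nat.card U * (Nat.card W₂ - 1) = Nat.card W₂ ^ Nat.card W₁ - 1 ∧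
        Nat.card V * (Nat.card W₁ - 1) = Nat.card W₁ ^ Nat.card W₂ - 1)
    (hna : ∀ {S T W₁ W₂ U V : Subgroup G}, Sec13Out S T W₁ W₂ U V →
      ∀ L : Subgroup G, IsCoatom L → Subgroup.normalizer (U : Set G) ≤ L →
        ¬ (fittingHallOf L ⊓ W₁ = ⊥ ∧ fittingHallOf L ⊔ W₁ = L))
    (hchar : ∀ {S T W₁ W₂ U V : Subgroup G}, Sec13Out S T W₁ W₂ U V →
      IsOfTypeII T → ∀ L : Subgroup G, IsCoatom L → Subgroup.normalizer (U : Set G) ≤ L →
        FrobClass L (fittingHallOf L) → U ≤ fittingHallOf L →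
        (fittingHallOf L).relIndex L = Nat.card W₂ * Nat.card W₁ →
        ∃ x y : ℤ, ((x = 1 ∧ y = 0) ∨ (x = 0 ∧ y = 1) ∨ (x = 0 ∧ y = 0)) ∧
          (Even x → Nat.card (fittingHallOf L) - 1 ≤ Nat.card W₂ * (Nat.card U - 1)) ∧
          (Even y → Nat.card (fittingHallOf L) - 1 ≤ Nat.card W₁ * (Nat.card V - 1))) :
    Cfsg.Agent.Lib.Helper54.PF14Field.Stmt1544Core G := by
  have bg := Cfsg.Agent.Lib.Helper24.BGBook.bookBGData hG
  have h1549 : Stmt1549 G := Cfsg.Agent.Lib.Helper33.PF13.stmt1549_of hG bg h1543 h1547 h127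
  apply stmt1544Core_of hG h1543
  · intro S T W₁ W₂ U V ph hqp
    exact ⟨h1547 S T W₁ W₂ U V ph.hS ph.hT ph.hSP ph.hTP ph.hST ph.hII ph.hS25 ph.hT25,
      (hcard ph hqp).1⟩
  · intro S T W₁ W₂ U V ph hqp
    obtain ⟨hUn, hVn⟩ := hcard ph hqp
    have o := sec13Out_of hG h1543 h1547 ph hqp hUn hVn
    exact exists_y_of_b_final hG bg h1543 h1549 h127 ph hqp
      o.hUc hUn o.hUreg o.hUq o.hVc hVn o.hVreg (hna o) (hchar o)

/-- **The Odd Order Theorem** from the named outputs of Peterfalvi sections 10-14 for every minimal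
simple group of odd order (final form of the inputs). -/
theorem odd_order_of_sec14_final.{v}
    (h : ∀ (H : Type v) [Group H] [Finite H], IsMinSimpleOddOrder H →
      (¬ ∀ M : Subgroup H, IsCoatom M → LitTypeI M) ∧ Stmt1543 H ∧ Stmt1547 H ∧
      (∀ L : Subgroup H, IsCoatom L → LitTypeI L → IsFrobWithFittingHall L) ∧
      (∀ {S T W₁ W₂ U V : Subgroup H}, PairHyp S T W₁ W₂ U V → Nat.card W₁ < Nat.card W₂ →
        Nat.card U * (Nat.card W₂ - 1) = Nat.card W₂ ^ Nat.card W₁ - 1 ∧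
          Nat.card V * (Nat.card W₁ - 1) = Nat.card W₁ ^ Nat.card W₂ - 1) ∧
      (∀ {S T W₁ W₂ U V : Subgroup H}, Sec13Out S T W₁ W₂ U V →
        ∀ L : Subgroup H, IsCoatom L → Subgroup.normalizer (U : Set H) ≤ L →
          ¬ (fittingHallOf L ⊓ W₁ = ⊥ ∧ fittingHallOf L ⊔ W₁ = L)) ∧
      (∀ {S T W₁ W₂ U V : Subgroup H}, Sec13Out S T W₁ W₂ U V →
        IsOfTypeII T → ∀ L : Subgroup H, IsCoatom L → Subgroup.normalizer (U : Set H) ≤ L →
          FrobClass L (fittingHallOf L) → U ≤ fittingHallOf L →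
          (fittingHallOf L).relIndex L = Nat.card W₂ * Nat.card W₁ →
          ∃ x y : ℤ, ((x = 1 ∧ y = 0) ∨ (x = 0 ∧ y = 1) ∨ (x = 0 ∧ y = 0)) ∧
            (Even x → Nat.card (fittingHallOf L) - 1 ≤ Nat.card W₂ * (Nat.card U - 1)) ∧
            (Even y → Nat.card (fittingHallOf L) - 1 ≤ Nat.card W₁ * (Nat.card V - 1))))
    (K : Type v) [Group K] [Finite K] (hK : Odd (Nat.card K)) : Group.IsSolvable K :=
  Cfsg.Agent.Lib.Helper54.PF14Field.odd_order_of_core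
    (fun H _ _ hH => ⟨(h H hH).1,
      stmt1544Core_of_sec14_final hH (h H hH).2.1 (h H hH).2.2.1 (h H hH).2.2.2.1
        (h H hH).2.2.2.2.1 (h H hH).2.2.2.2.2.1 (h H hH).2.2.2.2.2.2⟩) K hK

end Cfsg.Agent.Lib.Helper26.PF14Core
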