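import Mathlib

/-!
# S5876, linear-algebra part (helper26)

Fixed spaces of elements of `GL (Fin n) F` acting on `Fin n → F`, and the commutator inequality
`2 * dim C_V(g) ≤ n + dim C_V(g * h * g⁻¹ * h⁻¹)`.
-/

set_option autoImplicit false

namespace Cfsg.Agent.Lib.Helper26.S5876Lin

open scoped MatrixGroups Matrix

variable {n : ℕ} {F : Type*} [Field F]

/-- the action of `g` on `F^n` -/
noncomputable def act (g : GL (Fin n) F) : (Fin n → F) →ₗ[F] (Fin n → F) :=
  Matrix.toLin' (g : Matrix (Fin n) (Fin n) F)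

theorem act_mul (g h : GL (Fin n) F) (v : Fin n → F) : act (g * h) v = act g (act h v) := by
  unfold act
  rw [Units.val_mul, Matrix.toLin'_mul, LinearMap.comp_apply]

theorem act_one (v : Fin n → F) : act (1 : GL (Fin n) F) v = v := by
  unfold act
  rw [Units.val_one, Matrix.toLin'_one]
  rfl

theorem act_inv_act (g : GL (Fin n) F) (v : Fin n → F) : act g⁻¹ (act g v) = v := by
  rw [← act_mul, inv_mul_cancel, act_one]

theorem act_act_inv (g : GL (Fin n) F) (v : Fin n → F) : act g (act g⁻¹ v) = v := by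
  rw [← act_mul, mul_inv_cancel, act_one]

/-- the linear automorphism given by `g` -/
noncomputable def actEquiv (g : GL (Fin n) F) : (Fin n → F) ≃ₗ[F] (Fin n → F) :=
  LinearEquiv.ofLinearMap (act g) (act g⁻¹)
    (LinearMap.ext fun v => act_act_inv g v) (LinearMap.ext fun v => act_inv_act g v)

theorem actEquiv_apply (g : GL (Fin n) F) (v : Fin n → F) : actEquiv g v = act g v := rfl

/-- the fixed space of `g` -/
noncomputable def fix (g : GL (Fin n) F) : Submodule F (Fin n → F) :=
  Module.End.eigenspace (Matrix.toLin' (g : Matrix (Fin n) (Fin n) F)) 1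

theorem mem_fix {g : GL (Fin n) F} {v : Fin n → F} : v ∈ fix g ↔ act g v = v := by
  unfold fix act
  rw [Module.End.mem_eigenspace_iff, one_smul]

theorem mem_fix_inv {g : GL (Fin n) F} {v : Fin n → F} : v ∈ fix g⁻¹ ↔ v ∈ fix g := by
  rw [mem_fix, mem_fix]
  constructor
  · intro h
    have := act_act_inv g v
    rw [h] at this
    exact this
  · intro h
    have := act_inv_act g v
    rw [h] at this
    exact this

theorem fix_eq_bot_iff {g : GL (Fin n) F} : fix g = ⊥ ↔ ∀ v, act g v = v → v = 0 := by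
  rw [Submodule.eq_bot_iff]
  exact forall_congr' fun v => by rw [mem_fix]

theorem fix_eq_top_iff {g : GL (Fin n) F} : fix g = ⊤ ↔ g = 1 := by
  constructor
  · intro h
    have h1 : ∀ v, act g v = v := fun v => mem_fix.mp (h ▸ Submodule.mem_top)
    apply Units.ext
    have h2 : Matrix.toLin' (g : Matrix (Fin n) (Fin n) F) = Matrix.toLin' (1 : Matrix (Fin n) (Fin n) F) := by
      apply LinearMap.ext
      intro v
      rw [Matrix.toLin'_one]
      exact h1 v
    exact Matrix.toLin'.injective h2
  · rintro rfl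
    rw [eq_top_iff]
    intro v _
    exact mem_fix.mpr (act_one v)

/-- the fixed space of a conjugate -/
theorem mem_fix_conj {g h : GL (Fin n) F} {v : Fin n → F} :
    v ∈ fix (h * g * h⁻¹) ↔ act h⁻¹ v ∈ fix g := by
  rw [mem_fix, mem_fix, act_mul, act_mul]
  constructor
  · intro hv
    have := congrArg (act h⁻¹) hv
    rwa [act_inv_act] at this
  · intro hv
    rw [hv, act_act_inv]

theorem finrank_fix_conj [Fintype F] (g h : GL (Fin n) F) :
    Module.finrank F (fix (h * g * h⁻¹)) = Module.finrank F (fix g) := by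
  have : fix (h * g * h⁻¹) = (fix g).comap (act h⁻¹) := by
    ext v
    rw [mem_fix_conj, Submodule.mem_comap]
  rw [this]
  have h2 : (fix g).comap (act h⁻¹) = (fix g).map ((actEquiv h⁻¹).symm : (Fin n → F) →ₗ[F] (Fin n → F)) := by
    rw [Submodule.map_equiv_eq_comap_symm]
    rfl
  rw [h2]
  exact LinearEquiv.finrank_map_eq _ _

/-- the commutator inequality -/
theorem two_mul_finrank_fix_le (g h : GL (Fin n) F) :
    2 * Module.finrank F (fix g) ≤ n + Module.finrank F (fix (g * h * g⁻¹ * h⁻¹)) := by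
  set U := fix g with hU
  set U' := (fix g).map ((actEquiv h : (Fin n → F) ≃ₗ[F] (Fin n → F)) : (Fin n → F) →ₗ[F] (Fin n → F)) with hU'
  have hdim : Module.finrank F U' = Module.finrank F U := LinearEquiv.finrank_map_eq _ _
  have hle : U ⊓ U' ≤ fix (g * h * g⁻¹ * h⁻¹) := by
    rintro w ⟨hw1, hw2⟩
    obtain ⟨u, hu, rfl⟩ := hw2
    have hu' : act g u = u := mem_fix.mp hu
    have hu'' : act g⁻¹ u = u := mem_fix.mp (mem_fix_inv.mpr hu)
    have hw1' : act g (act h u) = act h u := mem_fix.mp hw1
    rw [mem_fix]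
    show act (g * h * g⁻¹ * h⁻¹) (act h u) = act h u
    rw [act_mul, act_inv_act, act_mul, hu'', act_mul, hw1']
  have h1 := Submodule.finrank_sup_add_finrank_inf_eq U U'
  have h2 : Module.finrank F ↥(U ⊔ U') ≤ n := by
    have := Submodule.finrank_le (U ⊔ U')
    rwa [Module.finrank_fin_fun] at this
  have h3 := Submodule.finrank_mono hle
  omega

theorem two_mul_finrank_fix_le' (g h : GL (Fin n) F) :
    2 * Module.finrank F (fix g) ≤ n + Module.finrank F (fix (g⁻¹ * h⁻¹ * g * h)) := by
  have h1 : fix g⁻¹ = fix g := by ext v; exact mem_fix_inv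
  have := two_mul_finrank_fix_le g⁻¹ h⁻¹
  rwa [h1, inv_inv, inv_inv] at this

end Cfsg.Agent.Lib.Helper26.S5876Lin
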