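import Mathlib
import Cfsg.Prelude.Def_GeometricClasses
import Cfsg.Agent.Lib.Helper99.AschDefs
import Cfsg.Agent.Lib.Helper66.AschSS
import Cfsg.Agent.Lib.Helper80.AschIso
import Cfsg.Agent.Lib.Helper26.S5876Lin

/-!
# S5876, module [A] (helper26)

An abelian subgroup `A` of `GL_n(F)` normalised by an irreducible primitive group `G` acts
fixed-point-freely: every `a ∈ A`, `a ≠ 1`, has trivial fixed space.
-/

set_option autoImplicit false

namespace Cfsg.Agent.Lib.Helper26.S5876A

section Generic

variable {F V : Type*} [Field F] [AddCommGroup V] [Module F V]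
variable (A : Subalgebra F (Module.End F V))

/-- the fixed space of `f`, as a submodule over `A`, when `f` commutes with `A` -/
def fixSub (f : Module.End F V) (hc : ∀ b ∈ A, f ∘ₗ b = b ∘ₗ f) : Submodule A V where
  carrier := {v | f v = v}
  add_mem' := by
    intro u v hu hv
    simp only [Set.mem_ofPred_eq] at hu hv ⊢
    rw [map_add, hu, hv]
  zero_mem' := by
    simp only [Set.mem_ofPred_eq]
    exact map_zero _
  smul_mem' := by
    intro b v hv
    simp only [Set.mem_ofPred_eq] at hv ⊢
    have h2 := LinearMap.congr_fun (hc b.1 b.2) v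
    rw [LinearMap.comp_apply, LinearMap.comp_apply] at h2
    show f (b.1 v) = b.1 v
    rw [h2, hv]

theorem mem_fixSub {f : Module.End F V} {hc : ∀ b ∈ A, f ∘ₗ b = b ∘ₗ f} {v : V} :
    v ∈ fixSub A f hc ↔ f v = v := Iff.rfl

/-- over an isotypic semisimple module, an element of `A` commuting with `A` that fixes a nonzero vector
is the identity -/
theorem generic_fix [IsSemisimpleModule A V] (hiso : IsIsotypic A V) (f : Module.End F V)
    (hf : f ∈ A) (hc : ∀ b ∈ A, f ∘ₗ b = b ∘ₗ f) :
    (∀ v, f v = v → v = 0) ∨ (∀ v, f v = v) := by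
  set W := fixSub A f hc with hW
  rcases eq_bot_or_exists_atom_le W with hb | ⟨S, hS, hSW⟩
  · left
    intro v hv
    have : v ∈ W := (mem_fixSub A).mpr hv
    rw [hb] at this
    exact (Submodule.mem_bot _).mp this
  · right
    haveI hSs : IsSimpleModule A S := isSimpleModule_iff_isAtom.mpr hS
    have hall : ∀ m : Submodule A V, IsSimpleModule A m → m ≤ W := by
      intro m hm
      haveI := hm
      obtain ⟨e⟩ := hiso S m
      intro x hx
      rw [mem_fixSub]
      set a' : A := ⟨f, hf⟩ with ha'
      have h1 : e (a' • (⟨x, hx⟩ : m)) = a' • e ⟨x, hx⟩ := map_smul e a' _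
      have h2 : a' • e ⟨x, hx⟩ = e ⟨x, hx⟩ := by
        apply Subtype.ext
        have h3 : ((e ⟨x, hx⟩ : S) : V) ∈ W := hSW (e ⟨x, hx⟩).2
        exact (mem_fixSub A).mp h3
      rw [h2] at h1
      have h4 := e.injective h1
      have h5 := congrArg Subtype.val h4
      exact h5
    have htop : W = ⊤ := by
      rw [eq_top_iff, ← IsSemisimpleModule.sSup_simples_eq_top A V]
      apply sSup_le
      intro m hm
      exact hall m hm
    intro v
    have : v ∈ W := htop ▸ Submodule.mem_top
    exact (mem_fixSub A).mp this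

end Generic

open Cfsg Cfsg.Geo Cfsg.Agent.Lib.Helper99.Asch Cfsg.Agent.Lib.Helper26.S5876Lin
open scoped MatrixGroups Matrix

variable {n : ℕ} {F : Type*} [Field F]

/-- irreducible + primitive ⇒ `F^n` is isotypic over the algebra of any normalised subgroup -/
theorem isotypic_of_primitive [Fintype F] (G A : Subgroup (GL (Fin n) F))
    (hirr : ActsIrreducibly (matrixSet G))
    (hprim : ∀ (m t : ℕ) (D : Fin t → Submodule F (Fin n → F)), 2 ≤ t → IsMDecomposition m D →
      ¬ G ≤ decompositionStabilizer D)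
    (hnrm : Nrm G A) : IsIsotypic (endAlg A) (Fin n → F) := by
  rcases isotypic_or_decomposition G A hirr hnrm with
    h | ⟨t, D, ht, hne, hind, htop, hperm, htrans, _⟩
  · exact h
  · exfalso
    set i0 : Fin t := ⟨0, by omega⟩ with hi0
    refine hprim (Module.finrank F (D i0)) t D ht ⟨ht, ?_, ?_, hind, htop⟩ (fun h hh => hperm h hh)
    · exact Nat.lt_of_lt_of_le Nat.zero_lt_one (Submodule.one_le_finrank_iff.mpr (hne i0))
    · intro i
      obtain ⟨h, -, hh⟩ := htrans i0 i
      rw [← hh]
      exact Cfsg.Agent.Lib.Helper1.AschC2.finrank_map_gl h (D i0)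

/-- [A] -/
theorem fix_eq_bot_of_abelian [Fintype F] (G A : Subgroup (GL (Fin n) F))
    (hirr : ActsIrreducibly (matrixSet G))
    (hprim : ∀ (m t : ℕ) (D : Fin t → Submodule F (Fin n → F)), 2 ≤ t → IsMDecomposition m D →
      ¬ G ≤ decompositionStabilizer D)
    (hnrm : Nrm G A) (hab : ∀ x ∈ A, ∀ y ∈ A, x * y = y * x)
    (a : GL (Fin n) F) (ha : a ∈ A) (ha1 : a ≠ 1) : fix a = ⊥ := by
  have hss : IsSemisimpleModule (endAlg A) (Fin n → F) := semisimple_of_normalized G A hirr hnrm
  have hiso := isotypic_of_primitive G A hirr hprim hnrm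
  have key := generic_fix (endAlg A) hiso (Matrix.toLin' (a : Matrix (Fin n) (Fin n) F))
    (Cfsg.Agent.Lib.Helper80.AschIso.toLin_mem_endAlg ha)
    (Cfsg.Agent.Lib.Helper80.AschIso.commute_endAlg (fun x hx => hab a ha x hx))
  rcases key with h | h
  · rw [fix_eq_bot_iff]
    exact h
  · exfalso
    apply ha1
    rw [← fix_eq_top_iff, eq_top_iff]
    intro v _
    rw [mem_fix]
    exact h v

end Cfsg.Agent.Lib.Helper26.S5876A
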