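import Mathlib

/-!
# S5876, abstract group part (helper26)

A nilpotent group generated by a set `S` such that every commutator `x * y * x⁻¹ * y⁻¹` with `x ∈ S` that
is central is trivial, is commutative.
-/

set_option autoImplicit false

namespace Cfsg.Agent.Lib.Helper26.S5876Nil

open scoped commutatorElement

variable {T : Type*} [Group T]

theorem ucs_two_le_center (S : Set T) (hS : Subgroup.closure S = ⊤)
    (h : ∀ x ∈ S, ∀ y : T, x * y * x⁻¹ * y⁻¹ ∈ Subgroup.center T → x * y * x⁻¹ * y⁻¹ = 1) :
    Subgroup.upperCentralSeries T 2 ≤ Subgroup.center T := by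
  intro y hy
  have hy' : ∀ x : T, ⁅y, x⁆ ∈ Subgroup.center T := by
    intro x
    have := (Subgroup.mem_upperCentralSeries_succ_iff (n := 1)).mp hy x
    rwa [Subgroup.upperCentralSeries_one] at this
  have hcomm : ∀ x ∈ S, x * y = y * x := by
    intro x hx
    have h1 : ⁅x, y⁆ ∈ Subgroup.center T := by
      have := Subgroup.inv_mem _ (hy' x)
      rwa [commutatorElement_inv] at this
    have h2 : ⁅x, y⁆ = 1 := h x hx y h1
    rw [commutatorElement_eq_one_iff_mul_comm] at h2
    exact h2
  have hle : Subgroup.closure S ≤ Subgroup.centralizer {y} := by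
    rw [Subgroup.closure_le]
    intro x hx
    rw [SetLike.mem_coe, Subgroup.mem_centralizer_iff]
    intro z hz
    rw [Set.mem_singleton_iff] at hz
    subst hz
    exact (hcomm x hx).symm
  rw [Subgroup.mem_center_iff]
  intro x
  have hx : x ∈ Subgroup.centralizer {y} := hle (hS ▸ Subgroup.mem_top x)
  rw [Subgroup.mem_centralizer_iff] at hx
  exact (hx y rfl).symm

theorem ucs_succ_eq_center (S : Set T) (hS : Subgroup.closure S = ⊤)
    (h : ∀ x ∈ S, ∀ y : T, x * y * x⁻¹ * y⁻¹ ∈ Subgroup.center T → x * y * x⁻¹ * y⁻¹ = 1) (k : ℕ) :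
    Subgroup.upperCentralSeries T (k + 1) = Subgroup.center T := by
  induction k with
  | zero => exact Subgroup.upperCentralSeries_one T
  | succ k ih =>
    apply le_antisymm
    · refine le_trans ?_ (ucs_two_le_center S hS h)
      intro y hy
      rw [Subgroup.mem_upperCentralSeries_succ_iff] at hy ⊢
      intro x
      have := hy x
      rw [ih] at this
      rwa [Subgroup.upperCentralSeries_one]
    · rw [← ih]
      exact Subgroup.upperCentralSeries_mono T (Nat.le_succ _)

theorem commutative_of_generators [Group.IsNilpotent T] (S : Set T)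
    (hS : Subgroup.closure S = ⊤)
    (h : ∀ x ∈ S, ∀ y : T, x * y * x⁻¹ * y⁻¹ ∈ Subgroup.center T → x * y * x⁻¹ * y⁻¹ = 1) :
    ∀ a b : T, a * b = b * a := by
  obtain ⟨k, hk⟩ := (inferInstance : Group.IsNilpotent T).nilpotent'
  have hc : Subgroup.center T = ⊤ := by
    cases k with
    | zero =>
      rw [Subgroup.upperCentralSeries_zero] at hk
      rw [eq_top_iff, ← hk]
      exact bot_le
    | succ k =>
      rw [ucs_succ_eq_center S hS h k] at hk
      exact hk
  intro a b
  have ha : a ∈ Subgroup.center T := hc ▸ Subgroup.mem_top a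
  rw [Subgroup.mem_center_iff] at ha
  exact (ha b).symm

end Cfsg.Agent.Lib.Helper26.S5876Nil
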