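import Mathlib
import Cfsg.Prelude.Def_GeometricClasses
import Cfsg.Prelude.Def_Solvable
import Cfsg.Agent.Lib.Helper99.AschDefs
import Cfsg.Agent.Lib.Helper26.S5876Lin
import Cfsg.Agent.Lib.Helper26.S5876Nil
import Cfsg.Agent.Lib.Helper26.S5876A
import Cfsg.Agent.S0008
import Cfsg.Agent.S0044

/-!
# S5876, modules [K], [F], [MAIN] (helper26)

[K]: in a nilpotent subgroup `N` of `GL_n(F)` normalised by an irreducible primitive group `G`, every
non-identity element has fixed space of dimension at most `n / 2`.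
[F]: the Fitting subgroup of a soluble `G`, transported to `GL_n(F)`.
[MAIN]: the `3n/4` bound.
-/

set_option autoImplicit false

namespace Cfsg.Agent.Lib.Helper26.S5876K

open Cfsg Cfsg.Geo Cfsg.Agent.Lib.Helper99.Asch Cfsg.Agent.Lib.Helper26.S5876Lin
open scoped MatrixGroups Matrix

variable {n : ℕ} {F : Type*} [Field F]

/-- the centre of a subgroup `T` of `GL_n(F)`, as a subgroup of `GL_n(F)` -/
def cen (T : Subgroup (GL (Fin n) F)) : Subgroup (GL (Fin n) F) :=
  T ⊓ Subgroup.centralizer (T : Set (GL (Fin n) F))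

theorem cen_abelian (T : Subgroup (GL (Fin n) F)) : ∀ x ∈ cen T, ∀ y ∈ cen T, x * y = y * x := by
  intro x hx y hy
  have hx' := Subgroup.mem_inf.mp hx
  have hy' := Subgroup.mem_inf.mp hy
  have h1 := Subgroup.mem_centralizer_iff.mp hy'.2 x hx'.1
  exact h1

theorem nrm_inv {G T : Subgroup (GL (Fin n) F)} (h : Nrm G T) :
    ∀ g ∈ G, ∀ t ∈ T, g⁻¹ * t * g ∈ T := by
  intro g hg t ht
  have := h g⁻¹ (G.inv_mem hg) t ht
  rwa [inv_inv] at this

theorem cen_nrm {G T : Subgroup (GL (Fin n) F)} (h : Nrm G T) : Nrm G (cen T) := by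
  intro g hg z hz
  have hz' := Subgroup.mem_inf.mp hz
  refine Subgroup.mem_inf.mpr ⟨h g hg z hz'.1, ?_⟩
  rw [Subgroup.mem_centralizer_iff]
  intro t ht
  have h1 : g⁻¹ * t * g ∈ T := nrm_inv h g hg t ht
  have h2 := Subgroup.mem_centralizer_iff.mp hz'.2 _ h1
  calc t * (g * z * g⁻¹) = g * ((g⁻¹ * t * g) * z) * g⁻¹ := by group
    _ = g * (z * (g⁻¹ * t * g)) * g⁻¹ := by rw [h2]
    _ = g * z * g⁻¹ * t := by group

theorem coe_mem_cen {T : Subgroup (GL (Fin n) F)} (z : T) (hz : z ∈ Subgroup.center T) :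
    (z : GL (Fin n) F) ∈ cen T := by
  refine Subgroup.mem_inf.mpr ⟨z.2, ?_⟩
  rw [Subgroup.mem_centralizer_iff]
  intro t ht
  have := Subgroup.mem_center_iff.mp hz ⟨t, ht⟩
  exact congrArg Subtype.val this

/-- [K] -/
theorem two_mul_finrank_fix_le_of_nilpotent [Fintype F] (G N : Subgroup (GL (Fin n) F))
    (hirr : ActsIrreducibly (matrixSet G))
    (hprim : ∀ (m t : ℕ) (D : Fin t → Submodule F (Fin n → F)), 2 ≤ t → IsMDecomposition m D →
      ¬ G ≤ decompositionStabilizer D)
    (hnrm : Nrm G N) (hnil : Group.IsNilpotent N)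
    (x : GL (Fin n) F) (hx : x ∈ N) (hx1 : x ≠ 1) :
    2 * Module.finrank F (fix x) ≤ n := by
  by_contra hbad
  rw [not_le] at hbad
  set S : Set (GL (Fin n) F) := {y | y ∈ N ∧ n < 2 * Module.finrank F (fix y)} with hS
  set T : Subgroup (GL (Fin n) F) := Subgroup.closure S with hT
  have hTN : T ≤ N := by
    rw [hT, Subgroup.closure_le]
    intro y hy
    exact hy.1
  have hxS : x ∈ S := ⟨hx, hbad⟩
  have hxT : x ∈ T := Subgroup.subset_closure hxS
  have hTnil : Group.IsNilpotent T := by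
    haveI := hnil
    apply Subgroup.isNilpotent_of_ker_le_center (Subgroup.inclusion hTN)
    rw [(MonoidHom.ker_eq_bot_iff _).mpr (Subgroup.inclusion_injective hTN)]
    exact bot_le
  have hTnrm : Nrm G T := by
    intro g hg y hy
    induction hy using Subgroup.closure_induction with
    | mem y hy =>
      apply Subgroup.subset_closure
      refine ⟨hnrm g hg y hy.1, ?_⟩
      rw [finrank_fix_conj]
      exact hy.2
    | one =>
      have : g * 1 * g⁻¹ = (1 : GL (Fin n) F) := by group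
      rw [this]
      exact Subgroup.one_mem _
    | mul a b _ _ iha ihb =>
      have : g * (a * b) * g⁻¹ = (g * a * g⁻¹) * (g * b * g⁻¹) := by group
      rw [this]
      exact Subgroup.mul_mem _ iha ihb
    | inv a _ iha =>
      have : g * a⁻¹ * g⁻¹ = (g * a * g⁻¹)⁻¹ := by group
      rw [this]
      exact Subgroup.inv_mem _ iha
  -- `T` is commutative
  have hcomm : ∀ a b : T, a * b = b * a := by
    haveI := hTnil
    apply Cfsg.Agent.Lib.Helper26.S5876Nil.commutative_of_generators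
      ((Subtype.val : T → GL (Fin n) F) ⁻¹' S) Subgroup.closure_closure_coe_preimage
    intro x' hx' y' hc
    by_contra hc1
    have hcZ := coe_mem_cen _ hc
    have hc1' : ((x' * y' * x'⁻¹ * y'⁻¹ : T) : GL (Fin n) F) ≠ 1 := by
      intro h
      apply hc1
      exact Subtype.ext h
    have hfix := Cfsg.Agent.Lib.Helper26.S5876A.fix_eq_bot_of_abelian G (cen T) hirr hprim
      (cen_nrm hTnrm) (cen_abelian T) _ hcZ hc1'
    have hL := two_mul_finrank_fix_le (x' : GL (Fin n) F) (y' : GL (Fin n) F)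
    have hcoe : ((x' * y' * x'⁻¹ * y'⁻¹ : T) : GL (Fin n) F) =
        (x' : GL (Fin n) F) * y' * (x' : GL (Fin n) F)⁻¹ * (y' : GL (Fin n) F)⁻¹ := rfl
    rw [hcoe] at hfix
    rw [hfix, finrank_bot] at hL
    have hx'S : n < 2 * Module.finrank F (fix (x' : GL (Fin n) F)) := hx'.2
    omega
  have hTab : ∀ a ∈ T, ∀ b ∈ T, a * b = b * a := by
    intro a ha b hb
    exact congrArg Subtype.val (hcomm ⟨a, ha⟩ ⟨b, hb⟩)
  have hfix := Cfsg.Agent.Lib.Helper26.S5876A.fix_eq_bot_of_abelian G T hirr hprim hTnrm hTab x hxT hx1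
  rw [hfix, finrank_bot] at hbad
  omega

/-- [F] -/
theorem fitting_facts [Fintype F] (G : Subgroup (GL (Fin n) F)) (hsol : IsSolvable G) :
    ∃ N : Subgroup (GL (Fin n) F), N ≤ G ∧ Nrm G N ∧ Group.IsNilpotent N ∧
      ∀ g ∈ G, (∀ h ∈ N, g * h = h * g) → g ∈ N := by
  haveI : Group.IsSolvable G := hsol
  refine ⟨(Cfsg.fittingSubgroup G).map G.subtype, Subgroup.map_subtype_le _, ?_, ?_, ?_⟩
  · have hnorm : (Cfsg.fittingSubgroup G).Normal :=
      Subgroup.sSup_normal _ (fun H hH => hH.1)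
    rintro g hg _ ⟨y, hy, rfl⟩
    refine ⟨(⟨g, hg⟩ : G) * y * (⟨g, hg⟩ : G)⁻¹, hnorm.conj_mem y hy _, rfl⟩
  · haveI : Group.IsNilpotent (Cfsg.fittingSubgroup G) := Cfsg.Agent.S0008.result
    exact Group.nilpotent_of_mulEquiv
      ((Cfsg.fittingSubgroup G).equivMapOfInjective G.subtype G.subtype_injective)
  · intro g hg hc
    have h1 : (⟨g, hg⟩ : G) ∈ Subgroup.centralizer (Cfsg.fittingSubgroup G : Set G) := by
      rw [Subgroup.mem_centralizer_iff]
      intro h hh
      apply Subtype.ext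
      have := hc (h : GL (Fin n) F) ⟨h, hh, rfl⟩
      exact this.symm
    have h2 := Cfsg.Agent.S0044.result h1
    exact ⟨⟨g, hg⟩, h2, rfl⟩

/-- [MAIN] -/
theorem main [Fintype F] (G : Subgroup (GL (Fin n) F)) (hsol : IsSolvable G)
    (hirr : ActsIrreducibly (matrixSet G))
    (hprim : ∀ (m t : ℕ) (D : Fin t → Submodule F (Fin n → F)), 2 ≤ t → IsMDecomposition m D →
      ¬ G ≤ decompositionStabilizer D)
    (g : GL (Fin n) F) (hg : g ∈ G) (hg1 : g ≠ 1) :
    4 * Module.finrank F (fix g) ≤ 3 * n := by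
  obtain ⟨N, hNG, hnrm, hnil, hself⟩ := fitting_facts G hsol
  by_cases hgN : g ∈ N
  · have := two_mul_finrank_fix_le_of_nilpotent G N hirr hprim hnrm hnil g hgN hg1
    omega
  · have hex : ∃ h ∈ N, g * h ≠ h * g := by
      by_contra hcon
      apply hgN
      apply hself g hg
      intro h hh
      by_contra hne
      exact hcon ⟨h, hh, hne⟩
    obtain ⟨h, hh, hne⟩ := hex
    set x := g⁻¹ * h⁻¹ * g * h with hxdef
    have hxN : x ∈ N := by
      have h1 : g⁻¹ * h⁻¹ * g ∈ N := nrm_inv hnrm g hg h⁻¹ (N.inv_mem hh)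
      exact N.mul_mem h1 hh
    have hx1 : x ≠ 1 := by
      intro hx
      apply hne
      have : g * h = h * g * x := by rw [hxdef]; group
      rw [this, hx, mul_one]
    have hK := two_mul_finrank_fix_le_of_nilpotent G N hirr hprim hnrm hnil x hxN hx1
    have hL : 2 * Module.finrank F (fix g) ≤ n + Module.finrank F (fix x) :=
      two_mul_finrank_fix_le' g h
    omega

end Cfsg.Agent.Lib.Helper26.S5876K
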