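import Mathlib
import Cfsg.Prelude.Def_SporadicCombinatorics
import Cfsg.Agent.Lib.Helper26.CrossKinds
import Cfsg.Agent.Lib.Helper26.SextetStructData
import Cfsg.Agent.Lib.Helper7.M24Chain

/-!
# Structure of the sextet stabilizer

* the stabilizer of a sextet induces the full symmetric group on its six tetrads;
* it has order 138240, and the subgroup fixing every tetrad has order 192;
* the elements of that subgroup squaring to the identity form a normal subgroup of order 64.
-/

set_option autoImplicit false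

namespace Cfsg.Agent.Lib.Helper26

open Cfsg Cfsg.Agent.Lib.Helper27
open scoped Pointwise

local notation "setOf₇" => Cfsg.Agent.Lib.Helper7.setOf

/-! ### The base sextet -/

/-- the `k`-th tetrad of the base sextet -/
def tet (k : ℕ) : Finset GolayPt := setOf₇ (sxL0.getD k 0)

theorem mem_famOf_sxL0 {t : Finset GolayPt} : t ∈ famOf sxL0 ↔ ∃ k < 6, t = tet k := by
  rw [mem_famOf]
  constructor
  · rintro ⟨m, hm, rfl⟩
    obtain ⟨k, hk, rfl⟩ := List.getElem_of_mem hm
    refine ⟨k, hk, ?_⟩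
    rw [tet, List.getD_eq_getElem _ _ hk]
  · rintro ⟨k, hk, rfl⟩
    have hk' : k < sxL0.length := hk
    refine ⟨sxL0.getD k 0, ?_, rfl⟩
    rw [List.getD_eq_getElem _ _ hk']
    exact List.getElem_mem hk'

theorem tet_injOn : ∀ i < 6, ∀ j < 6, tet i = tet j → i = j := by
  intro i hi j hj h
  have h1 : ∀ i < 6, sxL0.getD i 0 < 2 ^ 24 := by decide
  have h2 : ∀ i < 6, ∀ j < 6, sxL0.getD i 0 = sxL0.getD j 0 → i = j := by decide
  exact h2 i hi j hj (setOf7_injOn (h1 i hi) (h1 j hj) h)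

/-! ### Elements inducing the transpositions of the tetrads -/

/-- the pairs of tetrads, in the order of the data -/
def pairL : List (ℕ × ℕ) :=
  [(0, 1), (0, 2), (0, 3), (0, 4), (0, 5), (1, 2), (1, 3), (1, 4), (1, 5), (2, 3), (2, 4), (2, 5),
    (3, 4), (3, 5), (4, 5)]

/-- the transposition of `i` and `j` -/
def swapIdx (i j k : ℕ) : ℕ := if k = i then j else if k = j then i else k

/-- the `q`-th table induces the transposition of the `q`-th pair -/
def swapOK : Bool :=
  (List.range 15).all fun q => (List.range 6).all fun k =>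
    Cfsg.Agent.Lib.Helper7.mapsInto (ssSwapT.getD q Cfsg.Agent.Lib.Helper7.idT) (sxL0.getD k 0)
      (sxL0.getD (swapIdx (pairL.getD q (0, 0)).1 (pairL.getD q (0, 0)).2 k) 0)

theorem swapOK_true : swapOK = true := by decide +kernel

theorem exists_swap_base {i j : ℕ} (hij : i < j) (hj : j < 6) :
    ∃ σ ∈ M24, ∀ k < 6, σ • tet k = tet (swapIdx i j k) := by
  have hq : ∀ i < 6, ∀ j < 6, i < j → ∃ q < 15, pairL.getD q (0, 0) = (i, j) := by decide
  obtain ⟨q, hq15, hqe⟩ := hq i (by omega) j hj hij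
  have hM := slp_match ssProg ssSwapIdxs
  rw [ssSwapT_eq] at hM
  have hσ : Cfsg.Agent.Lib.Helper7.Matches ((slpP ssProg ssSwapIdxs).getD q 1)
      (ssSwapT.getD q Cfsg.Agent.Lib.Helper7.idT) :=
    Cfsg.Agent.Lib.Helper7.forall₂_getD hM Cfsg.Agent.Lib.Helper7.matches_one q
  refine ⟨(slpP ssProg ssSwapIdxs).getD q 1, getD_mem_subgroup (slpP_mem_M24 _ _) q, ?_⟩
  intro k hk
  have hOK := swapOK_true
  unfold swapOK at hOK
  rw [List.all_eq_true] at hOK
  have h1 := hOK q (List.mem_range.2 hq15)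
  rw [List.all_eq_true] at h1
  have h2 := h1 k (List.mem_range.2 hk)
  rw [hqe] at h2
  have hpc : ∀ k < 6, Cfsg.Agent.Lib.Helper7.pc (sxL0.getD k 0) = 4 := by decide
  have hsw : swapIdx i j k < 6 := by
    unfold swapIdx
    split_ifs <;> omega
  exact Cfsg.Agent.Lib.Helper7.smul_setOf_eq_of_mapsInto hσ h2
    (by rw [hpc k hk, hpc _ hsw])

/-! ### General sextets: the induced action on the tetrads -/

theorem smul_mem_of_smul_eq {S : Finset (Finset GolayPt)} {g : Equiv.Perm GolayPt} (hg : g • S = S)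
    {t : Finset GolayPt} (ht : t ∈ S) : g • t ∈ S := by
  rw [← hg]
  exact Finset.smul_mem_smul_finset ht

theorem sextet_elems {S : Finset (Finset GolayPt)} (hS : S ∈ sextets) :
    ∃ h ∈ M24, h • famOf sxL0 = S ∧ ∀ t, t ∈ S ↔ ∃ k < 6, t = h • tet k := by
  obtain ⟨h, hh, hhS⟩ := sextet_stab.htrans S hS
  refine ⟨h, hh, hhS, fun t => ?_⟩
  rw [← hhS, Finset.mem_smul_finset]
  constructor
  · rintro ⟨t₀, ht₀, rfl⟩
    obtain ⟨k, hk, rfl⟩ := mem_famOf_sxL0.1 ht₀
    exact ⟨k, hk, rfl⟩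
  · rintro ⟨k, hk, rfl⟩
    exact ⟨tet k, mem_famOf_sxL0.2 ⟨k, hk, rfl⟩, rfl⟩

theorem swapIdx_lt {i j k : ℕ} (hi : i < 6) (hj : j < 6) (hk : k < 6) : swapIdx i j k < 6 := by
  unfold swapIdx
  split_ifs <;> omega

/-- a permutation permuting the tetrads of the base sextet stabilizes it -/
theorem smul_base_eq {σ : Equiv.Perm GolayPt} {π : ℕ → ℕ} (hπ : ∀ k < 6, π k < 6)
    (h : ∀ k < 6, σ • tet k = tet (π k)) : σ • famOf sxL0 = famOf sxL0 := by
  apply Finset.eq_of_subset_of_card_le
  · intro t ht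
    obtain ⟨t₀, ht₀, rfl⟩ := Finset.mem_smul_finset.1 ht
    obtain ⟨k, hk, rfl⟩ := mem_famOf_sxL0.1 ht₀
    rw [h k hk]
    exact mem_famOf_sxL0.2 ⟨π k, hπ k hk, rfl⟩
  · rw [Finset.card_smul_finset]

theorem exists_swap_aux {S : Finset (Finset GolayPt)} {h : Equiv.Perm GolayPt} (hh : h ∈ M24)
    (hhS : h • famOf sxL0 = S) (helem : ∀ t, t ∈ S ↔ ∃ k < 6, t = h • tet k)
    (x y : ↥S) {i j : ℕ} (hij : i < j) (hj : j < 6) (hx : x.1 = h • tet i) (hy : y.1 = h • tet j) :
    ∃ g ∈ MulAction.stabilizer M24 S, ∀ t : ↥S,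
      (g : Equiv.Perm GolayPt) • (t : Finset GolayPt) = ((Equiv.swap x y t : ↥S) : Finset GolayPt) := by
  have hi : i < 6 := by omega
  obtain ⟨σ, hσ, hσt⟩ := exists_swap_base hij hj
  have hσS : σ • famOf sxL0 = famOf sxL0 :=
    smul_base_eq (fun k hk => swapIdx_lt hi hj hk) hσt
  have hgM : h * σ * h⁻¹ ∈ M24 := M24.mul_mem (M24.mul_mem hh hσ) (M24.inv_mem hh)
  have hgS : (h * σ * h⁻¹) • S = S := by
    rw [← hhS, mul_smul, mul_smul, inv_smul_smul, hσS]
  refine ⟨⟨h * σ * h⁻¹, hgM⟩, MulAction.mem_stabilizer_iff.2 hgS, ?_⟩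
  intro t
  obtain ⟨k, hk, htk⟩ := (helem t.1).1 t.2
  show (h * σ * h⁻¹) • (t : Finset GolayPt) = _
  rw [htk, mul_smul, mul_smul, inv_smul_smul, hσt k hk]
  have hinj : ∀ a < 6, ∀ b < 6, h • tet a = h • tet b → a = b := fun a ha b hb hab =>
    tet_injOn a ha b hb (MulAction.injective h hab)
  by_cases hki : k = i
  · have htx : t = x := Subtype.ext (by rw [htk, hx, hki])
    rw [htx, Equiv.swap_apply_left, hy, hki]
    simp [swapIdx]
  · by_cases hkj : k = j
    · have hty : t = y := Subtype.ext (by rw [htk, hy, hkj])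
      rw [hty, Equiv.swap_apply_right, hx, hkj]
      have : j ≠ i := by omega
      simp [swapIdx, this]
    · have htx : t ≠ x := by
        intro e
        have : h • tet k = h • tet i := by rw [← htk, ← hx, e]
        exact hki (hinj k hk i hi this)
      have hty : t ≠ y := by
        intro e
        have : h • tet k = h • tet j := by rw [← htk, ← hy, e]
        exact hkj (hinj k hk j hj this)
      rw [Equiv.swap_apply_of_ne_of_ne htx hty, htk]
      simp [swapIdx, hki, hkj]

theorem exists_swap {S : Finset (Finset GolayPt)} (hS : S ∈ sextets) (x y : ↥S) (hxy : x ≠ y) :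
    ∃ g ∈ MulAction.stabilizer M24 S, ∀ t : ↥S,
      (g : Equiv.Perm GolayPt) • (t : Finset GolayPt) = ((Equiv.swap x y t : ↥S) : Finset GolayPt) := by
  obtain ⟨h, hh, hhS, helem⟩ := sextet_elems hS
  obtain ⟨i, hi, hx⟩ := (helem x.1).1 x.2
  obtain ⟨j, hj, hy⟩ := (helem y.1).1 y.2
  have hne : i ≠ j := by
    rintro rfl
    exact hxy (Subtype.ext (by rw [hx, hy]))
  rcases Nat.lt_or_gt_of_ne hne with hlt | hlt
  · exact exists_swap_aux hh hhS helem x y hlt hj hx hy
  · obtain ⟨g, hg, hgt⟩ := exists_swap_aux hh hhS helem y x hlt hi hy hx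
    exact ⟨g, hg, fun t => by rw [hgt t, Equiv.swap_comm]⟩

/-- **The stabilizer of a sextet induces every permutation of its six tetrads.** -/
theorem sextet_induces_all {S : Finset (Finset GolayPt)} (hS : S ∈ sextets) (e : Equiv.Perm ↥S) :
    ∃ g ∈ MulAction.stabilizer M24 S, ∀ t : ↥S,
      (g : Equiv.Perm GolayPt) • (t : Finset GolayPt) = ((e t : ↥S) : Finset GolayPt) := by
  refine Equiv.Perm.swap_induction_on e ?_ ?_
  · exact ⟨1, Subgroup.one_mem _, fun t => by simp⟩
  · rintro f x y hxy ⟨g, hg, hgt⟩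
    obtain ⟨s, hs, hst⟩ := exists_swap hS x y hxy
    refine ⟨s * g, Subgroup.mul_mem _ hs hg, fun t => ?_⟩
    show ((s : Equiv.Perm GolayPt) * (g : Equiv.Perm GolayPt)) • (t : Finset GolayPt) = _
    rw [mul_smul, hgt t, hst (f t)]
    rfl

/-! ### Orders -/

theorem orbit_M24_sextet {S : Finset (Finset GolayPt)} (hS : S ∈ sextets) :
    MulAction.orbit M24 S = sextets := by
  ext Y
  constructor
  · rintro ⟨g, rfl⟩
    exact smul_mem_sextets g.2 hS
  · intro hY
    obtain ⟨g, hg, hgS⟩ := sextet_setup.trans S hS Y hY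
    exact ⟨⟨g, hg⟩, hgS⟩

/-- the stabilizer of a sextet has order `138240 = 2^10 * 3^3 * 5` -/
theorem card_stabilizer_sextet {S : Finset (Finset GolayPt)} (hS : S ∈ sextets) :
    Nat.card (MulAction.stabilizer M24 S) = 138240 := by
  have h1 := Subgroup.card_mul_index (MulAction.stabilizer M24 S)
  rw [MulAction.index_stabilizer, orbit_M24_sextet hS, sextet_setup.hN,
    Cfsg.Agent.Lib.Helper7.card_M24] at h1
  omega

/-- the action of the sextet stabilizer on the six tetrads -/
def tetPerm (S : Finset (Finset GolayPt)) : ↥(MulAction.stabilizer M24 S) →* Equiv.Perm ↥S where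
  toFun g :=
    { toFun := fun t => ⟨(g.1.1 : Equiv.Perm GolayPt) • t.1,
        smul_mem_of_smul_eq (MulAction.mem_stabilizer_iff.1 g.2) t.2⟩
      invFun := fun t => ⟨(g.1.1 : Equiv.Perm GolayPt)⁻¹ • t.1,
        smul_mem_of_smul_eq (inv_smul_eq_iff.2 (MulAction.mem_stabilizer_iff.1 g.2).symm) t.2⟩
      left_inv := fun t => Subtype.ext (inv_smul_smul _ _)
      right_inv := fun t => Subtype.ext (smul_inv_smul _ _) }
  map_one' := by
    apply Equiv.ext
    intro t
    apply Subtype.ext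
    show (1 : Equiv.Perm GolayPt) • t.1 = _
    rw [one_smul]
    rfl
  map_mul' := fun a b => by
    apply Equiv.ext
    intro t
    apply Subtype.ext
    show ((a.1.1 : Equiv.Perm GolayPt) * (b.1.1 : Equiv.Perm GolayPt)) • t.1 = _
    rw [mul_smul]
    rfl

theorem tetPerm_apply {S : Finset (Finset GolayPt)} (g : ↥(MulAction.stabilizer M24 S)) (t : ↥S) :
    ((tetPerm S g t : ↥S) : Finset GolayPt) = (g.1.1 : Equiv.Perm GolayPt) • t.1 := rfl

theorem tetPerm_surjective {S : Finset (Finset GolayPt)} (hS : S ∈ sextets) :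
    Function.Surjective (tetPerm S) := by
  intro e
  obtain ⟨g, hg, hgt⟩ := sextet_induces_all hS e
  refine ⟨⟨g, hg⟩, ?_⟩
  apply Equiv.ext
  intro t
  apply Subtype.ext
  rw [tetPerm_apply]
  exact hgt t

theorem mem_ker_tetPerm {S : Finset (Finset GolayPt)} (g : ↥(MulAction.stabilizer M24 S)) :
    g ∈ (tetPerm S).ker ↔ ∀ t ∈ S, (g.1.1 : Equiv.Perm GolayPt) • t = t := by
  rw [MonoidHom.mem_ker]
  constructor
  · intro h t ht
    have := congrArg (fun e : Equiv.Perm ↥S => ((e ⟨t, ht⟩ : ↥S) : Finset GolayPt)) h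
    exact this
  · intro h
    apply Equiv.ext
    intro t
    apply Subtype.ext
    rw [tetPerm_apply]
    exact h t.1 t.2

/-- the subgroup of the sextet stabilizer fixing every tetrad has order 192 -/
theorem card_ker_tetPerm {S : Finset (Finset GolayPt)} (hS : S ∈ sextets) :
    Nat.card (tetPerm S).ker = 192 := by
  have h1 := Subgroup.card_mul_index (tetPerm S).ker
  have hS6 : Nat.card ↥S = 6 := by
    rw [Nat.card_eq_fintype_card, Fintype.card_coe]
    exact hS.1
  rw [Subgroup.index_ker, MonoidHom.range_eq_top.2 (tetPerm_surjective hS), Subgroup.card_top,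
    Nat.card_perm, hS6, card_stabilizer_sextet hS] at h1
  have : Nat.factorial 6 = 720 := by decide
  rw [this] at h1
  omega

end Cfsg.Agent.Lib.Helper26
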