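import Mathlib
import Cfsg.Prelude.Def_SporadicCombinatorics
import Cfsg.Agent.Lib.Helper26.SextetStruct

/-!
# The subgroup of `M24` fixing every tetrad of a sextet

It has order 192; we list its elements for the base sextet, show that those squaring to the
identity are closed under multiplication and number 64, and transport this to every sextet.
-/

set_option autoImplicit false

namespace Cfsg.Agent.Lib.Helper26

open Cfsg Cfsg.Agent.Lib.Helper27
open scoped Pointwise

local notation "setOf₇" => Cfsg.Agent.Lib.Helper7.setOf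
local notation "Matches₇" => Cfsg.Agent.Lib.Helper7.Matches
local notation "idT₇" => Cfsg.Agent.Lib.Helper7.idT
local notation "compT₇" => Cfsg.Agent.Lib.Helper7.compT

/-! ### Tables -/

theorem matches_ext {σ τ : Equiv.Perm GolayPt} {t t' : List ℕ} (h : Matches₇ σ t)
    (h' : Matches₇ τ t') (ht : ∀ i < 24, t.getD i 0 = t'.getD i 0) : σ = τ := by
  refine Equiv.ext fun p => ?_
  apply Cfsg.Agent.Lib.Helper7.idx_injective
  rw [h p, h' p]
  exact ht _ (Cfsg.Agent.Lib.Helper7.idx_lt p)

theorem matches_getD_eq {σ : Equiv.Perm GolayPt} {t t' : List ℕ} (h : Matches₇ σ t)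
    (h' : Matches₇ σ t') : ∀ i < 24, t.getD i 0 = t'.getD i 0 := by
  intro i hi
  have h1 := h (Cfsg.Agent.Lib.Helper7.pt i)
  have h2 := h' (Cfsg.Agent.Lib.Helper7.pt i)
  rw [Cfsg.Agent.Lib.Helper7.idx_pt hi] at h1 h2
  rw [← h1, ← h2]

/-- the table squares to the identity -/
def sqIdB (t : List ℕ) : Bool := (List.range 24).all fun i => t.getD (t.getD i 0) 0 == i

theorem sq_eq_one_iff {σ : Equiv.Perm GolayPt} {t : List ℕ} (h : Matches₇ σ t) :
    σ * σ = 1 ↔ sqIdB t = true := by
  unfold sqIdB
  rw [List.all_eq_true]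
  constructor
  · intro hσ i hi
    have hi : i < 24 := List.mem_range.1 hi
    have h1 := h (σ (Cfsg.Agent.Lib.Helper7.pt i))
    rw [h (Cfsg.Agent.Lib.Helper7.pt i), Cfsg.Agent.Lib.Helper7.idx_pt hi] at h1
    have h2 : σ (σ (Cfsg.Agent.Lib.Helper7.pt i)) = Cfsg.Agent.Lib.Helper7.pt i := by
      rw [← Equiv.Perm.mul_apply, hσ]
      rfl
    rw [h2, Cfsg.Agent.Lib.Helper7.idx_pt hi] at h1
    rw [← h1]
    exact beq_self_eq_true i
  · intro hall
    refine Equiv.ext fun p => ?_
    apply Cfsg.Agent.Lib.Helper7.idx_injective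
    rw [Equiv.Perm.mul_apply, h (σ p), h p]
    have := hall (Cfsg.Agent.Lib.Helper7.idx p)
      (List.mem_range.2 (Cfsg.Agent.Lib.Helper7.idx_lt p))
    rw [beq_iff_eq] at this
    rw [this]
    rfl

/-! ### The 192 elements for the base sextet -/

/-- the 192 elements of `M24` fixing every tetrad of the base sextet -/
noncomputable def kP : List (Equiv.Perm GolayPt) := slpP ssProg ssKIdxs

theorem kP_match : List.Forall₂ Matches₇ kP ssKT := by
  have h := slp_match ssProg ssKIdxs
  rwa [ssKT_eq] at h

theorem kP_matches (a : ℕ) : Matches₇ (kP.getD a 1) (ssKT.getD a idT₇) :=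
  Cfsg.Agent.Lib.Helper7.forall₂_getD kP_match Cfsg.Agent.Lib.Helper7.matches_one a

theorem kP_mem_M24 (a : ℕ) : kP.getD a 1 ∈ M24 := getD_mem_subgroup (slpP_mem_M24 _ _) a

/-- every table fixes the six masks -/
def kFixOK : Bool :=
  ssKT.all fun t => sxL0.all fun m => Cfsg.Agent.Lib.Helper7.mapsInto t m m

theorem kFixOK_true : kFixOK = true := by decide +kernel

theorem ssKT_length : ssKT.length = 192 := by decide +kernel

theorem kP_fix {a : ℕ} (ha : a < 192) {k : ℕ} (hk : k < 6) : kP.getD a 1 • tet k = tet k := by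
  have hOK := kFixOK_true
  unfold kFixOK at hOK
  rw [List.all_eq_true] at hOK
  have ha' : a < ssKT.length := by rw [ssKT_length]; exact ha
  have h1 := hOK (ssKT.getD a idT₇) (by
    rw [List.getD_eq_getElem _ _ ha']
    exact List.getElem_mem ha')
  rw [List.all_eq_true] at h1
  have hk' : k < sxL0.length := hk
  have h2 := h1 (sxL0.getD k 0) (by
    rw [List.getD_eq_getElem _ _ hk']
    exact List.getElem_mem hk')
  exact Cfsg.Agent.Lib.Helper7.smul_setOf_eq_of_mapsInto (kP_matches a) h2 le_rfl

/-- two tables differ at some point -/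
def tabNe (t t' : List ℕ) : Bool := (List.range 24).any fun i => t.getD i 0 != t'.getD i 0

/-- all pairs of entries of a list are related -/
def pairwiseB {α : Type} (f : α → α → Bool) : List α → Bool
  | [] => true
  | x :: l => l.all (f x) && pairwiseB f l

theorem pairwiseB_sound {α : Type} (f : α → α → Bool) (l : List α) (h : pairwiseB f l = true) :
    l.Pairwise fun x y => f x y = true := by
  induction l with
  | nil => exact List.Pairwise.nil
  | cons x l ih =>
    simp only [pairwiseB, Bool.and_eq_true, List.all_eq_true] at h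
    exact List.Pairwise.cons h.1 (ih h.2)

theorem kDistinct_true : pairwiseB tabNe ssKT = true := by decide +kernel

theorem kP_injOn {a b : ℕ} (ha : a < 192) (hb : b < 192) (h : kP.getD a 1 = kP.getD b 1) :
    a = b := by
  by_contra hab
  have hP := pairwiseB_sound _ _ kDistinct_true
  have key : ∀ a b, a < b → b < 192 → kP.getD a 1 = kP.getD b 1 → False := by
    intro a b hlt hb h
    have ha' : a < ssKT.length := by rw [ssKT_length]; omega
    have hb' : b < ssKT.length := by rw [ssKT_length]; omega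
    have h1 := List.pairwise_iff_getElem.1 hP a b ha' hb' hlt
    unfold tabNe at h1
    rw [List.any_eq_true] at h1
    obtain ⟨i, hi, hne⟩ := h1
    have hma := kP_matches a
    have hmb := kP_matches b
    rw [h] at hma
    have := matches_getD_eq hma hmb i (List.mem_range.1 hi)
    rw [List.getD_eq_getElem _ _ ha', List.getD_eq_getElem _ _ hb'] at this
    rw [this] at hne
    simp at hne
  rcases Nat.lt_or_gt_of_ne hab with hlt | hlt
  · exact key a b hlt hb h
  · exact key b a hlt ha h.symm

theorem base_mem_sextets : famOf sxL0 ∈ sextets := by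
  have := sextet_setup.hS0
  rwa [sx_getF_J0] at this

theorem fix_base_of_fix_tets {σ : Equiv.Perm GolayPt} (h : ∀ k < 6, σ • tet k = tet k) :
    σ • famOf sxL0 = famOf sxL0 := smul_base_eq (π := id) (fun _ hk => hk) h

/-- every element of `M24` fixing the six base tetrads is one of the 192 -/
theorem exists_kP_eq {σ : Equiv.Perm GolayPt} (hσ : σ ∈ M24) (hfix : ∀ k < 6, σ • tet k = tet k) :
    ∃ a < 192, σ = kP.getD a 1 := by
  have hbase : ∀ {τ : Equiv.Perm GolayPt}, (∀ k < 6, τ • tet k = tet k) →
      ∀ t ∈ famOf sxL0, τ • t = t := by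
    intro τ hτ t ht
    obtain ⟨k, hk, rfl⟩ := mem_famOf_sxL0.1 ht
    exact hτ k hk
  let mk : ∀ τ : Equiv.Perm GolayPt, τ ∈ M24 → (∀ k < 6, τ • tet k = tet k) →
      ↥(tetPerm (famOf sxL0)).ker := fun τ hτ hf =>
    ⟨⟨⟨τ, hτ⟩, MulAction.mem_stabilizer_iff.2 (fix_base_of_fix_tets hf)⟩,
      (mem_ker_tetPerm _).2 (hbase hf)⟩
  let f : Fin 192 → ↥(tetPerm (famOf sxL0)).ker := fun a =>
    mk (kP.getD a.1 1) (kP_mem_M24 a.1) (fun k hk => kP_fix a.2 hk)
  have hinj : Function.Injective f := by
    intro a b hab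
    have : kP.getD a.1 1 = kP.getD b.1 1 :=
      congrArg (fun x : ↥(tetPerm (famOf sxL0)).ker => ((x.1.1.1 : Equiv.Perm GolayPt))) hab
    exact Fin.ext (kP_injOn a.2 b.2 this)
  have hcard : Nat.card (Fin 192) = Nat.card ↥(tetPerm (famOf sxL0)).ker := by
    rw [card_ker_tetPerm base_mem_sextets, Nat.card_eq_fintype_card, Fintype.card_fin]
  have : Finite ↥(tetPerm (famOf sxL0)).ker :=
    Nat.finite_of_card_ne_zero (by rw [card_ker_tetPerm base_mem_sextets]; norm_num)
  have hsurj : Function.Surjective f :=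
    ((Nat.bijective_iff_injective_and_card f).2 ⟨hinj, hcard⟩).2
  obtain ⟨a, ha⟩ := hsurj (mk σ hσ hfix)
  refine ⟨a.1, a.2, ?_⟩
  exact (congrArg (fun x : ↥(tetPerm (famOf sxL0)).ker => ((x.1.1.1 : Equiv.Perm GolayPt))) ha).symm

/-! ### Squares and products -/

/-- the first 64 tables, and only these, square to the identity -/
def kSqOK : Bool :=
  ((ssKT.take 64).all fun t => sqIdB t) && ((ssKT.drop 64).all fun t => !sqIdB t)

theorem kSqOK_true : kSqOK = true := by decide +kernel

theorem kP_sq_iff {a : ℕ} (ha : a < 192) : kP.getD a 1 * kP.getD a 1 = 1 ↔ a < 64 := by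
  rw [sq_eq_one_iff (kP_matches a)]
  have hOK := kSqOK_true
  unfold kSqOK at hOK
  rw [Bool.and_eq_true, List.all_eq_true, List.all_eq_true] at hOK
  have ha' : a < ssKT.length := by rw [ssKT_length]; exact ha
  rw [List.getD_eq_getElem _ _ ha']
  constructor
  · intro h
    by_contra hlt
    have hmem : ssKT[a] ∈ ssKT.drop 64 := by
      rw [List.mem_iff_getElem]
      refine ⟨a - 64, by rw [List.length_drop, ssKT_length]; omega, ?_⟩
      rw [List.getElem_drop]
      congr 1
      omega
    have := hOK.2 _ hmem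
    rw [h] at this
    simp at this
  · intro hlt
    have hmem : ssKT[a] ∈ ssKT.take 64 := by
      rw [List.mem_iff_getElem]
      refine ⟨a, by rw [List.length_take, ssKT_length]; omega, ?_⟩
      rw [List.getElem_take]
    exact hOK.1 _ hmem

/-- the product of the `a`-th and `b`-th of the first 64 tables is the `a xor b`-th -/
def kMulOK : Bool :=
  (List.range 64).all fun a => (List.range 64).all fun b =>
    compT₇ (ssKT.getD a idT₇) (ssKT.getD b idT₇) == ssKT.getD (a ^^^ b) idT₇

theorem kMulOK_true : kMulOK = true := by decide +kernel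

theorem kP_mul {a b : ℕ} (ha : a < 64) (hb : b < 64) :
    kP.getD a 1 * kP.getD b 1 = kP.getD (a ^^^ b) 1 := by
  have hOK := kMulOK_true
  unfold kMulOK at hOK
  rw [List.all_eq_true] at hOK
  have h1 := hOK a (List.mem_range.2 ha)
  rw [List.all_eq_true] at h1
  have h2 := h1 b (List.mem_range.2 hb)
  rw [beq_iff_eq] at h2
  refine matches_ext (Cfsg.Agent.Lib.Helper7.matches_mul (kP_matches a) (kP_matches b))
    (kP_matches (a ^^^ b)) ?_
  intro i _
  rw [h2]

theorem xor_lt_64 {a b : ℕ} (ha : a < 64) (hb : b < 64) : a ^^^ b < 64 :=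
  Nat.xor_lt_two_pow (n := 6) ha hb

end Cfsg.Agent.Lib.Helper26
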