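import Mathlib

/-!
# Counting `k`-subsets by the size of their intersection with a fixed set
-/

set_option autoImplicit false

namespace Cfsg.Agent.Lib.Helper26

theorem card_filter_inter_card {α : Type*} [Fintype α] [DecidableEq α] (s : Finset α) (k j : ℕ)
    (hj : j ≤ k) :
    ((Finset.univ.powersetCard k).filter (fun x : Finset α => (x ∩ s).card = j)).card =
      s.card.choose j * (Fintype.card α - s.card).choose (k - j) := by
  rw [← Finset.card_compl s, ← Finset.card_powersetCard, ← Finset.card_powersetCard,
    ← Finset.card_product]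
  apply Finset.card_nbij' (fun x => (x ∩ s, x \ s)) (fun ab => ab.1 ∪ ab.2)
  · intro x hx
    simp only [Finset.coe_filter, Finset.mem_powersetCard, Set.mem_ofPred_eq] at hx
    obtain ⟨⟨_, hk⟩, hxj⟩ := hx
    simp only [Finset.coe_product, Set.mem_prod, Finset.mem_coe, Finset.mem_powersetCard]
    refine ⟨⟨Finset.inter_subset_right, hxj⟩, ?_, ?_⟩
    · intro p hp
      rw [Finset.mem_sdiff] at hp
      exact Finset.mem_compl.2 hp.2
    · have := Finset.card_sdiff_add_card_inter x s
      omega
  · intro ab hab
    simp only [Finset.coe_product, Set.mem_prod, Finset.mem_coe, Finset.mem_powersetCard] at hab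
    obtain ⟨⟨has, haj⟩, ⟨hbs, hbk⟩⟩ := hab
    have hdisj : Disjoint ab.1 ab.2 := by
      rw [Finset.disjoint_left]
      intro p hp hp'
      exact Finset.mem_compl.1 (hbs hp') (has hp)
    have hinter : (ab.1 ∪ ab.2) ∩ s = ab.1 := by
      ext p
      simp only [Finset.mem_inter, Finset.mem_union]
      constructor
      · rintro ⟨h | h, hs⟩
        · exact h
        · exact absurd hs (Finset.mem_compl.1 (hbs h))
      · intro h
        exact ⟨Or.inl h, has h⟩
    simp only [Finset.coe_filter, Finset.mem_powersetCard, Set.mem_ofPred_eq]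
    refine ⟨⟨Finset.subset_univ _, ?_⟩, ?_⟩
    · rw [Finset.card_union_of_disjoint hdisj, haj, hbk]
      omega
    · rw [hinter, haj]
  · intro x _
    simp only
    ext p
    simp only [Finset.mem_union, Finset.mem_inter, Finset.mem_sdiff]
    tauto
  · intro ab hab
    simp only [Finset.coe_product, Set.mem_prod, Finset.mem_coe, Finset.mem_powersetCard] at hab
    obtain ⟨⟨has, haj⟩, ⟨hbs, hbk⟩⟩ := hab
    simp only
    ext p
    · simp only [Finset.mem_inter, Finset.mem_union]
      constructor
      · rintro ⟨h | h, hs⟩
        · exact h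
        · exact absurd hs (Finset.mem_compl.1 (hbs h))
      · intro h
        exact ⟨Or.inl h, has h⟩
    · simp only [Finset.mem_sdiff, Finset.mem_union]
      constructor
      · rintro ⟨h | h, hs⟩
        · exact absurd (has h) hs
        · exact h
      · intro h
        exact ⟨Or.inr h, Finset.mem_compl.1 (hbs h)⟩

end Cfsg.Agent.Lib.Helper26
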