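import Mathlib
import Cfsg.Agent.Lib.Helper26.Syl2Group

/-!
# The explicit Sylow 2-subgroup of `M24` is a `PModel`
-/

set_option autoImplicit false

namespace Cfsg.Agent.Lib.Helper26

open Cfsg Cfsg.Agent.Lib.Helper7 Cfsg.Agent.Lib.Helper27

theorem nbeq_iff {a b : ℕ} : Nat.beq a b = true ↔ a = b :=
  ⟨Nat.eq_of_beq_eq_true, fun h => h ▸ Nat.beq_refl a⟩

theorem comQ_iff (Ti Tj a0 a4 a8 e0 e4 e8 : ℕ) : comQ Ti Tj a0 a4 a8 e0 e4 e8 = true ↔
    (lookQ Ti (lookQ Tj 0) = lookQ Tj a0 ∧ lookQ Ti (lookQ Tj 32) = lookQ Tj a4 ∧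
      lookQ Ti (lookQ Tj 64) = lookQ Tj a8) ∨
    (lookQ Ti (lookQ Tj 0) = lookQ Tj e0 ∧ lookQ Ti (lookQ Tj 32) = lookQ Tj e4 ∧
      lookQ Ti (lookQ Tj 64) = lookQ Tj e8) := by
  unfold comQ
  rw [forceNat_eq]
  simp only [Bool.or_eq_true, Bool.and_eq_true, nbeq_iff]

theorem sqQ_iff (Ti Tz : ℕ) : sqQ Ti Tz = true ↔
    (lookQ Ti (lookQ Ti 0) = 0 ∧ lookQ Ti (lookQ Ti 32) = 32 ∧ lookQ Ti (lookQ Ti 64) = 64) ∨
    (lookQ Ti (lookQ Ti 0) = lookQ Tz 0 ∧ lookQ Ti (lookQ Ti 32) = lookQ Tz 32 ∧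
      lookQ Ti (lookQ Ti 64) = lookQ Tz 64) := by
  unfold sqQ
  simp only [Bool.or_eq_true, Bool.and_eq_true, nbeq_iff]

theorem s2z_match : MatchesQ s2z (s2Q 512) := s2p_match (by norm_num)

theorem s2z_mem : s2z ∈ s2Grp := s2p_mem 512

/-- equality of two elements of the group, through evaluations at the points `0, 4, 8` -/
theorem eq_iff_base {x y : Equiv.Perm GolayPt} (hx : x ∈ s2Grp) (hy : y ∈ s2Grp) :
    x = y ↔ (8 * Helper7.idx (x (Helper7.pt 0)) = 8 * Helper7.idx (y (Helper7.pt 0)) ∧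
      8 * Helper7.idx (x (Helper7.pt 4)) = 8 * Helper7.idx (y (Helper7.pt 4)) ∧
      8 * Helper7.idx (x (Helper7.pt 8)) = 8 * Helper7.idx (y (Helper7.pt 8))) := by
  constructor
  · rintro rfl
    exact ⟨rfl, rfl, rfl⟩
  · rintro ⟨h0, h4, h8⟩
    exact eq_of_base hx hy (apply_eq_of_eval h0) (apply_eq_of_eval h4) (apply_eq_of_eval h8)

theorem s2_com {i j : ℕ} (hi : i < 512) (hj : j < 512) :
    (s2p i * s2p j = s2p j * s2p i ∨ s2p i * s2p j = s2p j * s2p i * s2z) ↔ s2cm i j = true := by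
  rw [← s2_comQ hi hj, comQ_iff]
  have mi : MatchesQ (s2p i) (s2Q i) := s2p_match (by omega)
  have mj : MatchesQ (s2p j) (s2Q j) := s2p_match (by omega)
  have mz := s2z_match
  have h0 : (0 : ℕ) < 24 := by norm_num
  have h4 : (4 : ℕ) < 24 := by norm_num
  have h8 : (8 : ℕ) < 24 := by norm_num
  have gi := s2p_mem i
  have gj := s2p_mem j
  rw [eq_iff_base (s2Grp.mul_mem gi gj) (s2Grp.mul_mem gj gi),
    eq_iff_base (s2Grp.mul_mem gi gj) (s2Grp.mul_mem (s2Grp.mul_mem gj gi) s2z_mem),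
    eval2 mi mj h0, eval2 mi mj h4, eval2 mi mj h8, eval2 mj mi h0, eval2 mj mi h4, eval2 mj mi h8,
    eval3 mj mi mz h0, eval3 mj mi mz h4, eval3 mj mi mz h8]

theorem s2_sq {i : ℕ} (hi : i < 512) :
    (s2p i * s2p i = 1 ∨ s2p i * s2p i = s2z) ↔ s2Sq.testBit i = true := by
  rw [← s2_sqQ hi, sqQ_iff]
  have mi : MatchesQ (s2p i) (s2Q i) := s2p_match (by omega)
  have mz := s2z_match
  have h0 : (0 : ℕ) < 24 := by norm_num
  have h4 : (4 : ℕ) < 24 := by norm_num
  have h8 : (8 : ℕ) < 24 := by norm_num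
  have gi := s2p_mem i
  rw [eq_iff_base (s2Grp.mul_mem gi gi) s2Grp.one_mem, eq_iff_base (s2Grp.mul_mem gi gi) s2z_mem,
    eval2 mi mi h0, eval2 mi mi h4, eval2 mi mi h8, eval1 mz h0, eval1 mz h4, eval1 mz h8,
    Equiv.Perm.one_apply, Equiv.Perm.one_apply, Equiv.Perm.one_apply, Helper7.idx_pt h0,
    Helper7.idx_pt h4, Helper7.idx_pt h8]

/-- the explicit Sylow 2-subgroup of `M24` with its enumeration -/
noncomputable def s2Model : PModel ↥s2Grp where
  p i := ⟨s2p i, s2p_mem i⟩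
  z := ⟨s2z, s2z_mem⟩
  surj x := by
    obtain ⟨j, hj, hx⟩ := exists_of_mem x.2
    by_cases h : j < 512
    · exact ⟨j, h, Or.inl (Subtype.ext hx)⟩
    · refine ⟨j - 512, by omega, Or.inr (Subtype.ext ?_)⟩
      rw [Subgroup.coe_mul]
      change (x : Equiv.Perm GolayPt) = s2p (j - 512) * s2z
      have e : 512 + (j - 512) = j := by omega
      rw [s2p_coset (by omega), hx, e]
  hzc x := Subtype.ext (by
    rw [Subgroup.coe_mul, Subgroup.coe_mul]
    exact s2z_central x.2)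
  cen x hx := by
    obtain ⟨j, hj, hxj⟩ := exists_of_mem x.2
    by_cases h0 : j = 0
    · left
      apply Subtype.ext
      rw [hxj, h0, s2p_zero]
      rfl
    · by_cases h512 : j = 512
      · right
        apply Subtype.ext
        rw [hxj, h512]
        rfl
      · exfalso
        obtain ⟨k, hk, hne⟩ := s2_noncentral hj h0 h512
        apply hne
        have := congrArg Subtype.val (hx ⟨s2p (k + 1), s2p_mem _⟩)
        rw [Subgroup.coe_mul, Subgroup.coe_mul, hxj] at this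
        exact this.symm
  inj i hi j hj h := by
    rcases h with h | h
    · have := congrArg Subtype.val h
      exact (s2p_inj (by omega) (by omega) this).symm
    · have := congrArg Subtype.val h
      rw [Subgroup.coe_mul] at this
      change s2p j = s2p i * s2z at this
      rw [s2p_coset hi] at this
      have := s2p_inj (by omega) (by omega) this
      omega
  com i hi j hj := by
    rw [← s2_com hi hj]
    simp only [Subtype.ext_iff, Subgroup.coe_mul]
  sq i hi := by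
    rw [← s2_sq hi]
    simp only [Subtype.ext_iff, Subgroup.coe_mul, Subgroup.coe_one]

end Cfsg.Agent.Lib.Helper26
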