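import Mathlib
import Cfsg.Agent.Lib.Helper80.TwoDeg2

/-!
# S4460 module [TAK3] (helper26): an M-group with character degrees in `{1, m, n}` has `G''' = 1`

Taketa's argument, one step at a time (`taketa_step`).
Statement of `derivedSeries_three_eq_bot_of_monomial` verbatim from helper80's
`Lib/Helper80/ThreeDeg/SPINE.md`.
-/

set_option autoImplicit false

namespace Cfsg.Agent.Lib.Helper26.ThreeDeg

open Cfsg
open scoped ComplexConjugate commutatorElement
open Cfsg.Agent.Lib.Helper78 Cfsg.Agent.Lib.Helper75 Cfsg.Agent.Lib.Helper80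

universe u

variable {G : Type u} [Group G] [Fintype G]

/-- **One step of Taketa's argument**: if every irreducible character of degree `≤ d` of the
M-group `G` is trivial on `G^(k)`, then every irreducible character of degree `d + 1` is trivial
on `G^(k+1)`. -/
theorem taketa_step (hM : ∀ χ : G → ℂ, IsIrrCharacter G χ →
      ∃ (H : Subgroup G) (lam : H →* ℂˣ), χ = indFun H (fun h => (lam h : ℂ)))
    (k d : ℕ) (hd : 1 ≤ d)
    (hlow : ∀ ψ : IrrCharacter G, charDegree (ψ : G → ℂ) ≤ d →
      ∀ y ∈ derivedSeries G k, (ψ : G → ℂ) y = (ψ : G → ℂ) 1)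
    (χ : G → ℂ) (hχ : IsIrrCharacter G χ) (hdeg : charDegree χ = d + 1)
    (x : G) (hx : x ∈ derivedSeries G (k + 1)) : χ x = χ 1 := by
  classical
  obtain ⟨H, lam, hlam⟩ := hM χ hχ
  have hidx : H.index = d + 1 := by
    have h1 := IsCharacter.apply_one_eq_charDegree (IsIrrCharacter.isCharacter hχ)
    rw [hdeg] at h1
    have h2 := congrFun hlam 1
    rw [indFun_one, h1] at h2
    simp only [map_one, Units.val_one, mul_one] at h2
    exact_mod_cast h2.symm
  have hi : derivedSeries G k ≤ H := by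
    intro y hy
    have hπ : IsCharacter G (indFun H (fun _ => (1 : ℂ))) :=
      Cfsg.Agent.S0148.result H _ (IsIrrCharacter.isCharacter (Cfsg.Agent.Lib.Helper78.isIrrCharacter_one (G := H)))
    obtain ⟨mu, hmu⟩ := (isCharacter_iff_exists_nat_combination _).mp hπ
    apply mem_of_indFun_one_eq H y
    rw [hmu, Finset.sum_apply, Finset.sum_apply]
    apply Finset.sum_congr rfl
    intro ψ _
    by_cases hmψ : mu ψ = 0
    · simp [hmψ]
    · have h1 := charDegree_le_of_perm_constituent H d hd hidx mu hmu ψ hmψ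
      rw [Pi.smul_apply, Pi.smul_apply, hlow ψ h1 y hy]
  have hii : derivedSeries G (k + 1) ≤ ⁅H, H⁆ := by
    rw [derivedSeries_succ]
    exact Subgroup.commutator_mono hi hi
  have hn : (derivedSeries G (k + 1)).Normal := derivedSeries_normal G (k + 1)
  rw [hlam]
  exact indFun_hom_eq_of_normal H lam (derivedSeries G (k + 1))
    (fun y hy => hom_eq_one_of_mem_commutator H lam y (hii hy)) x hx

/-- Three degrees, ordered `m ≤ n`. -/
theorem taketa_three_deg_of_le (hM : ∀ χ : G → ℂ, IsIrrCharacter G χ →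
      ∃ (H : Subgroup G) (lam : H →* ℂˣ), χ = indFun H (fun h => (lam h : ℂ)))
    (m n : ℕ) (hmn : m ≤ n) (hcd : ∀ χ : IrrCharacter G, charDegree (χ : G → ℂ) = 1 ∨
      charDegree (χ : G → ℂ) = m ∨ charDegree (χ : G → ℂ) = n)
    (χ : IrrCharacter G) (x : G) (hx : x ∈ derivedSeries G 3) :
    (χ : G → ℂ) x = (χ : G → ℂ) 1 := by
  have hx2 : x ∈ derivedSeries G 2 := derivedSeries_antitone G (by norm_num) hx
  have hx1 : x ∈ derivedSeries G 1 := derivedSeries_antitone G (by norm_num) hx
  -- degree ≤ 1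
  have c1 : ∀ ψ : IrrCharacter G, charDegree (ψ : G → ℂ) ≤ 1 →
      ∀ y ∈ derivedSeries G 1, (ψ : G → ℂ) y = (ψ : G → ℂ) 1 :=
    fun ψ hψ y hy => taketa_aux hM 1 ψ.1 ψ.2 hψ y hy
  -- degree m
  have c2 : ∀ ψ : IrrCharacter G, charDegree (ψ : G → ℂ) = m →
      ∀ y ∈ derivedSeries G 2, (ψ : G → ℂ) y = (ψ : G → ℂ) 1 := by
    intro ψ hψ y hy
    by_cases hm1 : m ≤ 1
    · exact c1 ψ (by omega) y (derivedSeries_antitone G (by norm_num) hy)
    · obtain ⟨d, hd⟩ : ∃ d, m = d + 1 := ⟨m - 1, by omega⟩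
      apply taketa_step hM 1 d (by omega) _ ψ.1 ψ.2 (by rw [hψ, hd]) y hy
      intro φ hφ z hz
      apply c1 φ _ z hz
      rcases hcd φ with h | h | h <;> omega
  -- degree n
  rcases hcd χ with h | h | h
  · exact c1 χ (by omega) x hx1
  · exact c2 χ h x hx2
  · by_cases hn1 : n ≤ 1
    · exact c1 χ (by omega) x hx1
    · by_cases hnm : n = m
      · exact c2 χ (by omega) x hx2
      · obtain ⟨d, hd⟩ : ∃ d, n = d + 1 := ⟨n - 1, by omega⟩
        apply taketa_step hM 2 d (by omega) _ χ.1 χ.2 (by rw [h, hd]) x hx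
        intro φ hφ z hz
        rcases hcd φ with h' | h' | h'
        · exact c1 φ (by omega) z (derivedSeries_antitone G (by norm_num) hz)
        · exact c2 φ h' z hz
        · omega

/-- **[TAK3]** an M-group with character degrees in `{1, m, n}` has derived length at most 3. -/
theorem derivedSeries_three_eq_bot_of_monomial {G : Type u} [Group G] [Fintype G]
    (hM : ∀ χ : G → ℂ, IsIrrCharacter G χ →
      ∃ (H : Subgroup G) (lam : H →* ℂˣ), χ = indFun H (fun h => (lam h : ℂ)))
    (m n : ℕ) (hcd : ∀ χ : IrrCharacter G, charDegree (χ : G → ℂ) = 1 ∨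
      charDegree (χ : G → ℂ) = m ∨ charDegree (χ : G → ℂ) = n) :
    derivedSeries G 3 = ⊥ := by
  rw [eq_bot_iff]
  intro x hx
  rw [Subgroup.mem_bot]
  have h1 : ∀ χ : IrrCharacter G, (χ : G → ℂ) x = (χ : G → ℂ) 1 := by
    intro χ
    rcases le_total m n with hmn | hmn
    · exact taketa_three_deg_of_le hM m n hmn hcd χ x hx
    · exact taketa_three_deg_of_le hM n m hmn
        (fun ψ => by rcases hcd ψ with h | h | h <;> tauto) χ x hx
  have h2 := isConj_of_forall_irr_eq h1
  exact isConj_one_right.mp h2.symm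

end Cfsg.Agent.Lib.Helper26.ThreeDeg
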