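import Mathlib
import Cfsg.Prelude.Def_SporadicCombinatorics
import Cfsg.Agent.Lib.Helper26.SextetStruct
import Cfsg.Agent.Lib.Helper26.TrioStructData
import Cfsg.Agent.Lib.Helper26.FanoLin

/-!
# Structure of the trio stabilizer: the action on the seven refining sextets

The seven sextets refining the base trio are labelled by the nonzero vectors of `F_2^3`; an element
of `M24` stabilizing the base trio permutes them compatibly with xor, which gives a `3 × 3` matrix
over `ZMod 2`.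
-/

set_option autoImplicit false

namespace Cfsg.Agent.Lib.Helper26

open Cfsg Cfsg.Agent.Lib.Helper27
open scoped Pointwise

local notation "setOf₇" => Cfsg.Agent.Lib.Helper7.setOf
local notation "pc₇" => Cfsg.Agent.Lib.Helper7.pc

/-! ### The base trio and the seven sextets -/

/-- the `k`-th octad of the base trio -/
def oct (k : ℕ) : Finset GolayPt := setOf₇ (trL0.getD k 0)

/-- the sextet labelled `a` -/
def sxv (a : ℕ) : Finset (Finset GolayPt) := famOf (tsFano.getD a [])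

theorem base_mem_trios : famOf trL0 ∈ trios := by
  have := trio_setup.hS0
  rwa [tr_getF_J0] at this

theorem mem_famOf_trL0 {t : Finset GolayPt} : t ∈ famOf trL0 ↔ ∃ k < 3, t = oct k := by
  rw [mem_famOf]
  constructor
  · rintro ⟨m, hm, rfl⟩
    obtain ⟨k, hk, rfl⟩ := List.getElem_of_mem hm
    refine ⟨k, hk, ?_⟩
    rw [oct, List.getD_eq_getElem _ _ hk]
  · rintro ⟨k, hk, rfl⟩
    have hk' : k < trL0.length := hk
    refine ⟨trL0.getD k 0, ?_, rfl⟩
    rw [List.getD_eq_getElem _ _ hk']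
    exact List.getElem_mem hk'

theorem mem_getD_of_lt {l : List (List ℕ)} {a : ℕ} (ha : a < l.length) : l.getD a [] ∈ l := by
  rw [List.getD_eq_getElem _ _ ha]
  exact List.getElem_mem ha

theorem tsFano_length : tsFano.length = 8 := by decide

theorem fano_lt_check : (tsFano.all fun l => l.all fun m => decide (m < 2 ^ 24)) = true := by
  decide +kernel

theorem fano_lt {a : ℕ} (ha : a < 8) : ∀ m ∈ tsFano.getD a [], m < 2 ^ 24 := by
  intro m hm
  have h := fano_lt_check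
  rw [List.all_eq_true] at h
  have h1 := h _ (mem_getD_of_lt (by rw [tsFano_length]; exact ha))
  rw [List.all_eq_true] at h1
  exact of_decide_eq_true (h1 m hm)

theorem fano_idx_check : ((List.range 8).all fun a => a == 0 ||
    (getF 6 sxB (tsFanoIdx.getD a 0) == tsFano.getD a [] && decide (tsFanoIdx.getD a 0 < 1771)))
    = true := by decide +kernel

theorem fano_idx {a : ℕ} (ha1 : 1 ≤ a) (ha : a < 8) :
    getF 6 sxB (tsFanoIdx.getD a 0) = tsFano.getD a [] ∧ tsFanoIdx.getD a 0 < 1771 := by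
  have h := fano_idx_check
  rw [List.all_eq_true] at h
  have h1 := h a (List.mem_range.2 ha)
  rw [Bool.or_eq_true, Bool.and_eq_true, beq_iff_eq, beq_iff_eq, decide_eq_true_eq] at h1
  rcases h1 with h1 | h1
  · omega
  · exact h1

theorem fanoIdx_inj : ∀ a < 8, ∀ b < 8, 1 ≤ a → 1 ≤ b →
    tsFanoIdx.getD a 0 = tsFanoIdx.getD b 0 → a = b := by decide

theorem sxv_eq_getF {a : ℕ} (ha1 : 1 ≤ a) (ha : a < 8) :
    sxv a = famOf (getF 6 sxB (tsFanoIdx.getD a 0)) := by
  rw [sxv, (fano_idx ha1 ha).1]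

theorem sxv_mem_sextets {a : ℕ} (ha1 : 1 ≤ a) (ha : a < 8) : sxv a ∈ sextets := by
  rw [sxv_eq_getF ha1 ha]
  exact sextet_setup.mem (fano_idx ha1 ha).2

theorem sxv_inj {a b : ℕ} (ha1 : 1 ≤ a) (ha : a < 8) (hb1 : 1 ≤ b) (hb : b < 8)
    (h : sxv a = sxv b) : a = b := by
  rw [sxv_eq_getF ha1 ha, sxv_eq_getF hb1 hb] at h
  exact fanoIdx_inj a ha b hb ha1 hb1
    (sextet_setup.inj (fano_idx ha1 ha).2 (fano_idx hb1 hb).2 h)

theorem mem_sxv {a : ℕ} {t : Finset GolayPt} : t ∈ sxv a ↔ ∃ m ∈ tsFano.getD a [], setOf₇ m = t :=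
  mem_famOf

theorem setOf_mem_sxv {a : ℕ} (ha : a < 8) {m : ℕ} (hm : m < 2 ^ 24) :
    setOf₇ m ∈ sxv a ↔ m ∈ tsFano.getD a [] := by
  rw [mem_sxv]
  constructor
  · rintro ⟨m', hm', he⟩
    rw [← setOf7_injOn (fano_lt ha m' hm') hm he]
    exact hm'
  · intro h
    exact ⟨m, h, rfl⟩

/-! ### Refinement -/

/-- every member of `s` lies in a member of `T` -/
def Refines (s T : Finset (Finset GolayPt)) : Prop := ∀ t ∈ s, ∃ o ∈ T, t ⊆ o

theorem Refines.smul {s T : Finset (Finset GolayPt)} (h : Refines s T) (σ : Equiv.Perm GolayPt) :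
    Refines (σ • s) (σ • T) := by
  intro t ht
  obtain ⟨t₀, ht₀, rfl⟩ := Finset.mem_smul_finset.1 ht
  obtain ⟨o, ho, hto⟩ := h t₀ ht₀
  exact ⟨σ • o, Finset.smul_mem_smul_finset ho, Finset.smul_finset_subset_smul_finset hto⟩

/-- `m` is a submask of `o` -/
def subMask (m o : ℕ) : Bool := (List.range 24).all fun i => !m.testBit i || o.testBit i

theorem subMask_iff {m o : ℕ} : subMask m o = true ↔ setOf₇ m ⊆ setOf₇ o := by
  unfold subMask
  rw [List.all_eq_true]
  constructor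
  · intro h p hp
    rw [Cfsg.Agent.Lib.Helper7.mem_setOf] at hp ⊢
    have := h _ (List.mem_range.2 (Cfsg.Agent.Lib.Helper7.idx_lt p))
    rw [hp] at this
    simpa using this
  · intro h i hi
    have hi : i < 24 := List.mem_range.1 hi
    by_cases hb : m.testBit i = true
    · have h1 : Cfsg.Agent.Lib.Helper7.pt i ∈ setOf₇ m := by
        rw [Cfsg.Agent.Lib.Helper7.mem_setOf, Cfsg.Agent.Lib.Helper7.idx_pt hi]
        exact hb
      have h2 := h h1
      rw [Cfsg.Agent.Lib.Helper7.mem_setOf, Cfsg.Agent.Lib.Helper7.idx_pt hi] at h2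
      rw [h2]
      simp
    · simp at hb
      rw [hb]
      simp

/-- the family of masks refines the base trio -/
def refB (l : List ℕ) : Bool := l.all fun m => trL0.any fun o => subMask m o

theorem refB_iff {l : List ℕ} : refB l = true ↔ Refines (famOf l) (famOf trL0) := by
  unfold refB Refines
  rw [List.all_eq_true]
  constructor
  · intro h t ht
    obtain ⟨m, hm, rfl⟩ := mem_famOf.1 ht
    have h1 := h m hm
    rw [List.any_eq_true] at h1
    obtain ⟨o, ho, hs⟩ := h1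
    exact ⟨setOf₇ o, mem_famOf.2 ⟨o, ho, rfl⟩, subMask_iff.1 hs⟩
  · intro h m hm
    obtain ⟨o, ho, hs⟩ := h (setOf₇ m) (mem_famOf.2 ⟨m, hm, rfl⟩)
    obtain ⟨o', ho', rfl⟩ := mem_famOf.1 ho
    rw [List.any_eq_true]
    exact ⟨o', ho', subMask_iff.2 hs⟩

theorem fano_ref_check : ((List.range 8).all fun a => a == 0 || refB (tsFano.getD a [])) = true := by
  decide +kernel

theorem sxv_refines {a : ℕ} (ha1 : 1 ≤ a) (ha : a < 8) : Refines (sxv a) (famOf trL0) := by
  have h := fano_ref_check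
  rw [List.all_eq_true] at h
  have h1 := h a (List.mem_range.2 ha)
  rw [Bool.or_eq_true, beq_iff_eq] at h1
  rcases h1 with h1 | h1
  · omega
  · exact refB_iff.1 h1

theorem fano_complete_check : allRange (fun j => decide (1771 ≤ j) || !refB (getF 6 sxB j) ||
    (List.range 8).any fun a => a != 0 && tsFanoIdx.getD a 0 == j) 11 0 = true := by
  decide +kernel

/-- every sextet refining the base trio is one of the seven -/
theorem exists_label {s : Finset (Finset GolayPt)} (hs : s ∈ sextets)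
    (hr : Refines s (famOf trL0)) : ∃ a, 1 ≤ a ∧ a < 8 ∧ s = sxv a := by
  obtain ⟨j, hj, rfl⟩ := sextet_setup.complete s hs
  have h := (allRange_zero_iff _ _).1 fano_complete_check j (by omega)
  rw [Bool.or_eq_true, Bool.or_eq_true, decide_eq_true_eq, refB_iff.2 hr] at h
  rcases h with (h | h) | h
  · omega
  · simp at h
  · rw [List.any_eq_true] at h
    obtain ⟨a, ha, h1⟩ := h
    rw [Bool.and_eq_true, bne_iff_ne, beq_iff_eq] at h1
    have ha8 : a < 8 := List.mem_range.1 ha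
    have ha1 : 1 ≤ a := by omega
    refine ⟨a, ha1, ha8, ?_⟩
    rw [sxv_eq_getF ha1 ha8, h1.2]

/-! ### The sum relation -/

/-- `s''` contains the symmetric differences of the members of `s` and `s'` meeting in two points -/
def SumRel (s s' s'' : Finset (Finset GolayPt)) : Prop :=
  ∀ A ∈ s, ∀ B ∈ s', (A ∩ B).card = 2 → symmDiff A B ∈ s''

theorem SumRel.smul {s s' s'' : Finset (Finset GolayPt)} (h : SumRel s s' s'')
    (σ : Equiv.Perm GolayPt) : SumRel (σ • s) (σ • s') (σ • s'') := by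
  intro A hA B hB hAB
  obtain ⟨A₀, hA₀, rfl⟩ := Finset.mem_smul_finset.1 hA
  obtain ⟨B₀, hB₀, rfl⟩ := Finset.mem_smul_finset.1 hB
  rw [← Finset.smul_finset_inter, Finset.card_smul_finset] at hAB
  rw [← Finset.smul_finset_symmDiff]
  exact Finset.smul_mem_smul_finset (h A₀ hA₀ B₀ hB₀ hAB)

theorem fano_sum_check : ((List.range 8).all fun a => (List.range 8).all fun b =>
    a == 0 || b == 0 || a == b ||
      (((tsFano.getD a []).all fun mA => (tsFano.getD b []).all fun mB =>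
        pc₇ (mA &&& mB) != 2 || (tsFano.getD (a ^^^ b) []).contains (mA ^^^ mB)) &&
      ((tsFano.getD a []).any fun mA => (tsFano.getD b []).any fun mB =>
        pc₇ (mA &&& mB) == 2))) = true := by
  decide +kernel

theorem fano_sum {a b : ℕ} (ha1 : 1 ≤ a) (ha : a < 8) (hb1 : 1 ≤ b) (hb : b < 8) (hab : a ≠ b) :
    (∀ mA ∈ tsFano.getD a [], ∀ mB ∈ tsFano.getD b [], pc₇ (mA &&& mB) = 2 →
      (mA ^^^ mB) ∈ tsFano.getD (a ^^^ b) []) ∧
    ∃ mA ∈ tsFano.getD a [], ∃ mB ∈ tsFano.getD b [], pc₇ (mA &&& mB) = 2 := by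
  have h := fano_sum_check
  rw [List.all_eq_true] at h
  have h1 := h a (List.mem_range.2 ha)
  rw [List.all_eq_true] at h1
  have h2 := h1 b (List.mem_range.2 hb)
  simp only [Bool.or_eq_true, beq_iff_eq, Bool.and_eq_true] at h2
  rcases h2 with ((h2 | h2) | h2) | h2
  · omega
  · omega
  · exact absurd h2 hab
  · constructor
    · intro mA hA mB hB hpc
      have h3 := h2.1
      rw [List.all_eq_true] at h3
      have h4 := h3 mA hA
      rw [List.all_eq_true] at h4
      have h5 := h4 mB hB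
      rw [Bool.or_eq_true, bne_iff_ne] at h5
      rcases h5 with h5 | h5
      · exact absurd hpc h5
      · exact List.contains_iff_mem.1 h5 |> fun x => by simpa using x
    · have h3 := h2.2
      rw [List.any_eq_true] at h3
      obtain ⟨mA, hA, h4⟩ := h3
      rw [List.any_eq_true] at h4
      obtain ⟨mB, hB, h5⟩ := h4
      exact ⟨mA, hA, mB, hB, by simpa using h5⟩

theorem xor_lt_8 {a b : ℕ} (ha : a < 8) (hb : b < 8) : a ^^^ b < 8 :=
  Nat.xor_lt_two_pow (n := 3) ha hb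

theorem xor_pos {a b : ℕ} (hab : a ≠ b) : 1 ≤ a ^^^ b := by
  rcases Nat.eq_zero_or_pos (a ^^^ b) with h | h
  · exact absurd (Nat.xor_eq_zero_iff.1 h) hab
  · exact h

theorem inter_card_eq (m m' : ℕ) : (setOf₇ m ∩ setOf₇ m').card = pc₇ (m &&& m') := by
  rw [← Cfsg.Agent.Lib.Helper7.setOf_and, Cfsg.Agent.Lib.Helper7.card_setOf]

theorem sumRel_sxv {a b : ℕ} (ha1 : 1 ≤ a) (ha : a < 8) (hb1 : 1 ≤ b) (hb : b < 8) (hab : a ≠ b) :
    SumRel (sxv a) (sxv b) (sxv (a ^^^ b)) := by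
  intro A hA B hB hAB
  obtain ⟨mA, hmA, rfl⟩ := mem_sxv.1 hA
  obtain ⟨mB, hmB, rfl⟩ := mem_sxv.1 hB
  rw [inter_card_eq] at hAB
  rw [← Cfsg.Agent.Lib.Helper7.setOf_xor]
  exact mem_sxv.2 ⟨_, (fano_sum ha1 ha hb1 hb hab).1 mA hmA mB hmB hAB, rfl⟩

theorem fano_label_check : ((List.range 8).all fun a => (List.range 8).all fun b =>
    a == b || ((tsFano.getD a []).all fun m => !(tsFano.getD b []).contains m)) = true := by
  decide +kernel

theorem fano_label {a b : ℕ} (ha : a < 8) (hb : b < 8) {m : ℕ} (hma : m ∈ tsFano.getD a [])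
    (hmb : m ∈ tsFano.getD b []) : a = b := by
  have h := fano_label_check
  rw [List.all_eq_true] at h
  have h1 := h a (List.mem_range.2 ha)
  rw [List.all_eq_true] at h1
  have h2 := h1 b (List.mem_range.2 hb)
  rw [Bool.or_eq_true, beq_iff_eq] at h2
  rcases h2 with h2 | h2
  · exact h2
  · rw [List.all_eq_true] at h2
    have h3 := h2 m hma
    have : (tsFano.getD b []).contains m = true := by simpa using hmb
    rw [this] at h3
    simp at h3

/-- a tetrad lies in at most one of the seven sextets -/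
theorem label_unique {a b : ℕ} (ha : a < 8) (hb : b < 8) {t : Finset GolayPt} (hta : t ∈ sxv a)
    (htb : t ∈ sxv b) : a = b := by
  obtain ⟨m, hm, rfl⟩ := mem_sxv.1 hta
  have hm24 := fano_lt ha m hm
  exact fano_label ha hb hm ((setOf_mem_sxv hb hm24).1 htb)

theorem eq_xor_of_sumRel {a b c : ℕ} (ha1 : 1 ≤ a) (ha : a < 8) (hb1 : 1 ≤ b) (hb : b < 8)
    (hc : c < 8) (hab : a ≠ b) (h : SumRel (sxv a) (sxv b) (sxv c)) : c = a ^^^ b := by
  obtain ⟨mA, hmA, mB, hmB, hpc⟩ := (fano_sum ha1 ha hb1 hb hab).2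
  have hA : setOf₇ mA ∈ sxv a := mem_sxv.2 ⟨mA, hmA, rfl⟩
  have hB : setOf₇ mB ∈ sxv b := mem_sxv.2 ⟨mB, hmB, rfl⟩
  have hcard : (setOf₇ mA ∩ setOf₇ mB).card = 2 := by rw [inter_card_eq, hpc]
  have h1 := h _ hA _ hB hcard
  have h2 := sumRel_sxv ha1 ha hb1 hb hab _ hA _ hB hcard
  exact label_unique hc (xor_lt_8 ha hb) h1 h2

/-! ### The action on the labels -/

theorem smul_sxv_eq {σ : Equiv.Perm GolayPt} (hσ : σ ∈ M24) (hT : σ • famOf trL0 = famOf trL0)
    {a : ℕ} (ha1 : 1 ≤ a) (ha : a < 8) : ∃ b, 1 ≤ b ∧ b < 8 ∧ σ • sxv a = sxv b := by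
  apply exists_label (smul_mem_sextets hσ (sxv_mem_sextets ha1 ha))
  have := (sxv_refines ha1 ha).smul σ
  rwa [hT] at this

open Classical in
/-- the induced map on labels -/
noncomputable def piOf (σ : Equiv.Perm GolayPt) (a : ℕ) : ℕ :=
  if h : ∃ b, 1 ≤ b ∧ b < 8 ∧ σ • sxv a = sxv b then Classical.choose h else 0

theorem piOf_eq {σ : Equiv.Perm GolayPt} {a b : ℕ} (hb1 : 1 ≤ b) (hb : b < 8)
    (h : σ • sxv a = sxv b) : piOf σ a = b := by
  have hex : ∃ b, 1 ≤ b ∧ b < 8 ∧ σ • sxv a = sxv b := ⟨b, hb1, hb, h⟩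
  unfold piOf
  rw [dif_pos hex]
  obtain ⟨h1, h2, h3⟩ := Classical.choose_spec hex
  exact sxv_inj h1 h2 hb1 hb (h3.symm.trans h)

theorem piOf_spec {σ : Equiv.Perm GolayPt} (hσ : σ ∈ M24) (hT : σ • famOf trL0 = famOf trL0)
    {a : ℕ} (ha1 : 1 ≤ a) (ha : a < 8) :
    1 ≤ piOf σ a ∧ piOf σ a < 8 ∧ σ • sxv a = sxv (piOf σ a) := by
  obtain ⟨b, hb1, hb, h⟩ := smul_sxv_eq hσ hT ha1 ha
  rw [piOf_eq hb1 hb h]
  exact ⟨hb1, hb, h⟩

theorem sxv_zero : sxv 0 = ∅ := by
  unfold sxv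
  rfl

theorem piOf_zero (σ : Equiv.Perm GolayPt) : piOf σ 0 = 0 := by
  unfold piOf
  rw [dif_neg]
  rintro ⟨b, hb1, hb, h⟩
  rw [sxv_zero, Finset.smul_finset_empty] at h
  have h6 := (sxv_mem_sextets hb1 hb).1
  rw [← h] at h6
  simp at h6

theorem piOf_xorHom {σ : Equiv.Perm GolayPt} (hσ : σ ∈ M24)
    (hT : σ • famOf trL0 = famOf trL0) : XorHom (piOf σ) where
  zero := piOf_zero σ
  lt := by
    intro a ha
    rcases Nat.eq_zero_or_pos a with h0 | h0
    · rw [h0, piOf_zero]; norm_num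
    · exact (piOf_spec hσ hT h0 ha).2.1
  xor := by
    intro a ha b hb
    rcases Nat.eq_zero_or_pos a with h0 | ha1
    · rw [h0, piOf_zero, Nat.zero_xor, Nat.zero_xor]
    rcases Nat.eq_zero_or_pos b with h0 | hb1
    · rw [h0, piOf_zero, Nat.xor_zero, Nat.xor_zero]
    by_cases hab : a = b
    · rw [hab, Nat.xor_self, Nat.xor_self, piOf_zero]
    obtain ⟨pa1, pa, hpa⟩ := piOf_spec hσ hT ha1 ha
    obtain ⟨pb1, pb, hpb⟩ := piOf_spec hσ hT hb1 hb
    obtain ⟨pc1, pc, hpc⟩ := piOf_spec hσ hT (xor_pos hab) (xor_lt_8 ha hb)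
    have hne : piOf σ a ≠ piOf σ b := by
      intro h
      apply hab
      apply sxv_inj ha1 ha hb1 hb
      have : σ • sxv a = σ • sxv b := by rw [hpa, hpb, h]
      exact MulAction.injective σ this
    have hrel := (sumRel_sxv ha1 ha hb1 hb hab).smul σ
    rw [hpa, hpb, hpc] at hrel
    exact eq_xor_of_sumRel pa1 pa pb1 pb pc hne hrel

theorem piOf_mul {σ τ : Equiv.Perm GolayPt} (hσ : σ ∈ M24) (hTσ : σ • famOf trL0 = famOf trL0)
    (hτ : τ ∈ M24) (hTτ : τ • famOf trL0 = famOf trL0) :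
    ∀ a < 8, piOf (σ * τ) a = (piOf σ ∘ piOf τ) a := by
  intro a ha
  rcases Nat.eq_zero_or_pos a with h0 | ha1
  · simp [h0, piOf_zero]
  obtain ⟨pb1, pb, hpb⟩ := piOf_spec hτ hTτ ha1 ha
  obtain ⟨pc1, pc, hpc⟩ := piOf_spec hσ hTσ pb1 pb
  apply piOf_eq pc1 pc
  rw [mul_smul, hpb, hpc]

theorem piOf_one : ∀ a < 8, piOf 1 a = id a := by
  intro a ha
  rcases Nat.eq_zero_or_pos a with h0 | ha1
  · simp [h0, piOf_zero]
  exact piOf_eq ha1 ha (one_smul _ _)

/-- the matrix of an element stabilizing the base trio -/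
noncomputable def fanoMat (σ : Equiv.Perm GolayPt) : Matrix (Fin 3) (Fin 3) (ZMod 2) :=
  matOf (piOf σ)

theorem fanoMat_mul {σ τ : Equiv.Perm GolayPt} (hσ : σ ∈ M24)
    (hTσ : σ • famOf trL0 = famOf trL0) (hτ : τ ∈ M24) (hTτ : τ • famOf trL0 = famOf trL0) :
    fanoMat (σ * τ) = fanoMat σ * fanoMat τ := by
  unfold fanoMat
  rw [matOf_mul (piOf_xorHom hσ hTσ) (piOf_xorHom hτ hTτ)]
  exact matOf_congr (piOf_mul hσ hTσ hτ hTτ)

theorem fanoMat_one : fanoMat 1 = 1 := by
  unfold fanoMat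
  rw [← matOf_id]
  exact matOf_congr piOf_one

/-- the action of the stabilizer of the base trio on the seven sextets, as a matrix -/
noncomputable def fanoHom : ↥(MulAction.stabilizer M24 (famOf trL0)) →* GL (Fin 3) (ZMod 2) :=
  MonoidHom.toHomUnits
    { toFun := fun g => fanoMat (g.1.1 : Equiv.Perm GolayPt)
      map_one' := fanoMat_one
      map_mul' := fun a b =>
        fanoMat_mul a.1.2 (MulAction.mem_stabilizer_iff.1 a.2) b.1.2
          (MulAction.mem_stabilizer_iff.1 b.2) }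

theorem fanoHom_apply (g : ↥(MulAction.stabilizer M24 (famOf trL0))) :
    ((fanoHom g : GL (Fin 3) (ZMod 2)) : Matrix (Fin 3) (Fin 3) (ZMod 2)) =
      fanoMat (g.1.1 : Equiv.Perm GolayPt) := rfl

end Cfsg.Agent.Lib.Helper26
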