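import Mathlib
import Cfsg.Prelude.Def_SporadicCombinatorics
import Cfsg.Agent.Lib.Helper26.TrioStruct

/-!
# Structure of the trio stabilizer: kernel, surjectivity, and the induced permutations of the octads
-/

set_option autoImplicit false

namespace Cfsg.Agent.Lib.Helper26

open Cfsg Cfsg.Agent.Lib.Helper27
open scoped Pointwise

local notation "setOf₇" => Cfsg.Agent.Lib.Helper7.setOf
local notation "pc₇" => Cfsg.Agent.Lib.Helper7.pc
local notation "Matches₇" => Cfsg.Agent.Lib.Helper7.Matches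
local notation "idT₇" => Cfsg.Agent.Lib.Helper7.idT
local notation "mapsInto₇" => Cfsg.Agent.Lib.Helper7.mapsInto

/-! ### Elements acting trivially on the octads and the sextets square to the identity -/

theorem sq_smul_eq_of_sextet {s : Finset (Finset GolayPt)} (hs : s ∈ sextets)
    {o A : Finset GolayPt} (ho : o.card = 8) (hA : A ∈ s) (hAo : A ⊆ o)
    {σ : Equiv.Perm GolayPt} (hσs : σ • s = s) (hσo : σ • o = o) : (σ * σ) • A = A := by
  rw [mul_smul]
  have hB : σ • A ∈ s := smul_mem_of_smul_eq hσs hA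
  have hBo : σ • A ⊆ o := by
    rw [← hσo]
    exact Finset.smul_finset_subset_smul_finset hAo
  by_cases hBA : σ • A = A
  · rw [hBA, hBA]
  · have hoct := hs.2.2 _ hB _ hA hBA
    have h8 : (σ • A ∪ A).card = 8 := hoct.2
    have h4A : A.card = 4 := hs.2.1 _ hA
    have h4B : (σ • A).card = 4 := hs.2.1 _ hB
    have hdisj : Disjoint (σ • A) A := by
      rw [← Finset.card_union_eq_card_add_card, h8, h4A, h4B]
    have hsub : σ • A ⊆ o \ A := by
      intro p hp
      rw [Finset.mem_sdiff]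
      exact ⟨hBo hp, fun hpA => Finset.disjoint_left.1 hdisj hp hpA⟩
    have hcard : (o \ A).card = 4 := by
      rw [Finset.card_sdiff_of_subset hAo, ho, h4A]
    have heq : σ • A = o \ A := Finset.eq_of_subset_of_card_le hsub (by rw [hcard, h4B])
    rw [heq, Finset.smul_finset_sdiff, hσo, heq, Finset.sdiff_sdiff_eq_self hAo]

theorem fano_sep_check : ((List.range 24).all fun i => (List.range 24).all fun j => i == j ||
    ([1, 2, 4].any fun a => (tsFano.getD a []).any fun m => m.testBit i && !m.testBit j))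
    = true := by
  decide +kernel

theorem eq_one_of_fix_tetrads {y : Equiv.Perm GolayPt}
    (h : ∀ a, 1 ≤ a → a < 8 → ∀ A ∈ sxv a, y • A = A) : y = 1 := by
  refine Equiv.ext fun p => ?_
  by_contra hne
  have hij : Cfsg.Agent.Lib.Helper7.idx p ≠ Cfsg.Agent.Lib.Helper7.idx (y p) :=
    fun e => hne (Cfsg.Agent.Lib.Helper7.idx_injective e).symm
  have hc := fano_sep_check
  rw [List.all_eq_true] at hc
  have h1 := hc _ (List.mem_range.2 (Cfsg.Agent.Lib.Helper7.idx_lt p))
  rw [List.all_eq_true] at h1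
  have h2 := h1 _ (List.mem_range.2 (Cfsg.Agent.Lib.Helper7.idx_lt (y p)))
  rw [Bool.or_eq_true, beq_iff_eq] at h2
  rcases h2 with h2 | h2
  · exact hij h2
  · rw [List.any_eq_true] at h2
    obtain ⟨a, ha, h3⟩ := h2
    rw [List.any_eq_true] at h3
    obtain ⟨m, hm, h4⟩ := h3
    rw [Bool.and_eq_true, Bool.not_eq_true'] at h4
    have ha' : 1 ≤ a ∧ a < 8 := by
      simp only [List.mem_cons, List.not_mem_nil, or_false] at ha
      omega
    have hA : setOf₇ m ∈ sxv a := mem_sxv.2 ⟨m, hm, rfl⟩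
    have hy := h a ha'.1 ha'.2 _ hA
    have hp : p ∈ setOf₇ m := Cfsg.Agent.Lib.Helper7.mem_setOf.2 h4.1
    have hyp : y p ∈ y • setOf₇ m := Finset.smul_mem_smul_finset (a := y) hp
    rw [hy, Cfsg.Agent.Lib.Helper7.mem_setOf, h4.2] at hyp
    exact Bool.false_ne_true hyp

theorem sq_eq_one_of_fix {σ : Equiv.Perm GolayPt} (hoct : ∀ t ∈ famOf trL0, σ • t = t)
    (hsx : ∀ a, 1 ≤ a → a < 8 → σ • sxv a = sxv a) : σ * σ = 1 := by
  apply eq_one_of_fix_tetrads
  intro a ha1 ha A hA
  obtain ⟨o, ho, hAo⟩ := sxv_refines ha1 ha A hA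
  exact sq_smul_eq_of_sextet (sxv_mem_sextets ha1 ha) (base_mem_trios.2.1 o ho).2 hA hAo
    (hsx a ha1 ha) (hoct o ho)

/-! ### The 168 elements -/

/-- the 168 elements fixing the three octads and realizing every basis -/
noncomputable def glP : List (Equiv.Perm GolayPt) := slpP tsProg tsGlIdxs

theorem glP_match : List.Forall₂ Matches₇ glP tsGlT := by
  have h := slp_match tsProg tsGlIdxs
  rwa [tsGlT_eq] at h

theorem glP_matches (k : ℕ) : Matches₇ (glP.getD k 1) (tsGlT.getD k idT₇) :=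
  Cfsg.Agent.Lib.Helper7.forall₂_getD glP_match Cfsg.Agent.Lib.Helper7.matches_one k

theorem glP_mem_M24 (k : ℕ) : glP.getD k 1 ∈ M24 := getD_mem_subgroup (slpP_mem_M24 _ _) k

/-- the table maps every member of `l` onto a member of `l'` -/
def famMapsB (t : List ℕ) (l l' : List ℕ) : Bool :=
  l.all fun m => l'.any fun m' => mapsInto₇ t m m' && pc₇ m' == pc₇ m

theorem smul_famOf_subset {σ : Equiv.Perm GolayPt} {t l l' : List ℕ} (hm : Matches₇ σ t)
    (h : famMapsB t l l' = true) : σ • famOf l ⊆ famOf l' := by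
  intro s hs
  obtain ⟨s₀, hs₀, rfl⟩ := Finset.mem_smul_finset.1 hs
  obtain ⟨m, hml, rfl⟩ := mem_famOf.1 hs₀
  unfold famMapsB at h
  rw [List.all_eq_true] at h
  have h1 := h m hml
  rw [List.any_eq_true] at h1
  obtain ⟨m', hm', h2⟩ := h1
  rw [Bool.and_eq_true, beq_iff_eq] at h2
  rw [Cfsg.Agent.Lib.Helper7.smul_setOf_eq_of_mapsInto hm h2.1 (le_of_eq h2.2)]
  exact mem_famOf.2 ⟨m', hm', rfl⟩

/-- the `k`-th table fixes the octads and maps the sextets `1, 2, 4` to the `k`-th basis -/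
def glOK : Bool :=
  (List.range 168).all fun k =>
    (trL0.all fun o => mapsInto₇ (tsGlT.getD k idT₇) o o) &&
    famMapsB (tsGlT.getD k idT₇) (tsFano.getD 1 []) (tsFano.getD (tsBasis.getD k (0, 0, 0)).1 []) &&
    famMapsB (tsGlT.getD k idT₇) (tsFano.getD 2 []) (tsFano.getD (tsBasis.getD k (0, 0, 0)).2.1 []) &&
    famMapsB (tsGlT.getD k idT₇) (tsFano.getD 4 []) (tsFano.getD (tsBasis.getD k (0, 0, 0)).2.2 [])

theorem glOK_true : glOK = true := by decide +kernel

theorem tsBasis_length : tsBasis.length = 168 := by decide +kernel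

theorem basis_cover_check : ((List.range 8).all fun a => (List.range 8).all fun b =>
    (List.range 8).all fun c =>
      a == 0 || b == 0 || b == a || c == 0 || c == a || c == b || c == a ^^^ b ||
        tsBasis.contains (a, b, c)) = true := by decide +kernel

theorem smul_sxv_eq_of_subset {σ : Equiv.Perm GolayPt} {a b : ℕ} (ha1 : 1 ≤ a) (ha : a < 8)
    (hb1 : 1 ≤ b) (hb : b < 8) (h : σ • sxv a ⊆ sxv b) : σ • sxv a = sxv b := by
  apply Finset.eq_of_subset_of_card_le h
  rw [Finset.card_smul_finset, (sxv_mem_sextets ha1 ha).1, (sxv_mem_sextets hb1 hb).1]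

theorem exists_gl {a b c : ℕ} (ha1 : 1 ≤ a) (ha : a < 8) (hb1 : 1 ≤ b) (hb : b < 8) (hba : b ≠ a)
    (hc1 : 1 ≤ c) (hc : c < 8) (hca : c ≠ a) (hcb : c ≠ b) (hcab : c ≠ a ^^^ b) :
    ∃ σ ∈ M24, (∀ t ∈ famOf trL0, σ • t = t) ∧ σ • sxv 1 = sxv a ∧ σ • sxv 2 = sxv b ∧
      σ • sxv 4 = sxv c := by
  have hcov := basis_cover_check
  rw [List.all_eq_true] at hcov
  have h1 := hcov a (List.mem_range.2 ha)
  rw [List.all_eq_true] at h1
  have h2 := h1 b (List.mem_range.2 hb)
  rw [List.all_eq_true] at h2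
  have h3 := h2 c (List.mem_range.2 hc)
  simp only [Bool.or_eq_true, beq_iff_eq] at h3
  have hmem : (a, b, c) ∈ tsBasis := by
    rcases h3 with ((((((h3 | h3) | h3) | h3) | h3) | h3) | h3) | h3
    · omega
    · omega
    · exact absurd h3 hba
    · omega
    · exact absurd h3 hca
    · exact absurd h3 hcb
    · exact absurd h3 hcab
    · simpa using h3
  obtain ⟨k, hk, hke⟩ := List.getElem_of_mem hmem
  have hk168 : k < 168 := by rw [← tsBasis_length]; exact hk
  have hkD : tsBasis.getD k (0, 0, 0) = (a, b, c) := by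
    rw [List.getD_eq_getElem _ _ hk, hke]
  have hOK := glOK_true
  unfold glOK at hOK
  rw [List.all_eq_true] at hOK
  have h4 := hOK k (List.mem_range.2 hk168)
  rw [hkD] at h4
  simp only [Bool.and_eq_true] at h4
  obtain ⟨⟨⟨ho, hf1⟩, hf2⟩, hf4⟩ := h4
  have hm := glP_matches k
  refine ⟨glP.getD k 1, glP_mem_M24 k, ?_, ?_, ?_, ?_⟩
  · intro t ht
    obtain ⟨o, hoL, rfl⟩ := mem_famOf.1 ht
    rw [List.all_eq_true] at ho
    exact Cfsg.Agent.Lib.Helper7.smul_setOf_eq_of_mapsInto hm (ho o hoL) le_rfl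
  · exact smul_sxv_eq_of_subset (by norm_num) (by norm_num) ha1 ha (smul_famOf_subset hm hf1)
  · exact smul_sxv_eq_of_subset (by norm_num) (by norm_num) hb1 hb (smul_famOf_subset hm hf2)
  · exact smul_sxv_eq_of_subset (by norm_num) (by norm_num) hc1 hc (smul_famOf_subset hm hf4)

/-! ### Inducing all permutations of the members of a family from transposition elements -/

section InducesAll

variable {n : ℕ} {base : ℕ → Finset GolayPt} {S₀ : Finset (Finset GolayPt)}

theorem swapIdx_lt' {i j k : ℕ} (hi : i < n) (hj : j < n) (hk : k < n) : swapIdx i j k < n := by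
  unfold swapIdx
  split_ifs <;> omega

theorem smul_eq_of_perm_base (hmem : ∀ t, t ∈ S₀ ↔ ∃ k < n, t = base k)
    {σ : Equiv.Perm GolayPt} {π : ℕ → ℕ} (hπ : ∀ k < n, π k < n)
    (h : ∀ k < n, σ • base k = base (π k)) : σ • S₀ = S₀ := by
  apply Finset.eq_of_subset_of_card_le
  · intro t ht
    obtain ⟨t₀, ht₀, rfl⟩ := Finset.mem_smul_finset.1 ht
    obtain ⟨k, hk, rfl⟩ := (hmem _).1 ht₀
    rw [h k hk]
    exact (hmem _).2 ⟨π k, hπ k hk, rfl⟩
  · rw [Finset.card_smul_finset]

theorem exists_swap_aux' (hmem : ∀ t, t ∈ S₀ ↔ ∃ k < n, t = base k)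
    (hinj : ∀ i < n, ∀ j < n, base i = base j → i = j)
    (hswap : ∀ i j, i < j → j < n → ∃ σ ∈ M24, ∀ k < n, σ • base k = base (swapIdx i j k))
    {S : Finset (Finset GolayPt)} {h : Equiv.Perm GolayPt} (hh : h ∈ M24)
    (hhS : h • S₀ = S) (x y : ↥S) {i j : ℕ} (hij : i < j) (hj : j < n) (hx : x.1 = h • base i)
    (hy : y.1 = h • base j) :
    ∃ g ∈ MulAction.stabilizer M24 S, ∀ t : ↥S,
      (g : Equiv.Perm GolayPt) • (t : Finset GolayPt) = ((Equiv.swap x y t : ↥S) : Finset GolayPt) := by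
  have hi : i < n := by omega
  have helem : ∀ t, t ∈ S ↔ ∃ k < n, t = h • base k := by
    intro t
    rw [← hhS, Finset.mem_smul_finset]
    constructor
    · rintro ⟨t₀, ht₀, rfl⟩
      obtain ⟨k, hk, rfl⟩ := (hmem _).1 ht₀
      exact ⟨k, hk, rfl⟩
    · rintro ⟨k, hk, rfl⟩
      exact ⟨base k, (hmem _).2 ⟨k, hk, rfl⟩, rfl⟩
  obtain ⟨σ, hσ, hσt⟩ := hswap i j hij hj
  have hσS : σ • S₀ = S₀ :=
    smul_eq_of_perm_base hmem (fun k hk => swapIdx_lt' hi hj hk) hσt
  have hgM : h * σ * h⁻¹ ∈ M24 := M24.mul_mem (M24.mul_mem hh hσ) (M24.inv_mem hh)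
  have hgS : (h * σ * h⁻¹) • S = S := by
    rw [← hhS, mul_smul, mul_smul, inv_smul_smul, hσS]
  refine ⟨⟨h * σ * h⁻¹, hgM⟩, MulAction.mem_stabilizer_iff.2 hgS, ?_⟩
  intro t
  obtain ⟨k, hk, htk⟩ := (helem t.1).1 t.2
  show (h * σ * h⁻¹) • (t : Finset GolayPt) = _
  rw [htk, mul_smul, mul_smul, inv_smul_smul, hσt k hk]
  have hinj' : ∀ a < n, ∀ b < n, h • base a = h • base b → a = b := fun a ha b hb hab =>
    hinj a ha b hb (MulAction.injective h hab)
  by_cases hki : k = i
  · have htx : t = x := Subtype.ext (by rw [htk, hx, hki])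
    rw [htx, Equiv.swap_apply_left, hy, hki]
    simp [swapIdx]
  · by_cases hkj : k = j
    · have hty : t = y := Subtype.ext (by rw [htk, hy, hkj])
      rw [hty, Equiv.swap_apply_right, hx, hkj]
      have : j ≠ i := by omega
      simp [swapIdx, this]
    · have htx : t ≠ x := by
        intro e
        have : h • base k = h • base i := by rw [← htk, ← hx, e]
        exact hki (hinj' k hk i hi this)
      have hty : t ≠ y := by
        intro e
        have : h • base k = h • base j := by rw [← htk, ← hy, e]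
        exact hkj (hinj' k hk j hj this)
      rw [Equiv.swap_apply_of_ne_of_ne htx hty, htk]
      simp [swapIdx, hki, hkj]

/-- if the transpositions of the members of the base family are induced by `M24`, then every
permutation of the members of a translate is induced by its stabilizer -/
theorem induces_all_of_swaps (hmem : ∀ t, t ∈ S₀ ↔ ∃ k < n, t = base k)
    (hinj : ∀ i < n, ∀ j < n, base i = base j → i = j)
    (hswap : ∀ i j, i < j → j < n → ∃ σ ∈ M24, ∀ k < n, σ • base k = base (swapIdx i j k))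
    {S : Finset (Finset GolayPt)} {h : Equiv.Perm GolayPt} (hh : h ∈ M24)
    (hhS : h • S₀ = S) (e : Equiv.Perm ↥S) :
    ∃ g ∈ MulAction.stabilizer M24 S, ∀ t : ↥S,
      (g : Equiv.Perm GolayPt) • (t : Finset GolayPt) = ((e t : ↥S) : Finset GolayPt) := by
  have helem : ∀ t, t ∈ S → ∃ k < n, t = h • base k := by
    intro t ht
    rw [← hhS, Finset.mem_smul_finset] at ht
    obtain ⟨t₀, ht₀, rfl⟩ := ht
    obtain ⟨k, hk, rfl⟩ := (hmem _).1 ht₀
    exact ⟨k, hk, rfl⟩
  refine Equiv.Perm.swap_induction_on e ?_ ?_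
  · exact ⟨1, Subgroup.one_mem _, fun t => by simp⟩
  · rintro f x y hxy ⟨g, hg, hgt⟩
    obtain ⟨i, hi, hx⟩ := helem x.1 x.2
    obtain ⟨j, hj, hy⟩ := helem y.1 y.2
    have hne : i ≠ j := by
      rintro rfl
      exact hxy (Subtype.ext (by rw [hx, hy]))
    have hsw : ∃ s ∈ MulAction.stabilizer M24 S, ∀ t : ↥S,
        (s : Equiv.Perm GolayPt) • (t : Finset GolayPt) =
          ((Equiv.swap x y t : ↥S) : Finset GolayPt) := by
      rcases Nat.lt_or_gt_of_ne hne with hlt | hlt
      · exact exists_swap_aux' hmem hinj hswap hh hhS x y hlt hj hx hy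
      · obtain ⟨s, hs, hst⟩ := exists_swap_aux' hmem hinj hswap hh hhS y x hlt hi hy hx
        exact ⟨s, hs, fun t => by rw [hst t, Equiv.swap_comm]⟩
    obtain ⟨s, hs, hst⟩ := hsw
    refine ⟨s * g, Subgroup.mul_mem _ hs hg, fun t => ?_⟩
    show ((s : Equiv.Perm GolayPt) * (g : Equiv.Perm GolayPt)) • (t : Finset GolayPt) = _
    rw [mul_smul, hgt t, hst (f t)]
    rfl

end InducesAll

/-! ### The transpositions of the three octads -/

/-- the pairs of octads, in the order of the data -/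
def pairL3 : List (ℕ × ℕ) := [(0, 1), (0, 2), (1, 2)]

/-- the `q`-th table induces the transposition of the `q`-th pair of octads -/
def swap3OK : Bool :=
  (List.range 3).all fun q => (List.range 3).all fun k =>
    mapsInto₇ (tsSwT.getD q idT₇) (trL0.getD k 0)
      (trL0.getD (swapIdx (pairL3.getD q (0, 0)).1 (pairL3.getD q (0, 0)).2 k) 0)

theorem swap3OK_true : swap3OK = true := by decide +kernel

theorem exists_swap_oct {i j : ℕ} (hij : i < j) (hj : j < 3) :
    ∃ σ ∈ M24, ∀ k < 3, σ • oct k = oct (swapIdx i j k) := by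
  have hq : ∀ i < 3, ∀ j < 3, i < j → ∃ q < 3, pairL3.getD q (0, 0) = (i, j) := by decide
  obtain ⟨q, hq3, hqe⟩ := hq i (by omega) j hj hij
  have hM := slp_match tsProg tsSwIdxs
  rw [tsSwT_eq] at hM
  have hσ : Matches₇ ((slpP tsProg tsSwIdxs).getD q 1) (tsSwT.getD q idT₇) :=
    Cfsg.Agent.Lib.Helper7.forall₂_getD hM Cfsg.Agent.Lib.Helper7.matches_one q
  refine ⟨(slpP tsProg tsSwIdxs).getD q 1, getD_mem_subgroup (slpP_mem_M24 _ _) q, ?_⟩
  intro k hk
  have hOK := swap3OK_true
  unfold swap3OK at hOK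
  rw [List.all_eq_true] at hOK
  have h1 := hOK q (List.mem_range.2 hq3)
  rw [List.all_eq_true] at h1
  have h2 := h1 k (List.mem_range.2 hk)
  rw [hqe] at h2
  have hpc : ∀ k < 3, pc₇ (trL0.getD k 0) = 8 := by decide
  have hsw : swapIdx i j k < 3 := swapIdx_lt' (by omega) hj hk
  exact Cfsg.Agent.Lib.Helper7.smul_setOf_eq_of_mapsInto hσ h2 (by rw [hpc k hk, hpc _ hsw])

theorem oct_injOn : ∀ i < 3, ∀ j < 3, oct i = oct j → i = j := by
  intro i hi j hj h
  have h1 : ∀ i < 3, trL0.getD i 0 < 2 ^ 24 := by decide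
  have h2 : ∀ i < 3, ∀ j < 3, trL0.getD i 0 = trL0.getD j 0 → i = j := by decide
  exact h2 i hi j hj (setOf7_injOn (h1 i hi) (h1 j hj) h)

/-- **The stabilizer of a trio induces every permutation of its three octads.** -/
theorem trio_induces_all {T : Finset (Finset GolayPt)} (hT : T ∈ trios) (e : Equiv.Perm ↥T) :
    ∃ g ∈ MulAction.stabilizer M24 T, ∀ t : ↥T,
      (g : Equiv.Perm GolayPt) • (t : Finset GolayPt) = ((e t : ↥T) : Finset GolayPt) := by
  obtain ⟨h, hh, hhT⟩ := trio_stab.htrans T hT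
  exact induces_all_of_swaps (fun t => mem_famOf_trL0) oct_injOn
    (fun i j hij hj => exists_swap_oct hij hj) hh hhT e

end Cfsg.Agent.Lib.Helper26
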